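import Cfsg.Agent.H8.Real2
import Cfsg.Agent.H8.Glaub2
import Cfsg.Agent.H8.Cod
import Cfsg.Agent.H22.Basic
import Cfsg.Agent.H4.PSol

/-! Ito's theorem for `p`-solvable groups (`ito_normal`, `ito_comm`), real characters of `p'`-degree
(`exists_real_over_compl`, `NSyl.of_real`, `centralizes_of_real_ker`). -/

set_option autoImplicit false

open H5 H6 Cfsg
open scoped ComplexConjugate commutatorElement Pointwise

namespace H8

universe u

variable {G : Type*} [Group G] {p : ℕ}

/-- All Sylow `p`-subgroups are normal. -/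
def NSyl (p : ℕ) (G : Type*) [Group G] : Prop := ∀ P : Sylow p G, (P : Subgroup G).Normal

theorem NSyl.of_one [Finite G] [Fact p.Prime] (P : Sylow p G) (h : (P : Subgroup G).Normal) : NSyl p G := by
  intro Q
  haveI := h
  haveI := Sylow.unique_of_normal P h
  rw [Subsingleton.elim Q P]; exact h

theorem NSyl.sup_normal [Finite G] [Fact p.Prime] {N : Subgroup G} [N.Normal] (h : NSyl p (G ⧸ N)) (P : Sylow p G) :
    (N ⊔ (P : Subgroup G)).Normal := by
  have h1 := (h (P.mapSurjective (QuotientGroup.mk'_surjective N))).comap (QuotientGroup.mk' N)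
  rw [Sylow.coe_mapSurjective, Subgroup.comap_map_eq, QuotientGroup.ker_mk', sup_comm] at h1
  exact h1

theorem NSyl.of_sup_normal [Finite G] [Fact p.Prime] {N : Subgroup G} [N.Normal] (P : Sylow p G)
    (h : (N ⊔ (P : Subgroup G)).Normal) : NSyl p (G ⧸ N) := by
  refine NSyl.of_one (P.mapSurjective (QuotientGroup.mk'_surjective N)) ?_
  have h1 := h.map (QuotientGroup.mk' N) (QuotientGroup.mk'_surjective N)
  rw [Subgroup.map_sup, (Subgroup.map_eq_bot_iff N).2 (by rw [QuotientGroup.ker_mk']), bot_sup_eq] at h1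
  rw [Sylow.coe_mapSurjective]
  exact h1

theorem NSyl.of_surjective [Finite G] [Fact p.Prime] (h : NSyl p G) {G' : Type*} [Group G'] {f : G →* G'}
    (hf : Function.Surjective f) : NSyl p G' := by
  haveI := Finite.of_surjective f hf
  obtain ⟨P⟩ : Nonempty (Sylow p G) := inferInstance
  refine NSyl.of_one (P.mapSurjective hf) ?_
  rw [Sylow.coe_mapSurjective]
  exact (h P).map f hf

theorem exists_sylow_le [Finite G] [Fact p.Prime] {H : Subgroup G} (h : ¬ p ∣ H.index) :
    ∃ Q : Sylow p G, (Q : Subgroup G) ≤ H := by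
  obtain ⟨R⟩ : Nonempty (Sylow p H) := inferInstance
  have h1 : IsPGroup p ((R : Subgroup H).map H.subtype) := R.isPGroup'.map _
  have h2 : ¬ p ∣ ((R : Subgroup H).map H.subtype).index := by
    rw [Subgroup.index_map_subtype]
    intro h3
    rcases (Nat.Prime.dvd_mul Fact.out).1 h3 with h4 | h4
    · exact R.not_dvd_index h4
    · exact h h4
  exact ⟨h1.toSylow h2, Subgroup.map_subtype_le _⟩

theorem le_of_sup_normal [Finite G] [Fact p.Prime] {N I : Subgroup G} [N.Normal] (P : Sylow p G)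
    (h : (N ⊔ (P : Subgroup G)).Normal) (hN : N ≤ I) (hI : ¬ p ∣ I.index) : (P : Subgroup G) ≤ I := by
  obtain ⟨Q, hQ⟩ := exists_sylow_le hI
  obtain ⟨g, rfl⟩ := MulAction.exists_smul_eq G P Q
  intro y hy
  have h1 := h.conj_mem y (Subgroup.mem_sup_right hy) g⁻¹
  obtain ⟨n, hn, x, hx, e⟩ := Subgroup.mem_sup_of_normal_left.1 h1
  have : y = g * n * g⁻¹ * (g * x * g⁻¹) := by
    have : y = g * (n * x) * g⁻¹ := by rw [e]; group
    rw [this]; group
  rw [this]
  refine I.mul_mem (hN (Subgroup.Normal.conj_mem ‹_› n hn g)) (hQ ?_)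
  rw [Sylow.coe_subgroup_smul, Subgroup.mem_pointwise_smul_iff_inv_smul_mem]
  simpa [mul_assoc] using hx

theorem index_inertia_mul_dvd [Fintype G] {N : Subgroup G} [N.Normal] [Fintype N] {χ : G → ℂ}
    (hχ : IsIrrCharacter G χ) {θ : N → ℂ} (hθ : IsIrrCharacter N θ)
    (h : classInner (fun n : N => χ n) θ ≠ 0) : (inertia θ).index * charDegree θ ∣ charDegree χ := by
  obtain ⟨e, he⟩ := (hχ.isCharacter.restrict N).exists_classInner_nat hθ.isCharacter
  have h1 := clifford_degree hχ hθ h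
  rw [he, ← hχ.coe_charDegree, ← hθ.coe_charDegree] at h1
  have h2 : charDegree χ = e * (inertia θ).index * charDegree θ := by exact_mod_cast h1
  exact ⟨e, by rw [h2]; ring⟩

theorem sylow_le_inertia [Fintype G] [Fact p.Prime] {N : Subgroup G} [N.Normal] [Fintype N] (P : Sylow p G)
    (hs : (N ⊔ (P : Subgroup G)).Normal) {χ : G → ℂ} (hχ : IsIrrCharacter G χ) {θ : N → ℂ}
    (hθ : IsIrrCharacter N θ) (h : classInner (fun n : N => χ n) θ ≠ 0) (hd : ¬ p ∣ charDegree χ) :
    (P : Subgroup G) ≤ inertia θ :=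
  le_of_sup_normal P hs (le_inertia hθ.isClassFunction) fun h1 =>
    hd ((h1.mul_right _).trans (index_inertia_mul_dvd hχ hθ h))

theorem le_centralizer_of_fix_irr [Finite G] [hp : Fact p.Prime] {N P : Subgroup G} [hN : N.Normal]
    (hP : IsPGroup p P) (hc : ¬ p ∣ Nat.card N)
    (h : ∀ θ : N → ℂ, IsIrrCharacter N θ → P ≤ inertia θ) : N ≤ Subgroup.centralizer (P : Set G) := by
  have hcop : (Nat.card P).Coprime (Nat.card N) := by
    obtain ⟨k, hk⟩ := hP.exists_card_eq
    rw [hk]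
    exact Nat.Coprime.pow_left _ ((Nat.Prime.coprime_iff_not_dvd hp.out).2 hc)
  have h1 : (Subgroup.centralizer (P : Set G)).subgroupOf N = ⊤ := by
    refine H22.eq_top_of_forall_conj_mem _ fun x => ?_
    have h0 : ∀ a ∈ P, ∃ k ∈ N, k * x * k⁻¹ = a * x * a⁻¹ := by
      intro a ha
      have h2 : IsConj x ⟨a * x * a⁻¹, hN.conj_mem _ x.2 a⟩ := by
        rw [isConj_iff_forall_irr]
        intro θ
        exact (mem_inertia'.1 (h θ.1 θ.2 ha) x).symm
      obtain ⟨k, hk⟩ := isConj_iff.1 h2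
      exact ⟨k, k.2, congrArg Subtype.val hk⟩
    haveI := hP.isNilpotent
    obtain ⟨k, hk, h3⟩ := Glaub.exists_conj_mem_centralizer (G := N) (S := P)
      (by rw [Subgroup.normalizer_eq_top]; exact le_top) hcop (Or.inl inferInstance) h0
    exact ⟨⟨k, hk⟩, h3⟩
  intro x hx
  have : (⟨x, hx⟩ : N) ∈ (Subgroup.centralizer (P : Set G)).subgroupOf N := by rw [h1]; trivial
  exact this

theorem normal_of_le_normalizer [Finite G] [Fact p.Prime] {N : Subgroup G} (P : Sylow p G)
    (hs : (N ⊔ (P : Subgroup G)).Normal) (h : N ≤ Subgroup.normalizer (P : Set G)) : (P : Subgroup G).Normal := by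
  have h1 := Sylow.normalizer_sup_eq_top' P (N := N ⊔ (P : Subgroup G)) le_sup_right
  rw [← Subgroup.normalizer_eq_top_iff, eq_top_iff, ← h1]
  exact sup_le le_rfl (sup_le h Subgroup.le_normalizer)

theorem card_quot_lt [Finite G] {N : Subgroup G} [N.Normal] (h : N ≠ ⊥) : Nat.card (G ⧸ N) < Nat.card G := by
  rw [Subgroup.card_eq_card_quotient_mul_card_subgroup N]
  have h1 := (N.one_lt_card_iff_ne_bot).2 h
  have h2 : 0 < Nat.card (G ⧸ N) := Nat.card_pos
  nlinarith

theorem charDegree_inflate {N : Subgroup G} [N.Normal] (χ : G ⧸ N → ℂ) :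
    charDegree (fun g : G => χ g) = charDegree χ := charDegree_congr (by simp)

theorem ito_normal [hp : Fact p.Prime] (G : Type u) [Group G] [Finite G] :
    H4.PSol p (⊤ : Subgroup G) → (∀ χ, IsIrrCharacter G χ → ¬ p ∣ charDegree χ) → NSyl p G := by
  induction' hn : Nat.card G using Nat.strong_induction_on with n ih generalizing G
  intro hs h P
  have := Fintype.ofFinite G
  have key : ∀ N : Subgroup G, ∀ [N.Normal], N ≠ ⊥ → (N ⊔ (P : Subgroup G)).Normal := by
    intro N _ h0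
    refine NSyl.sup_normal (ih _ (hn ▸ card_quot_lt h0) (G ⧸ N) rfl (hs.quotient N) fun χ hχ => ?_) P
    rw [← charDegree_inflate]
    exact h _ hχ.inflate
  by_cases h1 : pPrimeCore p G = ⊥
  · by_cases h2 : pCore p G = ⊥
    · have h3 := hs.centralizer_pCore_le h1
      rw [h2] at h3
      have : (P : Subgroup G) = ⊥ := le_bot_iff.1 fun x _ => h3 (by simp [Subgroup.mem_centralizer_iff])
      rw [this]; infer_instance
    · have := key _ h2
      rwa [sup_eq_right.2 (H1.pCore_le_sylow P)] at this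
  · have h2 := key _ h1
    have := Fintype.ofFinite (pPrimeCore p G)
    refine normal_of_le_normalizer P h2 ((le_centralizer_of_fix_irr P.isPGroup'
      (H1.not_dvd_card_pPrimeCore hp.out) fun θ hθ => ?_).trans (Subgroup.centralizer_le_normalizer _))
    obtain ⟨χ, hχ, h3⟩ := exists_irr_over hθ
    exact sylow_le_inertia P h2 hχ hθ h3 (h χ hχ)

theorem comm_of_normal_of_not_dvd [Finite G] [hp : Fact p.Prime] {P : Subgroup G} [P.Normal] (hP : IsPGroup p P)
    (h : ∀ χ, IsIrrCharacter G χ → ¬ p ∣ charDegree χ) : IsMulCommutative P := by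
  have := Fintype.ofFinite G
  have := Fintype.ofFinite P
  refine ⟨⟨forall_irr_degree_one_iff.1 fun θ => ?_⟩⟩
  obtain ⟨χ, hχ, h3⟩ := exists_irr_over θ.2
  have h1 := (Dvd.intro_left _ rfl).trans (index_inertia_mul_dvd hχ θ.2 h3)
  obtain ⟨k, hk⟩ := hP.exists_card_eq
  obtain ⟨j, -, hj⟩ := (Nat.dvd_prime_pow hp.out).1 (hk ▸ θ.2.charDegree_dvd_card)
  rcases j with _ | j
  · exact θ.2.isCharacter.charDegree_eq_one_iff.1 (by simpa using hj)
  · exact absurd ((Dvd.intro_left _ (pow_succ p j).symm).trans (hj ▸ h1)) (h χ hχ)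

theorem not_dvd_of_normal_comm [Finite G] [Fact p.Prime] (P : Sylow p G) (h : (P : Subgroup G).Normal)
    (hc : IsMulCommutative P) {χ : G → ℂ} (hχ : IsIrrCharacter G χ) : ¬ p ∣ charDegree χ := fun h1 =>
  P.not_dvd_index (h1.trans (ito_degree_dvd (P : Subgroup G)
    (fun a ha b hb => congrArg Subtype.val (hc.is_comm.comm (⟨a, ha⟩ : P) ⟨b, hb⟩)) hχ))

theorem apply_one_of_pgroup [Finite G] [hp : Fact p.Prime] (hP : IsPGroup p G) {θ : G → ℂ}
    (hθ : IsIrrCharacter G θ) (h : ¬ p ∣ charDegree θ) : θ 1 = 1 := by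
  obtain ⟨k, hk⟩ := hP.exists_card_eq
  obtain ⟨j, -, hj⟩ := (Nat.dvd_prime_pow hp.out).1 (hk ▸ hθ.charDegree_dvd_card)
  rcases j with _ | j
  · exact hθ.isCharacter.charDegree_eq_one_iff.1 (by simpa using hj)
  · exact absurd (hj ▸ Dvd.intro_left _ (pow_succ p j).symm) h

theorem ker_of_le_commutator [Finite G] [Fact p.Prime] {P M : Subgroup G} [M.Normal] (hP : IsPGroup p P)
    (hM : M ≤ ⁅P, P⁆) {χ : G → ℂ} (hχ : IsIrrCharacter G χ) (h : ¬ p ∣ charDegree χ) (m : M) :
    χ m = χ 1 := by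
  have := Fintype.ofFinite G
  have := Fintype.ofFinite P
  have := Fintype.ofFinite M
  have hMP : M ≤ P := hM.trans (Subgroup.commutator_le_self P)
  obtain ⟨μ, h1, h2⟩ := exists_constituent_not_dvd (hχ.isCharacter.restrict P) (n := p)
    (by rwa [charDegree_congr (ψ := χ) (by simp)])
  have h3 := apply_one_of_pgroup hP μ.2 h2
  have h4 : (fun x : M => μ.1 (Subgroup.inclusion hMP x)) = fun _ => 1 := by
    funext x
    rw [← h3, ← μ.2.mem_charKer]
    refine μ.2.commutator_le_charKer_iff.2 h3 ?_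
    have h5 := hM x.2
    rw [← Subgroup.map_subtype_commutator] at h5
    obtain ⟨y, hy, e⟩ := h5
    rwa [show Subgroup.inclusion hMP x = y from Subtype.ext e.symm]
  refine (inner_res_one_ne_zero_iff hχ).1 ?_ m
  exact inner_comp_ne_zero_of_constituent (Subgroup.inclusion hMP) (hχ.isCharacter.restrict P) μ.2 h1
    isCharacter_one (by rw [h4]; simp)

theorem exists_pow_sq_mem {C : Subgroup G} {s : G} {k : ℕ} (hk : s ^ 2 ^ k ∈ C) (hs : s ∉ C) :
    ∃ j, s ^ 2 ^ j ∉ C ∧ s ^ 2 ^ j * s ^ 2 ^ j ∈ C := by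
  induction k with
  | zero => exact absurd (by simpa using hk) hs
  | succ k ih =>
    by_cases h : s ^ 2 ^ k ∈ C
    · exact ih h
    · exact ⟨k, h, by rwa [← pow_add, ← two_mul, ← pow_succ']⟩

/-- If all real irreducible characters contain the odd normal subgroup `M` in their kernel, every
`2`-element centralizes `M`. -/
theorem centralizes_of_real_ker [Finite G] {M : Subgroup G} [hM : M.Normal] (ho : Odd (Nat.card M))
    (h : ∀ χ, IsIrrCharacter G χ → (fun g => conj (χ g)) = χ → ∀ m : M, χ m = χ 1) {s : G} {k : ℕ}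
    (hs : s ^ 2 ^ k = 1) : s ∈ Subgroup.centralizer (M : Set G) := by
  classical
  have := Fintype.ofFinite G
  have := Fintype.ofFinite M
  by_contra h0
  obtain ⟨j, h1, h2⟩ := exists_pow_sq_mem (hs ▸ Subgroup.one_mem _) h0
  set t := s ^ 2 ^ j with ht
  have htk : t ^ 2 ^ k = 1 := by rw [ht, ← pow_mul, mul_comm, pow_mul, hs, one_pow]
  set z := t * t with hz
  have hzk : z ^ 2 ^ k = 1 := by rw [hz, ← sq, ← pow_mul, mul_comm, pow_mul, htk, one_pow]
  let S : Finset G := Finset.univ.image fun m : M => z * m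
  have hinj : Function.Injective fun m : M => z * (m : G) := fun a b e => Subtype.ext (mul_left_cancel e)
  have c1 : Nat.card {u : G // u * u ∈ S} = Nat.card ({u : G // u * u = z} × M) := by
    have e1 := card_sqrt_set S
    have e2 := card_sq_eq_sum_fsInd z
    have : (Nat.card {u : G // u * u ∈ S} : ℂ) = Nat.card {u : G // u * u = z} * Nat.card M := by
      rw [e1, e2, Finset.sum_mul]
      refine Finset.sum_congr rfl fun χ _ => ?_
      by_cases h3 : fsInd χ.1 = 0
      · simp [h3]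
      · have h4 := h χ.1 χ.2 (real_of_fs χ.2 h3)
        obtain ⟨χ', -, h5⟩ := χ.2.exists_deflate M fun m hm => χ.2.mem_charKer.2 (h4 ⟨m, hm⟩)
        rw [Finset.sum_image fun a _ b _ e => hinj e]
        have : ∀ m : M, χ.1 (z * m) = χ.1 z := fun m => by
          rw [← h5, ← h5, QuotientGroup.mk_mul, (QuotientGroup.eq_one_iff (m : G)).2 m.2, mul_one]
        simp [this]; ring
    rw [Nat.card_prod]
    exact_mod_cast this
  let F : {u : G // u * u = z} × M → {u : G // u * u ∈ S} := fun x => ⟨x.1 * x.2, by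
    refine Finset.mem_image.2 ⟨⟨(x.1 : G)⁻¹ * x.2 * x.1 * x.2, M.mul_mem (hM.conj_mem' _ x.2.2 _) x.2.2⟩,
      Finset.mem_univ _, ?_⟩
    refine (congrArg (· * _) x.1.2.symm).trans ?_
    simp [mul_assoc]⟩
  have hsurj : Function.Surjective F := by
    rintro ⟨y, hy⟩
    obtain ⟨m, -, e⟩ := Finset.mem_image.1 hy
    have hc : Commute z m := (Subgroup.mem_centralizer_iff.1 h2 m m.2).symm
    obtain ⟨a, ha1, ha2⟩ := Nat.chineseRemainder (n := 2 ^ (k + 1)) (m := Nat.card M)
      (Nat.Coprime.pow_left _ ((Nat.coprime_two_left).2 ho)) 1 0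
    have hm : (m : G) ^ Nat.card M = 1 := by
      rw [← Subgroup.coe_pow, pow_card_eq_one', Subgroup.coe_one]
    have a0 : a ≠ 0 := by
      rintro rfl
      have := (Nat.modEq_iff_dvd' (by omega)).1 ha1
      have h5 := Nat.le_of_dvd (by omega) this
      have : 2 ≤ 2 ^ (k + 1) := Nat.le_self_pow (by omega) 2
      omega
    obtain ⟨b, hb⟩ := (Nat.modEq_iff_dvd' (Nat.one_le_iff_ne_zero.2 a0)).1 ha1.symm
    have ea : a = 1 + 2 * (2 ^ k * b) := by
      have : 2 ^ (k + 1) * b = 2 * (2 ^ k * b) := by ring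
      omega
    obtain ⟨c, hc'⟩ := (Nat.modEq_zero_iff_dvd).1 ha2
    have e1 : y ^ (2 * (2 ^ k * b)) = m ^ (2 ^ k * b) := by
      rw [pow_mul, sq, ← e, hc.mul_pow, pow_mul, hzk, one_pow, one_mul]
    refine ⟨(⟨y ^ a, ?_⟩, (m ^ (2 ^ k * b))⁻¹), Subtype.ext ?_⟩
    · rw [← (Commute.refl y).mul_pow, ← e, hc.mul_pow]
      conv_lhs => rw [hc', pow_mul (m : G), hm, one_pow, mul_one, ← hc', ea, pow_add, pow_one,
        show 2 * (2 ^ k * b) = 2 ^ k * (2 * b) by ring, pow_mul, hzk, one_pow, mul_one]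
    · change y ^ a * ((m : G) ^ (2 ^ k * b))⁻¹ = y
      rw [ea, pow_add, e1]; simp
  have hi : Function.Injective F := (hsurj.bijective_of_nat_card_le c1.ge).1
  apply h1
  intro m hm
  have hx : (m⁻¹ * (t⁻¹ * m * t)) ∈ M := M.mul_mem (M.inv_mem hm) (hM.conj_mem' _ hm _)
  have hc : m * z = z * m := Subgroup.mem_centralizer_iff.1 h2 m hm
  have e : t * (m⁻¹ * (t⁻¹ * m * t)) * (t * (m⁻¹ * (t⁻¹ * m * t))) = z := by
    calc _ = t * m⁻¹ * t⁻¹ * (m * z) * m⁻¹ * t⁻¹ * m * t := by rw [hz]; group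
      _ = t * m⁻¹ * t⁻¹ * z * t⁻¹ * m * t := by rw [hc]; group
      _ = z := by rw [hz]; group
  have := hi (a₁ := (⟨t, rfl⟩, 1)) (a₂ := (⟨_, e⟩, (⟨_, hx⟩ : M)⁻¹)) (Subtype.ext (by simp [F, mul_assoc]))
  have h5 : t = t * (m⁻¹ * (t⁻¹ * m * t)) := congrArg (fun x => (x.1 : G)) this
  calc m * t = t * m * (t⁻¹ * (t * (m⁻¹ * (t⁻¹ * m * t)))) := by group
    _ = t * m := by rw [← h5]; group

theorem exists_unique_of_inner_one [Fintype G] {H : Type*} [Group H] [Fintype H] (f : H →* G) {Λ : G → ℂ}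
    (hΛ : IsCharacter G Λ) {η : H → ℂ} (hη : IsCharacter H η) (h : classInner (fun x => Λ (f x)) η = 1) :
    ∃ χ, IsIrrCharacter G χ ∧ classInner Λ χ = 1 ∧ classInner (fun x => χ (f x)) η = 1 ∧
      ∀ χ', IsIrrCharacter G χ' → classInner Λ χ' ≠ 0 → classInner (fun x => χ' (f x)) η ≠ 0 → χ' = χ := by
  classical
  obtain ⟨m, hm, e⟩ := hΛ.exists_nat
  choose n hn using fun χ : IrrCharacter G => (χ.2.isCharacter.comp f).exists_classInner_nat hη
  have h1 : ∑ χ, m χ * n χ = 1 := by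
    have : (fun x => Λ (f x)) = ∑ χ : IrrCharacter G, (m χ : ℂ) • fun x => χ.1 (f x) := by
      funext x; conv_lhs => rw [e]
      simp
    rw [this, classInner_sum_left] at h
    simp only [classInner_smul_left, hn] at h
    exact_mod_cast h
  obtain ⟨χ, -, h2⟩ := Finset.exists_ne_zero_of_sum_ne_zero (h1.trans_ne one_ne_zero)
  rw [← Finset.add_sum_erase _ _ (Finset.mem_univ χ)] at h1
  have h3 : m χ * n χ = 1 := by omega
  have h4 : ∑ x ∈ Finset.univ.erase χ, m x * n x = 0 := by omega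
  refine ⟨χ.1, χ.2, by rw [hm, Nat.eq_one_of_mul_eq_one_right h3, Nat.cast_one],
    by rw [hn, Nat.eq_one_of_mul_eq_one_left h3, Nat.cast_one], fun χ' h5 h6 h7 => ?_⟩
  by_contra h8
  have := Finset.sum_eq_zero_iff.1 h4 ⟨χ', h5⟩ (Finset.mem_erase.2 ⟨fun e => h8 (congrArg Subtype.val e),
    Finset.mem_univ _⟩)
  rcases mul_eq_zero.1 this with h9 | h9
  · exact h6 (by rw [hm ⟨χ', h5⟩, h9, Nat.cast_zero])
  · exact h7 (by rw [hn ⟨χ', h5⟩, h9, Nat.cast_zero])

theorem exists_real_over_compl [Fintype G] {N H : Subgroup G} [N.Normal] [Fintype N]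
    (hc : Subgroup.IsComplement' N H) {l : N → ℂ} (hl : IsCharacter N l) (h1 : l 1 = 1) {t : G}
    (ht : (fun n => conj (l n)) = cj l t) :
    ∃ χ, IsIrrCharacter G χ ∧ classInner (fun n : N => χ n) l = 1 ∧ fsInd χ = 1 := by
  classical
  have := Fintype.ofFinite H
  have hΛ := isCharacter_ind N hl
  have hr : (fun g => conj (indFun N l g)) = indFun N l := by rw [← ind_conj, ht, ind_cj]
  have h2 : classInner (fun x : H => indFun N l (H.subtype x)) (fun _ => 1) = 1 := by
    rw [classInner_one_right, Finset.sum_eq_single 1]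
    · rw [map_one, ind_one, h1, mul_one, hc.symm.index_eq_card, inv_mul_cancel₀ (card_ne_zero H)]
    · intro x _ hx
      refine ind_normal_of_not_mem N l fun h3 => hx ?_
      have : (x : G) ∈ N ⊓ H := ⟨h3, x.2⟩
      rw [hc.disjoint.eq_bot] at this
      exact Subtype.ext this
    · simp
  obtain ⟨χ, hχ, h3, h4, h5⟩ := exists_unique_of_inner_one H.subtype hΛ isCharacter_one h2
  have h6 : (fun g => conj (χ g)) = χ := by
    refine h5 _ hχ.conj ?_ ?_
    · conv_lhs => rw [← hr]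
      rw [classInner_conj_conj, Ne, classInner_eq_zero_comm, h3]; exact one_ne_zero
    · have := classInner_conj_conj (fun x : H => χ (H.subtype x)) (fun _ => 1)
      simp only [map_one] at this
      rw [this, Ne, classInner_eq_zero_comm, h4]; exact one_ne_zero
  refine ⟨χ, hχ, ?_, ?_⟩
  · rw [← inner_ind_right, hχ.isCharacter.classInner_comm hΛ, h3]; exact hχ.isClassFunction
  · rw [fsInd_eq_of_inner_one hχ h6 H.subtype isIrrCharacter_one (by simp) h4, fsInd_one]

theorem exists_lin_inverted [Finite G] {N : Subgroup G} [hN : N.Normal] (hc : IsMulCommutative N) {t : G}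
    (h1 : t ∉ Subgroup.centralizer (N : Set G)) (h2 : t * t ∈ Subgroup.centralizer (N : Set G)) :
    ∃ μ : N → ℂ, IsCharacter N μ ∧ μ 1 = 1 ∧ μ ≠ (fun _ => 1) ∧ (fun n => conj (μ n)) = cj μ t := by
  have hc' : ∀ a b : N, a * b = b * a := hc.is_comm.comm
  obtain ⟨n, hn⟩ : ∃ n : N, ¬ IsConj n ⟨t * n * t⁻¹, hN.conj_mem _ n.2 t⟩ := by
    by_contra h3
    push Not at h3
    refine h1 fun n hn => ?_
    obtain ⟨k, hk⟩ := isConj_iff.1 (h3 ⟨n, hn⟩)
    rw [hc' k, mul_inv_cancel_right] at hk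
    exact eq_mul_inv_iff_mul_eq.1 (congrArg Subtype.val hk)
  rw [isConj_iff_forall_irr] at hn
  push Not at hn
  obtain ⟨l, hl⟩ := hn
  have l1 := l.2.apply_one_of_comm hc'
  have h3 : cj (cj l.1 t) t = l.1 := by
    rw [← cj_mul]
    funext m
    rw [cj_apply]
    exact congrArg l.1 (Subtype.ext (mul_inv_eq_iff_eq_mul.2 (h2 m m.2).symm))
  refine ⟨l.1 * fun m => conj (cj l.1 t m), l.2.isCharacter.mul (isCharacter_cj l.2.isCharacter t).conj,
    by simp [l1], fun h => hl ?_, ?_⟩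
  · have h4 : l.1 n * conj (cj l.1 t n) = 1 := congrFun h n
    have h5 : conj (cj l.1 t n) * cj l.1 t n = 1 := by
      rw [← (isCharacter_cj l.2.isCharacter t).apply_inv,
        ← (isCharacter_cj l.2.isCharacter t).map_mul_of_apply_one (by simpa using l1)]
      simpa using l1
    change _ = cj l.1 t n
    calc _ = l.1 n * (conj (cj l.1 t n) * cj l.1 t n) := by rw [h5, mul_one]
      _ = _ := by rw [← mul_assoc, h4, one_mul]
  · funext m
    have h4 : cj (l.1 * fun m => conj (cj l.1 t m)) t m = cj l.1 t m * conj (cj (cj l.1 t) t m) := rfl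
    rw [h4, h3]
    simp [mul_comm]

theorem normal_inf_of_sup {N C H : Subgroup G} [N.Normal] [hC : C.Normal]
    (h : C ≤ Subgroup.centralizer (N : Set G)) (hs : N ⊔ H = ⊤) : (C ⊓ H).Normal := by
  refine ⟨fun m hm g => ?_⟩
  obtain ⟨n, hn, y, hy, rfl⟩ := Subgroup.mem_sup_of_normal_left.1 (hs ▸ Subgroup.mem_top g)
  have h1 := hC.conj_mem m hm.1 y
  have h2 : n * y * m * (n * y)⁻¹ = y * m * y⁻¹ := by
    calc _ = n * (y * m * y⁻¹) * n⁻¹ := by group
      _ = _ := by rw [h h1 n hn]; group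
  rw [h2]
  exact ⟨h1, H.mul_mem (H.mul_mem hy hm.2) (H.inv_mem hy)⟩

theorem comm_mem_charKer [Finite G] [Fact p.Prime] {N : Subgroup G} [hN : N.Normal] (hc : IsMulCommutative N)
    (P : Sylow p G) (hs : (N ⊔ (P : Subgroup G)).Normal) {χ : G → ℂ} (hχ : IsIrrCharacter G χ)
    (hd : ¬ p ∣ charDegree χ) {n x : G} (hn : n ∈ N) (hx : x ∈ (P : Subgroup G)) :
    x * n * x⁻¹ * n⁻¹ ∈ charKer χ := by
  have := Fintype.ofFinite G
  have := Fintype.ofFinite N
  have h1 := (hχ.isClassFunction.restrict N).apply_eq_sum_irr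
  rw [hχ.mem_charKer]
  have h2 := h1 (⟨x * n * x⁻¹, hN.conj_mem n hn x⟩ * (⟨n, hn⟩ : N)⁻¹)
  have h3 := h1 1
  simp only [Subgroup.coe_mul, Subgroup.coe_inv, Subgroup.coe_one] at h2 h3
  rw [h2, h3]
  refine Finset.sum_congr rfl fun θ _ => ?_
  by_cases h4 : classInner (fun x : N => χ x) θ.1 = 0
  · simp [h4]
  · have h5 := θ.2.apply_one_of_comm hc.is_comm.comm
    have h6 := mem_inertia'.1 (sylow_le_inertia P hs hχ θ.2 h4 hd hx) ⟨n, hn⟩
    rw [θ.2.isCharacter.map_mul_of_apply_one h5, h6, ← θ.2.isCharacter.map_mul_of_apply_one h5, mul_inv_cancel]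

/-- Isaacs–Navarro: real characters of `p'`-degree force a normal Sylow `p`-subgroup. -/
theorem NSyl.of_real [hp : Fact p.Prime] (G : Type u) [Group G] [Finite G] :
    (∃ L : Subgroup G, L.Normal ∧ Group.IsSolvable L ∧ ¬ p ∣ L.index) →
    (∀ χ, IsIrrCharacter G χ → (fun g => conj (χ g)) = χ → ¬ p ∣ charDegree χ) →
    (∀ M : Subgroup G, M.Normal → Odd M.index → ∀ P : Sylow p G, (M ⊔ (P : Subgroup G)).Normal) → NSyl p G := by
  induction' hn : Nat.card G using Nat.strong_induction_on with n ih generalizing G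
  rintro ⟨L, hL, hLs, hLi⟩ h ho P
  have := Fintype.ofFinite G
  by_cases hL0 : L = ⊥
  · have : (P : Subgroup G) = ⊥ := by
      rw [hL0, Subgroup.index_bot] at hLi
      rcases P.isPGroup'.card_eq_or_dvd with h1 | h1
      · exact Subgroup.card_eq_one.1 h1
      · exact absurd (h1.trans (Subgroup.card_subgroup_dvd_card _)) hLi
    rw [this]; infer_instance
  obtain ⟨N, q, hN, hN0, hNL, hq, hc, hexp, hNq, hmin⟩ := H1.exists_normal_elementary_le L hL0
  have := Fintype.ofFinite N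
  have hπ := QuotientGroup.mk'_surjective N
  have hs : (N ⊔ (P : Subgroup G)).Normal := by
    refine NSyl.sup_normal (ih _ (hn ▸ card_quot_lt hN0) (G ⧸ N) rfl ⟨L.map (QuotientGroup.mk' N), hL.map _ hπ,
      Group.isSolvable_of_surjective ((QuotientGroup.mk' N).subgroupMap_surjective L),
      fun h1 => hLi (h1.trans (L.index_map_dvd hπ))⟩ (fun χ hχ hr => ?_) fun M hM hMo Q => ?_) P
    · rw [← charDegree_inflate]
      exact h _ hχ.inflate (funext fun g => congrFun hr g)
    · obtain ⟨R, rfl⟩ := Sylow.mapSurjective_surjective hπ p Q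
      have := (ho _ (hM.comap (QuotientGroup.mk' N)) (by rwa [M.index_comap_of_surjective hπ]) R).map _ hπ
      rwa [Subgroup.map_sup, Subgroup.map_comap_eq_self_of_surjective hπ] at this
  by_contra hP
  set H := Subgroup.normalizer ((P : Subgroup G) : Set G) with hH
  have hNH : ¬ N ≤ H := fun h1 => hP (normal_of_le_normalizer P hs h1)
  have htop : N ⊔ H = ⊤ := by
    have h1 := Sylow.normalizer_sup_eq_top' P (N := N ⊔ (P : Subgroup G)) le_sup_right
    rw [eq_top_iff, ← h1]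
    exact sup_le le_sup_right (sup_le le_sup_left (Subgroup.le_normalizer.trans le_sup_right))
  have hNC : N ≤ Subgroup.centralizer (N : Set G) := fun a ha b hb =>
    congrArg Subtype.val (hc.is_comm.comm (⟨b, hb⟩ : N) ⟨a, ha⟩)
  have hbot : N ⊓ H = ⊥ := (hmin _ (normal_inf_of_sup hNC htop) inf_le_left).resolve_right fun h1 =>
    hNH (h1 ▸ inf_le_right)
  have hcomp : Subgroup.IsComplement' N H := H1.isComplement'_iff_of_normal.2 ⟨hbot, htop⟩
  obtain ⟨μ, t, h1, h2, h3, h4⟩ : ∃ (μ : N → ℂ) (t : G), IsCharacter N μ ∧ μ 1 = 1 ∧ μ ≠ (fun _ => 1) ∧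
      (fun n => conj (μ n)) = cj μ t := by
    by_cases h2 : q = 2
    · obtain ⟨⟨n, hn⟩, h3⟩ := Subgroup.ne_bot_iff_exists_ne_one.1 hN0
      obtain ⟨l, hl, h4⟩ := exists_irr_not_mem_charKer h3
      refine ⟨l, 1, hl.isCharacter, hl.apply_one_of_comm hc.is_comm.comm, ?_, ?_⟩
      · rintro rfl
        exact h4 (hl.mem_charKer.2 rfl)
      · funext m
        rw [cj_one, ← hl.apply_inv]
        congr 1
        refine inv_eq_of_mul_eq_one_left (Subtype.ext ?_)
        simpa [h2, sq] using hexp m m.2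
    by_cases h3 : ∃ (s : G) (k : ℕ), s ^ 2 ^ k = 1 ∧ s ∉ Subgroup.centralizer (N : Set G)
    · obtain ⟨s, k, h4, h5⟩ := h3
      obtain ⟨j, h6, h7⟩ := exists_pow_sq_mem (h4 ▸ Subgroup.one_mem _) h5
      obtain ⟨μ, h8⟩ := exists_lin_inverted hc h6 h7
      exact ⟨μ, _, h8⟩
    push Not at h3
    exfalso
    haveI : Fact (Nat.Prime 2) := ⟨Nat.prime_two⟩
    haveI := Fact.mk hq
    obtain ⟨Q, hQ⟩ := exists_sylow_le (p := 2) (H := H) (by
      obtain ⟨k, hk⟩ := hNq.exists_card_eq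
      rw [hcomp.index_eq_card, hk]
      exact fun h4 => h2 ((Nat.prime_dvd_prime_iff_eq Nat.prime_two hq).1
        (Nat.prime_two.dvd_of_dvd_pow h4)).symm)
    have h4 : (Q : Subgroup G) ≤ Subgroup.centralizer (N : Set G) ⊓ H := le_inf (fun s hs => by
      obtain ⟨k, hk⟩ := Q.isPGroup' ⟨s, hs⟩
      exact h3 s k (congrArg Subtype.val hk)) hQ
    haveI := normal_inf_of_sup (C := Subgroup.centralizer (N : Set G)) le_rfl htop
    refine hP (normal_of_le_normalizer P (ho _ this ?_ P) inf_le_right)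
    rw [← Nat.not_even_iff_odd, even_iff_two_dvd]
    exact fun h5 => Q.not_dvd_index (h5.trans (Subgroup.index_dvd_of_le h4))
  obtain ⟨χ, hχ, h5, h6⟩ := exists_real_over_compl hcomp h1 h2 h4
  have hd := h χ hχ (real_of_fs hχ (h6 ▸ one_ne_zero))
  haveI := hχ.isCharacter.normal_charKer
  rcases hmin (N ⊓ charKer χ) inferInstance inf_le_left with h7 | h7
  · refine hNH fun n hn => Subgroup.centralizer_le_normalizer _ fun x hx => ?_
    have : x * n * x⁻¹ * n⁻¹ ∈ N ⊓ charKer χ :=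
      ⟨N.mul_mem (hN.conj_mem n hn x) (N.inv_mem hn), comm_mem_charKer hc P hs hχ hd hn hx⟩
    rw [h7, Subgroup.mem_bot] at this
    calc x * n = x * n * x⁻¹ * n⁻¹ * (n * x) := by group
      _ = _ := by rw [this, one_mul]
  · have hμ := h1.isIrr_of_apply_one h2
    have h8 := (hχ.isCharacter.restrict N).charKer_le_of_constituent hμ (h5 ▸ one_ne_zero)
    refine h3 (funext fun n => ?_)
    rw [← h2, ← hμ.mem_charKer]
    refine h8 ((hχ.isCharacter.restrict N).mem_charKer.2 ?_)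
    exact hχ.mem_charKer.1 (h7.ge n.2).2

/-- The subgroup generated by the `p`-elements. -/
abbrev pGen (p : ℕ) (G : Type*) [Group G] : Subgroup G := Subgroup.closure {g : G | ∃ k : ℕ, orderOf g = p ^ k}

instance instNormalPGen (p : ℕ) (G : Type*) [Group G] : (pGen p G).Normal := by
  refine ⟨fun n hn g => ?_⟩
  have : pGen p G ≤ (pGen p G).comap (MulAut.conj g).toMonoidHom := (Subgroup.closure_le _).2 fun x ⟨k, hk⟩ =>
    Subgroup.subset_closure ⟨k, by rw [← hk]; exact (MulAut.conj g).orderOf_eq x⟩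
  exact this hn

theorem le_pGen [Fact p.Prime] {P : Subgroup G} (hP : IsPGroup p P) : P ≤ pGen p G := fun x hx => by
  obtain ⟨k, hk⟩ := IsPGroup.iff_orderOf.1 hP ⟨x, hx⟩
  exact Subgroup.subset_closure ⟨k, by rw [← hk, Subgroup.orderOf_mk]⟩

theorem not_dvd_index_pGen [Finite G] [Fact p.Prime] : ¬ p ∣ (pGen p G).index := fun h => by
  obtain ⟨P⟩ : Nonempty (Sylow p G) := inferInstance
  exact P.not_dvd_index (h.trans (Subgroup.index_dvd_of_le (le_pGen P.isPGroup')))

theorem odd_index_pGen [Finite G] : Odd (pGen 2 G).index := by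
  haveI : Fact (Nat.Prime 2) := ⟨Nat.prime_two⟩
  rw [← Nat.not_even_iff_odd, even_iff_two_dvd]
  exact not_dvd_index_pGen

theorem pGen_le_map [Finite G] [hp : Fact p.Prime] {U : Subgroup G} (hU : pGen p G ≤ U) {M : Subgroup U} [M.Normal]
    (h : ¬ p ∣ M.index) : pGen p G ≤ M.map U.subtype := by
  refine (Subgroup.closure_le _).2 fun x ⟨k, hk⟩ => ?_
  have hx := hU (Subgroup.subset_closure ⟨k, hk⟩)
  refine ⟨⟨x, hx⟩, ?_, rfl⟩
  have h1 : M.index.Coprime (orderOf (⟨x, hx⟩ : U)) := by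
    rw [Subgroup.orderOf_mk, hk]
    exact (((Nat.Prime.coprime_iff_not_dvd hp.out).2 h).symm).pow_right _
  obtain ⟨m, hm⟩ := exists_pow_eq_self_of_coprime h1
  rw [← hm]
  exact M.pow_mem (M.pow_index_mem _) _

theorem NSyl.of_real_le [Finite G] [hp : Fact p.Prime] (hs : Group.IsSolvable (pGen p G))
    (h : ∀ χ, IsIrrCharacter G χ → (fun g => conj (χ g)) = χ → ¬ p ∣ charDegree χ) {U : Subgroup G} [U.Normal]
    (hU : pGen 2 G ≤ U) {a : ℕ} (ha : (pGen 2 G).relIndex U = p ^ a) : NSyl p U := by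
  have := Fintype.ofFinite G
  have := Fintype.ofFinite U
  haveI : Fact (Nat.Prime 2) := ⟨Nat.prime_two⟩
  refine NSyl.of_real U ⟨(pGen p G).subgroupOf U, inferInstance, ?_, fun h1 =>
    not_dvd_index_pGen (h1.trans (Subgroup.relIndex_dvd_index_of_normal _ _))⟩ (fun θ hθ hr h1 => ?_)
    fun M hM ho P => ?_
  · exact Group.isSolvable_of_isSolvable_injective (f := H6.sOfHom (pGen p G) U) fun a b e =>
      Subtype.ext (Subtype.ext (congrArg (fun x : pGen p G => (x : G)) e))
  · obtain ⟨χ, hχ, h2, h3, -⟩ := existsUnique_real_over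
      (odd_index_pGen.of_dvd_nat (Subgroup.index_dvd_of_le hU)) hθ hr
    exact h χ hχ h3 ((h1.mul_left _).trans (index_inertia_mul_dvd hχ hθ (h2 ▸ one_ne_zero)))
  · have h1 : (pGen 2 G).subgroupOf U ≤ M := fun x hx => by
      obtain ⟨y, hy, e⟩ := pGen_le_map hU (M := M)
        (by rwa [← even_iff_two_dvd, Nat.not_even_iff_odd]) hx
      rwa [← show y = x from Subtype.ext e]
    have h2 : (M ⊔ (P : Subgroup U)).index ∣ p ^ a :=
      ha ▸ Subgroup.index_dvd_of_le (h1.trans le_sup_left)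
    obtain ⟨j, -, hj⟩ := (Nat.dvd_prime_pow hp.out).1 h2
    rcases j with _ | j
    · rw [Subgroup.index_eq_one.1 hj]; infer_instance
    · exact absurd ((hj ▸ Dvd.intro_left _ (pow_succ p j).symm).trans (Subgroup.index_dvd_of_le le_sup_right))
        P.not_dvd_index

end H8
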