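import Cfsg.Agent.H8.Van
import Cfsg.Agent.H8.Deg
import Cfsg.Agent.H6.Extension
import Cfsg.Agent.H3.PGrpBasic
import Cfsg.Agent.H1.Coprime
/-! Character degrees of class-two situations and `p`-groups: `vanish_of_comm`, `deg_sq_of_comm`,
`sum_nonlinear`, `exists_lin_ne_one`, `deg_dvd_index_of_comm`. -/
open H5 Cfsg
open scoped ComplexConjugate commutatorElement
namespace H8
variable {G : Type*} [Group G] [Finite G] {χ ψ : G → ℂ}

theorem vanish_of_commElt (hχ : IsIrrCharacter G χ) {g x : G} (h1 : ⁅x, g⁆ ∈ charCenter χ)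
    (h2 : ⁅x, g⁆ ∉ charKer χ) : χ g = 0 := by
  obtain ⟨c, -, hc⟩ := h1
  have e := hc g
  rw [commutatorElement_def, inv_mul_cancel_right, hχ.isClassFunction] at e
  by_contra h0
  apply h2
  have : c = 1 := by
    have : (c - 1) * χ g = 0 := by rw [sub_mul, ← e]; ring
    exact sub_eq_zero.1 ((mul_eq_zero.1 this).resolve_right h0)
  intro y
  rw [hc, this, one_mul]

theorem vanish_of_comm (hχ : IsIrrCharacter G χ) (h : commutator G ≤ charCenter χ) {g : G}
    (hg : g ∉ charCenter χ) : χ g = 0 := by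
  rw [hχ.mem_charCenter_iff_commutator] at hg
  push Not at hg
  obtain ⟨x, hx⟩ := hg
  refine vanish_of_commElt hχ (x := x) (h (Subgroup.commutator_mem_commutator trivial trivial)) fun e => hx ?_
  rw [← commutatorElement_inv]; exact inv_mem e

theorem deg_sq_of_vanish (hχ : IsIrrCharacter G χ) (h : ∀ g ∉ charCenter χ, χ g = 0) :
    charDegree χ ^ 2 = (charCenter χ).index := by
  classical
  letI := Fintype.ofFinite G
  have h1 := hχ.sum_norm_sq
  rw [← Finset.sum_subset (Finset.subset_univ (Finset.univ.filter (· ∈ charCenter χ)))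
    (fun g _ hg => by rw [h g (by simpa using hg)]; simp),
    Finset.sum_congr rfl (g := fun _ => (charDegree χ : ℝ) ^ 2) (fun g hg => by
      rw [hχ.mem_charCenter.1 (Finset.mem_filter.1 hg).2, hχ.isCharacter.norm_apply_one]),
    Finset.sum_const, ← Nat.subtype_card _ (p := (· ∈ charCenter χ)) (by simp), nsmul_eq_mul,
    ← (charCenter χ).card_mul_index] at h1
  have h2 : Nat.card (charCenter χ) * charDegree χ ^ 2 =
      Nat.card (charCenter χ) * (charCenter χ).index := by exact_mod_cast h1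
  exact Nat.eq_of_mul_eq_mul_left Nat.card_pos h2

theorem deg_sq_of_comm (hχ : IsIrrCharacter G χ) (h : commutator G ≤ charCenter χ) :
    charDegree χ ^ 2 = (charCenter χ).index :=
  deg_sq_of_vanish hχ fun _ hg => vanish_of_comm hχ h hg

theorem sum_deg_sq : ∑ χ : IrrCharacter G, charDegree χ.1 ^ 2 = Nat.card G := by
  have := sum_sq_degrees (G := G)
  simp only [← coe_deg] at this
  exact_mod_cast this

open Classical in
theorem sum_nonlinear : ∑ χ : IrrCharacter G with charDegree χ.1 ≠ 1, charDegree χ.1 ^ 2 +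
    (commutator G).index = Nat.card G := by
  rw [← sum_deg_sq, ← Finset.sum_filter_add_sum_filter_not Finset.univ
    (fun χ : IrrCharacter G => charDegree χ.1 ≠ 1), ← card_linear_irr,
    Nat.subtype_card (Finset.univ.filter fun χ : IrrCharacter G => ¬ charDegree χ.1 ≠ 1)
      (fun χ => by simp [χ.2.isCharacter.charDegree_eq_one_iff]), Finset.card_eq_sum_ones]
  congr 1
  exact Finset.sum_congr rfl fun χ hχ => by rw [not_not.1 (Finset.mem_filter.1 hχ).2]; rfl

theorem exists_lin_ne_one {N : Subgroup G} (hN : commutator G ≤ N) {g : G} (hg : g ∉ N) :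
    ∃ lam : G →* ℂˣ, (∀ n ∈ N, lam n = 1) ∧ lam g ≠ 1 := by
  haveI : N.Normal := Subgroup.Normal.of_commutator_le G hN
  obtain ⟨χ, h1, h2, h3⟩ := exists_irr_le_charKer_not_mem N hg
  obtain ⟨lam, rfl⟩ := h1.isCharacter.exists_hom_of_apply_one
    (h1.commutator_le_charKer_iff.1 (hN.trans h2))
  rw [charKer_hom] at h2 h3
  exact ⟨lam, h2, h3⟩

theorem not_le_ker_iff (hχ : IsIrrCharacter G χ) :
    ¬ commutator G ≤ charKer χ ↔ charDegree χ ≠ 1 := by
  rw [hχ.commutator_le_charKer_iff, Ne, hχ.isCharacter.charDegree_eq_one_iff]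

theorem charDegree_mul_hom (lam : G →* ℂˣ) :
    charDegree (χ * fun g => (lam g : ℂ)) = charDegree χ := charDegree_congr (by simp)

theorem deg_dvd_index_of_comm (hχ : IsIrrCharacter G χ) (A : Subgroup G) [A.Normal]
    (h : ⁅A, A⁆ ≤ charKer χ) : charDegree χ ∣ A.index := by
  haveI := hχ.isCharacter.normal_charKer
  obtain ⟨χ', h1, h2⟩ := hχ.exists_deflate _ le_rfl
  haveI : (A.map (QuotientGroup.mk' (charKer χ))).Normal :=
    Subgroup.Normal.map inferInstance _ (QuotientGroup.mk'_surjective _)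
  have := H6.ito_degree_dvd (A.map (QuotientGroup.mk' (charKer χ))) (by
    rintro _ ⟨a, ha, rfl⟩ _ ⟨b, hb, rfl⟩
    rw [← commutatorElement_eq_one_iff_mul_comm, ← map_commutatorElement, QuotientGroup.mk'_apply,
      QuotientGroup.eq_one_iff]
    exact h (Subgroup.commutator_mem_commutator ha hb)) h1
  rw [charDegree_congr (ψ := χ) (h2 1)] at this
  exact this.trans (Subgroup.index_map_dvd _ (QuotientGroup.mk'_surjective _))

theorem deg_eq_pow {p : ℕ} [hp : Fact p.Prime] (hG : IsPGroup p G) (hχ : IsIrrCharacter G χ) :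
    ∃ k, charDegree χ = p ^ k := by
  obtain ⟨n, hn⟩ := IsPGroup.iff_card.1 hG
  obtain ⟨k, -, hk⟩ := (Nat.dvd_prime_pow hp.out).1 (hn ▸ hχ.charDegree_dvd_card)
  exact ⟨k, hk⟩

theorem dvd_deg_iff {p : ℕ} [hp : Fact p.Prime] (hG : IsPGroup p G) (hχ : IsIrrCharacter G χ) :
    p ∣ charDegree χ ↔ charDegree χ ≠ 1 := by
  obtain ⟨k, hk⟩ := deg_eq_pow hG hχ
  rw [hk]
  rcases k with _ | k
  · simp [hp.out.ne_one]
  · simp [dvd_pow_self, hp.out.ne_one]

theorem exists_central_of_normal {p : ℕ} [hp : Fact p.Prime] (hG : IsPGroup p G) {N : Subgroup G}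
    [N.Normal] (h : N ≠ ⊥) : ∃ z ∈ N, z ∈ Subgroup.center G ∧ orderOf z = p := by
  have := H1.inf_centralizer_ne_bot_of_isPGroup (P := ⊤) (U := N) (hG.to_subgroup _)
    (hG.to_subgroup _) (by rw [Subgroup.normalizer_eq_top]) h
  obtain ⟨k, hk⟩ := IsPGroup.iff_card.1 (hG.to_subgroup (N ⊓ Subgroup.centralizer ((⊤ : Subgroup G) : Set G)))
  obtain ⟨z, hz, ho⟩ := H1.exists_prime_orderOf_mem hp.out
    (H := N ⊓ Subgroup.centralizer ((⊤ : Subgroup G) : Set G)) (by
      rw [hk]
      refine dvd_pow_self p fun e => this ?_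
      rwa [e, pow_zero, Subgroup.card_eq_one] at hk)
  exact ⟨z, hz.1, Subgroup.mem_center_iff.2 fun g => hz.2 g trivial, ho⟩

theorem le_center_of_card_prime {p : ℕ} [hp : Fact p.Prime] (hG : IsPGroup p G) {N : Subgroup G}
    [N.Normal] (h : Nat.card N ∣ p) : N ≤ Subgroup.center G := by
  by_cases h0 : N = ⊥
  · rw [h0]; exact bot_le
  obtain ⟨z, h1, h2, h3⟩ := exists_central_of_normal hG h0
  rw [← Subgroup.eq_of_le_of_card_ge (Subgroup.zpowers_le.2 h1) (by
    rw [Nat.card_zpowers, h3]; exact Nat.le_of_dvd hp.out.pos h)]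
  exact Subgroup.zpowers_le.2 h2

omit [Finite G] in
theorem commElt_pow_left {x y : G} (h : Commute x ⁅x, y⁆) (n : ℕ) : ⁅x ^ n, y⁆ = ⁅x, y⁆ ^ n := by
  induction n with
  | zero => simp
  | succ n ih =>
    have : ⁅x ^ (n + 1), y⁆ = x * ⁅x ^ n, y⁆ * x⁻¹ * ⁅x, y⁆ := by
      simp only [commutatorElement_def, pow_succ']; group
    rw [this, ih, (h.pow_right n).eq, mul_inv_cancel_right, pow_succ]

omit [Finite G] in
theorem pow_mem_center_of_comm {M : Subgroup G} (hM : M ≤ Subgroup.center G) {n : ℕ}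
    (hn : ∀ m ∈ M, m ^ n = 1) {x : G} (hx : ∀ y, ⁅x, y⁆ ∈ M) : x ^ n ∈ Subgroup.center G := by
  rw [Subgroup.mem_center_iff]
  intro y
  have := commElt_pow_left (x := x) (y := y) (Subgroup.mem_center_iff.1 (hM (hx y)) x) n
  rw [hn _ (hx y), commutatorElement_eq_one_iff_mul_comm] at this
  exact this.symm

end H8
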