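import Cfsg.Agent.H8.Avg
import Cfsg.Agent.H7.Cyc
import Cfsg.Agent.H7.Star
import Cfsg.Agent.H7.Misc2
/-! The minimum of the inverse Cartan form: `H8.FB p b` (the minimum is at least `l(b)`), for cyclic
defect groups (`FB.of_cs`), passage to dominated blocks (`FB.of_quot`), and the resulting bound
`Sub.card_le_of_FB`. -/
open H5 H7 Cfsg Finset
open scoped ComplexConjugate ComplexOrder
namespace H8
variable {G H : Type*} [Group G] [Group H] {M : Ideal AlgInt} {p : ℕ} [hp : Fact p.Prime]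

theorem sq_form_ge {A : Type*} [Fintype A] (m : A → ℤ) {t Q : ℤ} (ht : 1 ≤ t)
    (h : Q = (t * Fintype.card A + 1) * ∑ i, m i ^ 2 - t * (∑ i, m i) ^ 2) :
    Q = 0 ∨ (Fintype.card A : ℤ) ≤ Q := by
  have e : ∑ i, ∑ j, (m i - m j) ^ 2 = 2 * (Fintype.card A * ∑ i, m i ^ 2 - (∑ i, m i) ^ 2) := by
    simp only [sub_sq, sum_add_distrib, sum_sub_distrib, sum_const, card_univ, nsmul_eq_mul,
      ← mul_sum, ← sum_mul]
    ring
  have h0 : ∀ i, m i ≠ 0 → 1 ≤ m i ^ 2 := fun i h => Int.add_one_le_of_lt (sq_pos_of_ne_zero h)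
  by_cases hc : ∀ i j, m i = m j
  · have e2 : ∑ i, ∑ j, (m i - m j) ^ 2 = 0 :=
      sum_eq_zero fun i _ => sum_eq_zero fun j _ => by rw [hc i j]; simp
    have e3 : Q = ∑ i, m i ^ 2 := by rw [h]; linear_combination (t / 2) * 0 + t * (by linarith :
      (Fintype.card A * ∑ i, m i ^ 2 - (∑ i, m i) ^ 2 : ℤ) = 0)
    by_cases h1 : ∀ i, m i = 0
    · left; simp [e3, h1]
    · push Not at h1
      obtain ⟨i, hi⟩ := h1
      right
      rw [e3, ← card_univ, card_eq_sum_ones, Nat.cast_sum]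
      exact sum_le_sum fun j _ => h0 j (hc i j ▸ hi)
  · push Not at hc
    obtain ⟨i, j, hij⟩ := hc
    have h1 := sum_pairs_ge (g := fun i j => (m i - m j) ^ 2) (m := 1) (fun _ _ => sq_nonneg _)
      (fun _ _ => by ring) (s₀ := i) (t₀ := j) (by rintro rfl; exact hij rfl) fun c => by
        by_cases e : m c = m i
        · have : 0 < (m c - m j) ^ 2 := by rw [e]; have := sub_ne_zero.2 hij; positivity
          nlinarith [sq_nonneg (m c - m i)]
        · have : 0 < (m c - m i) ^ 2 := by have := sub_ne_zero.2 e; positivity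
          nlinarith [sq_nonneg (m c - m j)]
    have h2 : 1 ≤ ∑ i, m i ^ 2 := by
      by_cases e : m i = 0
      · exact (h0 j fun e' => hij (e.trans e'.symm)).trans
          (single_le_sum (f := fun i => m i ^ 2) (fun _ _ => sq_nonneg _) (mem_univ j))
      · exact (h0 i e).trans
          (single_le_sum (f := fun i => m i ^ 2) (fun _ _ => sq_nonneg _) (mem_univ i))
    have h3 : (1 : ℤ) ≤ Fintype.card A := by
      have : Nonempty A := ⟨i⟩
      exact_mod_cast Fintype.card_pos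
    right
    rw [e] at h1
    nlinarith

variable (p) in
/-- The minimum of the form `p ^ d C⁻¹` is at least `l(b)`. -/
def FB [Fintype H] (b : Set (IrrCharacter H)) : Prop := ∀ β, IsGeneralizedCharacter H β →
  ∀ Q : ℤ, (p : ℂ) ^ blockDefect p b * ctr p 1 b β β = Q → Q = 0 ∨ (blockRank p b : ℤ) ≤ Q

theorem FB.of_rank [Fintype H] {b : Set (IrrCharacter H)} (h : blockRank p b ≤ 1) : FB p b :=
  fun β hβ Q e => by
    have h2 := int_nonneg_of_sum (J := {0}) (x := fun _ : ℕ => (Q : ℂ)) (fun _ _ => by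
      rw [← e, ← Nat.cast_pow]
      exact (tp_natCast _).mul (tp_ctr hβ)) one_pos (T := Q) (by simp)
    omega

variable [PM p M]

theorem ctr_one_eq [Fintype H] {b : Set (IrrCharacter H)} (hb : IsSat M b) (β : H → ℂ) :
    ctr p 1 b β β = classInner (reg p (blockPart b β)) (reg p (blockPart b β)) := by
  rw [ctr, secF_one hb, blockPart_reg hb]

theorem Sub.card_le_of_FB [Fintype G] {K : Subgroup G} [Fintype K] {u : K}
    {b : Set (IrrCharacter K)} {B : Set (IrrCharacter G)} (h : Sub M p K u b B) (hf : FB p b)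
    {S : Finset (IrrCharacter G)} (hS : S ⊆ fs B) (h0 : ∀ χ ∈ S, cm p u b χ χ ≠ 0) :
    S.card ≤ p ^ blockDefect p b :=
  Nat.le_of_mul_le_mul_right (h.brauer_crit hf hS h0)
    (blockRank_pos (isSat_of_isPBlock h.ind.1) (block_nonempty h.ind.1))

theorem FB.of_exc [Fintype G] {D : Type*} [Group D] [Fintype D] [Nontrivial D]
    {B : Set (IrrCharacter G)} {E : Subgroup (MulAut D)} {a : D → G → ℂ}
    {ζ : (D →* ℂˣ) → IrrCharacter G} {δ : ℤ} {α : IrrCharacter G → ℤ} (hB : IsSat M B)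
    (hD : Nat.card D = p ^ blockDefect p B) (F : Fam p B E a) (x : Exc p B E a ζ δ 0 α)
    (hα : ∀ χ ∈ B \ ζ '' {1}ᶜ, α χ = 1 ∨ α χ = -1)
    (hc : Nat.card (B \ ζ '' {1}ᶜ : Set _) = Nat.card E) : FB p B := by
  classical
  intro β hβ Q hQ
  obtain ⟨n, hn, -⟩ := hβ.exists_int
  set N := fs (B \ ζ '' {1}ᶜ) with hN
  set X := fs (ζ '' {1}ᶜ) with hX
  have mN : ∀ χ ∈ N, χ ∈ B \ ζ '' {1}ᶜ := fun χ h => mem_fs.1 h
  have a2 : ∀ χ ∈ N, α χ * α χ = 1 := fun χ h => by rcases hα χ (mN χ h) with e | e <;> simp [e]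
  have d2 : (δ : ℂ) * δ = 1 := by rcases x.sign with e | e <;> simp [e]
  let c : IrrCharacter G → ℤ := fun χ => n χ + δ * (∑ η ∈ X, n η) * α χ
  set γ : G → ℂ := ∑ χ ∈ N, (c χ : ℂ) • (χ : G → ℂ) with hγ
  have e1 : reg p (blockPart B β) = reg p γ := funext fun g => by
    by_cases hg : p ∣ orderOf g
    · rw [reg_of_dvd _ hg, reg_of_dvd _ hg]
    rw [reg_of_not_dvd _ hg, reg_of_not_dvd _ hg, blockPart_eq_sum, ← sum_fs,
      ← sum_sdiff (s₁ := X) fun χ h => mem_fs.2 (x.subset (mem_fs.1 h)),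
      show fs B \ X = N by ext; simp [hN, hX]]
    have r : ∀ η ∈ X, (η : G → ℂ) g = δ * ∑ χ ∈ N, α χ * (χ : G → ℂ) g := by
      intro η hη
      obtain ⟨l, hl, rfl⟩ := mem_fs.1 hη
      have := x.rel l hl g hg
      simp only [Int.cast_zero, zero_mul, zero_add] at this
      rw [finsum_mem_eq_finite_toFinset_sum _ (Set.toFinite _)] at this
      rw [← one_mul ((ζ l : G → ℂ) g), ← d2, mul_assoc, this]
      rfl
    rw [sum_congr (rfl : X = X) fun η hη => by rw [r η hη], ← sum_mul]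
    simp only [hγ, hn, c, Finset.sum_apply, Pi.smul_apply, smul_eq_mul, Int.cast_add,
      Int.cast_mul, Int.cast_sum]
    rw [← mul_assoc, mul_sum, ← sum_add_distrib]
    exact sum_congr rfl fun χ _ => by ring
  set A := ∑ χ ∈ N, c χ * α χ with hA
  have e2 : ∀ v ≠ 1, dn a γ v = A := fun v hv => by
    simp only [dn, hγ, classInner_sum_left, classInner_smul_left, mul_sum, hA]
    push_cast
    exact sum_congr rfl fun χ hχ => by rw [← x.non χ (mN χ hχ) v hv, dn]; ring
  have e3 : (Nat.card E : ℂ) • γ = (Nat.card E : ℂ) • reg p γ + ∑ v, dn a γ v • a v := by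
    funext g
    simp only [Pi.add_apply, Pi.smul_apply, smul_eq_mul, Finset.sum_apply]
    by_cases hg : p ∣ orderOf g
    · rw [reg_of_dvd _ hg, mul_zero, zero_add]
      simp only [hγ, Finset.sum_apply, Pi.smul_apply, smul_eq_mul, mul_sum, dn, classInner_sum_left,
        classInner_smul_left, sum_mul]
      rw [sum_comm]
      refine sum_congr rfl fun χ hχ => ?_
      rw [mul_left_comm, F.card_mul_apply (mN χ hχ).1 hg, mul_sum]
      exact sum_congr rfl fun v _ => by rw [dn]; ring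
    · simp [reg_of_not_dvd _ hg, F.reg _ g hg]
  have e4 : classInner γ γ = ((∑ χ ∈ N, c χ ^ 2 : ℤ) : ℂ) := by
    simp only [hγ, classInner_sum_left, classInner_sum_right, classInner_smul_left,
      classInner_smul_right, classInner_irr, map_intCast, mul_ite, mul_one, mul_zero, sum_ite_eq']
    push_cast
    exact sum_congr rfl fun χ hχ => by rw [if_pos hχ]; ring
  have hD0 : (Nat.card D : ℂ) ≠ 0 := Nat.cast_ne_zero.2 Nat.card_pos.ne'
  have e5 : Nat.card D * ∑ v, conj (dn a γ v) * classInner γ (a v) =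
      (Nat.card D - 1) * (A : ℂ) ^ 2 := by
    rw [mul_sum, ← add_sum_erase _ _ (mem_univ 1), F.dn_one, map_zero, zero_mul, mul_zero, zero_add,
      sum_congr rfl (g := fun _ => (A : ℂ) ^ 2) fun v hv => by
        rw [mul_left_comm, ← dn, e2 v (ne_of_mem_erase hv), map_intCast, sq],
      sum_const, card_erase_of_mem (mem_univ _), card_univ, nsmul_eq_mul,
      Nat.cast_pred Fintype.card_pos, Nat.card_eq_fintype_card]
  have e6 := congrArg (classInner γ) e3
  simp only [classInner_add_right, classInner_smul_right, classInner_sum_right, map_natCast,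
    e4] at e6
  rw [ctr_one_eq hB, e1, classInner_reg, reg_reg, ← Nat.cast_pow, ← hD] at hQ
  have e7 := x.card F
  have hE : (Nat.card E : ℂ) ≠ 0 := Nat.cast_ne_zero.2 Nat.card_pos.ne'
  have hcN : Fintype.card N = Nat.card E := by rw [Fintype.card_coe, card_fs, hc]
  rw [← x.card_rank F hB, hc, ← hcN]
  refine sq_form_ge (fun χ : N => c χ * α χ) (t := Nat.card (ζ '' {1}ᶜ)) ?_ ?_
  · have := Finite.one_lt_card (α := D)
    have h1 : Nat.card (ζ '' {1}ᶜ) ≠ 0 := fun e => by rw [e] at e7; omega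
    omega
  · rw [sum_coe_sort N fun χ => (c χ * α χ) ^ 2, sum_coe_sort N fun χ => c χ * α χ, hcN, ← hA,
      sum_congr rfl (g := fun χ => c χ ^ 2) fun χ h => by linear_combination c χ ^ 2 * a2 χ h]
    have e8 : (Nat.card D : ℂ) = Nat.card (ζ '' {1}ᶜ) * Nat.card E + 1 := by exact_mod_cast e7.symm
    refine Int.cast_injective (α := ℂ) (mul_left_cancel₀ hE ?_)
    push_cast at e6 ⊢
    rw [e8] at hQ e5
    linear_combination -Nat.card E * hQ - (Nat.card (ζ '' {1}ᶜ) * Nat.card E + 1) * e6 - e5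

theorem FB.of_cs [Fintype G] {B : Set (IrrCharacter G)} {D Q T₀ : Subgroup G} {hD : D ≤ cC Q}
    {f : Set (IrrCharacter (cC Q))} {ψ : (D →* ℂˣ) → IrrCharacter (cC Q)}
    (h : CS p M B D Q T₀ hD f ψ) : FB p B := by
  letI := Fintype.ofFinite D
  haveI := h.nontrivial
  obtain ⟨ζ, δ, α, x, h1, h2⟩ := h.exists_exc
  exact FB.of_exc (isSat_of_isPBlock h.blk) (IsDefectGroup.card h.blk h.dfc) h.fam x h1 h2

theorem FB.of_defect_le_one [Fintype G] {B : Set (IrrCharacter G)} (hB : IsPBlock M B)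
    (h : blockDefect p B ≤ 1) : FB p B := by
  by_cases h0 : blockDefect p B = 0
  · exact FB.of_rank ((blockRank_le_card (isSat_of_isPBlock hB)).trans
      (card_eq_one_of_defect_zero hB h0).le)
  obtain ⟨D, hD⟩ := exists_isDefectGroup p hB
  have hc : Nat.card D = p := by
    rw [IsDefectGroup.card hB hD, show blockDefect p B = 1 by omega, pow_one]
  haveI := isCyclic_of_prime_card hc
  have hle : D ≤ cC D := fun x hx y hy => congrArg Subtype.val
    (IsCyclic.isMulCommutative.is_comm.comm (⟨y, hy⟩ : D) ⟨x, hx⟩)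
  obtain ⟨f, hf, -⟩ := first_main_exists (locSet_subtype (IsDefectGroup.isPGroup hD) hle le_rfl
    (cC_le_nN D)) hB hD
  obtain ⟨_, ψ, h, -⟩ := exists_cs_prime hD hc hf
  exact FB.of_cs h

section quot
variable [Finite G] [Finite H] {π : G →* H}

omit [PM p M] in
theorem exists_gen_quot (hπ : Function.Surjective π) (hN : IsPGroup p π.ker)
    (hc : ∀ y, ¬ p ∣ orderOf y → y ∈ cC π.ker) {β : G → ℂ} (hβ : IsGeneralizedCharacter G β) :
    ∃ γ, IsGeneralizedCharacter H γ ∧ ∀ y, ¬ p ∣ orderOf y → γ (π y) = β y := by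
  choose s h1 h2 using fun h : H => exists_pRegular_lift (p := p) hπ (not_dvd_orderOf_pr h)
  have hs : ∀ h y, ¬ p ∣ orderOf y → π y = pr p h → s h = y := fun h y hy e =>
    eq_of_map_eq hN (h1 h) hy (hc y hy) (by rw [h2, e])
  refine ⟨fun h => β (s h), H6.brauer_characterization (fun g h => ?_) fun E q hq hE => ?_,
    fun y hy => congrArg β (hs _ y hy (pr_of_not_dvd (not_dvd_orderOf_map π hy)).symm)⟩
  · obtain ⟨k, rfl⟩ := hπ h
    rw [hs _ (k * s g * k⁻¹) (by rw [orderOf_conj']; exact h1 g) (by simp [pr_conj, h2])]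
    exact hβ.isClassFunction _ _
  · have := isNilpotent_of_isElementary hq hE
    obtain ⟨N, ρ, g1, g2⟩ := exists_pr_hom (G := E) (p := p)
    let T := (N.map E.subtype).comap π
    have hk : π.ker ≤ T := fun x hx => by
      rw [Subgroup.mem_comap, MonoidHom.mem_ker.1 hx]; exact one_mem _
    have hi : (π.ker.subgroupOf T).index = Nat.card N := by
      rw [← Subgroup.relIndex, Subgroup.relIndex_ker, Subgroup.map_comap_eq_self_of_surjective hπ,
        Subgroup.card_map_of_injective Subtype.val_injective]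
    obtain ⟨k, hk'⟩ := IsPGroup.iff_card.1 (hN.comap_subtype (K := T))
    obtain ⟨L, hL⟩ := Subgroup.exists_right_complement'_of_coprime (N := π.ker.subgroupOf T) (by
      rw [hi, Subgroup.subgroupOf, hk']
      exact ((Nat.Prime.coprime_iff_not_dvd hp.out).2 g1).pow_left _)
    have hL' : ¬ p ∣ Nat.card L := by rwa [hL.symm.index_eq_card.symm, hi]
    have hreg : ∀ l : L, ¬ p ∣ orderOf ((l : T) : G) := fun l h => hL' (h.trans (by
      rw [Subgroup.orderOf_coe, Subgroup.orderOf_coe]; exact orderOf_dvd_natCard l))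
    have hex : ∀ e : E, ∃ l : L, π (l : T) = pr p (e : H) := fun e => by
      obtain ⟨x, hx⟩ := hπ (pr p (e : H))
      have hxT : x ∈ T := ⟨ρ e, (ρ e).2, by rw [hx, pr_coe, ← g2]; rfl⟩
      obtain ⟨⟨a, l⟩, hal⟩ := hL.2 ⟨x, hxT⟩
      refine ⟨l, ?_⟩
      have := congrArg (fun t : T => π t) hal
      simpa [hx, MonoidHom.mem_ker.1 (Subgroup.mem_subgroupOf.1 a.2)] using this
    let τ : E →* G := MonoidHom.mk' (fun e => s e) fun e e' => by
      obtain ⟨l, hl⟩ := hex e
      obtain ⟨l', hl'⟩ := hex e'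
      rw [hs _ _ (hreg l) hl, hs _ _ (hreg l') hl']
      refine hs _ _ (hreg (l * l')) ?_
      rw [map_mul, hl, hl', pr_coe, pr_coe, pr_coe, ← g2, ← g2, ← g2, map_mul]
      rfl
    exact hβ.comp τ

omit hp [PM p M] in
theorem blockPart_comp (hπ : Function.Surjective π) (b : Set (IrrCharacter G)) {γ : H → ℂ}
    (hγ : IsClassFunction H γ) (g : G) :
    blockPart b (fun x => γ (π x)) g = blockPart (icomp π hπ ⁻¹' b) γ (π g) := by
  classical
  letI := Fintype.ofFinite H
  have e : (fun x => γ (π x)) =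
      fun x => ∑ χ : IrrCharacter H, classInner γ χ * (icomp π hπ χ : G → ℂ) x := by
    funext x
    conv_lhs => rw [hγ.eq_sum_irr]
    simp
  rw [e, blockPart_sum_mul, blockPart_eq_sum]
  refine sum_congr rfl fun χ _ => ?_
  split_ifs with h
  · rw [blockPart_irr_of_mem (A := b) h, icomp_apply]
  · rw [blockPart_irr_of_notMem (A := b) h, mul_zero]

theorem dominated (hπ : Function.Surjective π) (hN : IsPGroup p π.ker)
    (hc : ∀ y, ¬ p ∣ orderOf y → y ∈ cC π.ker) {b : Set (IrrCharacter G)} (hb : IsPBlock M b) :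
    IsPBlock M (icomp π hπ ⁻¹' b) ∧ (∀ P, IsDefectGroup p M b P →
      IsDefectGroup p M (icomp π hπ ⁻¹' b) (P.map π)) ∧
      p ^ blockDefect p b = Nat.card π.ker * p ^ blockDefect p (icomp π hπ ⁻¹' b) := by
  obtain ⟨c, h1, h2, h3⟩ := exists_dominated hπ hN hb
  obtain ⟨χ, hχ⟩ := block_nonempty h1
  obtain rfl : c = icomp π hπ ⁻¹' b := h2.antisymm fun ψ hψ => mem_of_sameBlock h1 hχ
    (sameBlock_of_comp hπ hN hc χ.2 ψ.2 (sameBlock_of_mem hb (h2 hχ) hψ))
  refine ⟨h1, fun P hP => (h3 _).2 ⟨P, hP, rfl⟩, ?_⟩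
  obtain ⟨P, hP⟩ := exists_isDefectGroup p hb
  rw [← IsDefectGroup.card hb hP, ← IsDefectGroup.card h1 ((h3 _).2 ⟨P, hP, rfl⟩),
    ← Subgroup.relIndex_ker, ← (π.ker.subgroupOf P).card_mul_index, Nat.card_congr
      (Subgroup.subgroupOfEquivOfLe (IsDefectGroup.le_of_normal hb hP hN)).toEquiv]
  rfl

omit [Finite G] [Finite H] in
theorem FB.of_quot [Fintype G] [Fintype H] (hπ : Function.Surjective π) (hN : IsPGroup p π.ker)
    (hc : ∀ y, ¬ p ∣ orderOf y → y ∈ cC π.ker) {b : Set (IrrCharacter G)} (hb : IsPBlock M b)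
    (h : FB p (icomp π hπ ⁻¹' b)) : FB p b := by
  classical
  intro β hβ Q hQ
  obtain ⟨γ, hγ, e⟩ := exists_gen_quot hπ hN hc hβ
  have hs := isSat_of_isPBlock hb
  rw [blockRank_quot hπ hN hc hs]
  refine h γ hγ Q ?_
  have e1 : reg p β = reg p fun x => γ (π x) := funext fun y => by
    by_cases hy : p ∣ orderOf y
    · rw [reg_of_dvd _ hy, reg_of_dvd _ hy]
    · rw [reg_of_not_dvd _ hy, reg_of_not_dvd _ hy, e y hy]
  rw [← hQ, ctr_one_eq hs, ctr_one_eq (hs.preimage_icomp hπ), ← blockPart_reg hs, e1,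
    blockPart_reg hs, ← Nat.cast_pow, ← Nat.cast_pow, (dominated hπ hN hc hb).2.2, Nat.cast_mul,
    mul_comm (Nat.card π.ker : ℂ), mul_assoc]
  congr 1
  have e2 : (Nat.card G : ℂ) = Nat.card π.ker * Nat.card H := by
    rw [← π.ker.card_mul_index, Subgroup.index_ker, MonoidHom.range_eq_top.2 hπ,
      Subgroup.card_top, Nat.cast_mul]
  have h0 : (Nat.card π.ker : ℂ) ≠ 0 := Nat.cast_ne_zero.2 Nat.card_pos.ne'
  rw [classInner, classInner, e2, mul_inv, ← mul_assoc, mul_inv_cancel_left₀ h0]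
  congr 1
  rw [← sum_filter_add_sum_filter_not univ fun y => p ∣ orderOf y,
    ← sum_filter_add_sum_filter_not univ fun y : G => p ∣ orderOf y,
    sum_eq_zero fun y hy => by rw [reg_of_dvd _ (mem_filter.1 hy).2, zero_mul],
    sum_eq_zero (s := univ.filter fun y : G => p ∣ orderOf y) fun y hy => by
      rw [reg_of_dvd _ (mem_filter.1 hy).2, zero_mul]]
  congr 1
  symm
  refine sum_bij (fun y _ => π y) (fun y hy => ?_) (fun y hy y' hy' e => ?_)
    (fun y hy => ?_) fun y hy => ?_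
  · simpa using not_dvd_orderOf_map π (by simpa using hy)
  · exact eq_of_map_eq hN (by simpa using hy) (by simpa using hy') (hc _ (by simpa using hy')) e
  · obtain ⟨g, h1, h2⟩ := exists_pRegular_lift (p := p) hπ (h := y) (by simpa using hy)
    exact ⟨g, by simpa using h1, h2⟩
  · have hy' : ¬ p ∣ orderOf y := by simpa using hy
    rw [reg_of_not_dvd _ hy', reg_of_not_dvd _ (not_dvd_orderOf_map π hy'),
      blockPart_comp hπ b hγ.isClassFunction]

end quot

/-- The quotient by a central `p`-element. -/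
theorem exists_quot_central.{u} {K : Type u} [Group K] [Finite K] {z : K}
    (hz : ∀ c, c * z = z * c) (hpe : IsPE p z) : ∃ (L : Type u) (_ : Group L) (_ : Finite L)
      (π : K →* L), Function.Surjective π ∧ π.ker = Subgroup.zpowers z ∧ IsPGroup p π.ker ∧
        ∀ y, y ∈ cC π.ker := by
  have h1 : Subgroup.zpowers z ≤ Subgroup.center K :=
    Subgroup.zpowers_le.2 (Subgroup.mem_center_iff.2 hz)
  haveI : (Subgroup.zpowers z).Normal := ⟨fun x hx g => by
    rwa [Subgroup.mem_center_iff.1 (h1 hx) g, mul_inv_cancel_right]⟩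
  have h2 := QuotientGroup.ker_mk' (Subgroup.zpowers z)
  exact ⟨_, _, inferInstance, QuotientGroup.mk' _, QuotientGroup.mk'_surjective _, h2,
    h2.symm ▸ hpe.isPGroup_zpowers, fun y x hx =>
      (Subgroup.mem_center_iff.1 (h1 (h2 ▸ hx)) y).symm⟩

theorem FB.of_central [Fintype G] {z : G} (hz : ∀ c, c * z = z * c) (hpe : IsPE p z) (z1 : z ≠ 1)
    {b : Set (IrrCharacter G)} (hb : IsPBlock M b) (hd : blockDefect p b ≤ 2) : FB p b := by
  obtain ⟨L, _, _, π, h1, h2, h3, h4⟩ := exists_quot_central hz hpe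
  letI := Fintype.ofFinite L
  obtain ⟨g1, -, g2⟩ := dominated h1 h3 (fun y _ => h4 y) hb
  refine FB.of_quot h1 h3 (fun y _ => h4 y) hb (FB.of_defect_le_one g1 ?_)
  have : 1 < Nat.card π.ker := by
    rw [h2, Nat.card_zpowers]
    have := orderOf_pos z
    have := mt orderOf_eq_one_iff.1 z1
    omega
  have h5 : p ^ blockDefect p (icomp π h1 ⁻¹' b) < p ^ blockDefect p b := by
    rw [g2]; exact lt_mul_of_one_lt_left (pow_pos hp.out.pos _) this
  have := (Nat.pow_lt_pow_iff_right hp.out.one_lt).1 h5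
  omega

theorem exists_major [Fintype G] {B : Set (IrrCharacter G)} (hB : IsPBlock M B) {P : Subgroup G}
    (hP : IsDefectGroup p M B P) {v : G} (hv : v ∈ P) (hc : v ∈ cC P) :
    ∃ b, Sub M p (c1 v) (selfC v) b B ∧ blockDefect p b = blockDefect p B ∧
      IsDefectGroup p M b (P.subgroupOf (c1 v)) := by
  obtain ⟨m⟩ := nonempty_mp hB hP
  exact ⟨m.bu ⟨v, hv⟩, ⟨m.indB_bu _, isPE_coe.1 (m.isPE ⟨v, hv⟩), rfl⟩, m.defect_bu hc,
    m.dfc_bu hc⟩

theorem exists_central_ne_one [Finite G] {P : Subgroup G} (hP : IsPGroup p P) (h : P ≠ ⊥) :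
    ∃ v ∈ P, v ∈ cC P ∧ v ≠ 1 := by
  haveI := (Subgroup.nontrivial_iff_ne_bot P).2 h
  haveI := hP.center_nontrivial
  obtain ⟨⟨v, hv⟩, h1⟩ := exists_ne (1 : Subgroup.center P)
  exact ⟨v, v.2, fun y hy => congrArg Subtype.val (Subgroup.mem_center_iff.1 hv ⟨y, hy⟩),
    fun e => h1 (Subtype.ext (Subtype.ext e))⟩

theorem card_le_of_defect_le_two [Finite G] {B : Set (IrrCharacter G)} (hB : IsPBlock M B)
    (h : blockDefect p B ≤ 2) : Nat.card B ≤ p ^ blockDefect p B := by
  classical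
  letI := Fintype.ofFinite G
  by_cases h0 : blockDefect p B = 0
  · rw [card_eq_one_of_defect_zero hB h0, h0, pow_zero]
  obtain ⟨P, hP⟩ := exists_isDefectGroup p hB
  obtain ⟨v, h1, h2, h3⟩ := exists_central_ne_one (IsDefectGroup.isPGroup hP)
    (mt (IsDefectGroup.eq_bot_iff hB hP).1 h0)
  obtain ⟨b, hs, hd, -⟩ := exists_major hB hP h1 h2
  rw [← card_fs, ← hd]
  exact hs.card_le_of_FB (FB.of_central hs.central hs.pe (fun e => h3 (congrArg Subtype.val e))
    hs.ind.1 (hd ▸ h)) (Subset.refl _) fun χ hχ => hs.major_self_ne_zero hd (mem_fs.1 hχ)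

end H8
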