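import Cfsg.Agent.H8.Ito
import Cfsg.Agent.H8.Cod
import Cfsg.Agent.H1.SylowIn
import Cfsg.Agent.H1.Fitting

/-! The Broline--Garrison theorem (`H8.broline`) and the set of character degrees `H8.cd`. -/

open H5 H6 Cfsg
open scoped ComplexConjugate Pointwise

namespace H8

variable {G : Type*} [Group G] [Finite G] {χ : G → ℂ}

theorem irr_res_of_ker_sup (hχ : IsIrrCharacter G χ) {M : Subgroup G} (h : charKer χ ⊔ M = ⊤) :
    IsIrrCharacter M (fun m : M => χ m) := by
  haveI := hχ.isCharacter.normal_charKer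
  obtain ⟨χ', h1, h2⟩ := hχ.exists_deflate (charKer χ) le_rfl
  have := h1.comp_surjective ((QuotientGroup.mk' (charKer χ)).comp M.subtype) (fun q => by
    obtain ⟨g, rfl⟩ := QuotientGroup.mk_surjective q
    obtain ⟨k, hk, m, hm, rfl⟩ := Subgroup.mem_sup_of_normal_left.1 (h ▸ Subgroup.mem_top g :
      g ∈ charKer χ ⊔ M)
    exact ⟨⟨m, hm⟩, by simp [(QuotientGroup.eq_one_iff k).2 hk]⟩)
  simpa [h2] using this

theorem broline_key (hχ : IsIrrCharacter G χ) {M : Subgroup G} (hM : IsCoatom M)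
    (h : ¬ charKer χ ≤ M) :
    (∃ ψ, IsIrrCharacter G ψ ∧ charDegree χ < charDegree ψ ∧ charKer ψ < charKer χ) ∨
      ∃ C : Subgroup G, C.Normal ∧ C ≤ M ∧ ∀ m ∈ M, χ m ≠ 0 → m ∈ C := by
  classical
  letI := Fintype.ofFinite G
  have hsup : ∀ K : Subgroup G, ¬ K ≤ M → K ⊔ M = ⊤ := fun K hK =>
    hM.2 _ (lt_of_le_of_ne le_sup_right fun e => hK (e ▸ le_sup_left))
  have hθ := irr_res_of_ker_sup hχ (hsup _ h)
  by_cases hc : ∃ ψ, IsIrrCharacter G ψ ∧
      classInner (fun m : M => ψ m) (fun m : M => χ m) ≠ 0 ∧ (fun m : M => ψ m) ≠ fun m : M => χ m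
  · obtain ⟨ψ, hψ, h1, h2⟩ := hc
    have hk : charKer ψ ≤ M := by
      by_contra hk
      exact h2 ((irr_res_of_ker_sup hψ (hsup _ hk)).eq_of_classInner_ne_zero hθ h1)
    refine Or.inl ⟨ψ, hψ, lt_of_le_of_ne
      ((hψ.isCharacter.restrict M).charDegree_le_of_constituent hθ h1) fun e => h2 ?_,
      lt_of_le_of_ne (fun g hg => ?_) fun e => h (e ▸ hk)⟩
    · refine eq_of_constituent_of_apply_one (hψ.isCharacter.restrict M) hθ h1 ?_
      change ψ 1 = χ 1
      rw [← hψ.coe_charDegree, ← hχ.coe_charDegree, e]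
    · have := (hψ.isCharacter.restrict M).charKer_le_of_constituent hθ h1
        (((hψ.isCharacter.restrict M).mem_charKer (g := ⟨g, hk hg⟩)).2 (hψ.mem_charKer.1 hg))
      exact hχ.mem_charKer.2 (hθ.mem_charKer.1 this)
  · push Not at hc
    have h1 := (isCharacter_one (G := M)).indFun
    refine Or.inr ⟨charKer (indFun M fun _ => 1), h1.normal_charKer, charKer_ind_one_le M,
      fun m hm h0 => h1.mem_charKer.2 ?_⟩
    obtain ⟨a, ha, hs⟩ := hθ.isCharacter.indFun.exists_nat
    have h2 : ∀ x : M, indFun M (fun m : M => χ m) x = (∑ ψ, (a ψ : ℂ)) * χ x := by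
      intro x
      rw [hs, Finset.sum_apply, Finset.sum_mul]
      refine Finset.sum_congr rfl fun ψ _ => ?_
      by_cases h0 : a ψ = 0
      · simp [h0]
      · have := hc ψ ψ.2 (by
          rw [Ne, classInner_eq_zero_comm, ← frobenius_reciprocity _ _ ψ.2.isClassFunction, ha]
          exact_mod_cast h0)
        rw [Pi.smul_apply, smul_eq_mul, congrFun this x]
    rw [indFun_restrict _ hχ.isClassFunction] at h2
    have e1 := mul_right_cancel₀ h0 (h2 ⟨m, hm⟩)
    have e2 := mul_right_cancel₀ hχ.apply_one_ne_zero (h2 1)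
    exact e1.trans e2.symm

theorem broline (hχ : IsIrrCharacter G χ) (h : ¬ charKer χ ≤ fittingSubgroup G ∨
    (charKer χ = fittingSubgroup G ∧ Group.IsSolvable G ∧ charKer χ ≠ ⊤)) :
    ∃ ψ, IsIrrCharacter G ψ ∧ charDegree χ < charDegree ψ ∧ charKer ψ < charKer χ := by
  classical
  letI := Fintype.ofFinite G
  haveI hKn := hχ.isCharacter.normal_charKer
  -- Frattini step
  have fr : ∀ (p : ℕ) [Fact p.Prime] (P D : Subgroup G) [D.Normal], H1.IsSylowIn p P D →
      ∀ M : Subgroup G, Subgroup.normalizer (P : Set G) ≤ M → D ≤ M → M = ⊤ := by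
    intro p _ P D _ hP M h1 h2
    rw [eq_top_iff]
    intro g _
    obtain ⟨k, hk, n, hn, rfl⟩ := hP.frattini (g := g) (by simp [Subgroup.normalizer_eq_top])
    exact M.mul_mem (h2 hk) (h1 hn)
  rcases h with h | ⟨h1, h2, h3⟩
  · obtain ⟨p, _, P, hP, hn⟩ : ∃ (p : ℕ) (_ : Fact p.Prime) (P : Subgroup G),
        H1.IsSylowIn p P (charKer χ) ∧ Subgroup.normalizer (P : Set G) ≠ ⊤ := by
      by_contra hc
      push Not at hc
      haveI : Group.IsNilpotent (charKer χ) := H1.isNilpotent_of_isSylowIn_normal fun p hp _ => by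
        obtain ⟨P, hP⟩ := H1.exists_isSylowIn p (charKer χ)
        exact ⟨P, hP, hc p hp P hP ▸ le_top⟩
      exact h (H1.le_fitting _)
    obtain ⟨M, hM, hle⟩ := (eq_top_or_exists_le_coatom _).resolve_left hn
    rcases broline_key hχ hM (fun e => hM.1 (fr p P _ hP M hle e)) with h | ⟨C, hC, hCM, hC'⟩
    · exact h
    · refine absurd (fr p P (C ⊓ charKer χ) (hP.of_le (le_inf (fun x hx => ?_) hP.le)
        inf_le_right) M hle (inf_le_left.trans hCM)) hM.1
      refine hC' x (hle (Subgroup.le_normalizer hx)) ?_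
      rw [hχ.mem_charKer.1 (hP.le hx)]
      exact hχ.apply_one_ne_zero
  · haveI : Nontrivial (G ⧸ charKer χ) := QuotientGroup.nontrivial_iff.2 h3
    obtain ⟨L0, p, hL0, hL1, hp, -, -, hL2, hL3⟩ := H1.exists_normal_elementary (G ⧸ charKer χ)
    haveI := Fact.mk hp
    obtain ⟨L, hL⟩ : ∃ L, L = L0.comap (QuotientGroup.mk' (charKer χ)) := ⟨_, rfl⟩
    haveI : L.Normal := hL ▸ inferInstance
    have hKL : charKer χ ≤ L := hL ▸ H1.le_comap_mk' _ _
    have hLK : ¬ L ≤ charKer χ := fun e => hL1 (by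
      rw [← Subgroup.map_comap_eq_self_of_surjective (QuotientGroup.mk'_surjective _) L0, ← hL]
      exact (H1.map_mk'_eq_bot_iff _ _).2 e)
    obtain ⟨P, hP⟩ := H1.exists_isSylowIn p L
    have hPL : charKer χ ⊔ P = L := by
      have := hP.map (QuotientGroup.mk' (charKer χ))
      rw [hL, Subgroup.map_comap_eq_self_of_surjective (QuotientGroup.mk'_surjective _)] at this
      have e := this.eq_of_le hL2 this.le le_rfl
      rw [hL, e, H1.comap_map_mk', sup_comm]
    have hn : Subgroup.normalizer (P : Set G) ≠ ⊤ := by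
      intro e
      haveI : P.Normal := Subgroup.normalizer_eq_top_iff.1 e
      haveI := hP.isPGroup.isNilpotent
      exact hLK (hPL ▸ sup_le le_rfl (h1 ▸ H1.le_fitting P))
    obtain ⟨M, hM, hle⟩ := (eq_top_or_exists_le_coatom _).resolve_left hn
    have hPM : P ≤ M := Subgroup.le_normalizer.trans hle
    rcases broline_key hχ hM (fun e => hM.1 (fr p P L hP M hle (hPL ▸ sup_le e hPM))) with
      h | ⟨C, hC, hCM, hC'⟩
    · exact h
    exfalso
    have hpc : pCore p G ≤ P := hP.le_of_normal (H1.pCore_isPGroup p G)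
      ((H1.pCore_le_fitting p).trans (h1 ▸ hKL)) (by simp [Subgroup.normalizer_eq_top])
    rcases hL3 ((L ⊓ C).map (QuotientGroup.mk' _)) inferInstance
      (Subgroup.map_le_iff_le_comap.2 (hL ▸ inf_le_left)) with e | e
    · rw [H1.map_mk'_eq_bot_iff] at e
      apply hLK
      have h0 : ∀ x ∈ L, x ∉ charKer χ → χ x = 0 := by
        intro x hx hx'
        obtain ⟨k, hk, y, hy, rfl⟩ := Subgroup.mem_sup_of_normal_left.1 (hPL ▸ hx :
          x ∈ charKer χ ⊔ P)
        rw [mem_charKer_def.1 hk]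
        by_contra h0
        exact hx' (Subgroup.mul_mem _ hk (e ⟨hP.le hy, hC' y (hPM hy) h0⟩))
      have h4 : classInner (fun x : L => χ x) (fun _ => 1) ≠ 0 := by
        rw [classInner_one_right]
        refine mul_ne_zero (inv_ne_zero card_ne_zero_complex) ?_
        rw [← Finset.sum_filter_add_sum_filter_not Finset.univ fun x : L => (x : G) ∈ charKer χ,
          Finset.sum_eq_zero (s := Finset.univ.filter fun x : L => ¬ (x : G) ∈ charKer χ)
            fun x hx => h0 x x.2 (Finset.mem_filter.1 hx).2, add_zero,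
          Finset.sum_congr rfl (g := fun _ => χ 1)
            fun x hx => hχ.mem_charKer.1 (Finset.mem_filter.1 hx).2, Finset.sum_const,
          nsmul_eq_mul]
        refine mul_ne_zero ?_ hχ.apply_one_ne_zero
        exact_mod_cast (Finset.card_pos.2 ⟨1, by simp⟩).ne'
      intro x hx
      exact hχ.mem_charKer.2 ((inner_res_one_ne_zero_iff hχ).1 h4 ⟨x, hx⟩)
    · have e2 : L = L ⊓ C ⊔ charKer χ := by rw [← H1.comap_map_mk', e, hL]
      refine hM.1 (fr p P (pCore p G ⊔ L ⊓ C) (hP.of_le (fun x hx => ?_)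
        (sup_le (hpc.trans hP.le) inf_le_left)) M hle
        (sup_le (hpc.trans hPM) (inf_le_right.trans hCM)))
      obtain ⟨c, hc, k, hk, rfl⟩ := Subgroup.mem_sup_of_normal_right.1 (e2 ▸ hP.le hx :
        x ∈ L ⊓ C ⊔ charKer χ)
      obtain ⟨u, hu, v, hv, rfl⟩ := Subgroup.mem_sup_of_normal_left.1
        (H1.fitting_le_pCore_sup_pPrimeCore p (h1 ▸ hk))
      have hcu : c * u ∈ pCore p G ⊔ L ⊓ C :=
        Subgroup.mul_mem _ (Subgroup.mem_sup_right hc) (Subgroup.mem_sup_left hu)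
      rw [← QuotientGroup.eq_one_iff] at hcu ⊢
      have e3 : ((c * (u * v) : G) : G ⧸ (pCore p G ⊔ L ⊓ C)) = v := by
        rw [← mul_assoc, QuotientGroup.mk_mul, hcu, one_mul]
      obtain ⟨j, hj⟩ := hP.isPGroup ⟨_, hx⟩
      have h5 : ((c * (u * v) : G) : G ⧸ (pCore p G ⊔ L ⊓ C)) ^ p ^ j = 1 := by
        rw [← QuotientGroup.mk_pow, show (c * (u * v)) ^ p ^ j = 1 from congrArg Subtype.val hj]
        rfl
      have h6 : ((c * (u * v) : G) : G ⧸ (pCore p G ⊔ L ⊓ C)) ^ Nat.card (pPrimeCore p G) = 1 := by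
        rw [e3, ← QuotientGroup.mk_pow, show v ^ Nat.card (pPrimeCore p G) = 1 from
          congrArg Subtype.val (pow_card_eq_one' (x := (⟨v, hv⟩ : pPrimeCore p G)))]
        rfl
      rw [← orderOf_eq_one_iff]
      exact Nat.eq_one_of_dvd_coprimes ((H1.coprime_card_pPrimeCore p G).pow_right j)
        (orderOf_dvd_of_pow_eq_one h6) (orderOf_dvd_of_pow_eq_one h5)

/-- the set of character degrees -/
def cd (G : Type*) [Group G] : Set ℕ := {d | ∃ χ : IrrCharacter G, charDegree (χ : G → ℂ) = d}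

theorem cd_finite : (cd G).Finite := Set.finite_range fun χ : IrrCharacter G => charDegree χ.1

omit [Finite G] in
theorem mem_cd (hχ : IsIrrCharacter G χ) : charDegree χ ∈ cd G := ⟨⟨χ, hχ⟩, rfl⟩

omit [Finite G] in
theorem one_mem_cd : 1 ∈ cd G := ⟨irrOne G, charDegree_eq_of_apply_one (by simp)⟩

omit [Finite G] in
theorem cd_subset_of_surjective {H : Type*} [Group H] (f : G →* H) (hf : Function.Surjective f) :
    cd H ⊆ cd G := by
  rintro _ ⟨χ, rfl⟩
  exact ⟨⟨_, χ.2.comp_surjective f hf⟩, charDegree_congr (by simp)⟩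

omit [Finite G] in
theorem cd_quot_subset (N : Subgroup G) [N.Normal] : cd (G ⧸ N) ⊆ cd G :=
  cd_subset_of_surjective (QuotientGroup.mk' N) (QuotientGroup.mk'_surjective N)

theorem cd_quot_fitting_ssubset (hs : Group.IsSolvable G) (h : fittingSubgroup G ≠ ⊤) :
    cd (G ⧸ fittingSubgroup G) ⊂ cd G := by
  refine (Set.ssubset_iff_of_subset (cd_quot_subset _)).2 ?_
  obtain ⟨b, hb, hmax⟩ := Set.exists_max_image (cd G) id cd_finite ⟨1, one_mem_cd⟩
  refine ⟨b, hb, ?_⟩
  have key : ∀ ψ, IsIrrCharacter G ψ → fittingSubgroup G ≤ charKer ψ → charDegree ψ < b := by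
    intro ψ hψ hle
    obtain ⟨η, h1, h2, -⟩ := broline hψ (by
      by_cases e : charKer ψ ≤ fittingSubgroup G
      · exact Or.inr ⟨le_antisymm e hle, hs, fun e' => h (top_le_iff.1 (e' ▸ e))⟩
      · exact Or.inl e)
    exact h2.trans_le (hmax _ (mem_cd h1))
  rintro ⟨ψ, hψ⟩
  exact (key _ ψ.2.inflate (le_charKer_inflate _)).ne hψ

end H8
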