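import Cfsg.Agent.H21.Rb7
import Cfsg.Agent.H21.Rb5

/-! Bases of size two for coprime solvable groups: the interface (`T2`, `Main`, `Prim`, `Gluck3`, the hard
configurations `HD`, `Out`, `Hard12`, `Hard3`). -/

set_option autoImplicit false

namespace H8.Bs
open Subgroup Cfsg H18 H21.Rb
open scoped commutatorElement
universe u

section
variable {G : Type*} [Group G]

/-- a regular pair exists for a coprime solvable group -/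
def T2 (V A : Subgroup G) : Prop :=
  Abel V → A ≤ N(V) → Solv A → (Nat.card A).Coprime (Nat.card V) → CR V A → ∃ v w, Reg V A v w

/-- the stabilizer of `v` in `N` lies in `B` -/
def Rg (N B : Subgroup G) (v : G) : Prop := ∀ n ∈ N, n * v * n⁻¹ = v → n ∈ B

/-- the inductive statement of the primitive case -/
def Out (V N B T : Subgroup G) : Prop :=
  ∃ v ∈ V ⊓ C(B), ∃ u ∈ V ⊓ C(B), ∃ w ∈ V ⊓ C(B), Rg N B v ∧ Rg N B w ∧ u ≠ 1 ∧ (∀ n ∈ N, n * u * n⁻¹ ≠ w) ∧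
    ∀ t ∈ T, t * v * t⁻¹ = v → t * u * t⁻¹ = u →
      t * w * t⁻¹ = w ∧ ∀ n ∈ N, t * (n * v * n⁻¹) * t⁻¹ = n * v * n⁻¹

/-- two hyperbolic pairs `x₁, b₁` and `x₂, b₂`; `N` is generated by them and `M` -/
structure HD (p : ℕ) (V N M B T : Subgroup G) (e x₁ x₂ b₁ b₂ : G) : Prop where
  el : Elem p V
  NV : N ≤ N(V)
  TV : T ≤ N(V)
  TN : T ≤ N(N)
  cop : ¬ p ∣ Nat.card T
  NB : N ≤ C(B)
  MN : M ≤ N
  m1 : x₁ ∈ N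
  m2 : x₂ ∈ N
  m3 : b₁ ∈ N
  m4 : b₂ ∈ N
  eV : e ∈ V
  eB : e ∈ C(B)
  e1 : e ≠ 1
  f1 : Commute b₁ e
  f2 : Commute b₂ e
  s1 : x₁ * x₁ = 1
  s2 : x₂ * x₂ = 1
  s3 : b₁ * b₁ = 1
  s4 : b₂ * b₂ = 1
  c12 : Commute x₁ x₂
  c14 : Commute x₁ b₂
  c23 : Commute x₂ b₁
  c34 : Commute b₁ b₂
  a1 : ∀ v ∈ V, ⁅x₁, b₁⁆ * v * ⁅x₁, b₁⁆⁻¹ = v⁻¹
  a2 : ∀ v ∈ V, ⁅x₂, b₂⁆ * v * ⁅x₂, b₂⁆⁻¹ = v⁻¹
  cM : ∀ m ∈ M, Commute m x₁ ∧ Commute m x₂ ∧ Commute m b₁ ∧ Commute m b₂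
  gen : ∀ n ∈ N, ∃ a b c d : Fin 2, ∃ m ∈ M, n = x₁ ^ a.1 * x₂ ^ b.1 * b₁ ^ c.1 * b₂ ^ d.1 * m
  reg : Rg M B e

end

/-- the theorem, ambient form -/
def Main : Prop := ∀ (G : Type u) [Group G] [Finite G] (V A : Subgroup G), T2 V A

/-- the primitive case -/
def Prim : Prop := ∀ (G : Type u) [Group G] [Finite G] (V A : Subgroup G), Abel V → MinNorm V A → Solv A →
  A ⊓ C(V) = ⊥ → (Nat.card A).Coprime (Nat.card V) → Odd (Nat.card V) → (∀ M, M ⊴ A → Abel M → Cyc M) →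
  ∃ v w, Reg V A v w

/-- three colours for a primitive solvable `3'`-group -/
def Gluck3 : Prop := ∀ (L : Type u) [Group L] [Finite L] (H : Subgroup L), Group.IsSolvable L → IsCoatom H →
  ¬ 3 ∣ Nat.card L → ∃ c : L ⧸ H → Fin 3, ∀ t : L, (∀ ω, c (t • ω) = c ω) → ∀ ω : L ⧸ H, t • ω = ω

/-- dimension four over `F₃` or `F₅` -/
def Hard12 (p : ℕ) : Prop := ∀ (G : Type u) [Group G] [Finite G] (V N M B T : Subgroup G) (e x₁ x₂ b₁ b₂ : G),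
  HD p V N M B T e x₁ x₂ b₁ b₂ → (∀ m ∈ M, m * e * m⁻¹ ∈ zpowers e) → Out V N B T

/-- dimension eight over `F₃` -/
def Hard3 : Prop := ∀ (G : Type u) [Group G] [Finite G] (V N M B T : Subgroup G) (e x₁ x₂ b₁ b₂ i j : G),
  HD 3 V N M B T e x₁ x₂ b₁ b₂ → i ∈ M → j ∈ M → (∀ v ∈ V, i * i * v * (i * i)⁻¹ = v⁻¹) →
  (∀ v ∈ V, j * j * v * (j * j)⁻¹ = v⁻¹) → (∀ v ∈ V, ⁅i, j⁆ * v * ⁅i, j⁆⁻¹ = v⁻¹) →
  j * e * j⁻¹ ∈ zpowers e ⊔ zpowers (i * e * i⁻¹) →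
  (∀ m ∈ M, ∃ a : Fin 4, ∃ b : Fin 2, (i ^ a.1 * j ^ b.1)⁻¹ * m ∈ B) → Out V N B T

end H8.Bs
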