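import Cfsg.Agent.H8.Bs0

/-! Bases of size two: the primitive case with the induction hypothesis (`Prim2`). -/

set_option autoImplicit false

namespace H8.Bs
open Subgroup Cfsg H18 H21.Rb
universe u

/-- the primitive case, given the theorem for smaller modules -/
def Prim2 : Prop := ∀ (G : Type u) [Group G] [Finite G] (V A : Subgroup G),
  (∀ U T : Subgroup G, Nat.card U < Nat.card V → T2 U T) → Abel V → MinNorm V A → Solv A →
  A ⊓ C(V) = ⊥ → (Nat.card A).Coprime (Nat.card V) → Odd (Nat.card V) → (∀ M, M ⊴ A → Abel M → Cyc M) →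
  ∃ v w, Reg V A v w

end H8.Bs
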