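import Cfsg.Agent.H8.Bs0b

/-! Bases of size two, primitive case: the structure `PS`, eigenspace comparison `tri`, and the induction step `PS.step`
(from a regular pair on `C_V(B⟨b⟩)` to a regular pair on `C_V(B)`). -/

set_option autoImplicit false
set_option linter.unusedSectionVars false

namespace H8.Bs
open Subgroup Cfsg H18 H21 H21.Rb
open scoped commutatorElement

variable {G : Type*} [Group G] [Finite G] {V A Z E B W : Subgroup G} {a b e g n t u v w x y : G} {r : ℕ}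

structure PS (V A Z E : Subgroup G) : Prop where
  abV : Abel V
  AV : A ≤ N(V)
  odd : Odd (Nat.card V)
  nE : E ⊴ A
  nZ : Z ⊴ A
  cyc : Cyc Z
  ZE : Z ≤ E
  EC : E ≤ C(Z)
  der : ⁅E, E⁆ ≤ Z
  CE : A ⊓ C(E) ≤ Z
  sr : Semireg V Z
  sq : (∀ z ∈ Z, z ^ 4 = 1) → ∀ e ∈ E, e ^ 2 ∈ Z ∧ e ^ 4 = 1

open Classical in
theorem tri (hW : Abel W) (aZ : Abel Z) (ZW : Z ≤ N(W)) (bW : b ∈ N(W)) (bZ : b ∈ C(Z)) (sr : Semireg W Z)
    (s s' a a' : Fin 3 → G) (hs : ∀ i, s i * b⁻¹ ∈ Z) (hs' : ∀ i, s' i * b⁻¹ ∈ Z) (ha : ∀ i, a i ∈ W ⊓ C1(s i))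
    (ha' : ∀ i, a' i ∈ W ⊓ C1(s' i)) (e : a 0 * a 1 * a 2 = a' 0 * a' 1 * a' 2) (c : G) (hc : c * b⁻¹ ∈ Z) :
    (if c = s 0 then a 0 else 1) * (if c = s 1 then a 1 else 1) * (if c = s 2 then a 2 else 1) =
      (if c = s' 0 then a' 0 else 1) * (if c = s' 1 then a' 1 else 1) * (if c = s' 2 then a' 2 else 1) := by
  letI : CommGroup W := { (inferInstance : Group W) with mul_comm := fun a b => Subtype.ext (comm_of_cent hW a.2 b.2) }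
  let ι := {c : G // c * b⁻¹ ∈ Z}
  haveI : Fintype ι := Fintype.ofFinite _
  have ab : Abel (Z ⊔ zpowers b) := aZ.sup abel_zpowers (cent_symm (zpowers_le.2 bZ))
  have mem : ∀ c : ι, c.1 ∈ Z ⊔ zpowers b := fun c => by
    simpa using mul_mem (mem_sup_left c.2) (mem_sup_right (mem_zpowers b) : b ∈ Z ⊔ zpowers b)
  have ind := indep (f := fun c : ι => W ⊓ C1(c.1)) (M := Z ⊔ zpowers b) hW (fun _ => inf_le_left)
    (fun c => norm_inf (sup_le ZW (zpowers_le.2 bW)) (C_zpowers (x := c.1) ▸ norm_C (ab.norm (zpowers_le.2 (mem c)))))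
    fun i j ne => ⟨j.1, mem j, mem_C.2 fun y hy => (mem_C1.1 hy.2), eq_bot_iff.2 fun y hy =>
      (sr (i.1 * j.1⁻¹) (by simpa using mul_mem i.2 (inv_mem j.2)) fun e => ne (Subtype.ext (mul_inv_eq_one.1 e))) ▸
        mem_inf.2 ⟨hy.1.1, mem_C1_comm.1 (mul_mem (mem_C1_comm.1 hy.1.2) (inv_mem (mem_C1_comm.1 hy.2)))⟩⟩
  let F : (s a : Fin 3 → G) → (∀ i, a i ∈ W ⊓ C1(s i)) → Fin 3 → ι → W := fun s a ha i c =>
    if c.1 = s i then ⟨a i, (ha i).1⟩ else 1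
  have F1 : ∀ s a ha i c, (F s a ha i c : G) ∈ W ⊓ C1(c.1) := fun s a ha i c => by
    simp only [F]; split_ifs with h
    · rw [h]; exact ha i
    · exact one_mem _
  have F2 : ∀ s a ha i, s i * b⁻¹ ∈ Z → ∏ c, F s a ha i c = ⟨a i, (ha i).1⟩ := fun s a ha i h => by
    rw [Finset.prod_eq_single (⟨s i, h⟩ : ι) (fun c _ hc => if_neg fun e => hc (Subtype.ext e)) (by simp)]
    exact if_pos rfl
  have F3 : ∀ s a ha i c, (F s a ha i c : G) = if c.1 = s i then a i else 1 := fun s a ha i c => by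
    simp only [F]; split_ifs <;> rfl
  have := uniq hW ind (fun c => F s a ha 0 c * F s a ha 1 c * F s a ha 2 c *
    (F s' a' ha' 0 c * F s' a' ha' 1 c * F s' a' ha' 2 c)⁻¹)
    (fun c => mul_mem (mul_mem (mul_mem (F1 _ _ ha _ _) (F1 _ _ ha _ _)) (F1 _ _ ha _ _))
      (inv_mem (mul_mem (mul_mem (F1 _ _ ha' _ _) (F1 _ _ ha' _ _)) (F1 _ _ ha' _ _))))
    (by
      simp only [Finset.prod_mul_distrib, Finset.prod_inv_distrib, F2 _ _ _ _ (hs _), F2 _ _ _ _ (hs' _)]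
      exact mul_inv_eq_one.2 (Subtype.ext e)) ⟨c, hc⟩
  simpa only [coe_mul, F3] using congrArg Subtype.val (mul_inv_eq_one.1 this)

/-- the input of the induction step -/
structure In (V A E B : Subgroup G) (v u w : G) : Prop where
  hv : v ∈ V ⊓ C(B)
  hu : u ∈ V ⊓ C(B)
  hw : w ∈ V ⊓ C(B)
  rv : Rg (E ⊓ C(B)) B v
  rw' : Rg (E ⊓ C(B)) B w
  u1 : u ≠ 1
  fx : ∀ t ∈ A ⊓ N(B), t * v * t⁻¹ = v → t * u * t⁻¹ = u →
    t * w * t⁻¹ = w ∧ ∀ n ∈ E ⊓ C(B), n⁻¹ * (t * n * t⁻¹) ∈ B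

/-- `B ⊔ ⟨b⟩` lies one step above `B` -/
structure Up (Z E B : Subgroup G) (b : G) (r : ℕ) : Prop where
  BE : B ≤ E
  bE : b ∈ E
  bC : b ∈ C(B)
  bB : b ∉ B
  pr : r.Prime
  pw : b ^ r ∈ B
  dj : (B ⊔ zpowers b) ⊓ Z = ⊥

theorem noinv (ho : Odd (Nat.card V)) (hw : w ∈ V) (hn : Odd (orderOf n)) (h : n * w * n⁻¹ = w⁻¹) : w = 1 := by
  have k : ∀ j : ℕ, n ^ (2 * j + 1) * w * (n ^ (2 * j + 1))⁻¹ = w⁻¹ := fun j => by
    induction j with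
    | zero => simpa using h
    | succ j ih =>
      calc _ = n * (n * (n ^ (2 * j + 1) * w * (n ^ (2 * j + 1))⁻¹) * n⁻¹) * n⁻¹ := by group
        _ = _ := by rw [ih, ← conj_inv, h, inv_inv, h]
  obtain ⟨j, hj⟩ := hn
  have := k j
  rw [← hj, pow_orderOf_eq_one] at this
  exact eq_one_of_inv ho hw (by simpa using this.symm)

namespace PS
variable (c : PS V A Z E)
include c

theorem cm (hx : x ∈ E) (hy : y ∈ E) : ⁅x, y⁆ ∈ Z := c.der (commutator_mem_commutator hx hy)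
theorem cmm (hx : x ∈ E) (hy : y ∈ E) (hu : u ∈ E) : Commute u ⁅x, y⁆ := (mem_C.1 (c.EC hu) _ (c.cm hx hy)).symm
theorem EV : E ≤ N(V) := c.nE.le.trans c.AV
theorem z1 (hz : y ∈ Z) (hv : v ∈ V) (h1 : v ≠ 1) (h : y * v * y⁻¹ = v) : y = 1 := by
  by_contra k
  exact h1 (eq_one_of_eq_bot (c.sr y hz k) (mem_inf.2 ⟨hv, C1_iff.2 h⟩))
theorem nil : Nil E := nil_of_quo_center (cent_symm c.EC) ((abel_quo_iff (c.nE.le.trans c.nZ.norm)).2 c.der).nil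
theorem pe (hx : x ∈ E) (h : PiElt {r} x) : x ∈ O[{r}](E) := c.nil.le_pcore (zpowers_le.2 hx) h.zpowers (mem_zpowers x)

variable (h : Up Z E B b r)
include h

theorem zr (hn : n ∈ E ⊓ C(B)) : ⁅n, b⁆ ^ r = 1 := by
  rw [← comm_pow_right (c.cmm hn.1 h.bE h.bE)]
  exact commutatorElement_eq_one_iff_mul_comm.2 (mem_C.1 hn.2 _ h.pw).symm

theorem memN : n ∈ E ⊓ C(B ⊔ zpowers b) ↔ n ∈ E ⊓ C(B) ∧ n * b * n⁻¹ = b := by
  rw [C_sup, C_zpowers, ← inf_assoc, mem_inf (p := E ⊓ C(B)), mem_C1_comm, C1_iff]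

theorem BN : B ⊔ zpowers b ≤ E ⊓ C(B ⊔ zpowers b) := by
  have l : B ⊔ zpowers b ≤ E := sup_le h.BE (zpowers_le.2 h.bE)
  exact le_inf l fun x hx => mem_C.2 fun y hy => commutatorElement_eq_one_iff_mul_comm.1 (eq_one_of_eq_bot h.dj
    (mem_inf.2 ⟨der_le (commutator_mem_commutator hy hx), c.cm (l hy) (l hx)⟩))

theorem ord (hx : x ∈ E ⊓ C(B)) (nx : x * b * x⁻¹ ≠ b) : orderOf ⁅x, b⁆ = r :=
  haveI := Fact.mk h.pr
  orderOf_eq_prime (c.zr h hx) fun e => nx (mul_inv_eq_one.1 e)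

theorem down (hx : x ∈ E ⊓ C(B)) (nx : x * b * x⁻¹ ≠ b) (hn : n ∈ B ⊔ zpowers b) (k : x⁻¹ * n * x ∈ B ⊔ zpowers b) :
    n ∈ B := by
  have e : ⁅x⁻¹, n⁆ = 1 := eq_one_of_eq_bot h.dj (mem_inf.2 ⟨by
    rw [commutatorElement_def, inv_inv]; exact mul_mem k (inv_mem hn), c.cm (inv_mem hx.1) (c.BN h hn).1⟩)
  have e' : Commute x n := Commute.inv_left_iff.1 (commutatorElement_eq_one_iff_commute.1 e)
  obtain ⟨β, hβ, _, ⟨i, rfl⟩, rfl⟩ := (mem_sup_of_cent (cent_symm (zpowers_le.2 h.bC))).1 hn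
  have e2 : Commute x (b ^ i) := by
    simpa using (show Commute x β from (mem_C.1 hx.2 β hβ).symm).inv_right.mul_right e'
  have := commutatorElement_eq_one_iff_commute.2 e2
  rw [comm_zpow_right (c.cmm hx.1 h.bE h.bE), ← orderOf_dvd_iff_zpow_eq_one, c.ord h hx nx] at this
  obtain ⟨j, rfl⟩ := this
  exact mul_mem hβ (show b ^ (_ * j) ∈ B by rw [zpow_mul, zpow_natCast]; exact zpow_mem h.pw j)

theorem gen (hx : x ∈ E ⊓ C(B)) (nx : x * b * x⁻¹ ≠ b) (hn : n ∈ E ⊓ C(B)) :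
    ∃ i < r, (x ^ i)⁻¹ * n ∈ E ⊓ C(B ⊔ zpowers b) := by
  classical
  have := c.cyc.mem_of_pow (zpowers_le.2 (c.cm hx.1 h.bE)) (c.cm hn.1 h.bE) (by
    rw [card_zpowers', c.ord h hx nx, c.zr h hn])
  rw [mem_zpowers_iff_mem_range_orderOf, c.ord h hx nx] at this
  obtain ⟨i, hi, e⟩ := Finset.mem_image.1 this
  refine ⟨i, Finset.mem_range.1 hi, (c.memN h).2 ⟨mul_mem (inv_mem (pow_mem hx i)) hn, ?_⟩⟩
  rw [← comm_pow_left (c.cmm hx.1 h.bE hx.1), commutatorElement_def, commutatorElement_def, mul_left_inj] at e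
  calc _ = (x ^ i)⁻¹ * (n * b * n⁻¹) * x ^ i := by group
    _ = _ := by rw [← e]; group

theorem pi' (hn : n ∈ E ⊓ C(B)) (k : n * b * n⁻¹ ≠ b) : piPart {r} n * b * (piPart {r} n)⁻¹ ≠ b := fun e => k (by
  have m : piPart {r}ᶜ n ∈ E ⊓ C(B) := piPart_mem hn
  have : piPart {r}ᶜ n * b * (piPart {r}ᶜ n)⁻¹ = b := by
    by_contra k'
    have d : r ∣ orderOf (piPart {r}ᶜ n) := (c.ord h m k').symm.dvd.trans <| by
      rw [orderOf_dvd_iff_pow_eq_one, ← comm_pow_left (c.cmm m.1 h.bE m.1), pow_orderOf_eq_one,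
        commutatorElement_one_left]
    exact piElt_piPart (π := {r}ᶜ) (x := n) r h.pr d rfl
  conv_lhs => rw [← piPart_mul_compl (π := {r}) (x := n)]
  calc _ = piPart {r} n * (piPart {r}ᶜ n * b * (piPart {r}ᶜ n)⁻¹) * (piPart {r} n)⁻¹ := by group
    _ = _ := by rw [this, e])

theorem stab (hv : v ∈ V ⊓ C(B ⊔ zpowers b)) (v1 : v ≠ 1) (rv : Rg (E ⊓ C(B ⊔ zpowers b)) (B ⊔ zpowers b) v)
    (hn : n ∈ E ⊓ C(B)) (e : n * v * n⁻¹ = v) : n ∈ B ⊔ zpowers b := by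
  have vb : b * v * b⁻¹ = v := conj_of_C (cent_symm inf_le_right (mem_sup_right (mem_zpowers b))) hv
  refine rv n ((c.memN h).2 ⟨hn, mul_inv_eq_one.1 (c.z1 (c.cm hn.1 h.bE) hv.1 v1 ?_)⟩) e
  have e' : n⁻¹ * v * n = v := by
    conv_lhs => rw [← e]
    group
  have vb' : b⁻¹ * v * b = v := by
    conv_lhs => rw [← vb]
    group
  calc _ = n * (b * (n⁻¹ * (b⁻¹ * v * b) * n) * b⁻¹) * n⁻¹ := by group
    _ = _ := by rw [vb', e', vb, e]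

end PS

universe u

/-- existence of the structure -/
def X1 : Prop := ∀ (G : Type u) [Group G] [Finite G] (V A : Subgroup G), Abel V → MinNorm V A → Solv A →
  A ⊓ C(V) = ⊥ → Odd (Nat.card V) → (∀ M, M ⊴ A → Abel M → Cyc M) → ∃ Z E, PS V A Z E

/-- the semiregular case -/
def X2 : Prop := ∀ (G : Type u) [Group G] [Finite G] (V A Z E : Subgroup G), PS V A Z E → V ≠ ⊥ → Semireg V E →
  ∃ v w, Reg V A v w

/-- two steps above a transitive bottom -/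
def X3 : Prop := ∀ (G : Type u) [Group G] [Finite G] (V A Z E B : Subgroup G) (p : ℕ) (x₁ x₂ b₁ b₂ e : G),
  PS V A Z E → p.Prime → Elem p V → ¬ p ∣ Nat.card A → (∀ z ∈ Z, z ^ 4 = 1) → Up Z E B b₂ 2 →
  Up Z E (B ⊔ zpowers b₂) b₁ 2 → x₂ ∈ E ⊓ C(B) → x₂ * b₂ * x₂⁻¹ ≠ b₂ → x₁ ∈ E ⊓ C(B ⊔ zpowers b₂) →
  x₁ * b₁ * x₁⁻¹ ≠ b₁ → e ∈ V ⊓ C(B ⊔ zpowers b₂ ⊔ zpowers b₁) → e ≠ 1 →
  (∀ a ∈ V ⊓ C(B ⊔ zpowers b₂ ⊔ zpowers b₁), a ≠ 1 →
    Rg (E ⊓ C(B ⊔ zpowers b₂ ⊔ zpowers b₁)) (B ⊔ zpowers b₂ ⊔ zpowers b₁) a ∧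
      ∃ n ∈ E ⊓ C(B ⊔ zpowers b₂ ⊔ zpowers b₁), n * e * n⁻¹ = a) →
  Out V (E ⊓ C(B)) B (A ⊓ N(B))

end H8.Bs
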