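import Cfsg.Agent.H8.Bs1

/-! Bases of size two, primitive case: the induction step `PS.step`, `PS.out`. -/

set_option autoImplicit false
set_option linter.unusedSectionVars false

namespace H8.Bs
open Subgroup Cfsg H18 H21 H21.Rb
open scoped commutatorElement

variable {G : Type*} [Group G] [Finite G] {V A Z E B W : Subgroup G} {a b e g n t u v w x y : G} {r : ℕ}

namespace PS
variable (c : PS V A Z E) (h : Up Z E B b r)
include c h

theorem ne1 (hx : x ∈ E ⊓ C(B)) (nx : x * b * x⁻¹ ≠ b) (hv : Rg (E ⊓ C(B ⊔ zpowers b)) (B ⊔ zpowers b) v) : v ≠ 1 := by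
  rintro rfl
  have z := c.cm hx.1 h.bE
  exact nx (mul_inv_eq_one.1 (eq_one_of_eq_bot h.dj (mem_inf.2 ⟨hv _ (mem_inf.2 ⟨c.ZE z,
    cent_symm ((sup_le h.BE (zpowers_le.2 h.bE)).trans c.EC) z⟩) (by simp), z⟩)))

theorem lab (hn : n ∈ E ⊓ C(B)) (hg : g ∈ E ⊓ C(B)) :
    n * b * n⁻¹ = g * b * g⁻¹ ↔ n⁻¹ * g ∈ E ⊓ C(B ⊔ zpowers b) := by
  rw [c.memN h, and_iff_right (mul_mem (inv_mem hn) hg)]
  constructor
  · intro e
    calc _ = n⁻¹ * (g * b * g⁻¹) * n := by group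
      _ = _ := by rw [← e]; group
  · intro e
    conv_lhs => rw [← e]
    group

theorem nN : E ⊓ C(B) ≤ N(E ⊓ C(B ⊔ zpowers b)) := (inf_le_left.trans (norm_of_der_le (c.der.trans (le_inf c.ZE
  (cent_symm ((sup_le h.BE (zpowers_le.2 h.bE)).trans c.EC)))) inf_le_left))

theorem sq2 (hn : n ∈ E ⊓ C(B)) (k : n * b * n⁻¹ ≠ b) : n * n * b * (n * n)⁻¹ = b ↔ r = 2 := by
  rw [← mul_inv_eq_one, ← commutatorElement_def, ← pow_two, comm_pow_left (c.cmm hn.1 h.bE hn.1),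
    ← orderOf_dvd_iff_pow_eq_one, c.ord h hn k]
  exact Nat.prime_dvd_prime_iff_eq h.pr Nat.prime_two

open Classical in
theorem step (I : In V A E (B ⊔ zpowers b) v u w) (hx : x ∈ E ⊓ C(B)) (nx : x * b * x⁻¹ ≠ b)
    (px : r ≠ 2 → PiElt {r} x) : ∃ y ∈ V ⊓ C(B),
    (∀ t ∈ A ⊓ N(B), t * y * t⁻¹ = y → t * v * t⁻¹ = v → ∀ n ∈ E ⊓ C(B), n⁻¹ * (t * n * t⁻¹) ∈ B) ∧
    ((r = 2 → ∀ e ∈ E ⊓ C(B), e * b * e⁻¹ ≠ b → e * u * e⁻¹ = x * w * x⁻¹ → e * x * w * (e * x)⁻¹ = u → False) →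
      Rg (E ⊓ C(B)) B y) := by
  obtain ⟨w', hw', w2, w3⟩ : ∃ w' ∈ V ⊓ C(B ⊔ zpowers b), (r = 2 → w' = 1) ∧ (r ≠ 2 → w' = w⁻¹) :=
    ⟨if r = 2 then 1 else w⁻¹, by split_ifs; exacts [one_mem _, inv_mem I.hw], fun e => if_pos e, fun e => if_neg e⟩
  have v1 := c.ne1 h hx nx I.rv
  have w1 := c.ne1 h hx nx I.rw'
  have UU : V ⊓ C(B ⊔ zpowers b) ≤ V ⊓ C(B) := inf_le_inf_left _ (C_anti le_sup_left)
  have NU : E ⊓ C(B) ≤ N(V ⊓ C(B)) := norm_inf (inf_le_left.trans c.EV) (norm_C (cent_norm inf_le_right))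
  have bN : b ∈ E ⊓ C(B) := mem_inf.2 ⟨h.bE, h.bC⟩
  have xx := mul_mem hx hx
  have odd : r ≠ 2 → ∀ n ∈ O[{r}](E), n * w * n⁻¹ = w⁻¹ → False := fun k n hn e => w1 (noinv c.odd I.hw.1 (by
    obtain ⟨j, hj⟩ := (pcore_pi.elt hn).zpowers.card_eq_pow
    rw [← card_zpowers', hj]; exact (h.pr.odd_of_ne_two k).pow) e)
  have T : ∀ n₀ ∈ E ⊓ C(B), ∀ n₁ ∈ E ⊓ C(B), ∀ n₂ ∈ E ⊓ C(B), ∀ a₀ ∈ V ⊓ C(B ⊔ zpowers b),
      ∀ a₁ ∈ V ⊓ C(B ⊔ zpowers b), ∀ a₂ ∈ V ⊓ C(B ⊔ zpowers b), n₀ * a₀ * n₀⁻¹ * (n₁ * a₁ * n₁⁻¹) * (n₂ * a₂ * n₂⁻¹) =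
      1 * u * 1⁻¹ * (x * w * x⁻¹) * (x * x * w' * (x * x)⁻¹) → ∀ g ∈ E ⊓ C(B),
      (if g * b * g⁻¹ = n₀ * b * n₀⁻¹ then n₀ * a₀ * n₀⁻¹ else 1) *
        (if g * b * g⁻¹ = n₁ * b * n₁⁻¹ then n₁ * a₁ * n₁⁻¹ else 1) *
        (if g * b * g⁻¹ = n₂ * b * n₂⁻¹ then n₂ * a₂ * n₂⁻¹ else 1) =
      (if g * b * g⁻¹ = 1 * b * 1⁻¹ then 1 * u * 1⁻¹ else 1) * (if g * b * g⁻¹ = x * b * x⁻¹ then x * w * x⁻¹ else 1) *
        (if g * b * g⁻¹ = x * x * b * (x * x)⁻¹ then x * x * w' * (x * x)⁻¹ else 1) := by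
    intro n₀ h0 n₁ h1 n₂ h2 a₀ k0 a₁ k1 a₂ k2 e g hg
    have m : ∀ n ∈ E ⊓ C(B), ∀ a ∈ V ⊓ C(B ⊔ zpowers b), n * a * n⁻¹ ∈ V ⊓ C(B) ⊓ C1(n * b * n⁻¹) := fun n hn a ha =>
      mem_inf.2 ⟨conj_mem NU hn (UU ha), cj_C1 (g := n) (x := b) ▸ conj_mem_cj
        (C_zpowers (x := b) ▸ C_anti le_sup_right ha.2)⟩
    have z : ∀ n ∈ E ⊓ C(B), n * b * n⁻¹ * b⁻¹ ∈ Z := fun n hn => c.cm hn.1 h.bE
    exact tri (c.abV.mono inf_le_left) c.cyc.abel ((le_inf c.ZE (cent_symm (h.BE.trans c.EC))).trans NU) (NU bN)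
      (c.EC h.bE) (c.sr.mono inf_le_left le_rfl) ![n₀ * b * n₀⁻¹, n₁ * b * n₁⁻¹, n₂ * b * n₂⁻¹]
      ![1 * b * 1⁻¹, x * b * x⁻¹, x * x * b * (x * x)⁻¹] ![n₀ * a₀ * n₀⁻¹, n₁ * a₁ * n₁⁻¹, n₂ * a₂ * n₂⁻¹]
      ![1 * u * 1⁻¹, x * w * x⁻¹, x * x * w' * (x * x)⁻¹]
      (fun i => by fin_cases i; exacts [z _ h0, z _ h1, z _ h2])
      (fun i => by fin_cases i; exacts [z _ (one_mem _), z _ hx, z _ xx])
      (fun i => by fin_cases i; exacts [m _ h0 _ k0, m _ h1 _ k1, m _ h2 _ k2])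
      (fun i => by fin_cases i; exacts [m _ (one_mem _) _ I.hu, m _ hx _ I.hw, m _ xx _ hw']) e _ (z g hg)
  -- the third component vanishes when its label is that of the first one
  have t3 : ∀ n ∈ E ⊓ C(B), n * b * n⁻¹ ≠ b → ∀ a : G, (w' = 1 → a = 1) → (if b = n * n * b * (n * n)⁻¹ then a else 1) = 1 :=
    fun n hn k a ha => by
      split_ifs with e
      exacts [ha (w2 ((c.sq2 h hn k).1 e.symm)), rfl]
  have t2 : ∀ n : G, n * b * n⁻¹ ≠ b → n * b * n⁻¹ ≠ n * n * b * (n * n)⁻¹ := fun n k e => k (by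
    have : n * b * n⁻¹ = n * (n * b * n⁻¹) * n⁻¹ := e.trans (by simp only [mul_inv_rev, mul_assoc])
    simpa using this.symm)
  refine ⟨1 * u * 1⁻¹ * (x * w * x⁻¹) * (x * x * w' * (x * x)⁻¹), mul_mem (mul_mem (conj_mem NU (one_mem _) (UU I.hu))
    (conj_mem NU hx (UU I.hw))) (conj_mem NU xx (UU hw')), fun t ht ey ev => ?_, fun C e he ey => ?_⟩
  · have tN : t ∈ N(E ⊓ C(B)) := zpowers_le.1 (norm_inf (zpowers_le.2 (c.nE.norm ht.1)) (norm_C (zpowers_le.2 ht.2)))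
    have tB : t ∈ N(B ⊔ zpowers b) := mem_N_of_finite fun β hβ => c.stab h I.hv v1 I.rv
      (conj_mem_N tN (((c.memN h).1 (c.BN h hβ)).1)) (by
        conv_lhs => rw [← ev]
        calc _ = t * (β * v * β⁻¹) * t⁻¹ := by group
          _ = _ := by rw [conj_of_C (cent_symm inf_le_right hβ) I.hv, ev])
    have tU : t ∈ N(V ⊓ C(B ⊔ zpowers b)) :=
      zpowers_le.1 (norm_inf (zpowers_le.2 (c.AV ht.1)) (norm_C (zpowers_le.2 tB)))
    have tN' : t ∈ N(E ⊓ C(B ⊔ zpowers b)) :=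
      zpowers_le.1 (norm_inf (zpowers_le.2 (c.nE.norm ht.1)) (norm_C (zpowers_le.2 tB)))
    have h1 := conj_mem_N tN hx
    have n1 : t * x * t⁻¹ * b * (t * x * t⁻¹)⁻¹ ≠ b := fun e => nx ((c.memN h).1 (by
      simpa [mul_assoc] using conj_mem_N' tN' ((c.memN h).2 ⟨h1, e⟩))).2
    have K := T 1 (one_mem _) _ h1 _ (mul_mem h1 h1) _ (conj_mem_N tU I.hu) _ (conj_mem_N tU I.hw) _
      (conj_mem_N tU hw') (by rw [← ey]; group)
    have k0 := K 1 (one_mem _)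
    simp only [one_mul, inv_one, mul_one, if_true, if_neg n1.symm, if_neg nx.symm] at k0
    rw [t3 _ h1 n1 _ ?_, t3 _ hx nx _ ?_, mul_one, mul_one] at k0
    rotate_left
    · rintro rfl; simp [mul_assoc]
    · rintro rfl; simp [mul_assoc]
    obtain ⟨fw, fn⟩ := I.fx t (mem_inf.2 ⟨ht.1, tB⟩) ev k0
    have fw' : t * w' * t⁻¹ = w' := by
      by_cases k : r = 2
      · rw [w2 k]; group
      · rw [w3 k, ← conj_inv, fw]
    rw [fw, fw'] at K
    have k1 := K x hx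
    simp only [one_mul, inv_one, mul_one, if_true, if_neg nx, if_neg (t2 x nx)] at k1
    have l1 : x * b * x⁻¹ = t * x * t⁻¹ * b * (t * x * t⁻¹)⁻¹ := by
      by_contra k
      rw [if_neg k, one_mul] at k1
      split_ifs at k1 with k'
      · have r2 : r ≠ 2 := fun e => w1 (conj_eq_one_iff'.1 (by rw [← k1, w2 e]; group))
        have ox := c.pe hx.1 (px r2)
        have o1 := conj_mem (norm_pcore c.nE.norm) ht.1 ox
        refine odd r2 (x⁻¹ * (t * x * t⁻¹ * (t * x * t⁻¹))) (mul_mem (inv_mem ox) (mul_mem o1 o1)) (inv_injective ?_)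
        rw [conj_inv, inv_inv, ← w3 r2]
        calc _ = x⁻¹ * (t * x * t⁻¹ * (t * x * t⁻¹) * w' * (t * x * t⁻¹ * (t * x * t⁻¹))⁻¹) * x := by group
          _ = _ := by rw [k1]; group
      · exact w1 (conj_eq_one_iff'.1 k1.symm)
    rw [if_pos l1, if_neg (l1 ▸ t2 _ n1), mul_one] at k1
    have m1 := (c.lab h hx h1).1 l1
    have b1 : x⁻¹ * (t * x * t⁻¹) ∈ B ⊔ zpowers b := I.rw' _ m1 (by
      calc _ = x⁻¹ * (t * x * t⁻¹ * w * (t * x * t⁻¹)⁻¹) * x := by group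
        _ = _ := by rw [k1]; group)
    have f : ∀ n ∈ E ⊓ C(B), n⁻¹ * (t * n * t⁻¹) ∈ B ⊔ zpowers b → ∀ m ∈ E ⊓ C(B ⊔ zpowers b),
        (n * m)⁻¹ * (t * (n * m) * t⁻¹) ∈ B ⊔ zpowers b := fun n hn k m hm => by
      have := mul_mem (conj_mem' (cent_norm inf_le_right) hm k) (fn m hm)
      convert this using 1
      group
    have all : ∀ n ∈ E ⊓ C(B), n⁻¹ * (t * n * t⁻¹) ∈ B ⊔ zpowers b := fun n hn => by
      obtain ⟨i, hi, k⟩ := c.gen h hx nx hn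
      rw [← mul_inv_cancel_left (x ^ i) n]
      refine f _ (pow_mem hx i) ?_ _ k
      by_cases r2 : r = 2
      · subst r2
        interval_cases i
        · simp
        · simpa using b1
      have m2 : (x * x)⁻¹ * (t * x * t⁻¹ * (t * x * t⁻¹)) ∈ E ⊓ C(B ⊔ zpowers b) := by
        have := mul_mem (conj_mem' (c.nN h) hx m1) m1
        convert this using 1
        group
      have l2 := (c.lab h xx (mul_mem h1 h1)).2 m2
      have k2 := K _ xx
      simp only [one_mul, inv_one, mul_one, if_true, if_neg (((c.sq2 h hx nx).not).2 r2), if_neg (t2 x nx).symm, ← l1,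
        if_pos l2] at k2
      have b2 := I.rw' _ m2 (inv_injective (by
        rw [conj_inv, ← w3 r2]
        calc _ = (x * x)⁻¹ * (t * x * t⁻¹ * (t * x * t⁻¹) * w' * (t * x * t⁻¹ * (t * x * t⁻¹))⁻¹) * (x * x) := by
              simp only [mul_inv_rev, inv_inv, mul_assoc]
          _ = _ := by rw [k2]; simp [mul_assoc]))
      have b3 := c.down h hx nx b1 (by
        have := mul_mem b2 (inv_mem b1)
        convert this using 1
        group)
      refine mem_sup_left ?_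
      clear hi k
      induction i with
      | zero => simp
      | succ i ih =>
        have := mul_mem (conj_mem' (cent_norm inf_le_right) hx ih) b3
        convert this using 1
        group
    refine fun n hn => c.down h hx nx (all n hn) ?_
    have := mul_mem (all _ (mul_mem hn hx)) (inv_mem b1)
    convert this using 1
    group
  have KK : ∀ e ∈ E ⊓ C(B), e * (1 * u * 1⁻¹ * (x * w * x⁻¹) * (x * x * w' * (x * x)⁻¹)) * e⁻¹ =
      1 * u * 1⁻¹ * (x * w * x⁻¹) * (x * x * w' * (x * x)⁻¹) → _ := fun e he ey =>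
    T e he _ (mul_mem he hx) _ (mul_mem he xx) u I.hu w I.hw w' hw' (by rw [← ey]; group)
  have d1 : ∀ e : G, e * b * e⁻¹ ≠ e * x * b * (e * x)⁻¹ := fun e k => nx (by
    have : e * b * e⁻¹ = e * (x * b * x⁻¹) * e⁻¹ := by rw [k]; group
    simpa using this.symm)
  have d2 : ∀ e : G, e * x * b * (e * x)⁻¹ ≠ e * (x * x) * b * (e * (x * x))⁻¹ := fun e k => d1 (e * x) (by
    rw [k]; group)
  by_cases eb : e * b * e⁻¹ = b
  · have eN := (c.memN h).2 ⟨he, eb⟩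
    have m1 := conj_mem' (c.nN h) hx eN
    have m2 := conj_mem' (c.nN h) xx eN
    have l1 := (c.lab h hx (mul_mem he hx)).2 (by simpa only [mul_assoc] using m1)
    have l2 := (c.lab h xx (mul_mem he xx)).2 (by simpa only [mul_assoc] using m2)
    have k0 := KK e he ey 1 (one_mem _)
    have k1 := KK e he ey x hx
    simp only [one_mul, inv_one, mul_one, if_true, eb, ← l1, ← l2, if_neg nx, if_neg nx.symm, if_neg (t2 x nx)] at k0 k1
    rw [t3 _ hx nx _ ?_, t3 _ hx nx _ ?_, mul_one, mul_one] at k0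
    rotate_left
    · rintro rfl; simp [mul_assoc]
    · rintro rfl; simp [mul_assoc]
    have b1 : x⁻¹ * e * x ∈ B ⊔ zpowers b := I.rw' _ m1 (by
      calc _ = x⁻¹ * (e * x * w * (e * x)⁻¹) * x := by group
        _ = _ := by rw [k1]; group)
    have := c.z1 (c.cm hx.1 m1.1) I.hu.1 I.u1 (by
      have k := conj_of_C (cent_symm inf_le_right (inv_mem b1)) I.hu
      calc _ = e * ((x⁻¹ * e * x)⁻¹ * u * (x⁻¹ * e * x)⁻¹⁻¹) * e⁻¹ := by simp only [commutatorElement_def]; group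
        _ = _ := by rw [k, k0])
    have e2 : e = x⁻¹ * e * x := by
      rw [← mul_inv_eq_one, ← this]; simp only [commutatorElement_def]; group
    exact c.down h hx nx (e2 ▸ b1) b1
  exfalso
  by_cases r2 : r = 2
  · have l1 : x * b * x⁻¹ = e * b * e⁻¹ := by
      obtain ⟨i, hi, k⟩ := c.gen h hx nx he
      subst r2
      interval_cases i
      · exact absurd ((c.memN h).1 (by simpa using k)).2 eb
      · exact (c.lab h hx he).2 (by simpa using k)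
    have l2 : b = e * x * b * (e * x)⁻¹ := by
      have m := conj_mem' (c.nN h) hx (mul_mem ((c.memN h).2 ⟨xx, (c.sq2 h hx nx).2 r2⟩) ((c.lab h hx he).1 l1))
      exact ((c.memN h).1 (show e * x ∈ _ by simpa [mul_assoc] using m)).2.symm
    have k0 := KK e he ey 1 (one_mem _)
    have k1 := KK e he ey x hx
    simp only [one_mul, inv_one, mul_one, if_true, w2 r2, mul_inv_cancel, ite_self, ← l1, ← l2, if_neg nx,
      if_neg nx.symm] at k0 k1
    exact C r2 e he eb k1 k0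
  have h1 : piPart {r} e ∈ E ⊓ C(B) := piPart_mem he
  have n1 := c.pi' h he eb
  have o1 := c.pe h1.1 piElt_piPart
  have ox := c.pe hx.1 (px r2)
  have K := KK _ h1 (C1_iff.1 (mem_C1_comm.1 (piPart_mem (mem_C1_comm.1 (C1_iff.2 ey)))))
  generalize piPart {r} e = s at h1 n1 o1 K
  have k1 := K _ (mul_mem h1 hx)
  simp only [one_mul, inv_one, mul_one, if_true, if_neg (d1 s).symm, if_neg (d2 s)] at k1
  have q1 : s * x * b * (s * x)⁻¹ ≠ x * b * x⁻¹ := fun k => n1 ((c.memN h).1 (by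
    have := conj_mem (c.nN h) hx ((c.lab h hx (mul_mem h1 hx)).1 k.symm)
    simpa [mul_assoc] using this)).2
  rw [if_neg q1, mul_one] at k1
  by_cases q2 : s * x * b * (s * x)⁻¹ = b
  · have l : x * b * x⁻¹ = s * (x * x) * b * (s * (x * x))⁻¹ := (c.lab h hx (mul_mem h1 xx)).2 (by
      have := conj_mem' (c.nN h) hx ((c.memN h).2 ⟨mul_mem h1 hx, q2⟩)
      simpa only [mul_assoc] using this)
    have k2 := K x hx
    have q3 : x * b * x⁻¹ ≠ s * b * s⁻¹ := fun k => r2 ((c.sq2 h hx nx).1 ((c.memN h).1 (by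
      have := mul_mem (conj_mem (c.nN h) hx (inv_mem ((c.lab h hx h1).1 k))) ((c.memN h).2 ⟨mul_mem h1 hx, q2⟩)
      simpa [mul_assoc] using this)).2)
    simp only [one_mul, inv_one, mul_one, if_true, if_neg q3, q2, if_neg nx, if_pos l, if_neg (t2 x nx)] at k2
    refine odd r2 (x⁻¹ * (s * (x * x))) (mul_mem (inv_mem ox) (mul_mem o1 (mul_mem ox ox))) (inv_injective ?_)
    rw [conj_inv, inv_inv, ← w3 r2]
    calc _ = x⁻¹ * (s * (x * x) * w' * (s * (x * x))⁻¹) * x := by group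
      _ = _ := by rw [k2]; group
  rw [if_neg q2, one_mul] at k1
  split_ifs at k1 with q3
  · refine odd r2 ((x * x)⁻¹ * (s * x)) (mul_mem (inv_mem (mul_mem ox ox)) (mul_mem o1 ox)) ?_
    rw [← w3 r2]
    calc _ = (x * x)⁻¹ * (s * x * w * (s * x)⁻¹) * (x * x) := by simp only [mul_inv_rev, inv_inv, mul_assoc]
      _ = _ := by rw [k1]; simp [mul_assoc]
  · exact w1 (conj_eq_one_iff'.1 k1)

end PS
end H8.Bs
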