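import Cfsg.Agent.H8.Bs2
import Cfsg.Agent.H3.BG4b

/-! Bases of size two, primitive case: the downward induction on the stabilizer subgroup `B` and `prim2`. -/

set_option autoImplicit false
set_option linter.unusedSectionVars false

namespace H8.Bs
open Subgroup Cfsg H18 H21 H21.Rb
open scoped commutatorElement
universe u

section
variable {G : Type*} [Group G] [Finite G] {V A Z E B W : Subgroup G} {a b e g n t u v w x y : G} {r : ℕ}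

def Good (V Z E B : Subgroup G) : Prop := B ≤ E ∧ V ⊓ C(B) ≠ ⊥ ∧ E ⊓ C(B) ⊓ C(E ⊓ C(B)) ≤ Z ⊔ B

def Base (V E B : Subgroup G) : Prop := ∀ a ∈ V ⊓ C(B), a ≠ 1 → Rg (E ⊓ C(B)) B a

def Hard1 (V A Z E B : Subgroup G) : Prop := (∀ z ∈ Z, z ^ 4 = 1) ∧ ∃ b x e, Up Z E B b 2 ∧ x ∈ E ⊓ C(B) ∧
  x * b * x⁻¹ ≠ b ∧ e ∈ V ⊓ C(B ⊔ zpowers b) ∧ e ≠ 1 ∧ (∀ a ∈ V ⊓ C(B ⊔ zpowers b), a ≠ 1 →
    Rg (E ⊓ C(B ⊔ zpowers b)) (B ⊔ zpowers b) a ∧ ∃ n ∈ E ⊓ C(B ⊔ zpowers b), n * e * n⁻¹ = a) ∧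
  ∃ v ∈ V, v ≠ 1 ∧ ∃ y ∈ V, ∀ t ∈ A ⊓ N(B), t * y * t⁻¹ = y → t * v * t⁻¹ = v →
    ∀ n ∈ E ⊓ C(B), n⁻¹ * (t * n * t⁻¹) ∈ B

namespace PS
variable (c : PS V A Z E)
include c

theorem up (g : Good V Z E B) (nb : ¬ Base V E B) : ∃ b r x, Up Z E B b r ∧ Good V Z E (B ⊔ zpowers b) ∧
    x ∈ E ⊓ C(B) ∧ x * b * x⁻¹ ≠ b ∧ PiElt {r} x := by
  classical
  obtain ⟨BE, -, cen⟩ := g
  simp only [Base, Rg, not_forall] at nb
  obtain ⟨a, ha, a1, n, hn, e, nB⟩ := nb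
  have ex : ∃ k, 0 < k ∧ n ^ k ∈ B := ⟨orderOf n, orderOf_pos n, by simp⟩
  obtain ⟨k0, kB⟩ := Nat.find_spec ex
  have mn := fun j => Nat.find_min ex (m := j)
  generalize Nat.find ex = k at k0 kB mn
  have k1 : k ≠ 1 := fun h => nB (by simpa [h] using kB)
  obtain ⟨j, hj⟩ := Nat.minFac_dvd k
  have pr := Nat.minFac_prime k1
  generalize k.minFac = r at hj pr
  have j0 : 0 < j := Nat.pos_of_ne_zero (by rintro rfl; omega)
  have bN : n ^ j ∈ E ⊓ C(B) := pow_mem hn j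
  have aU : a ∈ V ⊓ C(B ⊔ zpowers (n ^ j)) := by
    rw [C_sup, C_zpowers, ← inf_assoc]
    exact mem_inf.2 ⟨ha, mem_C1_comm.1 (pow_mem (mem_C1_comm.1 (C1_iff.2 e)) j)⟩
  have h : Up Z E B (n ^ j) r := ⟨BE, bN.1, bN.2, fun m => mn j (by have := pr.two_le; nlinarith) ⟨j0, m⟩, pr,
    by rw [← pow_mul, mul_comm, ← hj]; exact kB, by
      by_contra e
      exact a1 (eq_one_of_eq_bot (c.sr.cent inf_le_right e) (mem_inf.2 ⟨ha.1, C_anti inf_le_left aU.2⟩))⟩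
  generalize n ^ j = b at bN aU h
  obtain ⟨x, hx, nx⟩ : ∃ x ∈ E ⊓ C(B), x * b * x⁻¹ ≠ b := by
    by_contra! k
    obtain ⟨z, hz, β, hβ, e⟩ := (mem_sup_of_cent (cent_symm (BE.trans c.EC))).1
      (cen (mem_inf.2 ⟨bN, mem_C.2 fun y hy => mul_inv_eq_iff_eq_mul.1 (k y hy)⟩))
    have : z = 1 := c.z1 hz ha.1 a1 (conj_of_C (cent_symm inf_le_right (show z ∈ B ⊔ zpowers b by
      rw [show z = b * β⁻¹ by rw [e]; group]
      exact mul_mem (mem_sup_right (mem_zpowers b)) (mem_sup_left (inv_mem hβ)))) aU)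
    exact h.bB (by rw [e, this, one_mul]; exact hβ)
  refine ⟨b, r, _, h, ⟨sup_le BE (zpowers_le.2 bN.1), ne_bot_of_mem aU a1, fun m hm => ?_⟩, piPart_mem hx,
    c.pi' h hx nx, piElt_piPart⟩
  have mN := ((c.memN h).1 hm.1).1
  have xr : x ^ r ∈ E ⊓ C(B ⊔ zpowers b) := (c.memN h).2 ⟨pow_mem hx r, mul_inv_eq_one.1 (by
    rw [← commutatorElement_def, comm_pow_left (c.cmm hx.1 h.bE hx.1), c.zr h hx])⟩
  obtain ⟨i, hi⟩ := c.cyc.mem_of_pow (zpowers_le.2 (c.cm hx.1 h.bE)) (c.cm hx.1 mN.1) (by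
    rw [card_zpowers', c.ord h hx nx, ← comm_pow_left (c.cmm hx.1 mN.1 hx.1)]
    exact commutatorElement_eq_one_iff_mul_comm.2 (mem_C.1 hm.2 _ xr))
  simp only [← comm_zpow_right (c.cmm hx.1 h.bE h.bE)] at hi
  simp only [commutatorElement_def, mul_assoc, mul_right_inj] at hi
  have cx : Commute x ((b ^ i)⁻¹ * m) := Commute.inv_left_iff.1 (by
    calc _ = (b ^ i)⁻¹ * (b ^ i * (x⁻¹ * (b ^ i)⁻¹)) * m := by group
      _ = _ := by rw [hi]; group)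
  have := cen (mem_inf.2 ⟨mul_mem (inv_mem (zpow_mem bN i)) mN, mem_C.2 fun y hy => by
    obtain ⟨l, -, k⟩ := c.gen h hx nx hy
    rw [← mul_inv_cancel_left (x ^ l) y]
    exact ((cx.pow_left l).mul_left (Commute.mul_right
      (mem_C.1 k.2 _ (inv_mem (mem_sup_right (zpow_mem_zpowers b i)))).symm (mem_C.1 hm.2 _ k))).eq⟩)
  rw [← mul_inv_cancel_left (b ^ i) m]
  exact mul_mem (mem_sup_right (mem_sup_right (zpow_mem_zpowers b i))) ((sup_le_sup_left le_sup_left Z : Z ⊔ B ≤ _) this)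

theorem nNB (ht : t ∈ A ⊓ N(B)) : t ∈ N(E ⊓ C(B)) :=
  zpowers_le.1 (norm_inf (zpowers_le.2 (c.nE.norm ht.1)) (norm_C (zpowers_le.2 ht.2)))

theorem fx2 (ht : t ∈ A ⊓ N(B)) (rv : Rg (E ⊓ C(B)) B v) (ev : t * v * t⁻¹ = v) (hn : n ∈ E ⊓ C(B))
    (e : t * (n * v * n⁻¹) * t⁻¹ = n * v * n⁻¹) : n⁻¹ * (t * n * t⁻¹) ∈ B :=
  rv _ (mul_mem (inv_mem hn) (conj_mem_N (c.nNB ht) hn)) (by
    conv_lhs => rw [← ev]
    calc _ = n⁻¹ * (t * (n * v * n⁻¹) * t⁻¹) * n := by group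
      _ = _ := by rw [e]; group)

theorem two (h : Up Z E B b 2) (hx : x ∈ E ⊓ C(B)) (nx : x * b * x⁻¹ ≠ b) (he : e ∈ E ⊓ C(B))
    (ne : e * b * e⁻¹ ≠ b) : x⁻¹ * e ∈ E ⊓ C(B ⊔ zpowers b) := by
  obtain ⟨i, hi, k⟩ := c.gen h hx nx he
  interval_cases i
  · exact absurd ((c.memN h).1 (by simpa using k)).2 ne
  · simpa using k

theorem out (h : Up Z E B b r) (I : In V A E (B ⊔ zpowers b) v u w) (hx : x ∈ E ⊓ C(B)) (nx : x * b * x⁻¹ ≠ b)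
    (px : r ≠ 2 → PiElt {r} x) (k : r = 2 → ∀ e ∈ E ⊓ C(B), e * b * e⁻¹ ≠ b → e * u * e⁻¹ = x * w * x⁻¹ →
      e * x * w * (e * x)⁻¹ = u → False) : Out V (E ⊓ C(B)) B (A ⊓ N(B)) := by
  obtain ⟨y, hy, h1, h2⟩ := c.step h I hx nx px
  have ry := h2 k
  refine ⟨y, hy, v, inf_le_inf_left _ (C_anti le_sup_left) I.hv, y, hy, ry, ry, c.ne1 h hx nx I.rv,
    fun n hn e => h.bB ?_, fun t ht ey ev => ⟨ey, fun n hn => ?_⟩⟩
  · have := ry _ (conj_mem le_N hn (mem_inf.2 ⟨h.bE, h.bC⟩)) (by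
      rw [← e]
      calc _ = n * (b * v * b⁻¹) * n⁻¹ := by group
        _ = _ := by rw [conj_of_C (cent_symm inf_le_right (mem_sup_right (mem_zpowers b))) I.hv])
    simpa [mul_assoc] using conj_mem' (cent_norm inf_le_right) hn this
  · calc _ = n * (n⁻¹ * (t * n * t⁻¹) * (t * y * t⁻¹) * (n⁻¹ * (t * n * t⁻¹))⁻¹) * n⁻¹ := by group
      _ = _ := by rw [ey, conj_of_C (cent_symm inf_le_right (h1 t ht ey ev n hn)) hy]

end PS
end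

theorem PS.ind (h3 : X3.{u}) {G : Type u} [Group G] [Finite G] {V A Z E : Subgroup G} (c : PS V A Z E) {p : ℕ}
    (hp : p.Prime) (el : Elem p V) (cop : ¬ p ∣ Nat.card A)
    (ih : ∀ B, B ≤ E → B ≠ ⊥ → ∃ v w, Reg (V ⊓ C(B)) (A ⊓ N(B)) v w) (B : Subgroup G) (g : Good V Z E B) :
    Base V E B ∨ Out V (E ⊓ C(B)) B (A ⊓ N(B)) ∨ Hard1 V A Z E B := by
  induction B using WellFoundedGT.induction with
  | ind B IH =>
  by_cases hb : Base V E B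
  · exact Or.inl hb
  refine Or.inr ?_
  obtain ⟨b, r, x, h, g', hx, nx, px⟩ := c.up g hb
  have bm : b ∈ B ⊔ zpowers b := mem_sup_right (mem_zpowers b)
  rcases IH _ (lt_of_le_of_ne le_sup_left fun e => h.bB (e ▸ bm)) g' with k | k | k
  · obtain ⟨v, u, hv, hu, v1, u1, reg⟩ : ∃ v u, v ∈ V ⊓ C(B ⊔ zpowers b) ∧ u ∈ V ⊓ C(B ⊔ zpowers b) ∧ v ≠ 1 ∧ u ≠ 1 ∧
        ∀ t ∈ A ⊓ N(B ⊔ zpowers b), t * v * t⁻¹ = v → t * u * t⁻¹ = u → t ∈ C(V ⊓ C(B ⊔ zpowers b)) := by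
      obtain ⟨v, u, hv, hu, reg⟩ := ih _ g'.1 (ne_bot_of_mem bm fun e => h.bB (e ▸ one_mem _))
      obtain ⟨a, ha, a1⟩ := exists_mem_ne_one' g'.2.1
      by_cases v1 : v = 1 <;> by_cases u1 : u = 1
      · exact ⟨a, a, ha, ha, a1, a1, fun t ht _ _ => reg t ht (by simp [v1]) (by simp [u1])⟩
      · exact ⟨u, u, hu, hu, u1, u1, fun t ht _ e => reg t ht (by simp [v1]) e⟩
      · exact ⟨v, v, hv, hv, v1, v1, fun t ht e _ => reg t ht e (by simp [u1])⟩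
      · exact ⟨v, u, hv, hu, v1, u1, reg⟩
    have I : ∀ w ∈ V ⊓ C(B ⊔ zpowers b), w ≠ 1 → In V A E (B ⊔ zpowers b) v u w := fun w hw w1 =>
      ⟨hv, hu, hw, k v hv v1, k w hw w1, u1, fun t ht ev eu => ⟨conj_of_C (reg t ht ev eu) hw, fun n hn =>
        c.fx2 ht (k v hv v1) ev hn (conj_of_C (reg t ht ev eu) (conj_mem (norm_inf (inf_le_left.trans c.EV)
          (norm_C (cent_norm inf_le_right))) hn hv))⟩⟩
    by_contra no
    have K : ∀ x ∈ E ⊓ C(B), x * b * x⁻¹ ≠ b → (r ≠ 2 → PiElt {r} x) → ∀ w ∈ V ⊓ C(B ⊔ zpowers b), w ≠ 1 → r = 2 ∧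
        ∃ e ∈ E ⊓ C(B), e * b * e⁻¹ ≠ b ∧ e * u * e⁻¹ = x * w * x⁻¹ ∧ e * x * w * (e * x)⁻¹ = u :=
      fun x hx nx px w hw w1 => by
        by_contra k'
        exact no (Or.inl (c.out h (I w hw w1) hx nx px fun r2 e he h1 h2 h3 => k' ⟨r2, e, he, h1, h2, h3⟩))
    obtain ⟨rfl, -⟩ := K x hx nx (fun _ => px) u hu u1
    have K' : ∀ x ∈ E ⊓ C(B), x * b * x⁻¹ ≠ b → ∀ w ∈ V ⊓ C(B ⊔ zpowers b), w ≠ 1 →
        ∃ e ∈ E ⊓ C(B), e * b * e⁻¹ ≠ b ∧ e * e ∈ B ⊔ zpowers b ∧ x⁻¹ * e * u * (x⁻¹ * e)⁻¹ = w :=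
      fun x hx nx w hw w1 => by
        obtain ⟨-, e, he, h1, h2, h3⟩ := K x hx nx (fun e => absurd rfl e) w hw w1
        refine ⟨e, he, h1, k u hu u1 _ ((c.memN h).2 ⟨mul_mem he he, (c.sq2 h he h1).2 rfl⟩) ?_, ?_⟩
        · calc _ = e * (e * u * e⁻¹) * e⁻¹ := by simp only [mul_inv_rev, mul_assoc]
            _ = _ := by rw [h2, ← h3]; group
        · calc _ = x⁻¹ * (e * u * e⁻¹) * x := by group
            _ = _ := by rw [h2]; group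
    obtain ⟨y, hy, wk, -⟩ := c.step h (I u hu u1) hx nx fun _ => px
    refine no (Or.inr ⟨fun z hz => ?_, b, x, u, h, hx, nx, hu, u1, fun a ha a1 => ⟨k a ha a1, ?_⟩, v, hv.1, v1, y,
      hy.1, wk⟩)
    · obtain ⟨x, hx, nx, x2, -⟩ := K' x hx nx u hu u1
      have zN : z ∈ E ⊓ C(B ⊔ zpowers b) := mem_inf.2 ⟨c.ZE hz, cent_symm (g'.1.trans c.EC) hz⟩
      obtain ⟨e, he, ne, e2, h4⟩ := K' x hx nx (z * u * z⁻¹) (conj_mem (norm_inf (inf_le_left.trans c.EV)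
          (norm_C (cent_norm inf_le_right))) zN hu) (conj_eq_one_iff'.not.2 u1)
      have hβ := k u hu u1 _ (mul_mem (inv_mem zN) (c.two h hx nx he ne)) (by
        calc _ = z⁻¹ * (x⁻¹ * e * u * (x⁻¹ * e)⁻¹) * z := by group
          _ = _ := by rw [h4]; group)
      obtain ⟨β, rfl⟩ : ∃ β, e = x * (z * β) := ⟨z⁻¹ * (x⁻¹ * e), by group⟩
      simp only [inv_mul_cancel_left] at hβ
      have βE := g'.1 hβ
      have zc : ∀ y ∈ E, y * z = z * y := fun y hy => (mem_C.1 (c.EC hy) z hz).symm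
      have m : z * z * ⁅x⁻¹, β⁆ ∈ B ⊔ zpowers b := by
        have := mul_mem (mul_mem (inv_mem x2) e2) (inv_mem (mul_mem hβ hβ))
        convert this using 1
        calc _ = z * (z * (x⁻¹ * β * x)) * β⁻¹ := by simp only [commutatorElement_def, inv_inv, mul_assoc]
          _ = (z * x⁻¹) * (β * x * z * β⁻¹) := by
              rw [← zc _ (mul_mem (mul_mem (inv_mem hx.1) βE) hx.1)]; simp only [mul_assoc]
          _ = _ := by rw [← zc _ (inv_mem hx.1)]; simp [mul_assoc]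
      have e1 := eq_one_of_eq_bot h.dj (mem_inf.2 ⟨m, mul_mem (mul_mem hz hz) (c.cm (inv_mem hx.1) βE)⟩)
      have e3 : ⁅x⁻¹, β⁆ ^ 2 = 1 := by
        rw [← comm_pow_left (c.cmm (inv_mem hx.1) βE (inv_mem hx.1)), inv_pow, pow_two]
        exact commutatorElement_eq_one_iff_mul_comm.2 (mem_C.1 (inv_mem (c.BN h x2).2) _ hβ).symm
      rw [show z ^ 4 = (z * z) ^ 2 by rw [← pow_two, ← pow_mul], eq_inv_of_mul_eq_one_left e1, inv_pow, e3, inv_one]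
    · obtain ⟨e, he, ne, -, h4⟩ := K' x hx nx a ha a1
      exact ⟨_, c.two h hx nx he ne, h4⟩
  · obtain ⟨v, hv, u, hu, w, hw, rv, rw', u1, nu, fx⟩ := k
    refine Or.inl (c.out h ⟨hv, hu, hw, rv, rw', u1, fun t ht ev eu => ⟨(fx t ht ev eu).1, fun n hn =>
      c.fx2 ht rv ev hn ((fx t ht ev eu).2 n hn)⟩⟩ hx nx (fun _ => px) ?_)
    rintro rfl e he ne h1 -
    refine nu _ (c.two h hx nx he ne) ?_
    calc _ = x⁻¹ * (e * u * e⁻¹) * x := by group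
      _ = _ := by rw [h1]; group
  · obtain ⟨z4, b₁, x₁, e, h₁, hx₁, nx₁, he, e1, tr, -⟩ := k
    obtain rfl : r = 2 := (Nat.prime_dvd_prime_iff_eq h.pr Nat.prime_two).1 (h.pr.dvd_of_dvd_pow (n := 2) (by
      rw [← c.ord h hx nx, orderOf_dvd_iff_pow_eq_one]; exact z4 _ (c.cm hx.1 h.bE)))
    exact Or.inl (h3 G V A Z E B p x₁ x b₁ b e c hp el cop z4 h h₁ hx nx hx₁ nx₁ he e1 tr)

theorem prim2 (h1 : X1.{u}) (h2 : X2.{u}) (h3 : X3.{u}) : Prim2.{u} := by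
  intro G _ _ V A ih hV hm hs hf cop ho hc
  obtain ⟨Z, E, c⟩ := h1 G V A hV hm hs hf ho hc
  obtain ⟨p, hp, pd, el⟩ := hm.exists_elem hV.solv
  have np : ¬ p ∣ Nat.card A := fun d => hp.one_lt.ne' (Nat.eq_one_of_dvd_coprimes cop d pd)
  have fin : ∀ t ∈ A, ∀ v ∈ V, v ≠ 1 → t * v * t⁻¹ = v → (∀ n ∈ E ⊓ C(⊥), n⁻¹ * (t * n * t⁻¹) ∈ (⊥ : Subgroup G)) →
      t ∈ C(V) := fun t ht v hv v1 e k => by
    rw [c.z1 (c.CE (mem_inf.2 ⟨ht, C_of_conj fun n hn => (inv_mul_eq_one.1 (mem_bot.1 (k n (by rwa [C_bot, inf_top_eq])))).symm⟩))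
      hv v1 e]
    exact one_mem _
  have tb : ∀ t ∈ A, t ∈ A ⊓ N(⊥) := fun t ht => mem_inf.2 ⟨ht, mem_N_of_finite fun x hx => by simpa using hx⟩
  rcases PS.ind h3 c hp el np (fun B BE B0 => by
    have n : A ⊓ N(B) ≤ N(V ⊓ C(B)) := norm_inf (inf_le_left.trans hm.norm) (norm_C inf_le_right)
    refine ih _ _ (card_lt (lt_of_le_of_ne inf_le_left fun e => B0 (eq_bot_iff.2 (hf ▸ le_inf (BE.trans c.nE.le)
      (cent_symm (e ▸ inf_le_right)))))) (hV.mono inf_le_left) n (hs.of_le inf_le_left)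
      ((cop.of_dvd (card_dvd inf_le_left) (card_dvd inf_le_left))) fun U hU nU => ?_
    obtain ⟨Y, h, nY⟩ := H3.maschke_elem hp (el.of_le inf_le_left) n nU hU (fun q _ d e => np (by
      rw [← Set.mem_singleton_iff.1 e]; exact d.trans (card_dvd inf_le_left)))
    exact ⟨Y, h.le_right, nY, h.inf, h.sup⟩) ⊥
    ⟨bot_le, by simpa using hm.ne_bot, by
      rw [C_bot, inf_top_eq, sup_bot_eq]; exact (inf_le_inf_right _ c.nE.le).trans c.CE⟩ with k | k | k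
  · refine h2 G V A Z E c hm.ne_bot fun x hx x1 => eq_bot_iff.2 fun a ha => ?_
    by_contra a1
    exact x1 (k a (by rw [C_bot, inf_top_eq]; exact ha.1) a1 x (by rwa [C_bot, inf_top_eq]) (C1_iff.1 ha.2))
  · obtain ⟨v, hv, u, hu, w, hw, rv, -, u1, -, fx⟩ := k
    exact ⟨v, u, hv.1, hu.1, fun t ht ev eu => fin t ht u hu.1 u1 eu fun n hn =>
      c.fx2 (tb t ht) rv ev hn ((fx t (tb t ht) ev eu).2 n hn)⟩
  · obtain ⟨-, b, x, e, -, -, -, -, -, -, v, hv, v1, y, hy, k⟩ := k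
    exact ⟨y, v, hy, hv, fun t ht ey ev => fin t ht v hv v1 ev (k t (tb t ht) ey ev)⟩

end H8.Bs
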