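import Cfsg.Agent.H8.Bs3
import Cfsg.Agent.H21.BsM
import Cfsg.Agent.H21.BsX3
import Cfsg.Agent.H10.BsK

/-! Bases of size two: assembly of the pieces (`asm`). -/

set_option autoImplicit false

namespace H8.Bs
open Subgroup Cfsg H18 H21.Rb
universe u

theorem asm (x1 : X1.{u}) (x2 : X2.{u}) (hG : Gluck3.{u}) (h3 : Hard12.{u} 3) (h5 : Hard12.{u} 5) (h8 : Hard3.{u}) :
    H10.Bs.M2.{u} := fun G _ _ V A a b c d => by
  obtain ⟨v, w, h1, h2, h3⟩ := H21.BsM.main (prim2 x1 x2 (H21.BsX3.x3 h3 h5 h8)) hG G V A a b.norm c d (CR.of_min b)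
  exact ⟨v, h1, w, h2, fun x hx => h3 x hx.1.1 (by rw [mem_C1.1 hx.1.2, mul_inv_cancel_right])
    (by rw [mem_C1.1 hx.2, mul_inv_cancel_right])⟩

end H8.Bs
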