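import Cfsg.Agent.H8.Brol
import Cfsg.Agent.H8.Sig
import Cfsg.Agent.H8.Ito
import Cfsg.Agent.H8.PDeg
import Cfsg.Agent.H8.Res
import Cfsg.Agent.H6.Monomial

/-! Character degrees: the Taketa step (`le_of_small_ker`, `taketa_step`), normal subgroups over
which all characters have one degree are abelian (`comm_of_rel`), Berkovich's lemma
(`berkovich`), sets of characters closed under a real multiplier (`mul_sum_closed`). -/

open H5 H6 Cfsg
open scoped ComplexConjugate commutatorElement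

namespace H8
universe u
variable {G : Type*} [Group G] [Finite G] {χ : G → ℂ}

theorem eq_bot_of_forall_ker {N : Subgroup G} (h : ∀ χ, IsIrrCharacter G χ → N ≤ charKer χ) :
    N = ⊥ :=
  eq_bot_iff.2 fun g hg => by
    by_contra e
    obtain ⟨χ, h1, h2⟩ := exists_irr_not_mem_charKer (g := g) e
    exact h2 (h χ h1 hg)

theorem le_of_forall_ker {N K : Subgroup G} [K.Normal]
    (h : ∀ χ, IsIrrCharacter G χ → K ≤ charKer χ → N ≤ charKer χ) : N ≤ K := fun g hg => by
  by_contra e
  obtain ⟨χ, h1, h2, h3⟩ := exists_irr_le_charKer_not_mem K e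
  exact h3 (h χ h1 h2 hg)

theorem le_of_small_ker {M U : Subgroup G}
    (h : ∀ ξ, IsIrrCharacter G ξ → charDegree ξ < U.index → M ≤ charKer ξ) : M ≤ U := by
  classical
  haveI := Fintype.ofFinite G
  have hc := isCharacter_ind U isCharacter_one
  have hc1 : IsCharacter G (indFun U (fun _ => 1) - fun _ => 1) :=
    hc.sub_irr isIrrCharacter_one (by
      rw [inner_ind_left U _ (isClassFunction_const 1), inner_one_one]; exact one_ne_zero)
  have h0 := Nat.pos_of_ne_zero (U.index_ne_zero_of_finite)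
  have hd : charDegree (indFun U (fun _ => 1) - fun _ => 1) = U.index - 1 :=
    charDegree_eq_of_apply_one (by rw [Nat.cast_sub h0]; simp [ind_one])
  refine le_trans (fun g hg => ?_) (charKer_ind_one_le U)
  rw [hc.mem_charKer]
  have h1 : (indFun U (fun _ => 1) - fun _ => 1 : G → ℂ) g =
      (indFun U (fun _ => 1) - fun _ => 1 : G → ℂ) 1 := by
    rw [hc1.isClassFunction.apply_eq_sum_irr g, hc1.isClassFunction.apply_eq_sum_irr 1]
    refine Finset.sum_congr rfl fun ξ _ => ?_
    by_cases h0 : classInner (indFun U (fun _ => 1) - fun _ => 1) (ξ : G → ℂ) = 0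
    · rw [h0, zero_mul, zero_mul]
    · have := hc1.charDegree_le_of_constituent ξ.2 h0
      rw [apply_eq_of_mem_charKer (h _ ξ.2 (by omega) hg)]
  simpa using h1

theorem comm_le_ker_ind [Fintype G] {M H : Subgroup G} [M.Normal] (h : M ≤ H) (lam : H →* ℂˣ) :
    ⁅M, M⁆ ≤ charKer (indFun H fun x => (lam x : ℂ)) := by
  have hle : ⁅M, M⁆ ≤ H := (Subgroup.commutator_le_left _ _).trans h
  refine normal_le_charKer_ind H (isCharacter_hom lam) _ hle fun m => ?_
  have : ⁅M, M⁆ ≤ lam.ker.map H.subtype := by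
    rw [Subgroup.commutator_le]
    intro a ha b hb
    refine ⟨⁅(⟨a, h ha⟩ : H), ⟨b, h hb⟩⁆, ?_, rfl⟩
    rw [SetLike.mem_coe, MonoidHom.mem_ker, map_commutatorElement]
    exact commutatorElement_eq_one_iff_mul_comm.mpr (mul_comm _ _)
  obtain ⟨y, hy, hy'⟩ := this m.2
  have : (⟨m, hle m.2⟩ : H) = y := Subtype.ext hy'.symm
  simp [this, MonoidHom.mem_ker.mp hy]

theorem taketa_step [Fintype G] {M : Subgroup G} [M.Normal]
    (hm : ∃ (H : Subgroup G) (lam : H →* ℂˣ), χ = indFun H fun h => (lam h : ℂ))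
    (h : ∀ ξ, IsIrrCharacter G ξ → charDegree ξ < charDegree χ → M ≤ charKer ξ) :
    ⁅M, M⁆ ≤ charKer χ := by
  obtain ⟨H, lam, rfl⟩ := hm
  rw [deg_ind (isCharacter_hom lam), charDegree_of_eq (n := 1) (by simp), mul_one] at h
  exact comm_le_ker_ind (le_of_small_ker h) lam

theorem le_ker_of_constituent {V S : Subgroup G} [V.Normal] [Fintype S] (hV : V ≤ S)
    (hχ : IsIrrCharacter G χ) {η : S → ℂ} (hη : IsCharacter S η)
    (h : classInner (fun s : S => χ s) η ≠ 0) (hk : V.subgroupOf S ≤ charKer η) : V ≤ charKer χ := by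
  haveI := Fintype.ofFinite G
  refine (normal_le_charKer_ind S hη V hV fun m => apply_eq_of_mem_charKer (hk m.2)).trans
    ((isCharacter_ind S hη).charKer_le_of_constituent hχ ?_)
  rwa [inner_ind_left S _ hχ.isClassFunction, Ne, classInner_eq_zero_comm]

theorem ker_le_of_constituent {S : Subgroup G} [Fintype S] (hχ : IsCharacter G χ) {η : S → ℂ}
    (hη : IsIrrCharacter S η) (h : classInner (fun s : S => χ s) η ≠ 0) :
    (charKer χ).subgroupOf S ≤ charKer η := fun s hs =>
  (hχ.restrict S).charKer_le_of_constituent hη h ((hχ.restrict S).mem_charKer.2 (hχ.mem_charKer.1 hs))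

theorem deg_dvd_of_under {N : Subgroup G} [N.Normal] [Fintype N] (hχ : IsIrrCharacter G χ) {θ : N → ℂ}
    (hθ : IsIrrCharacter N θ) (h : classInner (fun n : N => χ n) θ ≠ 0) :
    ∃ b, b ∣ N.index ∧ charDegree χ = b * charDegree θ := by
  obtain ⟨b, h1, h2⟩ := degree_ratio_dvd hθ hχ h
  exact ⟨b, h1, charDegree_of_eq (by rw [h2, Nat.cast_mul, hθ.coe_charDegree])⟩

theorem exists_deg_over {N : Subgroup G} [N.Normal] {θ : N → ℂ} (hθ : IsIrrCharacter N θ) :
    ∃ χ b, IsIrrCharacter G χ ∧ b ∣ N.index ∧ charDegree χ = b * charDegree θ ∧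
      (charKer χ).subgroupOf N ≤ charKer θ := by
  haveI := Fintype.ofFinite G
  haveI := Fintype.ofFinite N
  obtain ⟨χ, h1, h2⟩ := exists_irr_over hθ
  obtain ⟨b, h3, h4⟩ := deg_dvd_of_under h1 hθ h2
  exact ⟨χ, b, h1, h3, h4, ker_le_of_constituent h1.isCharacter hθ h2⟩

theorem le_centralizer_of_inertia {V M : Subgroup G} [hV : V.Normal] (hc : IsMulCommutative V)
    (h : ∀ θ : V → ℂ, IsIrrCharacter V θ → M ≤ inertia θ) :
    M ≤ Subgroup.centralizer (V : Set G) := fun m hm v hv => by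
  have h1 : IsConj (⟨m * v * m⁻¹, hV.conj_mem v hv m⟩ : V) ⟨v, hv⟩ :=
    (isConj_iff_forall_irr _ _).2 fun θ => congrFun (h _ θ.2 hm) ⟨v, hv⟩
  obtain ⟨c, hc'⟩ := isConj_iff.1 h1
  rw [hc.is_comm.comm c, mul_inv_cancel_right] at hc'
  exact (mul_inv_eq_iff_eq_mul.1 (congrArg Subtype.val hc')).symm

theorem comm_pgroup_of_rel {q : ℕ} [hq : Fact q.Prime] {Q : Subgroup G} [Q.Normal] (hQ : IsPGroup q Q)
    {n : ℕ} (h : ∀ χ, IsIrrCharacter G χ → ¬ Q ≤ charKer χ → charDegree χ = n) : ⁅Q, Q⁆ = ⊥ := by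
  classical
  haveI := Fintype.ofFinite G
  obtain ⟨S⟩ : Nonempty (Sylow q G) := inferInstance
  have hQS : Q ≤ S := (H1.le_pCore hQ).trans (H1.pCore_le_sylow S)
  haveI := S.isPGroup'.isNilpotent
  have h1 : ∀ η : ↥(S : Subgroup G) → ℂ, IsIrrCharacter _ η → ¬ Q.subgroupOf S ≤ charKer η →
      q ^ n.factorization q ∣ charDegree η := fun η hη hk => by
    obtain ⟨m, hm, e⟩ := deg_eq_sum (isCharacter_ind _ hη.isCharacter)
    have h2 : n ∣ (S : Subgroup G).index * charDegree η := by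
      rw [← deg_ind hη.isCharacter, e]
      refine Finset.dvd_sum fun ξ _ => ?_
      by_cases h0 : m ξ = 0
      · simp [h0]
      refine Dvd.dvd.mul_left (h _ ξ.2 fun h3 => hk (le_trans (Subgroup.subgroupOf_mono _ h3)
        (ker_le_of_constituent ξ.2.isCharacter hη ?_))).symm.dvd _
      rw [Ne, classInner_eq_zero_comm, ← inner_ind_left _ _ ξ.2.isClassFunction, hm]
      exact_mod_cast h0
    exact Nat.Coprime.dvd_of_dvd_mul_left (((Nat.Prime.coprime_iff_not_dvd hq.out).2
      S.not_dvd_index).pow_left _) ((Nat.ordProj_dvd n q).trans h2)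
  refine eq_bot_of_forall_ker fun χ hχ => ?_
  by_cases hk : Q ≤ charKer χ
  · exact (Subgroup.commutator_le_left _ _).trans hk
  have hn := h χ hχ hk
  obtain ⟨η, h2, h3⟩ := exists_constituent_not_dvd (hχ.isCharacter.restrict S)
    (n := q ^ (n.factorization q + 1)) (by
      rw [charDegree_congr (χ := fun x : ↥(S : Subgroup G) => χ x) (ψ := χ) rfl, hn]
      exact Nat.pow_succ_factorization_not_dvd (hn ▸ hχ.charDegree_pos.ne') hq.out)
  refine le_ker_of_constituent ((Subgroup.commutator_le_left _ _).trans hQS) hχ η.2.isCharacter h2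
    (le_trans ?_ (taketa_step (M := Q.subgroupOf S) (monomial_of_nilpotent η.2) fun ξ hξ hl => ?_))
  · intro x hx
    have := Subgroup.map_commutator (Q.subgroupOf S) (Q.subgroupOf S) (S : Subgroup G).subtype
    rw [Subgroup.map_subgroupOf_eq_of_le hQS] at this
    obtain ⟨y, hy, e⟩ := this.ge hx
    exact (Subtype.ext e : y = x) ▸ hy
  · by_contra h4
    obtain ⟨k, hk⟩ := deg_eq_pow S.isPGroup' η.2
    rw [hk, Nat.pow_dvd_pow_iff_le_right hq.out.one_lt] at h3
    have := Nat.le_of_dvd hξ.charDegree_pos (h1 ξ hξ h4)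
    rw [hk] at hl
    have := (Nat.pow_lt_pow_iff_right hq.out.one_lt).1 (this.trans_lt hl)
    omega

/-- A solvable normal subgroup over which all characters have the same degree is abelian. -/
theorem comm_of_rel (G : Type u) [Group G] [Finite G] : ∀ (M : Subgroup G) [M.Normal] (n : ℕ),
    Group.IsSolvable M → (∀ χ, IsIrrCharacter G χ → ¬ M ≤ charKer χ → charDegree χ = n) →
      ⁅M, M⁆ = ⊥ := by
  refine H1.card_induction (P := fun G _ _ => ∀ (M : Subgroup G) [M.Normal] (n : ℕ),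
    Group.IsSolvable M → (∀ χ, IsIrrCharacter G χ → ¬ M ≤ charKer χ → charDegree χ = n) →
      ⁅M, M⁆ = ⊥) ?_ G
  intro G _ _ ih M _ n hs h
  classical
  haveI := Fintype.ofFinite G
  by_cases h0 : M = ⊥
  · simp [h0]
  obtain ⟨V, q, hV, hV0, hVM, hq, hVc, -, hVq, -⟩ := H1.exists_normal_elementary_le M h0
  haveI := Fact.mk hq
  have h1 : M ≤ Subgroup.centralizer (V : Set G) := le_centralizer_of_inertia hVc fun θ hθ => by
    obtain ⟨χ, h1, h2⟩ := exists_irr_over hθ
    by_cases hk : M ≤ charKer χ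
    · intro m hm
      have : θ = fun _ => 1 := hθ.charKer_eq_top_iff.1 (top_le_iff.1 fun v _ =>
        ker_le_of_constituent h1.isCharacter hθ h2 (hk (hVM v.2)))
      rw [this]; rfl
    · refine le_of_small_ker fun ξ hξ hl => by_contra fun h3 => ?_
      have := Nat.le_of_dvd h1.charDegree_pos
        ((Dvd.intro _ rfl).trans (index_inertia_mul_dvd h1 hθ h2))
      rw [h ξ hξ h3, ← h χ h1 hk] at hl
      omega
  have h2 : ⁅M, M⁆ ≤ V := by
    haveI : (M.map (QuotientGroup.mk' V)).Normal := .map inferInstance _ (QuotientGroup.mk'_surjective V)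
    have := ih (G ⧸ V) (card_quot_lt hV0) (M.map (QuotientGroup.mk' V)) n (H1.isSolvable_map _ _)
      fun χ hχ hk => by
        rw [← charDegree_inflate]
        refine h _ hχ.inflate fun h3 => hk ?_
        rintro _ ⟨m, hm, rfl⟩ x
        obtain ⟨x, rfl⟩ := QuotientGroup.mk_surjective x
        exact h3 hm x
    rwa [← Subgroup.map_commutator, Subgroup.map_eq_bot_iff, QuotientGroup.ker_mk'] at this
  have h3 : ∀ x y : M, ⁅x, y⁆ ∈ Subgroup.center M := fun x y => Subgroup.mem_center_iff.2 fun z =>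
    Subtype.ext (h1 z.2 _ (h2 (Subgroup.commutator_mem_commutator x.2 y.2))).symm
  haveI : Group.IsNilpotent M := by
    refine Subgroup.nilpotent_iff_lowerCentralSeries.2 ⟨2, ?_⟩
    change ⁅⁅(⊤ : Subgroup M), ⊤⁆, ⊤⁆ = ⊥
    rw [Subgroup.commutator_eq_bot_iff_le_centralizer,
      Subgroup.coe_top, Subgroup.centralizer_univ, Subgroup.commutator_le]
    exact fun x _ y _ => h3 x y
  have h4 : pPrimeCore q M ≤ Subgroup.center M := fun x hx => Subgroup.mem_center_iff.2 fun y => by
    obtain ⟨k, hk⟩ := hVq ⟨_, h2 (Subgroup.commutator_mem_commutator x.2 y.2)⟩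
    have e := commElt_pow_left (Subgroup.mem_center_iff.1 (h3 x y) x) (Nat.card (pPrimeCore q M))
    rw [show x ^ Nat.card (pPrimeCore q M) = 1 from
      congrArg Subtype.val (pow_card_eq_one' (x := (⟨x, hx⟩ : pPrimeCore q M))),
      commutatorElement_one_left] at e
    have e2 : ⁅x, y⁆ ^ q ^ k = 1 := Subtype.ext (congrArg (fun v : V => (v : G)) hk)
    exact (commutatorElement_eq_one_iff_mul_comm.1 (orderOf_eq_one_iff.1 (Nat.eq_one_of_dvd_coprimes
      ((H1.coprime_card_pPrimeCore q M).pow_right k) (orderOf_dvd_of_pow_eq_one e.symm)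
      (orderOf_dvd_of_pow_eq_one e2)))).symm
  have h5 := comm_pgroup_of_rel (H1.map_pCore_isPGroup q M) fun χ hχ hk =>
    h χ hχ fun h5 => hk ((Subgroup.map_subtype_le _).trans h5)
  rw [← Subgroup.map_commutator, Subgroup.map_eq_bot_iff_of_injective _ M.subtype_injective,
    Subgroup.commutator_eq_bot_iff_le_centralizer] at h5
  have h6 : pCore q M ≤ Subgroup.center M := by
    rw [← Subgroup.centralizer_univ, ← Subgroup.coe_top, Subgroup.le_centralizer_iff,
      ← H1.nilpotent_eq_pCore_sup_pPrimeCore q]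
    exact sup_le h5 (h4.trans (Subgroup.center_le_centralizer _))
  rw [Subgroup.commutator_eq_bot_iff_le_centralizer]
  intro x hx y hy
  exact congrArg Subtype.val (Subgroup.mem_center_iff.1 ((sup_le h6 h4)
    ((H1.nilpotent_eq_pCore_sup_pPrimeCore q).ge (Subgroup.mem_top (⟨x, hx⟩ : M)))) ⟨y, hy⟩)

/-- Berkovich's lemma. -/
theorem berkovich {p : ℕ} [hp : Fact p.Prime] {V : Subgroup G} [V.Normal]
    (hV : pResidual p V = ⊤) (hd : p ∣ Nat.card V) :
    ∃ χ, IsIrrCharacter G χ ∧ ¬ V ≤ charKer χ ∧ ¬ p ∣ charDegree χ := by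
  classical
  haveI := Fintype.ofFinite G
  obtain ⟨P⟩ : Nonempty (Sylow p G) := inferInstance
  letI := irrAct V
  obtain ⟨θ, h1, h2, h3⟩ : ∃ θ : IrrCharacter V, θ ≠ irrOne V ∧ (P : Subgroup G) ≤ inertia θ.1 ∧
      ¬ p ∣ charDegree θ.1 := by
    by_contra! hc
    have h1 := H7.sum_eq_zero_of_pgroup (CharP.cast_eq_zero (ZMod p) p) P.isPGroup'
      (fun θ : IrrCharacter V => if θ = irrOne V then 0 else (charDegree θ.1 : ZMod p) ^ 2)
      (fun u θ => by
        have e : charDegree (u • θ).1 = charDegree θ.1 := charDegree_congr (cj_apply_one _ _)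
        rw [e]
        exact if_congr ⟨fun h => by rw [← inv_smul_smul u θ, h]; rfl, fun h => by rw [h]; rfl⟩ rfl rfl)
      fun θ h => by
        split_ifs with e
        · rfl
        · rw [(ZMod.natCast_eq_zero_iff _ _).2 (hc θ e fun u hu => mem_inertia.2 (by
            have := congrArg Subtype.val (h ⟨u⁻¹, inv_mem hu⟩)
            change cj θ.1 (u⁻¹)⁻¹ = θ.1 at this
            rwa [inv_inv] at this)), sq, mul_zero]
    have h2 := congrArg (Nat.cast : ℕ → ZMod p) (sum_deg_sq (G := V))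
    rw [(ZMod.natCast_eq_zero_iff _ _).2 hd, Nat.cast_sum,
      ← Finset.add_sum_erase _ _ (Finset.mem_univ (irrOne V))] at h2
    rw [← Finset.add_sum_erase _ _ (Finset.mem_univ (irrOne V)), if_pos rfl, zero_add,
      Finset.sum_congr rfl fun θ h => if_neg (Finset.ne_of_mem_erase h)] at h1
    simp only [Nat.cast_pow] at h2
    rw [h1, charDegree_of_eq (n := 1) (by simp)] at h2
    simp at h2
  have hVH : V ≤ V ⊔ P := le_sup_left
  have hθ' := isIrr_sOf hVH θ.2
  obtain ⟨a, ha⟩ : ∃ a, (V.subgroupOf (V ⊔ P)).index = p ^ a := by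
    obtain ⟨b, hb⟩ := P.isPGroup'.exists_card_eq
    obtain ⟨a, -, ha⟩ := (Nat.dvd_prime_pow hp.out).1 (hb ▸ (Subgroup.relIndex_sup_left (P : Subgroup G) V).dvd.trans
      (Subgroup.index_dvd_card _))
    exact ⟨a, ha⟩
  have h4 : ¬ p ∣ detOrder (sOf θ.1 (V ⊔ P)) := not_dvd_detOrder (by
    have := H3.map_pResidual_of_surjective (p := p) (Subgroup.subgroupOfEquivOfLe hVH).symm.toMonoidHom
      (MulEquiv.surjective _)
    rw [← this, hV, Subgroup.map_top_of_surjective _ (MulEquiv.surjective _)]) _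
  obtain ⟨η, ⟨h5, h6, -⟩, -⟩ := exists_canonical_ext hθ' (fun g => by
      rw [cj_sOf, (sup_le (le_inertia θ.2.isClassFunction) h2 g.2 : cj θ.1 g = θ.1)])
    (d := charDegree θ.1) θ.2.coe_charDegree.symm (by
      rw [ha]
      exact ((Nat.Prime.coprime_iff_not_dvd hp.out).2 (Nat.Prime.not_dvd_mul hp.out h4 h3)).pow_left _)
  obtain ⟨χ, h7, h8⟩ := exists_constituent_not_dvd (isCharacter_ind _ h5.isCharacter) (n := p) (by
    rw [deg_ind h5.isCharacter, charDegree_congr (χ := η) (ψ := θ.1) (h6 1)]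
    exact Nat.Prime.not_dvd_mul hp.out (fun e => P.not_dvd_index
      (e.trans (Subgroup.index_dvd_of_le le_sup_right))) h3)
  refine ⟨_, χ.2, fun hk => h1 (Subtype.ext (θ.2.charKer_eq_top_iff.1 (top_le_iff.1 fun v _ => ?_))), h8⟩
  rw [inner_ind_left _ _ χ.2.isClassFunction, Ne, classInner_eq_zero_comm] at h7
  have := apply_eq_of_mem_charKer (ker_le_of_constituent χ.2.isCharacter h5 h7
    (x := ⟨v, hVH v.2⟩) (hk v.2))
  exact θ.2.mem_charKer.2 ((h6 ⟨⟨v, hVH v.2⟩, v.2⟩).symm.trans (this.trans (h6 1)))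

theorem mul_sum_closed [Fintype G] {α : G → ℂ} (hα : IsCharacter G α) (hr : (fun g => conj (α g)) = α)
    (U : Finset (IrrCharacter G))
    (h : ∀ θ ∈ U, ∀ ξ : IrrCharacter G, classInner (θ.1 * α) ξ ≠ 0 → ξ ∈ U) (g : G) :
    (∑ θ ∈ U, θ.1 1 * θ.1 g) * α g = (∑ θ ∈ U, θ.1 1 * θ.1 g) * α 1 := by
  classical
  have hc : IsClassFunction G (∑ θ ∈ U, θ.1 1 • θ.1) :=
    IsClassFunction.sum _ fun θ _ => θ.2.isClassFunction.smul _
  have := (hc.mul hα.isClassFunction).ext_classInner (hc.smul (α 1)) fun ξ hξ => by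
    rw [classInner_smul_left, Finset.sum_mul, classInner_sum_left, classInner_sum_left]
    simp only [smul_mul_assoc, classInner_smul_left]
    rw [Finset.sum_congr rfl fun θ _ => congrArg _ (classInner_irr θ ⟨ξ, hξ⟩)]
    simp only [mul_ite, mul_one, mul_zero, Finset.sum_ite_eq']
    split_ifs with e
    · have h2 := (hξ.isClassFunction.mul hα.isClassFunction).apply_eq_sum_irr 1
      rw [Pi.mul_apply, ← Finset.sum_subset U.subset_univ fun θ _ hθ => by
        rw [not_not.1 (mt (h _ e θ) hθ), zero_mul]] at h2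
      rw [mul_comm, h2]
      refine Finset.sum_congr rfl fun θ _ => ?_
      rw [classInner_mul_left, hr, mul_comm, θ.2.isCharacter.classInner_comm (hξ.isCharacter.mul hα)]
    · exact Finset.sum_eq_zero fun θ hθ => by rw [not_not.1 (mt (h θ hθ ⟨ξ, hξ⟩) e), mul_zero]
  simpa [mul_comm] using congrFun this g

end H8
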