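import Cfsg.Agent.H8.Cd1
import Cfsg.Agent.S4456
import Cfsg.Agent.H5.Equiv

/-! Groups with at most three character degrees are solvable (`Cd3.solvable`); just non-abelian
quotients of solvable groups (`exists_top`, Isaacs 12.3) and degrees over a Frobenius quotient
(`frob_deg`, Isaacs 12.4). -/

open H5 H6 Cfsg
open scoped ComplexConjugate commutatorElement

namespace H8
universe u
variable {G : Type*} [Group G] [Finite G] {χ ψ θ : G → ℂ} {a b : ℕ}

/-- All irreducible characters have degree `1`, `a` or `b`. -/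
def Cd3 (G : Type*) [Group G] (a b : ℕ) : Prop :=
  ∀ χ, IsIrrCharacter G χ → charDegree χ = 1 ∨ charDegree χ = a ∨ charDegree χ = b

omit [Finite G] in
theorem Cd3.symm (h : Cd3 G a b) : Cd3 G b a := fun χ hχ => by have := h χ hχ; tauto

omit [Finite G] in
theorem Cd3.quot (h : Cd3 G a b) (N : Subgroup G) [N.Normal] : Cd3 (G ⧸ N) a b := fun χ hχ => by
  rw [← charDegree_inflate]; exact h _ hχ.inflate

theorem thompson_cd {p : ℕ} [hp : Fact p.Prime]
    (h : ∀ χ, IsIrrCharacter G χ → charDegree χ ≠ 1 → p ∣ charDegree χ) :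
    ¬ p ∣ Nat.card (pResidual p G) := by
  obtain ⟨N, _, h1, k, h2⟩ := Cfsg.Agent.S4456.result p hp.out fun χ : IrrCharacter G => h _ χ.2
  exact fun e => (Nat.Prime.coprime_iff_not_dvd hp.out).1 h1.symm
    (e.trans (Subgroup.card_dvd_of_le (H3.pResidual_le_of_index_eq_pow N h2)))

theorem deg_eq_ordCompl {p k : ℕ} (hp : p.Prime) {N : Subgroup G} [N.Normal] (hk : N.index = p ^ k)
    {θ : N → ℂ} (hθ : IsIrrCharacter N θ) (h : ¬ p ∣ charDegree θ) :
    ∃ χ, IsIrrCharacter G χ ∧ charDegree θ = ordCompl[p] (charDegree χ) ∧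
      (charKer χ).subgroupOf N ≤ charKer θ := by
  obtain ⟨χ, c, h1, h2, h3, h4⟩ := exists_deg_over hθ
  obtain ⟨j, -, rfl⟩ := (Nat.dvd_prime_pow hp).1 (hk ▸ h2)
  exact ⟨χ, h1, by rw [h3, Nat.ordCompl_pow_mul_of_not_dvd _ hp h], h4⟩

theorem comm_of_forall_deg (h : ∀ χ, IsIrrCharacter G χ → charDegree χ = 1) : commutator G = ⊥ :=
  eq_bot_of_forall_ker fun χ hχ => by_contra fun e => (not_le_ker_iff hχ).1 e (h χ hχ)

theorem deg_mul (hχ : IsCharacter G χ) (hψ : IsCharacter G ψ) :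
    charDegree (χ * ψ) = charDegree χ * charDegree ψ :=
  charDegree_of_eq (by rw [Pi.mul_apply, Nat.cast_mul, hχ.coe_charDegree, hψ.coe_charDegree])

theorem deg_conj (hχ : IsCharacter G χ) : charDegree (fun g => conj (χ g)) = charDegree χ :=
  charDegree_congr hχ.conj_apply_one

theorem Cd3.homog [Fintype G] (h : Cd3 G a b) (hc : a.Coprime b) (ha : a ≠ 1) (hψ : IsIrrCharacter G ψ)
    (hθ : IsIrrCharacter G θ) (h1 : charDegree ψ = a) (h2 : charDegree θ = b) {ξ ζ : G → ℂ}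
    (hξ : IsIrrCharacter G ξ) (hζ : IsIrrCharacter G ζ) (e1 : classInner (θ * ψ) ξ ≠ 0)
    (e2 : classInner (θ * ψ) ζ ≠ 0) (h3 : charDegree ξ = b) : charDegree ζ = b := by
  classical
  obtain ⟨m, hm, e⟩ := deg_eq_sum (hθ.isCharacter.mul hψ.isCharacter)
  rw [deg_mul hθ.isCharacter hψ.isCharacter, h1, h2,
    ← Finset.sum_filter_add_sum_filter_not _ (fun η : IrrCharacter G => charDegree η.1 = b),
    Finset.sum_congr rfl fun η hη => by rw [(Finset.mem_filter.1 hη).2], ← Finset.sum_mul] at e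
  have h4 : a ∣ ∑ η : IrrCharacter G with ¬ charDegree η.1 = b, m η * charDegree η.1 :=
    Finset.dvd_sum fun η hη => by
      by_cases h0 : m η = 0
      · simp [h0]
      rcases h _ η.2 with h5 | h5 | h5
      · have h6 := hθ.eq_of_classInner_ne_zero (isIrr_mul_linear η.2.isCharacter
          (η.2.isCharacter.charDegree_eq_one_iff.1 h5) hψ.conj) (by
            rw [← classInner_mul_left, hm]; exact_mod_cast h0)
        rw [h6, deg_mul η.2.isCharacter hψ.conj.isCharacter, h5, one_mul, deg_conj hψ.isCharacter,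
          h1] at h2
        exact absurd (Nat.Coprime.eq_one_of_dvd hc h2.dvd) ha
      · exact h5 ▸ Dvd.intro_left _ rfl
      · exact absurd h5 (Finset.mem_filter.1 hη).2
  have h5 : a ∣ ∑ η : IrrCharacter G with charDegree η.1 = b, m η :=
    hc.dvd_of_dvd_mul_right ((Nat.dvd_add_left h4).1 (e ▸ Dvd.intro_left _ rfl))
  have h6 := Nat.le_of_dvd (Finset.sum_pos' (fun _ _ => Nat.zero_le _) ⟨⟨ξ, hξ⟩,
    Finset.mem_filter.2 ⟨Finset.mem_univ _, h3⟩, Nat.pos_of_ne_zero fun h0 => e1 (by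
      simpa [h0] using hm ⟨ξ, hξ⟩)⟩) h5
  have h7 : ∑ η : IrrCharacter G with ¬ charDegree η.1 = b, m η * charDegree η.1 = 0 := by
    have := Nat.mul_le_mul_right b h6
    rw [mul_comm b] at e
    omega
  by_contra h8
  have h9 := Finset.sum_eq_zero_iff.1 h7 ⟨ζ, hζ⟩ (Finset.mem_filter.2 ⟨Finset.mem_univ _, h8⟩)
  exact e2 (by simpa [(mul_eq_zero.1 h9).resolve_right hζ.charDegree_pos.ne'] using hm ⟨ζ, hζ⟩)

theorem Cd3.not_homog [Fintype G] (h : Cd3 G a b) (hc : a.Coprime b) (ha : a ≠ 1) (hb : b ≠ 1)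
    (hψ : IsIrrCharacter G ψ) (hθ : IsIrrCharacter G θ) (h1 : charDegree ψ = a)
    (h2 : charDegree θ = b) (hz : charCenter ψ = ⊥) {ξ : G → ℂ} (hξ : IsIrrCharacter G ξ)
    (e1 : classInner (θ * ψ) ξ ≠ 0) : charDegree ξ ≠ b := fun h3 => by
  classical
  set U : Finset (IrrCharacter G) := {η | charDegree η.1 = b ∧ ∃ ξ, IsIrrCharacter G ξ ∧
    classInner (η.1 * ψ) ξ ≠ 0 ∧ charDegree ξ = b}
  have h4 := mul_sum_closed (hψ.isCharacter.mul hψ.conj.isCharacter)
    (funext fun g => by simp [mul_comm]) U fun η hη ζ e => by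
      obtain ⟨h4, ξ, h5, h6, h7⟩ := (Finset.mem_filter.1 hη).2
      rw [← mul_assoc, classInner_mul_left] at e
      simp only [Complex.conj_conj] at e
      obtain ⟨ξ', h8, h9, h10⟩ :=
        (η.2.isClassFunction.mul hψ.isClassFunction).exists_common_constituent e
      have h11 := h.homog hc ha hψ η.2 h1 h4 h5 h8 h6 h9 h7
      refine Finset.mem_filter.2 ⟨Finset.mem_univ _, h.homog hc ha hψ.conj h8
        ((deg_conj hψ.isCharacter).trans h1) h11 η.2 ζ.2 ?_ ?_ h4, ξ', h8, h10, h11⟩ <;>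
      · rw [classInner_mul_left, Ne, classInner_eq_zero_comm]
        simpa only [Complex.conj_conj]
  have h5 : ∑ g, ∑ η ∈ U, η.1 1 * η.1 g = 0 := by
    rw [Finset.sum_comm]
    refine Finset.sum_eq_zero fun η hη => ?_
    rw [← Finset.mul_sum, η.2.sum_eq_zero fun e => hb ?_, mul_zero]
    rw [← (Finset.mem_filter.1 hη).2.1, e]; exact charDegree_of_eq (by simp)
  rw [Finset.sum_eq_single 1 (fun g _ hg => by_contra fun e => hg ?_) (by simp),
    Finset.sum_congr rfl (g := fun _ => (b : ℂ) * b) fun η hη => by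
      rw [← coe_deg, (Finset.mem_filter.1 hη).2.1], Finset.sum_const, nsmul_eq_mul] at h5
  · have h6 : U.card ≠ 0 := Finset.card_ne_zero.2
      ⟨⟨θ, hθ⟩, Finset.mem_filter.2 ⟨Finset.mem_univ _, h2, ξ, hξ, e1, h3⟩⟩
    have h7 : b ≠ 0 := h2 ▸ hθ.charDegree_pos.ne'
    simp [h6, h7] at h5
  · have h6 := mul_left_cancel₀ e (h4 g)
    simp only [Pi.mul_apply, Complex.mul_conj'] at h6
    rw [← Subgroup.mem_bot, ← hz, hψ.mem_charCenter]
    exact (pow_left_inj₀ (norm_nonneg _) (norm_nonneg _) two_ne_zero).1 (by exact_mod_cast h6)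

theorem Cd3.res {p : ℕ} [hp : Fact p.Prime] (h : Cd3 G a b) (h1 : ¬ p ∣ Nat.card (pResidual p G)) :
    Cd3 (pResidual p G) (ordCompl[p] a) (ordCompl[p] b) := fun θ hθ => by
  obtain ⟨k, hk⟩ := H3.exists_index_pResidual (p := p) (G := G)
  obtain ⟨χ, h2, h3, -⟩ := deg_eq_ordCompl hp.out hk hθ fun e => h1 (e.trans hθ.charDegree_dvd_card)
  rcases h χ h2 with e | e | e <;> simp [h3, e]

theorem Cd3.thompson {p : ℕ} [hp : Fact p.Prime] (h : Cd3 G a b) (ha : p ∣ a) (hb : p ∣ b) :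
    ¬ p ∣ Nat.card (pResidual p G) := thompson_cd fun χ hχ e => by
  rcases h χ hχ with e | e | e <;> simp_all

theorem Cd3.solvable (G : Type u) [Group G] [Finite G] : ∀ a b, Cd3 G a b → Group.IsSolvable G := by
  refine H1.card_induction (P := fun G _ _ => ∀ a b, Cd3 G a b → Group.IsSolvable G) ?_ G
  intro G _ _ ih a b h
  classical
  haveI := Fintype.ofFinite G
  by_contra hs
  have h0 : (⊤ : Subgroup G) ≠ ⊥ := fun e => hs (by
    haveI := Subgroup.subsingleton_iff.1 (subsingleton_of_bot_eq_top e.symm); infer_instance)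
  obtain ⟨V, _, hV0, -, hV⟩ := H1.exists_minimal_normal_le ⊤ h0
  have hq : ∀ (N : Subgroup G) [N.Normal], N ≠ ⊥ → Group.IsSolvable (G ⧸ N) := fun N _ hN =>
    ih _ (card_quot_lt hN) a b (h.quot N)
  have hVs : ¬ Group.IsSolvable V := fun e => hs (by
    haveI := hq V hV0; exact H1.isSolvable_of_normal_of_quotient V)
  have hle : ∀ (N : Subgroup G) [N.Normal], N ≠ ⊥ → V ≤ N := fun N _ hN =>
    inf_eq_right.1 ((hV (N ⊓ V) inferInstance inf_le_right).resolve_left fun e => hVs (by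
      haveI := hq N hN; exact H1.isSolvable_of_disjoint_of_quotient e))
  have hP : ⁅V, V⁆ = V := (hV _ inferInstance (Subgroup.commutator_le_left _ _)).resolve_left
    fun e => hVs (by
      haveI := Subgroup.commutator_self_eq_bot_iff.1 e; exact H1.isSolvable_of_isMulCommutative V)
  have hf : ∀ χ, IsIrrCharacter G χ → ¬ V ≤ charKer χ → charCenter χ = ⊥ ∧ charDegree χ ≠ 1 :=
    fun χ hχ hk => by
      haveI := hχ.isCharacter.normal_charKer
      refine ⟨?_, (not_le_ker_iff hχ).1 fun e => hk (hP.ge.trans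
        ((Subgroup.commutator_mono le_top le_top).trans e))⟩
      rw [hχ.charCenter_eq_center (by_contra fun e => hk (hle _ e))]
      by_contra e
      haveI := H1.isSolvable_of_isMulCommutative (Subgroup.center G)
      exact hVs (H1.isSolvable_of_le (hle _ e))
  obtain ⟨ψ, hψ, h1⟩ : ∃ ψ, IsIrrCharacter G ψ ∧ ¬ V ≤ charKer ψ := by
    by_contra! e; exact hV0 (eq_bot_of_forall_ker e)
  obtain ⟨φ, hφ, h2⟩ := exists_irr_under (N := V) hψ
  obtain ⟨c, -, h3⟩ := deg_dvd_of_under hψ hφ h2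
  obtain ⟨p, hp, h4⟩ := Nat.exists_prime_and_dvd (n := charDegree φ) ((not_le_ker_iff hφ).1 fun e =>
    h1 (le_ker_of_constituent le_rfl hψ hφ.isCharacter h2 (le_trans (by
      rw [Subgroup.subgroupOf_self, top_le_iff, ← Subgroup.map_subtype_inj,
        Subgroup.map_subtype_commutator, hP, ← MonoidHom.range_eq_map, Subgroup.range_subtype]) e)))
  haveI := Fact.mk hp
  obtain ⟨θ, hθ, h5, h6⟩ := berkovich (p := p) (V := V) (by
    rw [← Subgroup.map_subtype_inj, ← MonoidHom.range_eq_map, Subgroup.range_subtype]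
    refine (hV _ inferInstance (Subgroup.map_subtype_le _)).resolve_left fun e => hVs ?_
    exact H1.isSolvable_of_isPGroup (H3.pResidual_eq_bot_iff.1
      ((Subgroup.map_eq_bot_iff_of_injective _ V.subtype_injective).1 e)))
    (h4.trans hφ.charDegree_dvd_card)
  have h7 : Cd3 G (charDegree ψ) (charDegree θ) := fun χ hχ => by
    have := h χ hχ
    have := h ψ hψ
    have := h θ hθ
    have := (hf ψ hψ h1).2
    have := (hf θ hθ h5).2
    have : charDegree ψ ≠ charDegree θ := fun e => h6 (e ▸ h3 ▸ h4.mul_left _)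
    omega
  by_cases hc : (charDegree ψ).Coprime (charDegree θ)
  · obtain ⟨ξ, hξ, h8⟩ := (hθ.isCharacter.mul hψ.isCharacter).exists_irr_constituent fun e =>
      mul_ne_zero hθ.apply_one_ne_zero hψ.apply_one_ne_zero (congrFun e 1)
    have h9 := h7.not_homog hc (hf ψ hψ h1).2 (hf θ hθ h5).2 hψ hθ rfl rfl (hf ψ hψ h1).1 hξ h8
    have h10 := h7.symm.not_homog hc.symm (hf θ hθ h5).2 (hf ψ hψ h1).2 hθ hψ rfl rfl
      (hf θ hθ h5).1 hξ (mul_comm θ ψ ▸ h8)
    have h11 := hθ.eq_of_classInner_ne_zero (isIrr_mul_linear hξ.isCharacter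
      (hξ.isCharacter.charDegree_eq_one_iff.1 (by have := h7 ξ hξ; omega)) hψ.conj) (by
        rwa [← classInner_mul_left])
    refine h6 ?_
    rw [h11, deg_mul hξ.isCharacter hψ.conj.isCharacter, deg_conj hψ.isCharacter, h3]
    exact (h4.mul_left _).mul_left _
  · obtain ⟨q, hq', h8, h9⟩ := Nat.Prime.not_coprime_iff_dvd.1 hc
    haveI := Fact.mk hq'
    have h10 := h7.thompson h8 h9
    haveI := ih _ (H1.card_lt_of_ne_top fun e => h10 (by
      rw [e, Subgroup.card_top]; exact h8.trans hψ.charDegree_dvd_card)) _ _ (h7.res h10)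
    haveI := H1.isSolvable_of_isPGroup (H3.isPGroup_quotient_pResidual (p := q) (G := G))
    exact hs (H1.isSolvable_of_normal_of_quotient (pResidual q G))

/-- Isaacs 12.3 for a group all of whose proper quotients are abelian. -/
theorem just_nonab [Group.IsSolvable G] (h0 : commutator G ≠ ⊥)
    (h : ∀ N : Subgroup G, N.Normal → N ≠ ⊥ → commutator G ≤ N) : ∃ p : ℕ, p.Prime ∧
      (IsPGroup p G ∨ (IsPGroup p (commutator G) ∧ IsMulCommutative (commutator G) ∧
        commutator G ≠ ⊤ ∧ ∀ d ∈ commutator G, d ≠ 1 → ∀ g, d * g = g * d → g ∈ commutator G)) := by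
  obtain ⟨D, p, hD, h1, h2, hp, hc, -, hP, -⟩ := H1.exists_normal_elementary_le _ h0
  obtain rfl : D = commutator G := le_antisymm h2 (h D hD h1)
  haveI := Fact.mk hp
  refine ⟨p, hp, ?_⟩
  have hm : ∀ x y : G, x * y * x⁻¹ * y⁻¹ ∈ commutator G := fun x y =>
    Subgroup.commutator_mem_commutator (Subgroup.mem_top x) (Subgroup.mem_top y)
  by_cases hz : commutator G ≤ Subgroup.center G
  · haveI : Group.IsNilpotent G := by
      refine Subgroup.nilpotent_iff_lowerCentralSeries.2 ⟨2, ?_⟩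
      change ⁅⁅(⊤ : Subgroup G), ⊤⁆, ⊤⁆ = ⊥
      rwa [Subgroup.commutator_eq_bot_iff_le_centralizer, Subgroup.coe_top, Subgroup.centralizer_univ]
    left
    have h3 : pPrimeCore p G = ⊥ := by_contra fun e => h0 (le_bot_iff.1 ((le_inf
      (H1.le_pCore hP) (h _ inferInstance e)).trans (H1.pCore_inf_pPrimeCore p G).le))
    rw [← H1.pCore_eq_top_iff, ← H1.nilpotent_eq_pCore_sup_pPrimeCore p, h3, sup_bot_eq]
  haveI := (Subgroup.nontrivial_iff (G := G)).1 ⟨_, _, h0⟩
  refine Or.inr ⟨hP, hc, (Group.IsSolvable.commutator_lt_top_of_nontrivial G).ne, ?_⟩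
  have h3 : ∀ g, g ∉ Subgroup.centralizer (commutator G : Set G) → ∀ d ∈ commutator G,
      d * g = g * d → d = 1 := fun g hg d hd e => by
    refine Subgroup.mem_bot.1 ((by_contra fun e2 => hg ?_ :
      commutator G ⊓ Subgroup.centralizer {g} = ⊥) ▸ ⟨hd, Subgroup.mem_centralizer_singleton_iff.2 e⟩)
    refine fun x hx => Subgroup.mem_centralizer_singleton_iff.1 (h (commutator G ⊓ Subgroup.centralizer {g})
      ⟨fun n hn y => ⟨hD.conj_mem n hn.1 y, Subgroup.mem_centralizer_singleton_iff.2 ?_⟩⟩ e2 hx).2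
    have e3 := Subgroup.mem_centralizer_singleton_iff.1 hn.2
    have e4 := setLike_mul_comm hn.1 (hm y⁻¹ g)
    calc y * n * y⁻¹ * g = y * (n * (y⁻¹ * g * y⁻¹⁻¹ * g⁻¹)) * g * y⁻¹ := by group
      _ = y * (y⁻¹ * g * y⁻¹⁻¹ * g⁻¹) * (n * g) * y⁻¹ := by rw [e4]; group
      _ = g * (y * n * y⁻¹) := by rw [e3]; group
  obtain ⟨g, hg⟩ : ∃ g, g ∉ Subgroup.centralizer (commutator G : Set G) := by
    by_contra! e
    exact hz fun x hx => Subgroup.mem_center_iff.2 fun y => (e y x hx).symm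
  have h4 : ∀ x, ∃ w ∈ commutator G, w⁻¹ * x ∈ Subgroup.centralizer {g} := fun x => by
    obtain ⟨w, hw, e⟩ := exists_conj_of_fpf _ (h3 g hg) (hm x g)
    refine ⟨w, hw, Subgroup.mem_centralizer_singleton_iff.2 ?_⟩
    calc w⁻¹ * x * g = w⁻¹ * (x * g * x⁻¹ * g⁻¹ * g) * x := by group
      _ = g * (w⁻¹ * x) := by rw [← e]; group
  have h5 : Subgroup.centralizer (commutator G : Set G) ⊓ Subgroup.centralizer {g} = ⊥ := by
    by_contra e
    refine hg fun d hd => Subgroup.mem_centralizer_singleton_iff.1 (h _ ⟨fun n hn y => ?_⟩ e hd).2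
    obtain ⟨w, hw, e2⟩ := h4 y
    have e3 := h3 g hg _ (hm (w⁻¹ * y) n) (Subgroup.mem_centralizer_singleton_iff.1
      (mul_mem (mul_mem (mul_mem e2 hn.2) (inv_mem e2)) (inv_mem hn.2)))
    have e4 : y * n * y⁻¹ = n := by
      calc y * n * y⁻¹ = w * (w⁻¹ * y * n * (w⁻¹ * y)⁻¹ * n⁻¹) * n * w⁻¹ := by group
        _ = n := by rw [e3, mul_one, hn.1 w hw, mul_inv_cancel_right]
    rwa [e4]
  intro d hd hd1 x e
  have h6 : x ∈ Subgroup.centralizer (commutator G : Set G) := by_contra fun h6 => hd1 (h3 x h6 d hd e)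
  obtain ⟨w, hw, e2⟩ := h4 x
  have h7 : w⁻¹ * x = 1 := Subgroup.mem_bot.1 (h5 ▸ ⟨(Subgroup.centralizer _).mul_mem
    ((Subgroup.centralizer _).inv_mem fun y hy => setLike_mul_comm hy hw) h6, e2⟩)
  exact (inv_mul_eq_one.1 h7) ▸ hw

theorem exists_just_nonab (h0 : commutator G ≠ ⊥) : ∃ (K : Subgroup G) (_ : K.Normal),
    commutator (G ⧸ K) ≠ ⊥ ∧ ∀ N : Subgroup (G ⧸ K), N.Normal → N ≠ ⊥ → commutator (G ⧸ K) ≤ N := by
  obtain ⟨K, ⟨_, h1⟩, h2⟩ := (Set.toFinite {K : Subgroup G | K.Normal ∧ ¬ commutator G ≤ K}).exists_maximal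
    ⟨⊥, inferInstance, fun e => h0 (le_bot_iff.1 e)⟩
  have hπ := QuotientGroup.mk'_surjective K
  have e : commutator (G ⧸ K) = (commutator G).map (QuotientGroup.mk' K) := by
    rw [commutator_def, commutator_def, Subgroup.map_commutator, Subgroup.map_top_of_surjective _ hπ]
  refine ⟨K, inferInstance, fun e2 => h1 (by rwa [e, H1.map_mk'_eq_bot_iff] at e2), fun N hN h3 => ?_⟩
  rw [e, Subgroup.map_le_iff_le_comap]
  by_contra h4
  refine h3 ?_
  rw [← Subgroup.map_comap_eq_self_of_surjective hπ N, H1.map_mk'_eq_bot_iff]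
  exact h2 ⟨hN.comap _, h4⟩ (H1.le_comap_mk' K N)

/-- Isaacs 12.4. -/
theorem frob_deg [Fintype G] {X : Type*} [Group X] {π : G →* X} (hπ : Function.Surjective π)
    {D : Subgroup X} [hD : D.Normal] (hc : IsMulCommutative D) (h0 : D ≠ ⊥)
    (hF : ∀ d ∈ D, d ≠ 1 → ∀ g, d * g = g * d → g ∈ D) {ψ : D.comap π → ℂ}
    (hψ : IsIrrCharacter _ ψ) (hr : IsIrrCharacter (π.subgroupComap D).ker fun n => ψ n) :
    ∃ τ : D → ℂ, IsIrrCharacter D τ ∧
      IsIrrCharacter _ ((fun n => τ (π.subgroupComap D n)) * ψ) ∧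
      inertia ((fun n => τ (π.subgroupComap D n)) * ψ) ≤ D.comap π := by
  classical
  haveI := Finite.of_surjective π hπ
  have hs := π.subgroupComap_surjective_of_surjective D hπ
  have hc' : ∀ x y : D, x * y = y * x := hc.is_comm.comm
  have h1 : ∀ τ : D → ℂ, IsIrrCharacter D τ → τ 1 = 1 := fun τ h => h.apply_one_of_comm hc'
  have h2 : ∀ τ : D → ℂ, IsIrrCharacter D τ →
      IsIrrCharacter _ ((fun n => τ (π.subgroupComap D n)) * ψ) := fun τ h =>
    isIrr_mul_linear (h.isCharacter.comp _) (by simp [h1 τ h]) hψ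
  by_contra! hn
  choose g hg hg' using fun τ : IrrCharacter D => SetLike.not_le_iff_exists.1 (hn _ τ.2 (h2 _ τ.2))
  have h3 : Function.Injective fun τ : IrrCharacter D =>
      (⟨(π (g τ) : X ⧸ D), fun e => hg' τ ((QuotientGroup.eq_one_iff (π (g τ))).1 e)⟩ : {x : X ⧸ D // x ≠ 1}) := by
    intro τ σ e
    have e1 : g τ ∈ inertia ((fun n => σ.1 (π.subgroupComap D n)) * ψ) := by
      have := mul_mem (hg σ) (le_inertia (h2 _ σ.2).isClassFunction (x := (g σ)⁻¹ * g τ)
        (by simpa using QuotientGroup.eq.1 (congrArg Subtype.val e).symm))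
      rwa [mul_inv_cancel_left] at this
    have hu : ∀ d, τ.1 d * conj (τ.1 d) = 1 := fun d => by
      rw [← τ.2.apply_inv, ← τ.2.isCharacter.map_mul_of_apply_one (h1 _ τ.2), mul_inv_cancel, h1 _ τ.2]
    have hδ := isIrr_mul_linear σ.2.isCharacter (h1 _ σ.2) τ.2.conj
    have e2 : (fun n => σ.1 (π.subgroupComap D n)) * ψ = (fun n => (σ.1 * fun d => conj (τ.1 d))
        (π.subgroupComap D n)) * ((fun n => τ.1 (π.subgroupComap D n)) * ψ) := funext fun n => by
      simp only [Pi.mul_apply]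
      linear_combination (-σ.1 (π.subgroupComap D n) * ψ n) * hu (π.subgroupComap D n)
    rw [mem_inertia, e2, cj_mul', hg τ] at e1
    have e3 := gallagher_inj (N := (π.subgroupComap D).ker) (h2 _ τ.2).isCharacter (by
      convert hr using 2 with n
      simp [show π.subgroupComap D n = 1 from n.2, h1 _ τ.2])
      (isIrr_cj (hδ.comp_surjective _ hs) (g τ)) (fun n => by
        rw [cj_apply_one, cj_apply, map_one]
        refine congrArg _ (Subtype.ext ?_)
        change π (g τ * n * (g τ)⁻¹) = 1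
        simp [show π n = 1 from congrArg Subtype.val n.2])
      (hδ.comp_surjective _ hs) (fun n => by rw [n.2, map_one]) e1
    have e4 : (σ.1 * fun d => conj (τ.1 d)) = fun _ => 1 := by_contra fun e4 =>
      hg' τ (inertia_le_of_fpf D hF hδ e4 (funext fun d => by
        obtain ⟨n, rfl⟩ := hs d
        refine Eq.trans ?_ (congrFun e3 n)
        rw [cj_apply, cj_apply]
        refine congrArg _ (Subtype.ext ?_)
        change π (g τ) * π n * (π (g τ))⁻¹ = π (g τ * n * (g τ)⁻¹)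
        simp))
    refine Subtype.ext (funext fun d => ?_)
    have e5 : σ.1 d * conj (τ.1 d) = 1 := congrFun e4 d
    linear_combination σ.1 d * hu d - τ.1 d * e5
  have h4 := Nat.card_le_card_of_injective _ h3
  obtain ⟨d, hd, hd1⟩ := D.bot_or_exists_ne_one.resolve_left h0
  have h5 : Subgroup.centralizer {d} = D := le_antisymm
    (fun x hx => hF d hd hd1 x (Subgroup.mem_centralizer_singleton_iff.1 hx).symm)
    fun x hx => Subgroup.mem_centralizer_singleton_iff.2 (setLike_mul_comm hx hd)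
  have h6 := Nat.card_le_card_of_injective (fun x : {x // IsConj d x} => (⟨x.1, by
    obtain ⟨c, e⟩ := isConj_iff.1 x.2
    exact e ▸ hD.conj_mem d hd c⟩ : D)) fun x y e => Subtype.ext (congrArg (fun z : D => z.1) e)
  rw [card_isConj, h5, D.index_eq_card] at h6
  rw [card_irr_of_comm hc'] at h4
  exact (Finite.card_subtype_lt (p := fun x : X ⧸ D => x ≠ 1) (x := 1) (by simp)).not_ge (h6.trans h4)

theorem frob_cd {X : Type*} [Group X] {π : G →* X} (hπ : Function.Surjective π) {p : ℕ}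
    [hp : Fact p.Prime] {D : Subgroup X} [hD : D.Normal] (hc : IsMulCommutative D) (h0 : D ≠ ⊥)
    (hP : IsPGroup p D) (hF : ∀ d ∈ D, d ≠ 1 → ∀ g, d * g = g * d → g ∈ D) {ψ : D.comap π → ℂ}
    (hψ : IsIrrCharacter _ ψ) (hd : ¬ p ∣ charDegree ψ) :
    ∃ χ, IsIrrCharacter G χ ∧ charDegree χ = D.index * charDegree ψ := by
  haveI := Fintype.ofFinite G
  haveI := Finite.of_surjective π hπ
  obtain ⟨k, hk⟩ := hP.exists_card_eq
  obtain ⟨τ, h1, h2, h3⟩ := frob_deg hπ hc h0 hF hψ (res_irr_of_not_dvd (a := k) (by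
    rw [Subgroup.index_ker, MonoidHom.range_eq_top.2 (π.subgroupComap_surjective_of_surjective D hπ),
      Subgroup.card_top, hk]) hψ hd)
  refine ⟨_, isIrr_ind_of_inertia_le h2 h3, ?_⟩
  rw [deg_ind h2.isCharacter, D.index_comap_of_surjective hπ]
  exact congrArg _ (charDegree_congr (by simp [h1.apply_one_of_comm hc.is_comm.comm]))

theorem frob_not_dvd {p : ℕ} [hp : Fact p.Prime] {D : Subgroup G} [hD : D.Normal] (h0 : D ≠ ⊥)
    (hP : IsPGroup p D) (hF : ∀ d ∈ D, d ≠ 1 → ∀ g, d * g = g * d → g ∈ D) : ¬ p ∣ D.index := by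
  intro e
  obtain ⟨S⟩ : Nonempty (Sylow p G) := inferInstance
  have h1 : D ≤ S := (H1.le_pCore hP).trans (H1.pCore_le_sylow S)
  obtain ⟨d, ⟨h2, h3⟩, h4⟩ := (D ⊓ Subgroup.centralizer (S : Set G)).bot_or_exists_ne_one.resolve_left
    (H1.inf_centralizer_ne_bot_of_isPGroup S.isPGroup' hP (by simp [Subgroup.normalizer_eq_top]) h0)
  exact S.not_dvd_index (le_antisymm h1 (fun s hs => hF d h2 h4 s (h3 s hs).symm) ▸ e)

end H8
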