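import Cfsg.Agent.H8.Cd2
import Cfsg.Agent.H1.SchurZassenhaus
import Cfsg.Agent.H1.Coprime

/-! Groups with two or three character degrees (Isaacs 12.5, 12.6, 12.15): `cd2_struct`,
`Cd3.der2`, `Cd3.der3`; abelian-by-nilpotent groups are M-groups (`monomial_of_nilMod`). -/

open H5 H6 Cfsg
open scoped ComplexConjugate commutatorElement

namespace H8
universe u
variable {G : Type*} [Group G] {χ ψ θ : G → ℂ} {a b m : ℕ}

/-- `G` is nilpotent modulo (the core of) `A`. -/
def NilMod (A : Subgroup G) : Prop := ∃ n, (⊤ : Subgroup G).lowerCentralSeries n ≤ A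

theorem nilMod_iff {A : Subgroup G} [A.Normal] : NilMod A ↔ Group.IsNilpotent (G ⧸ A) := by
  rw [Subgroup.nilpotent_iff_lowerCentralSeries]
  refine exists_congr fun n => ?_
  rw [← H1.map_mk'_eq_bot_iff, Subgroup.map_lowerCentralSeries,
    Subgroup.map_top_of_surjective _ (QuotientGroup.mk'_surjective A)]

theorem NilMod.mono {A B : Subgroup G} (h : NilMod A) (hle : A ≤ B) : NilMod B :=
  h.imp fun _ e => e.trans hle

theorem NilMod.inf {A B : Subgroup G} (h : NilMod A) (h' : NilMod B) : NilMod (A ⊓ B) := by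
  obtain ⟨n, hn⟩ := h
  obtain ⟨k, hk⟩ := h'
  exact ⟨max n k, le_inf ((Subgroup.lowerCentralSeries_antitone _ (le_max_left _ _)).trans hn)
    ((Subgroup.lowerCentralSeries_antitone _ (le_max_right _ _)).trans hk)⟩

theorem NilMod.subgroupOf {A : Subgroup G} (h : NilMod A) (U : Subgroup G) :
    NilMod (A.subgroupOf U) := h.imp fun n e => by
  rw [Subgroup.subgroupOf, ← Subgroup.map_le_iff_le_comap, Subgroup.map_lowerCentralSeries]
  exact (Subgroup.lowerCentralSeries_mono n le_top).trans e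

theorem NilMod.le_of {A B : Subgroup G} [A.Normal] (h : NilMod A) (hB : B ≤ A ⊔ ⁅B, ⊤⁆) : B ≤ A := by
  obtain ⟨n, hn⟩ := Subgroup.nilpotent_iff_lowerCentralSeries.1 (nilMod_iff.1 h)
  have h1 := Subgroup.map_mono (f := QuotientGroup.mk' A) hB
  rw [Subgroup.map_sup, (H1.map_mk'_eq_bot_iff A A).2 le_rfl, bot_sup_eq, Subgroup.map_commutator] at h1
  rw [← H1.map_mk'_eq_bot_iff, ← le_bot_iff, ← hn]
  clear hn
  induction n with
  | zero => exact le_top
  | succ n ih => exact h1.trans (Subgroup.commutator_mono ih le_top)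

variable [Finite G]

theorem nilMod_pResidual (p : ℕ) [Fact p.Prime] : NilMod (pResidual p G) :=
  nilMod_iff.2 H3.isPGroup_quotient_pResidual.isNilpotent

theorem qp_one_of_nilMod (hq : QP χ) (hχ : IsIrrCharacter G χ) (h : NilMod (charCenter χ)) :
    χ 1 = 1 := by
  refine apply_one_of_charCenter_eq_top hχ ?_
  have := hχ.isCharacter.normal_charCenter
  haveI := nilMod_iff.1 h
  by_contra hne
  have : Nontrivial (G ⧸ charCenter χ) := QuotientGroup.nontrivial_iff.mpr hne
  obtain ⟨x, hx, hx1⟩ := (Subgroup.center (G ⧸ charCenter χ)).bot_or_exists_ne_one.resolve_left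
    (Group.IsNilpotent.center_ne_bot _)
  obtain ⟨x, rfl⟩ := QuotientGroup.mk_surjective x
  have hN : (charCenter χ ⊔ Subgroup.zpowers x).Normal := by
    have : charCenter χ ⊔ Subgroup.zpowers x =
        (Subgroup.zpowers (x : G ⧸ charCenter χ)).comap (QuotientGroup.mk' _) := by
      rw [← QuotientGroup.mk'_apply, ← MonoidHom.map_zpowers, Subgroup.comap_map_eq,
        QuotientGroup.ker_mk', sup_comm]
    rw [this]
    have : (Subgroup.zpowers (x : G ⧸ charCenter χ)).Normal :=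
      ⟨fun y hy g => by
        rw [Subgroup.mem_center_iff.mp (Subgroup.zpowers_le.mpr hx hy) g]; simpa using hy⟩
    infer_instance
  have h := hq.le_charCenter hχ _ (commutator_sup_le_charKer hχ le_rfl (B := Subgroup.zpowers x)
    (by rw [Subgroup.commutator_self_eq_bot_iff.mpr inferInstance]; exact bot_le))
  exact hx1 ((QuotientGroup.eq_one_iff x).mpr (h (Subgroup.mem_sup_right (Subgroup.mem_zpowers x))))

omit [Finite G] in
theorem comm_subgroupOf_le (A B U : Subgroup G) :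
    ⁅A.subgroupOf U, B.subgroupOf U⁆ ≤ ⁅A, B⁆.subgroupOf U := by
  rw [Subgroup.commutator_le]
  exact fun x hx y hy => Subgroup.commutator_mem_commutator (H₁ := A) (H₂ := B) hx hy

theorem monomial_of_nilMod [Fintype G] {A : Subgroup G} [A.Normal] (hA : ⁅A, A⁆ = ⊥) (h : NilMod A)
    (hχ : IsIrrCharacter G χ) :
    ∃ (H : Subgroup G) (lam : H →* ℂˣ), χ = indFun H fun h => (lam h : ℂ) := by
  obtain ⟨U, ψ, hψ, hq, rfl⟩ := exists_qp_ind G hχ
  obtain ⟨lam, rfl⟩ := hψ.isCharacter.exists_hom_of_apply_one (qp_one_of_nilMod hq hψ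
    ((h.subgroupOf U).mono (hq.le_charCenter hψ _ ((comm_subgroupOf_le A A U).trans (by simp [hA])))))
  exact ⟨U, lam, rfl⟩

theorem deg_le_index_of_comm (hχ : IsIrrCharacter G χ) {U : Subgroup G} (h : ⁅U, U⁆ ≤ charKer χ) :
    charDegree χ ≤ U.index := by
  haveI := Fintype.ofFinite G
  haveI := Fintype.ofFinite U
  obtain ⟨θ, hθ, hne⟩ := exists_irr_under (N := U) hχ
  have h1 := (isCharacter_ind U hθ.isCharacter).charDegree_le_of_constituent hχ (by
    rwa [inner_ind_left _ _ hχ.isClassFunction, Ne, classInner_eq_zero_comm])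
  rwa [deg_ind hθ.isCharacter, not_not.1 (mt (not_le_ker_iff hθ).2 (not_not.2 (le_trans ?_
    (ker_le_of_constituent hχ.isCharacter hθ hne)))), mul_one] at h1
  rw [Subgroup.subgroupOf, ← Subgroup.map_le_iff_le_comap, Subgroup.map_subtype_commutator]
  exact h

theorem deg_over_ext {N : Subgroup G} [N.Normal] {θ : N → ℂ} (hθ : IsIrrCharacter N θ)
    {η β : inertia θ → ℂ} (hη : IsIrrCharacter _ η)
    (he : ∀ n : N.subgroupOf (inertia θ), η n = sOf θ _ n) (hβ : IsIrrCharacter _ β)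
    (hk : N.subgroupOf (inertia θ) ≤ charKer β) : ∃ χ, IsIrrCharacter G χ ∧
      charDegree χ = (inertia θ).index * (charDegree β * charDegree θ) ∧
      (charKer χ).subgroupOf N ≤ charKer θ := by
  classical
  haveI := Fintype.ofFinite G
  have hNT := le_inertia hθ.isClassFunction
  have h1 := gallagher_irr (N := N.subgroupOf (inertia θ)) hη.isCharacter
    (by rw [funext he]; exact isIrr_sOf hNT hθ) hβ fun n => apply_eq_of_mem_charKer (hk n.2)
  have h2 : classInner (fun n : N => (β * η) ⟨n, hNT n.2⟩) θ ≠ 0 := by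
    rw [show (fun n : N => (β * η) ⟨n, hNT n.2⟩) = β 1 • θ from funext fun n =>
      congrArg₂ (· * ·) (apply_eq_of_mem_charKer (hk n.2)) (he ⟨⟨n, hNT n.2⟩, n.2⟩),
      classInner_smul_left, hθ.classInner_self, mul_one]
    exact hβ.apply_one_ne_zero
  obtain ⟨h3, h4⟩ := corr_irr hθ le_rfl hNT h1 h2
  refine ⟨_, h3, ?_, ker_le_of_constituent h3.isCharacter hθ (h4 ▸ h2)⟩
  rw [deg_ind h1.isCharacter, deg_mul hβ.isCharacter hη.isCharacter,
    charDegree_congr (χ := η) (ψ := θ) (he 1)]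

theorem exists_ext_inertia {N : Subgroup G} [N.Normal] (hc : (Nat.card N).Coprime N.index)
    {θ : N → ℂ} (hθ : IsIrrCharacter N θ) : ∃ η : inertia θ → ℂ, IsIrrCharacter _ η ∧
      ∀ n : N.subgroupOf (inertia θ), η n = sOf θ _ n := by
  have hNT := le_inertia hθ.isClassFunction
  refine ext_of_coprime_card (isIrr_sOf hNT hθ) (fun g => by rw [cj_sOf, g.2]) ?_
  rw [H1.card_subgroupOf_of_le hNT]
  exact hc.coprime_dvd_right (Subgroup.relIndex_dvd_index_of_le hNT)

theorem Cd3.inertia (h : Cd3 G m m) {N : Subgroup G} [N.Normal] (hc : (Nat.card N).Coprime N.index)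
    {θ : N → ℂ} (hθ : IsIrrCharacter N θ) (h1 : charDegree θ = 1) (hT : inertia θ ≠ ⊤) :
    (inertia θ).index = m ∧ ⁅inertia θ, inertia θ⁆ ≤ N := by
  obtain ⟨η, h2, h3⟩ := exists_ext_inertia hc hθ
  have h4 : ∀ β : H6.inertia θ → ℂ, IsIrrCharacter _ β → N.subgroupOf _ ≤ charKer β →
      (H6.inertia θ).index * charDegree β = m := fun β hβ hk => by
    obtain ⟨χ, h5, h6, -⟩ := deg_over_ext hθ h2 h3 hβ hk
    rw [h1, mul_one] at h6
    rcases h χ h5 with e | e | e
    · exact absurd (Subgroup.index_eq_one.1 (Nat.eq_one_of_mul_eq_one_right (h6 ▸ e))) hT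
    all_goals exact h6 ▸ e
  have h5 := h4 _ isIrrCharacter_one (le_top.trans charKer_one.ge)
  rw [charDegree_of_eq (n := 1) (by simp), mul_one] at h5
  refine ⟨h5, ?_⟩
  rw [← Subgroup.map_subtype_commutator, Subgroup.map_le_iff_le_comap]
  refine le_of_forall_ker (K := N.subgroupOf _) fun β hβ hk => by_contra fun e =>
    (not_le_ker_iff hβ).1 e (Nat.eq_of_mul_eq_mul_left (Nat.pos_of_ne_zero
      (H6.inertia θ).index_ne_zero_of_finite) ((h4 β hβ hk).trans (h5.symm.trans (mul_one _).symm)))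

omit [Finite G] in
theorem comm_le_ker_of_inertia {A : Subgroup G} [hA : A.Normal] (lam : A →* ℂˣ) {T : Subgroup G}
    (hT : T ≤ inertia fun a => (lam a : ℂ)) : ⁅A, T⁆ ≤ lam.ker.map A.subtype := by
  rw [Subgroup.commutator_le]
  intro x hx t ht
  refine ⟨⟨x, hx⟩ * ⟨t * x⁻¹ * t⁻¹, hA.conj_mem _ (inv_mem hx) t⟩, ?_, by simp [commutatorElement_def, mul_assoc]⟩
  have := Units.ext (mem_inertia'.1 (hT ht) ⟨x⁻¹, inv_mem hx⟩)
  rw [SetLike.mem_coe, MonoidHom.mem_ker, map_mul, this, ← map_mul]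
  exact (congrArg lam (Subtype.ext (mul_inv_cancel x))).trans (map_one lam)

/-- Isaacs 12.5. -/
theorem cd2_struct (h : Cd3 G m m) (h0 : commutator G ≠ ⊥) :
    (∃ A : Subgroup G, A.Normal ∧ IsMulCommutative A ∧ A.index = m ∧ commutator G ≤ A) ∨
    ∃ p e : ℕ, p.Prime ∧ m = p ^ e ∧ ∃ P : Sylow p G, (P : Subgroup G).Normal ∧
      pResidual p G ≤ Subgroup.center G ∧ ¬ p ∣ Nat.card (pResidual p G) := by
  classical
  haveI := Fintype.ofFinite G
  have hm : ∀ χ, IsIrrCharacter G χ → ¬ commutator G ≤ charKer χ → charDegree χ = m :=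
    fun χ hχ e => by have := h χ hχ; have := (not_le_ker_iff hχ).1 e; omega
  have hm0 : m ≠ 0 := fun e => h0 (eq_bot_of_forall_ker fun χ hχ => by_contra fun e2 =>
    hχ.charDegree_pos.ne' ((hm χ hχ e2).trans e))
  set A : Subgroup G := ⨅ p ∈ m.primeFactors, pResidual p G
  haveI : A.Normal := Subgroup.normal_iInf_normal fun p => Subgroup.normal_iInf_normal fun _ => inferInstance
  have hA : ∀ p, p.Prime → p ∣ m → A ≤ pResidual p G := fun p hp e =>
    iInf₂_le p (Nat.mem_primeFactors.2 ⟨hp, e, hm0⟩)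
  have h1 : (Nat.card A).Coprime m := Nat.coprime_of_dvd fun p hp e1 e2 => by
    haveI := Fact.mk hp
    exact h.thompson e2 e2 (e1.trans (Subgroup.card_dvd_of_le (hA p hp e2)))
  have hc : (Nat.card A).Coprime A.index := Nat.coprime_of_dvd fun q hq e1 e2 => by
    haveI := Fact.mk hq
    obtain ⟨Q⟩ : Nonempty (Sylow q G) := inferInstance
    refine Q.not_dvd_index (e2.trans (Subgroup.index_dvd_of_le (le_iInf₂ fun p hp x hx => ?_)))
    obtain ⟨k, hk⟩ := IsPGroup.iff_orderOf.1 Q.isPGroup' ⟨x, hx⟩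
    rw [← Subgroup.orderOf_coe] at hk
    exact H3.mem_pResidual_of_coprime (hk ▸ ((h1.coprime_dvd_left e1).coprime_dvd_right
      (Nat.dvd_of_mem_primeFactors hp)).pow_left k)
  have h2 : ∀ θ : A → ℂ, IsIrrCharacter A θ → charDegree θ = 1 := fun θ hθ => by
    obtain ⟨χ, c, h3, -, h4, -⟩ := exists_deg_over hθ
    refine Nat.eq_one_of_dvd_coprimes h1 hθ.charDegree_dvd_card ?_
    have : charDegree θ ∣ charDegree χ := h4 ▸ Dvd.intro_left _ rfl
    rcases h χ h3 with e | e | e <;> rw [e] at this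
    exacts [this.trans (one_dvd _), this, this]
  haveI hAc : IsMulCommutative A := Subgroup.commutator_self_eq_bot_iff.1 (by
    rw [← Subgroup.map_subtype_commutator, comm_of_forall_deg h2, Subgroup.map_bot])
  have hn : NilMod A := by
    have : ∀ s : Finset ℕ, (∀ p ∈ s, p.Prime) → NilMod (⨅ p ∈ s, pResidual p G) := fun s => by
      induction s using Finset.induction_on with
      | empty => exact fun _ => ⟨0, by simp⟩
      | insert p s _ ih =>
        intro hs
        haveI := Fact.mk (hs p (Finset.mem_insert_self _ _))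
        rw [Finset.iInf_insert]
        exact (nilMod_pResidual p).inf (ih fun q hq => hs q (Finset.mem_insert_of_mem hq))
    exact this _ fun p hp => Nat.prime_of_mem_primeFactors hp
  have hT : ∀ T : Subgroup G, A ≤ T → ⁅T, T⁆ ≤ A → ∃ S, S ≤ T ∧ A ⊔ S = T ∧ IsMulCommutative S ∧
      (Nat.card S).Coprime (Nat.card A) := fun T e1 e2 => by
    have e3 := hc.coprime_dvd_right (Subgroup.relIndex_dvd_index_of_le e1)
    obtain ⟨S, e4, e5, e6, e7⟩ := H1.exists_complement_le (N := A) (L := T)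
      (by simp [Subgroup.normalizer_eq_top]) (by rwa [inf_eq_left.2 e1])
    exact ⟨S, e4, inf_eq_left.2 e1 ▸ e6, Subgroup.commutator_self_eq_bot_iff.1 (le_bot_iff.1 (e5 ▸ le_inf
      ((Subgroup.commutator_mono e4 e4).trans e2) (H1.commutator_le_of_le_normalizer
        Subgroup.le_normalizer))), e7 ▸ e3.symm⟩
  have hT2 : ∀ S : Subgroup G, IsMulCommutative S → S ≤ Subgroup.centralizer (A : Set G) →
      IsMulCommutative (A ⊔ S : Subgroup G) := fun S e1 e2 => by
    rw [← Subgroup.le_centralizer_iff_isMulCommutative]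
    refine sup_le ?_ ?_ <;> rw [Subgroup.le_centralizer_iff]
    · exact sup_le A.le_centralizer e2
    · exact sup_le (Subgroup.le_centralizer_iff.1 e2) S.le_centralizer
  by_cases hi : ∀ θ : A → ℂ, IsIrrCharacter A θ → ⊤ ≤ inertia θ
  · have h3 := le_centralizer_of_inertia hAc hi
    obtain ⟨p, hp, h4⟩ : ∃ p ∈ m.primeFactors, ¬ commutator G ≤ pResidual p G := by
      by_contra! e
      obtain ⟨S, -, e1, e2, -⟩ := hT ⊤ le_top (le_iInf₂ e)
      exact h0 (Subgroup.commutator_self_eq_bot_iff.2 (e1 ▸ hT2 S e2 (le_top.trans h3)))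
    haveI := Fact.mk (Nat.prime_of_mem_primeFactors hp)
    obtain ⟨χ, h5, h6, h7⟩ : ∃ χ, IsIrrCharacter G χ ∧ pResidual p G ≤ charKer χ ∧
        ¬ commutator G ≤ charKer χ := by
      by_contra! e; exact h4 (le_of_forall_ker e)
    obtain ⟨k, hk⟩ := H3.exists_index_pResidual (p := p) (G := G)
    obtain ⟨e, -, he⟩ := (Nat.dvd_prime_pow Fact.out).1
      (hk ▸ (deg_dvd_index_ker h5).trans (Subgroup.index_dvd_of_le h6))
    rw [hm χ h5 h7] at he
    have h8 : pResidual p G ≤ Subgroup.center G := fun x hx => Subgroup.mem_center_iff.2 fun y =>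
      (h3 (Subgroup.mem_top y) x ((le_iInf₂ fun q hq => by
        rw [(Nat.prime_dvd_prime_iff_eq (Nat.prime_of_mem_primeFactors hq) Fact.out).1
          ((Nat.prime_of_mem_primeFactors hq).dvd_of_dvd_pow (he ▸ Nat.dvd_of_mem_primeFactors hq))] :
          pResidual p G ≤ A) hx)).symm
    obtain ⟨P⟩ : Nonempty (Sylow p G) := inferInstance
    refine Or.inr ⟨p, e, Fact.out, he, P, ?_, h8, h.thompson (Nat.dvd_of_mem_primeFactors hp)
      (Nat.dvd_of_mem_primeFactors hp)⟩
    rw [← Subgroup.normalizer_eq_top_iff, ← top_le_iff, ← H3.pResidual_sup_sylow P]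
    exact sup_le (h8.trans (Subgroup.center_le_normalizer _)) Subgroup.le_normalizer
  push Not at hi
  obtain ⟨θ, hθ, hi⟩ := hi
  rw [top_le_iff] at hi
  obtain ⟨lam, rfl⟩ := hθ.exists_hom_of_comm hAc.is_comm.comm
  obtain ⟨h3, h4⟩ := h.inertia hc hθ (h2 _ hθ) hi
  have hAT := le_inertia hθ.isClassFunction
  have hb := comm_le_ker_of_inertia lam le_rfl
  have hl : ∀ g, cj (fun a => (lam a : ℂ)) g = (fun a => (lam a : ℂ)) → g ∈ inertia _ := fun _ e => e
  generalize inertia (fun a => (lam a : ℂ)) = T at *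
  have h5 : commutator G ≤ T := by
    by_cases e : commutator G ≤ A
    · exact e.trans hAT
    obtain ⟨χ, e1, e2, e3⟩ : ∃ χ, IsIrrCharacter G χ ∧ A ⊔ ⁅commutator G, ⊤⁆ ≤ charKer χ ∧
        ¬ commutator G ≤ charKer χ := by
      by_contra! e2; exact e (hn.le_of (le_of_forall_ker e2))
    have e4 := deg_le_index_of_comm e1 (commutator_sup_le_charKer e1 (Z := commutator G)
      (fun x hx => e1.mem_charCenter_iff_commutator.2 fun y => e2 (Subgroup.mem_sup_right
        (Subgroup.commutator_mem_commutator hx (Subgroup.mem_top y)))) (h4.trans (le_sup_left.trans e2)))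
    rw [hm χ e1 e3, ← h3] at e4
    by_contra e5
    exact (Subgroup.index_strictAnti (lt_of_le_of_ne le_sup_right fun e6 => e5 (le_sup_left.trans e6.ge))).not_ge e4
  haveI : T.Normal := ⟨fun n hn g => by
    simpa [commutatorElement_def] using mul_mem (h5 (Subgroup.commutator_mem_commutator (Subgroup.mem_top g)
      (Subgroup.mem_top n))) hn⟩
  obtain ⟨S, e1, e2, e3, e4⟩ := hT T hAT h4
  refine Or.inl ⟨T, inferInstance, e2 ▸ hT2 S e3 ?_, h3, h5⟩
  have e5 : S ≤ Subgroup.normalizer (A : Set G) := by simp [Subgroup.normalizer_eq_top]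
  have e6 : A ⊓ Subgroup.centralizer (S : Set G) = A ⊓ Subgroup.centralizer (T : Set G) := by
    refine le_antisymm (le_inf inf_le_left ?_) (inf_le_inf_left _ (Subgroup.centralizer_le e1))
    rw [Subgroup.le_centralizer_iff, ← e2]
    exact sup_le (A.le_centralizer.trans (Subgroup.centralizer_le inf_le_left))
      (Subgroup.le_centralizer_iff.1 inf_le_right)
  have e7 := H1.inf_centralizer_sup_commutator_eq e5 e4
  rw [Subgroup.le_centralizer_iff, ← inf_eq_left, e6]
  rw [e6] at e7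
  by_contra e8
  obtain ⟨x, hx, hx'⟩ : ∃ x ∈ ⁅A, S⁆, x ∉ A ⊓ Subgroup.centralizer (T : Set G) := by
    by_contra! e; exact e8 ((sup_eq_left.2 e).symm.trans e7)
  obtain ⟨mu, e9, e10⟩ := exists_lin_ne_one (G := A)
    (N := (A ⊓ Subgroup.centralizer (T : Set G)).subgroupOf A)
    (by rw [comm_of_forall_deg h2]; exact bot_le) (g := ⟨x, Subgroup.commutator_le_left _ _ hx⟩) hx'
  have e11 : ∀ (nu : A →* ℂˣ), ⁅A, T⁆ ≤ nu.ker.map A.subtype → ∀ y : A, y.1 ∈ ⁅A, T⁆ → nu y = 1 :=
    fun nu e y hy => by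
      obtain ⟨z, hz, e'⟩ := e hy
      exact (Subtype.ext e' : z = y) ▸ hz
  have e12 : inertia (fun a => ((lam * mu) a : ℂ)) ≤ T := fun g hg => hl g (funext fun y => by
    obtain ⟨c, hc', d, hd, e⟩ := (Subgroup.mem_sup_of_normal_left ..).1 (e7.ge y.2)
    have hd' := Subgroup.commutator_mono le_rfl e1 hd
    have hdA := Subgroup.commutator_le_left _ _ hd
    obtain rfl : y = ⟨c, hc'.1⟩ * ⟨d, hdA⟩ := Subtype.ext e.symm
    have f1 := mem_inertia'.1 hg ⟨c, hc'.1⟩
    simp only [MonoidHom.mul_apply] at f1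
    rw [e9 _ (Subgroup.Normal.conj_mem inferInstance c hc' g), e9 ⟨c, hc'.1⟩ hc', mul_one, mul_one] at f1
    rw [cj_eq_comp]
    simp only [map_mul]
    rw [e11 lam hb ⟨d, hdA⟩ hd', e11 lam hb (MulAut.conjNormal g ⟨d, hdA⟩)
      (Subgroup.Normal.conj_mem inferInstance d hd' g)]
    rw [mul_one, mul_one]
    exact f1)
  obtain ⟨e13, -⟩ := h.inertia hc (isIrrCharacter_hom (lam * mu)) (h2 _ (isIrrCharacter_hom _))
    fun e => hi (top_le_iff.1 (e ▸ e12))
  have e14 := e11 _ (comm_le_ker_of_inertia (lam * mu) (Subgroup.eq_of_le_of_card_ge e12 (by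
    have := T.card_mul_index
    rw [← (inertia fun a => ((lam * mu) a : ℂ)).card_mul_index, h3, e13] at this
    exact (Nat.eq_of_mul_eq_mul_right (Nat.pos_of_ne_zero hm0) this).le)).ge)
    ⟨x, Subgroup.commutator_le_left _ _ hx⟩ (Subgroup.commutator_mono le_rfl e1 hx)
  rw [MonoidHom.mul_apply, e11 lam hb _ (Subgroup.commutator_mono le_rfl e1 hx), one_mul] at e14
  exact e10 e14

/-- Isaacs 12.6. -/
theorem Cd3.der2 (h : Cd3 G m m) : ⁅commutator G, commutator G⁆ = ⊥ := by
  haveI := Cd3.solvable G m m h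
  exact comm_of_rel G _ m inferInstance fun χ hχ e => by
    have := h χ hχ; have := (not_le_ker_iff hχ).1 e; omega

omit [Finite G] in
theorem commutator_le_comap {X : Type*} [Group X] (π : G →* X) :
    commutator G ≤ (commutator X).comap π := by
  rw [← Subgroup.map_le_iff_le_comap, commutator_def, Subgroup.map_commutator]
  exact Subgroup.commutator_mono le_top le_top

theorem der2_sub {N : Subgroup G} (h : Cd3 N m m) : ⁅⁅N, N⁆, ⁅N, N⁆⁆ = ⊥ := by
  rw [← N.map_subtype_commutator, ← Subgroup.map_commutator, h.der2, Subgroup.map_bot]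

theorem exists_deg_top {K : Subgroup G} [K.Normal] (h : commutator (G ⧸ K) ≠ ⊥) :
    ∃ χ, IsIrrCharacter G χ ∧ K ≤ charKer χ ∧ charDegree χ ≠ 1 := by
  by_contra! e
  exact h (comm_of_forall_deg fun χ hχ => by
    rw [← charDegree_inflate]; exact e _ hχ.inflate (le_charKer_inflate _))

theorem mul_irr_of_not_dvd {p k : ℕ} [Fact p.Prime] {K : Subgroup G} [K.Normal] (hK : K.index = p ^ k)
    (hθ : IsIrrCharacter G θ) (hd : ¬ p ∣ charDegree θ) (hχ : IsIrrCharacter G χ)
    (h : K ≤ charKer χ) : IsIrrCharacter G (χ * θ) := by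
  haveI := Fintype.ofFinite G
  exact gallagher_irr hθ.isCharacter (res_irr_of_not_dvd hK hθ hd) hχ
    fun n => apply_eq_of_mem_charKer (h n.2)

theorem Cd3.der3_aux (h : Cd3 G a b) {K : Subgroup G} [K.Normal] {p : ℕ} [hp : Fact p.Prime]
    (hK : IsPGroup p (G ⧸ K)) (hχ : IsIrrCharacter G χ) (h1 : K ≤ charKer χ) (h2 : charDegree χ = a)
    (ha : a ≠ 1) : ⁅⁅commutator G, commutator G⁆, ⁅commutator G, commutator G⁆⁆ = ⊥ := by
  classical
  haveI := Fintype.ofFinite G
  haveI := Cd3.solvable G a b h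
  obtain ⟨k, hk⟩ := hK.exists_card_eq
  rw [← K.index_eq_card] at hk
  obtain ⟨e, -, he⟩ := (Nat.dvd_prime_pow hp.out).1
    (hk ▸ (deg_dvd_index_ker hχ).trans (Subgroup.index_dvd_of_le h1))
  rw [h2] at he
  have hpa : p ∣ a := he ▸ dvd_pow_self p fun e0 => ha (by rw [he, e0, pow_zero])
  by_cases hb : p ∣ b
  swap
  · rw [Cd3.der2 (m := a) fun θ hθ => by_contra fun e1 => ?_, Subgroup.commutator_bot_left]
    have e2 : charDegree θ = b := by have := h θ hθ; omega
    have e3 := h _ (mul_irr_of_not_dvd hk hθ (e2 ▸ hb) hχ h1)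
    rw [deg_mul hχ.isCharacter hθ.isCharacter, h2, e2] at e3
    rcases e3 with e3 | e3 | e3
    · exact ha (Nat.eq_one_of_mul_eq_one_right e3)
    · exact e1 (Or.inl (e2.trans (Nat.eq_of_mul_eq_mul_left (h2 ▸ hχ.charDegree_pos)
        (e3.trans (mul_one _).symm))))
    · exact hb (e3 ▸ hpa.mul_right _)
  have hL := h.thompson hpa hb
  obtain ⟨j, hj⟩ := H3.exists_index_pResidual (p := p) (G := G)
  by_cases h3 : ⁅pResidual p G, pResidual p G⁆ = ⊥
  · have hM := fun ξ (hξ : IsIrrCharacter G ξ) => monomial_of_nilMod h3 (nilMod_pResidual p) hξ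
    refine eq_bot_of_forall_ker fun ξ hξ => taketa_step (hM ξ hξ) fun ζ hζ e2 =>
      taketa_step (hM ζ hζ) fun η hη e3 => by_contra fun e4 => ?_
    have := h ξ hξ; have := h ζ hζ; have := h η hη; have := (not_le_ker_iff hη).1 e4
    have := hη.charDegree_pos
    omega
  have h4 : ∀ ξ, IsIrrCharacter G ξ → (∃ i, charDegree ξ = p ^ i) →
      ⁅pResidual p G, pResidual p G⁆ ≤ charKer ξ := fun ξ hξ ⟨i, hi⟩ => by
    obtain ⟨φ, hφ, e1⟩ := exists_irr_under (N := pResidual p G) hξ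
    obtain ⟨c, -, e2⟩ := deg_dvd_of_under hξ hφ e1
    refine le_ker_of_constituent (Subgroup.commutator_le_left _ _) hξ hφ.isCharacter e1 (le_trans ?_
      (not_not.1 (mt (not_le_ker_iff hφ).1 (not_not.2 (Nat.eq_one_of_dvd_coprimes
        (((Nat.Prime.coprime_iff_not_dvd hp.out).2 hL).pow_left i) (hi ▸ e2 ▸ Dvd.intro_left _ rfl)
        hφ.charDegree_dvd_card)))))
    rw [← Subgroup.map_subtype_commutator, Subgroup.subgroupOf,
      Subgroup.comap_map_eq_self_of_injective (Subgroup.subtype_injective _)]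
  have h5 : ¬ ∃ i, b = p ^ i := fun ⟨i, hi⟩ => h3 (eq_bot_of_forall_ker fun ξ hξ => h4 ξ hξ (by
    rcases h ξ hξ with e | e | e
    exacts [⟨0, e⟩, ⟨_, e.trans he⟩, ⟨_, e.trans hi⟩]))
  have h6 : ⁅commutator G, commutator G⁆ ≤ ⁅pResidual p G, pResidual p G⁆ := by
    have := Cd3.der2 (G := G ⧸ ⁅pResidual p G, pResidual p G⁆) (m := a) fun ξ hξ => by
      rw [← charDegree_inflate]
      rcases h _ hξ.inflate with e | e | e
      exacts [Or.inl e, Or.inr (Or.inl e), by
        obtain ⟨i, -, hi⟩ := (Nat.dvd_prime_pow hp.out).1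
          (hj ▸ deg_dvd_index_of_comm hξ.inflate _ (le_charKer_inflate _))
        exact absurd ⟨i, e ▸ hi⟩ h5]
    rw [← H1.map_mk'_eq_bot_iff, ← le_bot_iff, ← this, Subgroup.map_commutator]
    exact Subgroup.commutator_mono (Subgroup.map_le_iff_le_comap.2 (commutator_le_comap _))
      (Subgroup.map_le_iff_le_comap.2 (commutator_le_comap _))
  refine comm_of_rel G _ b inferInstance fun ξ hξ e1 => ?_
  rcases h ξ hξ with e | e | e
  exacts [absurd (h6.trans (h4 ξ hξ ⟨0, e⟩)) e1, absurd (h6.trans (h4 ξ hξ ⟨_, e.trans he⟩)) e1, e]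

theorem Cd3.der3_frob (h : Cd3 G a b) {X : Type*} [Group X] {π : G →* X} (hπ : Function.Surjective π)
    {p : ℕ} [hp : Fact p.Prime] {D : Subgroup X} [hD : D.Normal] (hc : IsMulCommutative D) (h0 : D ≠ ⊥)
    (hP : IsPGroup p D) (hF : ∀ d ∈ D, d ≠ 1 → ∀ g, d * g = g * d → g ∈ D) (ha : D.index = a) :
    ⁅⁅D.comap π, D.comap π⁆, ⁅D.comap π, D.comap π⁆⁆ = ⊥ := by
  classical
  haveI := Fintype.ofFinite G
  haveI := Cd3.solvable G a b h
  haveI := Finite.of_surjective π hπ
  have hpa : ¬ p ∣ a := ha ▸ frob_not_dvd h0 hP hF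
  have ha0 : 0 < a := ha ▸ Nat.pos_of_ne_zero D.index_ne_zero_of_finite
  have h1 : ∀ ψ : D.comap π → ℂ, IsIrrCharacter _ ψ → ¬ p ∣ charDegree ψ → charDegree ψ ≠ 1 →
      a * charDegree ψ = b := fun ψ hψ e1 e2 => by
    obtain ⟨χ, e3, e4⟩ := frob_cd hπ hc h0 hP hF hψ e1
    rw [ha] at e4
    rcases h χ e3 with e | e | e <;> rw [e4] at e
    exacts [absurd (Nat.eq_one_of_mul_eq_one_left e) e2,
      absurd (Nat.eq_of_mul_eq_mul_left ha0 (e.trans (mul_one _).symm)) e2, e]
  by_cases hb : p ∣ b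
  · refine comm_of_rel G _ b inferInstance fun ξ hξ e1 => by_contra fun e2 => e1 ?_
    obtain ⟨φ, hφ, e3⟩ := exists_irr_under (N := D.comap π) hξ
    obtain ⟨c, -, e4⟩ := deg_dvd_of_under hξ hφ e3
    have e5 : ¬ p ∣ charDegree φ := fun e => by
      have e6 : p ∣ charDegree ξ := e4 ▸ e.mul_left _
      rcases h ξ hξ with e | e | e <;> rw [e] at e6
      exacts [hp.out.one_lt.ne' (Nat.dvd_one.1 e6), hpa e6, e2 e]
    refine le_ker_of_constituent (Subgroup.commutator_le_left _ _) hξ hφ.isCharacter e3 (le_trans ?_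
      (not_not.1 (mt (not_le_ker_iff hφ).1 fun e => Nat.Prime.not_dvd_mul hp.out hpa e5
        (h1 φ hφ e5 e ▸ hb))))
    rw [← Subgroup.map_subtype_commutator, Subgroup.subgroupOf,
      Subgroup.comap_map_eq_self_of_injective (Subgroup.subtype_injective _)]
  · refine der2_sub (m := b / a) fun φ hφ => or_iff_not_imp_left.2 fun e1 => Or.inl ?_
    obtain ⟨ξ, c, hξ, -, e4, -⟩ := exists_deg_over hφ
    rw [← h1 φ hφ (fun e => ?_) e1, Nat.mul_div_cancel_left _ ha0]
    have e6 : p ∣ charDegree ξ := e4 ▸ e.mul_left _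
    rcases h ξ hξ with e | e | e <;> rw [e] at e6
    exacts [hp.out.one_lt.ne' (Nat.dvd_one.1 e6), hpa e6, hb e6]

/-- Isaacs 12.15. -/
theorem Cd3.der3 (h : Cd3 G a b) :
    ⁅⁅commutator G, commutator G⁆, ⁅commutator G, commutator G⁆⁆ = ⊥ := by
  by_cases h0 : commutator G = ⊥
  · simp [h0]
  haveI := Cd3.solvable G a b h
  obtain ⟨K, _, h1, h2⟩ := exists_just_nonab h0
  obtain ⟨p, hp, h3 | ⟨h3, h4, h5, h6⟩⟩ := just_nonab h1 h2 <;> haveI := Fact.mk hp
  · obtain ⟨χ, e1, e2, e3⟩ := exists_deg_top h1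
    rcases h χ e1 with e | e | e
    exacts [absurd e e3, h.der3_aux h3 e1 e2 e (e ▸ e3), h.symm.der3_aux h3 e1 e2 e (e ▸ e3)]
  · have hπ := QuotientGroup.mk'_surjective K
    have e0 := commutator_le_comap (QuotientGroup.mk' K)
    obtain ⟨χ, e1, e2⟩ := frob_cd hπ h4 h1 h3 h6 isIrrCharacter_one (by
      rw [charDegree_of_eq (n := 1) (by simp)]; simpa using hp.ne_one)
    rw [charDegree_of_eq (χ := fun _ => 1) (n := 1) (by simp), mul_one] at e2
    refine le_bot_iff.1 (le_trans (Subgroup.commutator_mono (Subgroup.commutator_mono e0 e0)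
      (Subgroup.commutator_mono e0 e0)) (le_of_eq ?_))
    rcases h χ e1 with e | e | e <;> rw [e2] at e
    exacts [absurd (Subgroup.index_eq_one.1 e) h5, h.der3_frob hπ h4 h1 h3 h6 e,
      h.symm.der3_frob hπ h4 h1 h3 h6 e]

end H8
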