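import Cfsg.Agent.H8.Tri
import Cfsg.Agent.H19.Normal
import Cfsg.Agent.H1.Harv3

/-! Groups of central type: `CenT Z χ e` (`χ` irreducible of degree `e`, `Z` central of index `e ^ 2`),
`Lo` (functions lying over the central character), degree formulas, and `CenT.step`: a cyclic Sylow
`p`-subgroup of `Γ / K` forces a normal `p`- or `p'`-section over `K`. -/

set_option autoImplicit false
open H5 H19 H18 H1 Cfsg Subgroup
open scoped ComplexConjugate commutatorElement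

namespace H8
variable {Γ : Type*} [Group Γ] [Fintype Γ] {Z U K Q R : Subgroup Γ} {χ f μ ψ : Γ → ℂ} {e : ℕ} {z : Γ}

theorem irr_central (hμ : μ ∈ irr U) (hz : z ∈ U) (hc : z ∈ center Γ) :
    ∃ c : ℂ, c * conj c = 1 ∧ ∀ x, μ (z * x) = c * μ x := by
  obtain ⟨c, -, h⟩ := (mem_irr.1 hμ).2.center_le_charCenter (show (⟨z, hz⟩ : U) ∈ center U from
    mem_center_iff.2 fun g => Subtype.ext (mem_center_iff.1 hc g))
  have h' : ∀ x, μ (z * x) = c * μ x := fun x => by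
    by_cases hx : x ∈ U
    · exact h ⟨x, hx⟩
    · rw [irr_supp hμ x hx, irr_supp hμ _ fun e => hx (by simpa using U.mul_mem (U.inv_mem hz) e), mul_zero]
  refine ⟨c, ?_, h'⟩
  have e := ip_irr_self hμ
  have e' := e
  rw [ip, ← Equiv.sum_comp (Equiv.mulLeft z)] at e'
  simp only [Equiv.coe_mulLeft, h', map_mul] at e'
  rw [← e', ← mul_one (c * _), ← e, ip, Finset.mul_sum, Finset.mul_sum, Finset.mul_sum]
  exact Finset.sum_congr rfl fun _ _ => by ring

omit [Fintype Γ] in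
theorem cfcj_eq_cjf (g : Γ) (f : Γ → ℂ) : cfcj g⁻¹ f = cjf g f := by
  ext x; simp [cjf_apply, cfcj_apply]

/-- central type -/
structure CenT (Z : Subgroup Γ) (χ : Γ → ℂ) (e : ℕ) : Prop where
  irr : χ ∈ irr ⊤
  cen : Z ≤ center Γ
  one : χ 1 = e
  sq : e ^ 2 = Z.index

/-- lying over the central character -/
def Lo (Z : Subgroup Γ) (χ f : Γ → ℂ) : Prop := ∀ z ∈ Z, ∀ x, f (z * x) = χ z / χ 1 * f x

open Classical in
/-- irreducible characters over the central character -/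
noncomputable def loS (Z : Subgroup Γ) (χ : Γ → ℂ) (U : Subgroup Γ) : Finset (Γ → ℂ) := (irr U).filter (Lo Z χ)

theorem mem_loS : μ ∈ loS Z χ U ↔ μ ∈ irr U ∧ Lo Z χ μ := by
  classical exact Finset.mem_filter

omit [Fintype Γ] in
theorem Lo.res (h : Lo Z χ f) (hU : Z ≤ U) : Lo Z χ (res U f) := fun z hz x => by
  by_cases hx : x ∈ U
  · rw [res_of_mem _ hx, res_of_mem _ (U.mul_mem (hU hz) hx), h z hz]
  · rw [res_of_not_mem _ hx, res_of_not_mem _ fun e => hx (by simpa using U.mul_mem (U.inv_mem (hU hz)) e), mul_zero]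

namespace CenT
variable (h : CenT Z χ e)
include h

theorem e_ne : (e : ℂ) ≠ 0 := h.one ▸ irr_apply_one_ne_zero h.irr

theorem lo_norm (hz : z ∈ Z) : (∀ x, χ (z * x) = χ z / χ 1 * χ x) ∧ χ z / χ 1 * conj (χ z / χ 1) = 1 := by
  obtain ⟨c, h1, h2⟩ := irr_central h.irr (mem_top z) (h.cen hz)
  have : χ z / χ 1 = c := by
    rw [div_eq_iff (irr_apply_one_ne_zero h.irr), ← h2, mul_one]
  exact this ▸ ⟨h2, h1⟩

theorem lo : Lo Z χ χ := fun _ hz => (h.lo_norm hz).1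

omit [Fintype Γ] h in
theorem cjf_lo (hc : Z ≤ center Γ) (hf : Lo Z χ f) (g : Γ) : Lo Z χ (cjf g f) := fun z hz x => by
  rw [cjf_apply, cjf_apply, ← hf z hz, ← mul_assoc g, mem_center_iff.1 (hc hz) g]
  simp only [mul_assoc]

theorem sum_Z (hf : Lo Z χ f) : ∑ x ∈ els Z, f x * conj (χ x) = Nat.card Z * (e * f 1) := by
  rw [← sum_els_const]
  refine Finset.sum_congr rfl fun z hz => ?_
  have a := hf z (mem_els.1 hz) 1
  have b := (h.lo_norm (mem_els.1 hz)).1 1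
  have c := (h.lo_norm (mem_els.1 hz)).2
  rw [mul_one] at a b
  generalize χ z / χ 1 = t at a b c
  rw [a, b, map_mul (starRingEnd ℂ), h.one, map_natCast]
  linear_combination (e * f 1) * c

theorem vanish {x : Γ} (hx : x ∉ Z) : χ x = 0 := by
  classical
  have a := ip_irr_self h.irr
  have b := h.sum_Z h.lo
  rw [h.one, ← _root_.sq, ← Nat.cast_pow, h.sq, ← Nat.cast_mul, card_mul_index] at b
  rw [ip, card_top, inv_mul_eq_one₀ card_ne_zero_complex, ← Finset.sum_sdiff (Finset.subset_univ (els Z)), b,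
    right_eq_add] at a
  simp only [Complex.mul_conj] at a
  rw [← Complex.ofReal_sum, Complex.ofReal_eq_zero,
    Finset.sum_eq_zero_iff_of_nonneg fun _ _ => Complex.normSq_nonneg _] at a
  exact Complex.normSq_eq_zero.1 (a x (by simpa using hx))

theorem ip_eq (hU : Z ≤ U) (hf : Lo Z χ f) : (Z.relIndex U : ℂ) * ip U f χ = e * f 1 := by
  rw [ip, ← Finset.sum_subset (Finset.subset_univ (els Z)) fun x _ hx => by
    rw [h.vanish (by simpa using hx), map_zero, mul_zero], h.sum_Z hf, H19.card_eq_relIndex_mul hU]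
  have := card_ne_zero Z
  have : (Z.relIndex U : ℂ) ≠ 0 := Nat.cast_ne_zero.2 index_ne_zero_of_finite
  push_cast
  field_simp

theorem lo_of_ip (hU : Z ≤ U) (hf : Lo Z χ f) (hμ : μ ∈ H19.irr U) (h0 : ip U f μ ≠ 0) : Lo Z χ μ := fun z hz x => by
  obtain ⟨c, h1, h2⟩ := irr_central hμ (hU hz) (h.cen hz)
  have e : ip U f μ = χ z / χ 1 * conj c * ip U f μ := by
    conv_lhs => rw [ip, ← Equiv.sum_comp (Equiv.mulLeft z)]
    simp only [Equiv.coe_mulLeft, h2, hf z hz, map_mul]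
    rw [ip, Finset.mul_sum, Finset.mul_sum, Finset.mul_sum]
    exact Finset.sum_congr rfl fun _ _ => by ring
  have e' : χ z / χ 1 * conj c = 1 := mul_right_cancel₀ h0 (by rw [← e, one_mul])
  rw [h2]
  linear_combination (χ z / χ 1 * μ x) * h1 - (c * μ x) * e'

theorem eq_sum (hU : Z ≤ U) (hf : Lo Z χ f) (hc : f ∈ H19.cf U) : f = ∑ μ ∈ loS Z χ U, ip U f μ • μ := by
  classical
  conv_lhs => rw [cf_eq_sum hc]
  refine (Finset.sum_subset (Finset.filter_subset _ _) fun μ a b => ?_).symm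
  by_contra c
  exact b (mem_loS.2 ⟨a, h.lo_of_ip hU hf a fun e => c (by rw [e, zero_smul])⟩)

theorem dvd (hU : Z ≤ U) (hψ : ψ ∈ chars U) (hf : Lo Z χ ψ) : (Z.relIndex U : ℤ) ∣ e * dg ψ := by
  obtain ⟨n, hn⟩ := ip_nat hψ (res_mem_chars le_top (chars_of_irr h.irr))
  have := h.ip_eq hU hf
  rw [← ip_res_right (cf_supp (cf_of_chars hψ)), hn, chars_apply_one hψ] at this
  exact ⟨n, by exact_mod_cast this.symm⟩

theorem sum_sq (hU : Z ≤ U) : ∑ μ ∈ loS Z χ U, dg μ ^ 2 = Z.relIndex U := by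
  have a := congrFun (h.eq_sum hU (h.lo.res hU) (res_mem_cf le_top (cf_of_irr h.irr))) 1
  rw [res_one, h.one, Finset.sum_apply] at a
  have : (e : ℂ) * ∑ μ ∈ loS Z χ U, (dg μ : ℂ) ^ 2 = e * Z.relIndex U := by
    conv_rhs => rw [a, Finset.sum_mul]
    rw [Finset.mul_sum]
    refine Finset.sum_congr rfl fun μ hμ => ?_
    obtain ⟨h1, h2⟩ := mem_loS.1 hμ
    have b := congrArg conj (h.ip_eq hU h2)
    rw [map_mul, ip_conj, map_natCast, map_mul, map_natCast, irr_apply_one h1, map_intCast] at b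
    rw [Pi.smul_apply, smul_eq_mul, ip_res_left (irr_supp h1), irr_apply_one h1]
    linear_combination (-dg μ : ℂ) * b
  exact_mod_cast mul_left_cancel₀ h.e_ne this

theorem syl {p s : ℕ} [hp : Fact p.Prime] (hQ : Z ≤ Q) (hn : Q ⊴ R) (hR : ¬ p ∣ R.index)
    (hs : Z.relIndex R = p ^ s) (hc : ∀ I, Q ≤ I → I ≤ R → ∃ s ∈ I, I ≤ Q ⊔ zpowers s) :
    ∃ E : ℕ, E ^ 2 = Z.relIndex R ∧ (loS Z χ Q).card = Q.relIndex R ∧
      ∀ μ ∈ loS Z χ Q, R ⊓ stabf μ ≤ Q ∧ Q.relIndex R * dg μ = E := by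
  obtain ⟨c, e', he', he⟩ := Nat.exists_eq_pow_mul_and_not_dvd (Nat.cast_ne_zero.1 h.e_ne) p hp.out.ne_one
  have c1 := (Nat.Prime.coprime_iff_not_dvd hp.out).2 he'
  have c2 := (Nat.Prime.coprime_iff_not_dvd hp.out).2 hR
  have hE : (p ^ c) ^ 2 = Z.relIndex R := by
    have := h.sq
    rw [← relIndex_mul_index (hQ.trans hn.le), hs, he, mul_pow] at this
    rw [hs]
    exact Nat.dvd_antisymm (((c2.pow_left _).pow_left _).dvd_of_dvd_mul_right ⟨_, this.symm⟩)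
      ((c1.pow _ 2).dvd_of_dvd_mul_right ⟨_, this⟩)
  have key : ∀ μ ∈ loS Z χ Q, R ⊓ stabf μ ≤ Q ∧ Q.relIndex R * dg μ = (p ^ c : ℕ) := fun μ hμ => by
    obtain ⟨h1, h2⟩ := mem_loS.1 hμ
    set I := R ⊓ inertia Q μ with hI
    have hQI : Q ≤ I := le_inf hn.le (le_inertia (cf_of_irr h1))
    obtain ⟨t, ht, hI'⟩ := hc I hQI inf_le_left
    obtain ⟨η, g1, g2⟩ := exists_ext_cyclic (hn.norm ht.1) h1 (s := t) (by
      rw [← cfcj_eq_cjf]; exact (mem_inertia.1 (inv_mem ht.2)).2)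
    rw [le_antisymm (sup_le hQI (zpowers_le.2 ht)) hI'] at g1
    have lo : Lo Z χ η := fun z hz x => by
      obtain ⟨a, -, b⟩ := irr_central g1 (hQI (hQ hz)) (h.cen hz)
      have e1 := b 1
      have e2 := h2 z hz 1
      rw [← g2, mul_one, res_of_mem _ (hQ hz), res_one] at e2
      rw [mul_one, e2] at e1
      rw [b, mul_right_cancel₀ (irr_apply_one_ne_zero g1) e1]
    have d1 := h.dvd (hQ.trans hQI) (chars_of_irr g1) lo
    rw [← dg_res Q, g2] at d1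
    have d2 : (I.relIndex R : ℤ) * dg μ ^ 2 ≤ Z.relIndex Q := by
      rw [← h.sum_sq hQ, hI, inf_relIndex_left, ← card_cfclass hn.norm, ← nsmul_eq_mul, ← Finset.sum_const]
      refine (Finset.sum_congr rfl fun ν hν => ?_).trans_le
        (Finset.sum_le_sum_of_subset_of_nonneg (fun ν hν => ?_) fun _ _ _ => sq_nonneg _)
      · obtain ⟨g, -, rfl⟩ := mem_cfclass.1 hν
        rw [dg_cfcj]
      · refine mem_loS.2 ⟨cfclass_subset_irr hn.norm h1 hν, ?_⟩
        obtain ⟨g, -, rfl⟩ := mem_cfclass.1 hν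
        rw [← inv_inv g, cfcj_eq_cjf]; exact cjf_lo h.cen h2 g⁻¹
    obtain ⟨d, hd⟩ := Int.eq_ofNat_of_zero_le (irr_dg_pos h1).le
    have d0 : 0 < d := by simpa [hd] using irr_dg_pos h1
    have r1 := relIndex_mul_relIndex _ _ _ hQ hQI
    have r2 := relIndex_mul_relIndex _ _ _ hQI (inf_le_left : I ≤ R)
    have r3 := relIndex_mul_relIndex _ _ _ (hQ.trans hQI) (inf_le_left : I ≤ R)
    rw [hd] at d1 d2 ⊢
    norm_cast at d1 d2 ⊢
    have d3 : Z.relIndex I ≤ p ^ c * d := by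
      refine Nat.le_of_dvd (by have := hp.out.pos; positivity) (Nat.Coprime.dvd_of_dvd_mul_left (m := e') ?_ ?_)
      · exact Nat.Coprime.coprime_dvd_left ⟨_, r3.symm⟩ (hs ▸ c1.pow_left _)
      · rwa [← mul_assoc, mul_comm e', ← he]
    have a0 : 0 < I.relIndex R := Nat.pos_of_ne_zero index_ne_zero_of_finite
    have b0 : 0 < Q.relIndex I := Nat.pos_of_ne_zero index_ne_zero_of_finite
    have E0 : 0 < p ^ c := pow_pos hp.out.pos _
    rw [← hE, ← r1] at r3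
    rw [← r1] at d3
    rw [← r2]
    generalize p ^ c = E at *
    generalize I.relIndex R = a at *
    generalize hb : Q.relIndex I = b at *
    generalize Z.relIndex Q = m at *
    have x1 : E ≤ a * d := Nat.le_of_mul_le_mul_left (by nlinarith) E0
    have x2 : (a * d) ^ 2 * b ≤ E ^ 2 := by nlinarith [Nat.mul_le_mul_left (a * b) d2]
    have x3 : b = 1 := by
      have : (a * d) ^ 2 * b ≤ (a * d) ^ 2 * 1 := by nlinarith
      have := Nat.le_of_mul_le_mul_left this (by positivity)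
      omega
    subst x3
    refine ⟨fun g hg => relIndex_eq_one.1 hb ⟨hg.1, mem_inertia.2 ⟨hn.norm hg.1, ?_⟩⟩, ?_⟩
    · rw [← inv_inv g, cfcj_eq_cjf]; exact mem_stabf.1 (inv_mem hg.2)
    · rw [one_mul]
      exact le_antisymm (by nlinarith) x1
  refine ⟨_, hE, ?_, key⟩
  have a := congrArg ((Q.relIndex R : ℤ) ^ 2 * ·) (h.sum_sq hQ)
  simp only [Finset.mul_sum, ← mul_pow] at a
  rw [Finset.sum_congr rfl fun μ hμ => by rw [(key μ hμ).2], Finset.sum_const, nsmul_eq_mul] at a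
  norm_cast at a
  rw [hE, ← relIndex_mul_relIndex _ _ _ hQ hn.le] at a
  have b0 : 0 < Z.relIndex Q * Q.relIndex R :=
    Nat.mul_pos (Nat.pos_of_ne_zero index_ne_zero_of_finite) (Nat.pos_of_ne_zero index_ne_zero_of_finite)
  exact Nat.eq_of_mul_eq_mul_right b0 (a.trans (by ring))

omit h in
theorem ind_lo (hc : Z ≤ center Γ) (hf : Lo Z χ f) (U V : Subgroup Γ) : Lo Z χ (ind U V f) := fun z hz x => by
  rw [ind_apply', ind_apply', mul_left_comm]
  congr 1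
  rw [Finset.mul_sum]
  exact Finset.sum_congr rfl fun g _ => cjf_lo hc hf g z hz x

end CenT

open Classical in
/-- indicator of the `K`-class of `a` modulo `Z` -/
noncomputable def icl (Z K : Subgroup Γ) (a : Γ) : Γ → ℂ :=
  fun g => if ∃ z ∈ Z, ∃ k ∈ K, g = z * (k * a * k⁻¹) then 1 else 0

section icl
variable {a b g : Γ}

theorem icl_ne : icl Z K a g ≠ 0 ↔ ∃ z ∈ Z, ∃ k ∈ K, g = z * (k * a * k⁻¹) := by
  simp [icl]

theorem icl_self : icl Z K a a ≠ 0 := icl_ne.2 ⟨1, Z.one_mem, 1, K.one_mem, by simp⟩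

theorem icl_ext (h : ∀ g, icl Z K a g ≠ 0 ↔ f g ≠ 0) (hf : ∀ g, f g ≠ 0 → f g = 1) : icl Z K a = f := by
  ext g
  by_cases e : f g = 0
  · rw [e]; by_contra c; exact (h g).1 c e
  · rw [hf g e, icl, if_pos (icl_ne.1 ((h g).2 e))]

theorem icl_val (g : Γ) (h : icl Z K a g ≠ 0) : icl Z K a g = 1 := by rw [icl, if_pos (icl_ne.1 h)]

theorem icl_trans (hc : Z ≤ center Γ) (h1 : icl Z K a b ≠ 0) (h2 : icl Z K b g ≠ 0) : icl Z K a g ≠ 0 := by
  obtain ⟨z, hz, k, hk, rfl⟩ := icl_ne.1 h1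
  obtain ⟨z', hz', k', hk', rfl⟩ := icl_ne.1 h2
  refine icl_ne.2 ⟨z' * z, mul_mem hz' hz, k' * k, mul_mem hk' hk, ?_⟩
  rw [← mul_assoc k', mem_center_iff.1 (hc hz) k']; group

theorem icl_symm (hc : Z ≤ center Γ) (h1 : icl Z K a b ≠ 0) : icl Z K b a ≠ 0 := by
  obtain ⟨z, hz, k, hk, rfl⟩ := icl_ne.1 h1
  refine icl_ne.2 ⟨z⁻¹, inv_mem hz, k⁻¹, inv_mem hk, ?_⟩
  rw [← mul_assoc k⁻¹, mem_center_iff.1 (hc hz) k⁻¹]; group

theorem icl_eq (hc : Z ≤ center Γ) (h1 : icl Z K a b ≠ 0) : icl Z K a = icl Z K b :=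
  icl_ext (fun _ => ⟨icl_trans hc (icl_symm hc h1), icl_trans hc h1⟩) icl_val

theorem cfcj_icl [hK : K.Normal] (hc : Z ≤ center Γ) (t : Γ) : cfcj t (icl Z K a) = icl Z K (t * a * t⁻¹) := by
  refine (icl_ext (fun g => ?_) fun g => icl_val _).symm
  rw [icl_ne, icl_ne]
  constructor <;> rintro ⟨z, hz, k, hk, e⟩
  · refine ⟨z, hz, _, hK.conj_mem' k hk t, ?_⟩
    rw [e, ← mul_assoc t⁻¹, mem_center_iff.1 (hc hz) t⁻¹]; group
  · refine ⟨z, hz, _, hK.conj_mem k hk t, ?_⟩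
    rw [show g = t * (t⁻¹ * g * t) * t⁻¹ by group, e, ← mul_assoc t, mem_center_iff.1 (hc hz) t]; group

theorem icl_cf [K.Normal] (hc : Z ≤ center Γ) {k : Γ} (hk : k ∈ K) : cfcj k (icl Z K a) = icl Z K a := by
  rw [cfcj_icl hc]
  exact (icl_eq hc (icl_ne.2 ⟨1, Z.one_mem, k, hk, (one_mul _).symm⟩)).symm
end icl

theorem CenT.card_le (h : CenT Z χ e) [K.Normal] (hQ : Z ≤ Q) (hK : Q ≤ K) (Y : Finset (Γ → ℂ))
    (hY : ∀ φ ∈ Y, ∃ q ∈ Q, ∃ ψ ∈ loS Z χ K, φ = icl Z K q ∧ ψ q ≠ 0) : Y.card ≤ (loS Z χ Q).card := by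
  classical
  choose! q hq ψ hψ h1 h2 using hY
  have li : LinearIndependent ℂ fun φ : Y => res Q (φ.1 * ψ φ) := by
    refine Fintype.linearIndependent_iff.2 fun c hc φ => ?_
    have := congrFun hc (q φ)
    rw [Finset.sum_apply, Finset.sum_eq_single φ (fun φ' _ hne => ?_) (by simp)] at this
    · rw [Pi.smul_apply, res_of_mem _ (hq _ φ.2), Pi.mul_apply, smul_eq_mul] at this
      refine (mul_eq_zero.1 this).resolve_right (mul_ne_zero ?_ (h2 _ φ.2))
      rw [congrFun (h1 _ φ.2)]; exact icl_self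
    · have : φ'.1 (q φ) = 0 := by
        by_contra c
        rw [h1 _ φ'.2] at c
        exact hne (Subtype.ext (by rw [h1 _ φ'.2, icl_eq h.cen c, ← h1 _ φ.2]))
      rw [Pi.smul_apply, res_of_mem _ (hq _ φ.2), Pi.mul_apply, this, zero_mul, smul_zero]
  have := linearIndependent_le_span' _ li (loS Z χ Q : Set (Γ → ℂ)) (by
    rintro _ ⟨φ, rfl⟩
    obtain ⟨a, b⟩ := mem_loS.1 (hψ _ φ.2)
    have lo : Lo Z χ (φ.1 * ψ φ) := fun z hz x => by
      have : φ.1 (z * x) = φ.1 x := by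
        rw [h1 _ φ.2]
        have i : icl Z K x (z * x) ≠ 0 := icl_ne.2 ⟨z, hz, 1, K.one_mem, by simp⟩
        by_cases e : icl Z K (q φ) x = 0
        · rw [e]; by_contra c; exact icl_trans h.cen c (icl_symm h.cen i) e
        · rw [icl_val _ e, icl_val _ (icl_trans h.cen e i)]
      rw [Pi.mul_apply, Pi.mul_apply, this, b z hz, mul_left_comm]
    dsimp only
    rw [h.eq_sum hQ (lo.res hQ) (mem_cf_of (res_supp _ _) fun g hg x hx => ?_)]
    · exact Submodule.sum_mem _ fun μ hμ => Submodule.smul_mem _ _ (Submodule.subset_span hμ)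
    · rw [res_of_mem _ hx, res_of_mem _ (mul_mem (mul_mem hg hx) (inv_mem hg)), Pi.mul_apply, Pi.mul_apply,
        cf_conj (cf_of_irr a) (hK hg), h1 _ φ.2]
      congr 1
      simpa [cfcj_apply] using congrFun (icl_cf (a := q φ) h.cen (inv_mem (hK hg))) x)
  simpa using this

theorem CenT.step (h : CenT Z χ e) {p : ℕ} [hp : Fact p.Prime] [hK : K.Normal] (hZ : Z ≤ K) {r : Γ}
    (hr : ¬ p ∣ (K ⊔ zpowers r).index) (hne : K ≠ ⊤) :
    ∃ N : Subgroup Γ, N.Normal ∧ K < N ∧ (PiNat {p} (K.relIndex N) ∨ PiNat {p}ᶜ (K.relIndex N)) := by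
  classical
  by_cases hi : p ∣ K.index
  swap
  · exact ⟨⊤, inferInstance, hne.lt_top, .inr (by rwa [relIndex_top_right, piNat_compl_iff hp.out])⟩
  obtain ⟨P, hP'⟩ := exists_sylow hp.out (K ⊔ zpowers r)
  have hP : Hall {p} P ⊤ := hP'.of_idx le_top (by rwa [relIndex_top_right, piNat_compl_iff hp.out])
  haveI : Z.Normal := ⟨fun z hz g => by rwa [mem_center_iff.1 (h.cen hz) g, mul_inv_cancel_right]⟩
  set R := Z ⊔ P with hR
  set Q := R ⊓ K with hQ
  let q := QuotientGroup.mk' K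
  have hq : ∀ x, q x = 1 ↔ x ∈ K := fun x => QuotientGroup.eq_one_iff x
  have hZQ : Z ≤ Q := le_inf le_sup_left hZ
  have hn : Q ⊴ R := ⟨inf_le_left, le_norm_inf le_normalizer le_normalizer_of_normal⟩
  have cyc : ∀ I ≤ R, Cyc (I.map q) := fun I hI => (cyc_zpowers (x := q r)).of_le (by
    refine (map_mono (hI.trans (sup_le (hZ.trans le_sup_left) hP'.le))).trans ?_
    rw [Subgroup.map_sup, QuotientGroup.map_mk'_self, bot_sup_eq, MonoidHom.map_zpowers])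
  have mR : ∀ u ∈ R, ∃ z ∈ Z, ∃ x ∈ P, z * x = u := fun u hu => mem_sup_of_normal_left.1 hu
  have pR : PiGrp {p} (R.map q) := piGrp_of_elt (by
    rintro _ ⟨u, hu, rfl⟩
    obtain ⟨z, hz, x, hx, rfl⟩ := mR u hu
    rw [map_mul, (hq z).2 (hZ hz), one_mul]
    exact (hP.pi.elt hx).of_dvd (orderOf_map_dvd _ _))
  have iR : ¬ p ∣ R.index := by
    rw [← piNat_compl_iff hp.out, ← relIndex_top_right]; exact hP.idx_of_le le_sup_right
  obtain ⟨s, hs⟩ : ∃ s, Z.relIndex R = p ^ s := by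
    rw [hR, relIndex_sup_left]; exact hP.pi.relIndex.eq_pow index_ne_zero_of_finite
  obtain ⟨E, hE, hc, key⟩ := h.syl hZQ hn iR hs fun I h1 h2 => by
    obtain ⟨_, hg⟩ := (cyc I h2).gen
    obtain ⟨t, ht, rfl⟩ := hg.le (mem_zpowers _)
    refine ⟨t, ht, fun u hu => ?_⟩
    obtain ⟨i, hi⟩ := hg.ge (mem_map_of_mem q hu)
    rw [← mul_inv_cancel_right u (t ^ i)⁻¹, inv_inv]
    refine mul_mem_sup (mem_inf.2 ⟨h2 (mul_mem hu (inv_mem (zpow_mem ht i))), (hq _).1 ?_⟩) (zpow_mem_zpowers _ _)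
    rw [map_mul, map_inv, map_zpow, ← hi, mul_inv_cancel]
  have hRK : R.map q ≠ ⊥ := fun e => iR (hi.trans (index_dvd_of_le fun u hu =>
    (hq u).1 (mem_bot.1 (e.le (mem_map_of_mem q hu)))))
  obtain ⟨y', hy', hy1⟩ := exists_mem_ne_one' (pR.omega_ne_bot hRK)
  obtain ⟨y, hyP, rfl⟩ : ∃ y ∈ P, q y = y' := by
    obtain ⟨u, hu, rfl⟩ := omega_le hy'
    obtain ⟨z, hz, x, hx, rfl⟩ := mR u hu
    exact ⟨x, hx, by rw [map_mul, (hq z).2 (hZ hz), one_mul]⟩
  have hyR : y ∈ R := mem_sup_right hyP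
  have hyK : y ∉ K := fun e => hy1 ((hq y).2 e)
  have hy : ∀ T, K ≤ T → y ∉ T → R ⊓ T ≤ K := fun T hT hyT t ht => by
    by_contra c
    obtain ⟨i, hi⟩ := (cyc R le_rfl).omega_le_of_ne_bot pR (zpowers_le.2 (mem_map_of_mem q ht.1))
      (by simpa using fun e => c ((hq t).1 e)) hy'
    apply hyT
    rw [← mul_inv_cancel_right y (t ^ i)⁻¹, inv_inv]
    refine mul_mem (hT ((hq _).1 ?_)) (T.zpow_mem ht.2 i)
    rw [map_mul, map_inv, map_zpow, ← hi, mul_inv_cancel]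
  have cl : ∀ g, ∀ ψ ∈ loS Z χ K, cjf g ψ ∈ loS Z χ K := fun g ψ hψ => mem_loS.2
    ⟨cjf_mem_irr (le_normalizer_of_normal (mem_top g)) (mem_loS.1 hψ).1, CenT.cjf_lo h.cen (mem_loS.1 hψ).2 g⟩
  -- (i) `y` acts by scalars
  have h1 : ∀ x ∈ K, PiElt {p} x → ∃ c : ℂ, ∀ ψ ∈ loS Z χ K, cjf y ψ x = c * ψ x := fun x hx px => by
    by_cases g : ∃ ψ ∈ loS Z χ K, ψ x ≠ 0
    swap
    · push Not at g
      exact ⟨0, fun ψ hψ => by rw [g _ (cl y ψ hψ), zero_mul]⟩
    obtain ⟨ψ, hψ, g⟩ := g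
    suffices icl Z K x (y * x * y⁻¹) ≠ 0 by
      obtain ⟨z, hz, k, hk, e⟩ := icl_ne.1 this
      exact ⟨_, fun ψ hψ => by
        rw [cjf_apply, e, (mem_loS.1 hψ).2 z hz, cf_conj (cf_of_irr (mem_loS.1 hψ).1) hk]⟩
    by_contra c
    have hI : y ∉ inertia K (icl Z K x) := fun e => by
      have := (mem_inertia.1 e).2
      rw [cfcj_icl h.cen] at this
      exact icl_self (this ▸ c)
    have hKI : K ≤ inertia K (icl Z K x) := fun k hk => mem_inertia.2 ⟨le_normalizer hk, icl_cf h.cen hk⟩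
    have n1 : icl Z K 1 ∉ cfclass R (icl Z K x) := fun e => by
      obtain ⟨t, -, e⟩ := mem_cfclass.1 e
      rw [cfcj_icl h.cen] at e
      obtain ⟨z, hz, k, hk, e⟩ := icl_ne.1 (e ▸ icl_self : icl Z K 1 (t * x * t⁻¹) ≠ 0)
      have : x ∈ Z := by
        rw [show x = t⁻¹ * z * t by rw [mul_one, mul_inv_cancel, mul_one] at e; rw [← e]; group]
        exact Normal.conj_mem' inferInstance z hz t
      rw [mem_center_iff.1 (h.cen this) y, mul_inv_cancel_right] at c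
      exact icl_self c
    have := h.card_le hZQ inf_le_right (insert (icl Z K 1) (cfclass R (icl Z K x))) fun φ hφ => by
      rcases Finset.mem_insert.1 hφ with rfl | hφ
      · exact ⟨1, Q.one_mem, ψ, hψ, rfl, irr_apply_one_ne_zero (mem_loS.1 hψ).1⟩
      obtain ⟨t, -, rfl⟩ := mem_cfclass.1 hφ
      obtain ⟨k, hk, e⟩ := sylow_le_cj hp.out (hP.inf_nml ⟨le_top, le_normalizer_of_normal⟩)
        (px.conj t).zpowers (zpowers_le.2 (hK.conj_mem x hx t))
      have e := e (conj_mem_cj (mem_zpowers _))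
      refine ⟨_, mem_inf.2 ⟨mem_sup_right e.1, e.2⟩, _, cl t⁻¹ ψ hψ, ?_, ?_⟩
      · rw [cfcj_icl h.cen, ← cfcj_icl h.cen k, icl_cf h.cen hk]
      · rw [cf_conj (cf_of_irr (mem_loS.1 (cl t⁻¹ ψ hψ)).1) hk, cjf_apply]
        simpa [mul_assoc] using g
    rw [Finset.card_insert_of_notMem n1, card_cfclass (K := K) le_normalizer_of_normal, hc,
      ← inf_relIndex_left, le_antisymm (le_inf inf_le_left (hy _ hKI hI)) (inf_le_inf_left _ hKI)] at this
    exact absurd this (by simp [hQ])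
  let L : Subgroup Γ :=
    { carrier := {g | ∀ ψ ∈ loS Z χ K, ∀ x ∈ K, PiElt {p} x → cjf g ψ x = ψ x}
      one_mem' := fun ψ _ x _ _ => by rw [cjf_one]
      mul_mem' := fun {a b} ha hb ψ hψ x hx px => by rw [cjf_mul, hb _ (cl a ψ hψ) x hx px, ha ψ hψ x hx px]
      inv_mem' := fun {a} ha ψ hψ x hx px => by rw [← ha _ (cl a⁻¹ ψ hψ) x hx px, cjf_cjf_inv] }
  haveI nL : L.Normal := ⟨fun a ha g ψ hψ x hx px => by
    rw [cjf_mul, cjf_mul, cjf_apply, ha _ (cl g ψ hψ) _ (hK.conj_mem x hx _) (px.conj _), ← cjf_apply g⁻¹ (cjf g ψ), cjf_inv_cjf]⟩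
  have hKL : K ≤ L := fun k hk ψ hψ x _ _ => cf_conj (cf_of_irr (mem_loS.1 hψ).1) hk x
  -- (ii) `y ∉ L`
  have h2 : y ∉ L := fun hyL => by
    obtain ⟨μ, hμ⟩ := Finset.card_pos.1 (hc.symm ▸ Nat.pos_of_ne_zero index_ne_zero_of_finite : 0 < (loS Z χ Q).card)
    obtain ⟨m1, m2⟩ := mem_loS.1 hμ
    have c1 := ind_mem_chars (inf_le_right : Q ≤ K) (chars_of_irr m1)
    have c2 := CenT.ind_lo h.cen m2 Q K
    have c3 := res_mem_chars (inf_le_right : Q ≤ K) c1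
    have inv : ∀ g ∈ zpowers y, cjf g (res Q (ind Q K μ)) = res Q (ind Q K μ) := fun g hg => by
      have gR := zpowers_le.2 hyR hg
      rw [cjf_res (hn.norm gR)]
      refine eq_of_eqOn (res_supp _ _) (res_supp _ _) fun u hu => ?_
      obtain ⟨z, hz, x, hx, rfl⟩ := mR u hu.1
      have xK : x ∈ K := by simpa using K.mul_mem (K.inv_mem (hZ hz)) hu.2
      rw [res_of_mem _ hu, res_of_mem _ hu, CenT.cjf_lo h.cen c2 g z hz, c2 z hz, cjf_apply,
        h.eq_sum hZ c2 (cf_of_chars c1), Finset.sum_apply, Finset.sum_apply]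
      congr 1
      exact Finset.sum_congr rfl fun ψ hψ => congrArg (ip K (ind Q K μ) ψ • ·) (zpowers_le.2 hyL hg ψ hψ x xK (hP.pi.elt hx))
    have hf : ∀ ν, ∃ n : ℕ, ν ∈ loS Z χ Q → ip Q (res Q (ind Q K μ)) ν = n := fun ν => by
      by_cases e : ν ∈ loS Z χ Q
      · exact (ip_nat c3 (chars_of_irr (mem_loS.1 e).1)).imp fun _ a _ => a
      · exact ⟨0, fun a => absurd a e⟩
    choose f hf using hf
    have cq : ∀ g ∈ zpowers y, ∀ ν ∈ loS Z χ Q, cjf g ν ∈ loS Z χ Q := fun g hg ν hν => mem_loS.2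
      ⟨cjf_mem_irr (hn.norm (zpowers_le.2 hyR hg)) (mem_loS.1 hν).1, CenT.cjf_lo h.cen (mem_loS.1 hν).2 g⟩
    have d := Glaub.dvd_sum_of_fixed hp.out ((piGrp_iff_isPGroup hp.out).1 (hP.pi.elt hyP).zpowers) _ cq f
      (fun g hg ν hν => by
        have := hf _ (cq g hg ν hν)
        rw [ip_cjf_right _ _ (inv g hg), hf ν hν] at this
        exact_mod_cast this.symm)
      fun ν hν e => absurd ((key ν hν).1 ⟨hyR, e (mem_zpowers y)⟩).2 hyK
    have e := congrArg ((Q.relIndex R : ℂ) * · 1) (h.eq_sum hZQ (c2.res hZQ) (cf_of_chars c3))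
    have k1 : ∀ ν ∈ loS Z χ Q, (Q.relIndex R : ℂ) * ν 1 = E := fun ν hν => by
      rw [irr_apply_one (mem_loS.1 hν).1]; exact_mod_cast (key ν hν).2
    simp only [res_one, Finset.sum_apply, Finset.mul_sum, Pi.smul_apply, smul_eq_mul] at e
    rw [ind_one (show Q ≤ K from inf_le_right), mul_left_comm, k1 μ hμ, Finset.sum_congr rfl fun ν hν => by rw [mul_left_comm, k1 ν hν, hf ν hν],
      ← Finset.sum_mul] at e
    have E0 : (E : ℂ) ≠ 0 := by
      rw [Nat.cast_ne_zero]; rintro rfl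
      exact index_ne_zero_of_finite (hE.symm.trans (by simp))
    have e : Q.relIndex K = ∑ ν ∈ loS Z χ Q, f ν := by exact_mod_cast mul_right_cancel₀ E0 e
    exact (piNat_compl_iff hp.out).1 ((hP.inf_nml ⟨le_top, le_normalizer_of_normal⟩).idx_of_le
      (inf_le_inf_right K (le_sup_right : P ≤ R))) (e ▸ d)
  rcases hKL.lt_or_eq with e | e
  · refine ⟨L, nL, e, .inr ((hP.inf_nml ⟨le_top, le_normalizer_of_normal⟩).idx_of_le ?_)⟩
    exact (inf_le_inf_right L le_sup_right).trans (hy L hKL h2)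
  have h3 : ∀ g, ∀ x ∈ K, PiElt {p} x → ∃ c : ℂ, ∀ ψ ∈ loS Z χ K, cjf (g * y * g⁻¹) ψ x = c * ψ x :=
    fun g x hx px => (h1 _ (hK.conj_mem x hx g⁻¹) (px.conj _)).imp fun c hc ψ hψ => by
      rw [cjf_mul, cjf_mul, cjf_apply, hc _ (cl g ψ hψ), ← cjf_apply g⁻¹ (cjf g ψ), cjf_inv_cjf]
  have h4 : ∀ g, Commute (q g * q y * (q g)⁻¹) (q y) := fun g => by
    rw [← commutatorElement_eq_one_iff_commute, ← map_inv, ← map_mul, ← map_mul, ← map_commutatorElement, hq, e]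
    intro ψ hψ x hx px
    set u := g * y * g⁻¹
    have hx' := hK.conj_mem x hx (y * u)⁻¹
    obtain ⟨a, ha⟩ := h1 _ hx' (px.conj _)
    obtain ⟨b, hb⟩ := h3 g _ hx' (px.conj _)
    rw [show ⁅u, y⁆ = u * y * (y * u)⁻¹ by simp [commutatorElement_def, mul_assoc], cjf_mul, cjf_apply, cjf_mul,
      ha _ (cl _ ψ hψ), hb ψ hψ, mul_left_comm, ← ha ψ hψ, ← hb _ (cl _ ψ hψ), ← cjf_mul, ← cjf_apply (y * u)⁻¹ (cjf (y * u) ψ),
      cjf_inv_cjf]
  let B := normalClosure ({q y} : Set (Γ ⧸ K))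
  have hB : B ≤ C(B) := normalClosure_le_normal (by
    rintro _ rfl
    refine le_centralizer_iff.1 ((closure_le _).2 fun w hw => ?_) (mem_zpowers (q y))
    obtain ⟨_, rfl, hw⟩ := Group.mem_conjugatesOfSet_iff.1 hw
    obtain ⟨g, rfl⟩ := isConj_iff.1 hw
    obtain ⟨g, rfl⟩ := QuotientGroup.mk'_surjective K g
    refine mem_centralizer_iff.2 ?_
    rintro _ ⟨i, rfl⟩
    exact ((h4 g).zpow_right i).symm)
  have yB : q y ∈ O[{p}](B) := by
    have : zpowers (q y) ≤ B := zpowers_le.2 (subset_normalClosure rfl)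
    exact le_pcore ⟨this, hB.trans ((centralizer_le this).trans (centralizer_le_normalizer _))⟩
      (pR.elt (mem_map_of_mem q hyR)).zpowers (mem_zpowers _)
  haveI : O[{p}](B).Normal := normalizer_eq_top_iff.1 (top_le_iff.1 (norm_pcore le_normalizer_of_normal))
  refine ⟨O[{p}](B).comap q, inferInstance, lt_of_le_of_ne (fun k hk => ?_) fun e => hyK (e.ge yB), .inl ?_⟩
  · rw [mem_comap, (hq k).2 hk]; exact one_mem _
  · have := relIndex_comap (⊥ : Subgroup (Γ ⧸ K)) q (O[{p}](B).comap q)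
    rw [MonoidHom.comap_bot, QuotientGroup.ker_mk', relIndex_bot_left,
      map_comap_eq_self_of_surjective (QuotientGroup.mk'_surjective K)] at this
    exact this ▸ pcore_pi

end H8
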