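import Cfsg.Agent.H8.CenT
import Cfsg.Agent.H18.BG1

/-! Howlett–Isaacs machinery for groups of central type: for a Sylow subgroup `S` and a normal subgroup
`N ≥ Z`, the characters of `N ⊓ ZS` over the central character form one `ZS`-orbit and are fixed by
`N ⊓ N(N ⊓ ZS)`; consequence for chief factors (`CenT.van`, `CenT.no_cyc`, `CenT.sq_idx`). -/

set_option autoImplicit false
open H5 H19 H18 H1 Cfsg Subgroup
open scoped ComplexConjugate commutatorElement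

namespace H8
variable {Γ : Type*} [Group Γ] [Fintype Γ] {Z U K L M Q R S B : Subgroup Γ} {χ f μ ψ θ β β' : Γ → ℂ}
  {e p : ℕ} {z : Γ}

theorem lin_of_over (hQ : Q ⊴ B) (hab : ⁅B, B⁆ ≤ Q) (hθ : θ ∈ irr Q) (hi : B ≤ inertia Q θ)
    (h1 : β ∈ irr B) (h2 : β' ∈ irr B) (o1 : ip Q θ β ≠ 0) (o2 : ip Q θ β' ≠ 0) :
    ∃ ν ∈ irr B, Q ≤ cfker B ν ∧ ν 1 = 1 ∧ β' = β * ν := by
  have r := clifford_res_of_le_inertia hQ h1 hθ o1 hi
  have c0 : ip Q β θ ≠ 0 := fun h => o1 (ip_comm_of_zero h)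
  have e1 : ip B (ind Q B (res Q β)) β' ≠ 0 := by
    rw [ip_ind_left Q _ (fun g hg => cf_conj (cf_of_irr h2) hg), r, ip_smul_left]
    exact mul_ne_zero c0 o2
  rw [← mul_triv, mul_comm, ind_mul Q _ (fun g hg => cf_conj (cf_of_irr h1) hg), ind_triv_eq_sum hQ,
    Finset.sum_mul, ip_sum_left] at e1
  obtain ⟨ν, hν, h0⟩ := Finset.exists_ne_zero_of_sum_ne_zero e1
  obtain ⟨n1, n2⟩ := mem_irrKer.1 hν
  have n3 := irr_apply_one_of_der_le n1 hab n2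
  rw [n3, one_smul, mul_comm] at h0
  exact ⟨ν, n1, n2, n3, (irr_eq_of_ip_ne_zero (irr_mul_lin h1 (chars_of_irr n1) n3) h2 h0).symm⟩

namespace CenT
variable (h : CenT Z χ e)
include h

theorem normal : Z.Normal :=
  ⟨fun z hz g => by rw [mem_center_iff.1 (h.cen hz) g, mul_inv_cancel_right]; exact hz⟩

theorem idx_pi (hS : Hall {p} S ⊤) : PiNat {p} (Z.relIndex (Z ⊔ S)) := by
  haveI := h.normal
  rw [relIndex_sup_left]; exact hS.pi.relIndex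

theorem uniq (hp : p.Prime) (hS : Hall {p} S ⊤) (hμ : μ ∈ loS Z χ (Z ⊔ S)) (hψ : ψ ∈ loS Z χ (Z ⊔ S)) :
    μ = ψ := by
  classical
  set R := Z ⊔ S with hRdef
  have hZR : Z ≤ R := le_sup_left
  have hR : ¬ p ∣ R.index := by
    rw [← relIndex_top_right]; exact (piNat_compl_iff hp).1 (hS.idx_of_le le_sup_right)
  obtain ⟨s, hs⟩ : ∃ s, Z.relIndex R = p ^ s := (h.idx_pi hS).eq_pow H18.relIndex_ne_zero
  obtain ⟨c, e', he', he⟩ := Nat.exists_eq_pow_mul_and_not_dvd (Nat.cast_ne_zero.1 h.e_ne) p hp.ne_one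
  have c1 := (Nat.Prime.coprime_iff_not_dvd hp).2 he'
  have c2 := (Nat.Prime.coprime_iff_not_dvd hp).2 hR
  have hE : (p ^ c) ^ 2 = Z.relIndex R := by
    have := h.sq
    rw [← relIndex_mul_index hZR, hs, he, mul_pow] at this
    rw [hs]
    exact Nat.dvd_antisymm (((c2.pow_left _).pow_left _).dvd_of_dvd_mul_right ⟨_, this.symm⟩)
      ((c1.pow _ 2).dvd_of_dvd_mul_right ⟨_, this⟩)
  have E0 : 0 < p ^ c := pow_pos hp.pos _
  have A1 : ∀ η ∈ loS Z χ R, ((p ^ c : ℕ) : ℤ) ≤ dg η := fun η hη => by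
    obtain ⟨h1, h2⟩ := mem_loS.1 hη
    have d1 := h.dvd le_top (ind_mem_chars le_top (chars_of_irr h1)) (CenT.ind_lo h.cen h2 R ⊤)
    rw [dg_ind le_top (vchar_of_irr h1), relIndex_top_right, relIndex_top_right, ← h.sq] at d1
    obtain ⟨d, hd⟩ := Int.eq_ofNat_of_zero_le (irr_dg_pos h1).le
    have d0 : 0 < d := by simpa [hd] using irr_dg_pos h1
    rw [hd] at d1 ⊢
    norm_cast at d1 ⊢
    rw [_root_.sq] at d1
    have d2 := Nat.dvd_of_mul_dvd_mul_left (Nat.pos_of_ne_zero (Nat.cast_ne_zero.1 h.e_ne)) d1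
    exact Nat.le_of_dvd d0 ((c2.pow_left c).dvd_of_dvd_mul_left ((Dvd.intro _ he.symm).trans d2))
  by_contra hne
  have h1 := h.sum_sq hZR
  have h2 : dg μ ^ 2 + dg ψ ^ 2 ≤ ∑ μ ∈ loS Z χ R, dg μ ^ 2 := by
    rw [← Finset.sum_pair (f := fun μ => dg μ ^ 2) hne]
    exact Finset.sum_le_sum_of_subset_of_nonneg (by
      intro x hx
      rcases Finset.mem_insert.1 hx with rfl | hx
      · exact hμ
      · rwa [Finset.mem_singleton.1 hx]) fun _ _ _ => sq_nonneg _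
  rw [h1, ← hE] at h2
  have a1 := A1 μ hμ
  have a2 := A1 ψ hψ
  have a3 : (0 : ℤ) < ((p ^ c : ℕ) : ℤ) := by exact_mod_cast E0
  push_cast at h2 a1 a2 a3
  nlinarith

theorem exists_lo (hU : Z ≤ U) : ∃ θ, θ ∈ loS Z χ U := by
  obtain ⟨η, g1, g2⟩ := exists_irr_ip_ne_zero (φ := res U χ)
    (cf_of_chars (res_mem_chars le_top (chars_of_irr h.irr))) (fun h0 => by
      have := congrFun h0 1
      rw [res_one] at this
      exact irr_apply_one_ne_zero h.irr this)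
  exact ⟨η, mem_loS.2 ⟨g1, h.lo_of_ip hU (h.lo.res hU) g1 g2⟩⟩

theorem cfcj_lo (hθ : θ ∈ loS Z χ Q) {g : Γ} (hg : g ∈ N(Q)) : cfcj g θ ∈ loS Z χ Q :=
  mem_loS.2 ⟨cfcj_mem_irr_N (mem_loS.1 hθ).1 hg, by
    rw [← inv_inv g, cfcj_eq_cjf]; exact CenT.cjf_lo h.cen (mem_loS.1 hθ).2 g⁻¹⟩

theorem lo_over (hZ : Z ≤ Q) (hQ : Q ≤ U) (hθ : θ ∈ loS Z χ Q) (hβ : β ∈ H19.irr U) (o : ip Q θ β ≠ 0) :
    β ∈ loS Z χ U :=
  mem_loS.2 ⟨hβ, h.lo_of_ip (hZ.trans hQ) (CenT.ind_lo h.cen (mem_loS.1 hθ).2 Q U) hβ (by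
    rwa [ip_ind_left Q _ fun g hg => cf_conj (cf_of_irr hβ) hg])⟩

theorem orb (hp : p.Prime) (hS : Hall {p} S ⊤) (hZ : Z ≤ Q) (hQ : Q ⊴ Z ⊔ S) (hθ : θ ∈ loS Z χ Q) :
    loS Z χ Q = cfclass (Z ⊔ S) θ := by
  ext μ
  refine ⟨fun hμ => ?_, fun hμ => ?_⟩
  · obtain ⟨η, g1, g2⟩ := exists_irr_over hQ.le (mem_loS.1 hθ).1
    obtain ⟨η', g1', g2'⟩ := exists_irr_over hQ.le (mem_loS.1 hμ).1
    rw [h.uniq hp hS (h.lo_over hZ hQ.le hμ g1' g2') (h.lo_over hZ hQ.le hθ g1 g2)] at g2'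
    exact clifford_cfclass hQ g1 (mem_loS.1 hθ).1 (mem_loS.1 hμ).1 g2 g2'
  · obtain ⟨g, hg, rfl⟩ := mem_cfclass.1 hμ
    exact h.cfcj_lo hθ (hQ.norm hg)

theorem idx_N (hp : p.Prime) (hS : Hall {p} S ⊤) (hZ : Z ≤ Q) (hQ : Q ⊴ Z ⊔ S) (hθ : θ ∈ loS Z χ Q) :
    PiNat {p} ((inertia Q θ).relIndex N(Q)) := by
  have B2 := h.orb hp hS hZ hQ hθ
  have hN : (inertia Q θ).relIndex N(Q) = (inertia Q θ).relIndex (Z ⊔ S) := by
    rw [← card_cfclass le_rfl, ← card_cfclass hQ.norm, ← B2]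
    congr 1
    ext μ
    refine ⟨fun hμ => ?_, fun hμ => ?_⟩
    · obtain ⟨g, hg, rfl⟩ := mem_cfclass.1 hμ
      exact h.cfcj_lo hθ hg
    · rw [B2] at hμ
      obtain ⟨g, hg, rfl⟩ := mem_cfclass.1 hμ
      exact cfcj_mem_cfclass (hQ.norm hg)
  rw [hN]
  exact (h.idx_pi hS).of_dvd (relIndex_dvd_left (hZ.trans (le_inertia (cf_of_irr (mem_loS.1 hθ).1))))

theorem inf_eq (hZ : Z ≤ K) : K ⊓ (Z ⊔ S) = Z ⊔ (K ⊓ S) := by
  haveI := h.normal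
  exact Nrm2.modular_left (Or.inr le_normalizer_of_normal) hZ

theorem idx_L (hp : p.Prime) (hS : Hall {p} S ⊤) [K.Normal] [L.Normal] (hZ : Z ≤ K)
    (hθ : θ ∈ loS Z χ (K ⊓ (Z ⊔ S))) :
    PiNat {p} ((inertia (K ⊓ (Z ⊔ S)) θ).relIndex (L ⊓ N(K ⊓ (Z ⊔ S)))) :=
  (h.idx_N hp hS (le_inf hZ le_sup_left) (nml_inf_of_norm' le_normalizer_of_normal) hθ).of_dvd
    ((nml_inf_of_norm' le_normalizer_of_normal).relIndex_dvd' inertia_le_N)

/-- `K ⊓ N(K ⊓ ZS)` fixes the characters of `K ⊓ ZS` over the central character -/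
theorem fix (hp : p.Prime) (hS : Hall {p} S ⊤) [K.Normal] (hZ : Z ≤ K)
    (hθ : θ ∈ loS Z χ (K ⊓ (Z ⊔ S))) : K ⊓ N(K ⊓ (Z ⊔ S)) ≤ inertia (K ⊓ (Z ⊔ S)) θ := by
  refine relIndex_eq_one_iff.1 ((h.idx_L hp hS hZ hθ).eq_one (PiNat.of_dvd ?_
    ((relIndex_dvd_left (le_inertia (cf_of_irr (mem_loS.1 hθ).1))).trans
      (relIndex_dvd_right (le_inf inf_le_left le_N) inf_le_left))))
  exact (hS.inf_nml' ⟨le_top, le_normalizer_of_normal⟩).idx_of_le (inf_le_inf_left _ le_sup_right)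

theorem frat (hp : p.Prime) (hS : Hall {p} S ⊤) [K.Normal] (hZ : Z ≤ K) (g : Γ) :
    ∃ k ∈ K, ∃ n ∈ N(K ⊓ (Z ⊔ S)), g = k * n := by
  haveI := h.normal
  obtain ⟨k, hk, n, hn, rfl⟩ := frattini_elt (g := g) hp
    (hS.inf_nml' (K := K) ⟨le_top, le_normalizer_of_normal⟩) (le_normalizer_of_normal (mem_top g))
  refine ⟨k, hk, n, ?_, rfl⟩
  rw [h.inf_eq hZ]
  exact norm_sup le_normalizer_of_normal le_rfl hn

theorem fix2 (hp : p.Prime) (hS : Hall {p} S ⊤) [K.Normal] [L.Normal] (hZ : Z ≤ K) (hKL : K ≤ L)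
    (h3 : ∀ U, K ≤ U → PiNat {p} (U.relIndex L) → L ≤ U) (hθ : θ ∈ loS Z χ (K ⊓ (Z ⊔ S))) :
    L ⊓ N(K ⊓ (Z ⊔ S)) ≤ inertia (K ⊓ (Z ⊔ S)) θ := by
  set Q := K ⊓ (Z ⊔ S)
  set T := inertia Q θ
  have e1 : L = (K ⊔ T) ⊓ L ⊔ (L ⊓ N(Q)) := by
    refine le_antisymm (fun g hg => ?_) (sup_le inf_le_right inf_le_left)
    obtain ⟨k, hk, n, hn, rfl⟩ := h.frat hp hS hZ g
    exact mul_mem_sup ⟨mem_sup_left hk, hKL hk⟩ ⟨(L.mul_mem_cancel_left (hKL hk)).1 hg, hn⟩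
  have e2 : L ≤ K ⊔ T := by
    refine h3 _ le_sup_left ((h.idx_L (L := L) hp hS hZ hθ).of_dvd ?_)
    refine Dvd.dvd.trans ?_ (relIndex_dvd_left (le_sup_right : T ≤ K ⊔ T))
    let q := QuotientGroup.mk' K
    have k1 : (K ⊔ T) ⊔ q.ker = K ⊔ T := by
      rw [QuotientGroup.ker_mk']; exact sup_eq_left.2 le_sup_left
    have k2 : L ⊓ N(Q) ⊔ q.ker = L := by
      rw [QuotientGroup.ker_mk']
      refine le_antisymm (sup_le inf_le_left hKL) fun g hg => ?_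
      obtain ⟨k, hk, n, hn, rfl⟩ := h.frat hp hS hZ g
      exact mul_mem (mem_sup_right hk) (mem_sup_left ⟨(L.mul_mem_cancel_left (hKL hk)).1 hg, hn⟩)
    have := relIndex_map_map q (K ⊔ T) (L ⊓ N(Q))
    rw [k1, k2] at this
    rw [← this, ← relIndex_comap, comap_map_eq, k1]
  intro g hg
  obtain ⟨k, hk, t, ht, rfl⟩ := mem_sup_of_normal_left.1 (e2 hg.1)
  exact mul_mem (h.fix hp hS hZ hθ ⟨hk, (mul_mem_cancel_right (inertia_le_N ht)).1 hg.2⟩) ht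

theorem van (hp : p.Prime) (hS : Hall {p} S ⊤) [K.Normal] [L.Normal] (hZ : Z ≤ K) (hKM : K ≤ M)
    (hM : M ⊴ L) (h1 : ⁅M ⊓ (Z ⊔ S), L ⊓ (Z ⊔ S)⁆ ≤ K)
    (h2 : ∀ R ≤ M ⊓ (Z ⊔ S), M ⊓ N(L ⊓ (Z ⊔ S)) ≤ N(R) → R ≤ K ⊔ ⁅R, M ⊓ N(L ⊓ (Z ⊔ S))⁆)
    (h3 : ∀ U, K ≤ U → PiNat {p} (U.relIndex L) → L ≤ U) (hθ : θ ∈ loS Z χ (K ⊓ (Z ⊔ S)))
    (hβ : β ∈ H19.irr (M ⊓ (Z ⊔ S))) (o : ip (K ⊓ (Z ⊔ S) : Subgroup Γ) θ β ≠ 0) {x : Γ}
    (hx : x ∉ K ⊓ (Z ⊔ S)) : β x = 0 := by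
  have hKL := hKM.trans hM.le
  have LT := h.fix2 hp hS hZ hKL h3 hθ
  have LA := fun η hη => h.fix (θ := η) hp hS (hZ.trans hKL) hη
  have hZP : Z ≤ Z ⊔ S := le_sup_left
  generalize Z ⊔ S = P at *
  set Q := K ⊓ P with hQ
  set B := M ⊓ P with hB
  set A := L ⊓ P with hA
  set Y := M ⊓ N(A) with hY
  have t1 := (mem_loS.1 hθ).1
  have hZQ : Z ≤ Q := le_inf hZ hZP
  have QB : Q ≤ B := inf_le_inf_right _ hKM
  have BA : B ≤ A := inf_le_inf_right _ hM.le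
  have AQ : A ≤ N(Q) := norm_inf le_normalizer_of_normal (inf_le_right.trans le_N)
  have AB : A ≤ N(B) := norm_inf (inf_le_left.trans hM.norm) (inf_le_right.trans le_N)
  have YQ : Y ≤ N(Q) := by
    rw [show Q = K ⊓ A by rw [hA, ← inf_assoc, inf_eq_left.2 hKL]]
    exact norm_inf le_normalizer_of_normal inf_le_right
  have YB : Y ≤ N(B) := by
    rw [show B = M ⊓ A by rw [hA, ← inf_assoc, inf_eq_left.2 hM.le]]
    exact norm_inf (inf_le_left.trans le_N) inf_le_right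
  have nQ : Q ⊴ B := ⟨QB, BA.trans AQ⟩
  have AT : A ≤ inertia Q θ := (le_inf inf_le_left AQ).trans LT
  have YT : Y ≤ inertia Q θ := (le_inf (inf_le_left.trans hM.le) YQ).trans LT
  have cBA : ⁅B, A⁆ ≤ Q := le_inf h1 (comm_le_of_le inf_le_right inf_le_right)
  have hab : ⁅B, B⁆ ≤ Q := (commutator_mono le_rfl BA).trans cBA
  have ov : ∀ β ∈ H19.irr B, ip Q θ β ≠ 0 → ∀ g ∈ N(B), g ∈ inertia Q θ →
      ∃ ν ∈ H19.irr B, Q ≤ cfker B ν ∧ ν 1 = 1 ∧ cfcj g β = β * ν := fun β hβ o g g1 g2 =>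
    lin_of_over nQ hab t1 (BA.trans AT) hβ (cfcj_mem_irr_N hβ g1) o (by
      rwa [← (mem_inertia.1 g2).2, ip_cfcj])
  have ag : ∀ β ∈ H19.irr B, ip Q θ β ≠ 0 → ∀ ν ∈ H19.irr B, Q ≤ cfker B ν → ν 1 = 1 →
      (∀ y ∈ Y, ∀ x, β x ≠ 0 → cfcj y ν x = ν x) → ∀ x, β x ≠ 0 → ν x = 1 := by
    intro β hβ o ν n1 n2 n3 hy x hx
    have sB : ∀ x, β x ≠ 0 → x ∈ B := fun x hx => mem_of_cf_ne_zero (cf_of_irr hβ) hx
    set R := Q ⊔ closure {x | β x ≠ 0} with hR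
    have RB : R ≤ B := sup_le QB ((closure_le _).2 sB)
    have YR : Y ≤ N(R) := norm_sup YQ fun y hy => mem_N_of_cj_le (by
      obtain ⟨σ, -, -, -, s4⟩ := ov β hβ o y (YB hy) (YT hy)
      rw [H18.cj, MonoidHom.map_closure, closure_le]
      rintro _ ⟨x, hx, rfl⟩
      refine subset_closure fun h0 => hx ?_
      rw [← cfcj_conj y β x, s4]
      exact mul_eq_zero_of_left h0 _)
    have nc := chars_of_irr n1
    let W : Subgroup Γ :=
      { carrier := {r | r ∈ B ∧ ∀ y ∈ Y, ν (y⁻¹ * r * y) = ν r}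
        mul_mem' := fun {a b} ha hb => ⟨mul_mem ha.1 hb.1, fun y hy => by
          rw [show y⁻¹ * (a * b) * y = (y⁻¹ * a * y) * (y⁻¹ * b * y) by group,
            lin_mul nc n3 (conj_mem_N' (YB hy) ha.1) (conj_mem_N' (YB hy) hb.1), ha.2 y hy, hb.2 y hy,
            lin_mul nc n3 ha.1 hb.1]⟩
        one_mem' := ⟨one_mem _, fun y _ => by simp⟩
        inv_mem' := fun {a} ha => ⟨inv_mem ha.1, fun y hy => by
          rw [show y⁻¹ * a⁻¹ * y = (y⁻¹ * a * y)⁻¹ by group, vchar_apply_inv (vchar_of_irr n1),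
            vchar_apply_inv (vchar_of_irr n1), ha.2 y hy]⟩ }
    have RW : R ≤ W := sup_le (fun a ha => ⟨QB ha, fun y hy => by
      rw [cfker_apply (n2 ha), cfker_apply (n2 (conj_mem_N' (YQ hy) ha))]⟩)
      ((closure_le _).2 fun a ha => ⟨sB a ha, fun y hy' => hy y hy' a ha⟩)
    have c1 : ⁅R, Y⁆ ≤ cfker B ν := commutator_le.2 fun r hr y hy => by
      have a1 := conj_mem_N (YB hy) (inv_mem (RB hr))
      have a2 := (RW (inv_mem hr)).2 y⁻¹ (inv_mem hy)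
      rw [inv_inv] at a2
      rw [mem_cfker_of_irr n1, commutatorElement_def,
        show r * y * r⁻¹ * y⁻¹ = r * (y * r⁻¹ * y⁻¹) by group, lin_mul nc n3 (RB hr) a1, a2,
        ← lin_mul nc n3 (RB hr) (inv_mem (RB hr)), mul_inv_cancel]
      exact ⟨mul_mem (RB hr) a1, rfl⟩
    have c2 : R ≤ cfker B ν := by
      have := le_inf le_rfl (h2 R RB YR)
      rw [Nrm2.modular_left' (Or.inr le_normalizer_of_normal) (comm_le_left YR)] at this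
      exact this.trans (sup_le ((le_inf inf_le_right (inf_le_left.trans (RB.trans inf_le_right))).trans n2) c1)
    rw [cfker_apply (c2 (mem_sup_right (subset_closure hx))), n3]
  have s2 : ∀ β ∈ H19.irr B, ip Q θ β ≠ 0 → A ≤ inertia B β := by
    intro β hβ o a ha
    obtain ⟨ν, n1, n2, n3, n4⟩ := ov β hβ o a (AB ha) (AT ha)
    have := ag β hβ o ν n1 n2 n3 fun y hy x hx => by
      obtain ⟨σ, s1, s2, s3, s4⟩ := ov β hβ o y (YB hy) (YT hy)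
      have xB := mem_of_cf_ne_zero (cf_of_irr hβ) hx
      have b1 : y * a * y⁻¹ * a⁻¹ ∈ B := by
        refine ⟨?_, (mul_mem (conj_mem_N hy.2 ha) (inv_mem ha)).2⟩
        rw [show y * a * y⁻¹ * a⁻¹ = y * (a * y⁻¹ * a⁻¹) by group]
        exact mul_mem hy.1 (conj_mem_N (hM.norm ha.1) (inv_mem hy.1))
      have e1 : cfcj y (cfcj a β) = cfcj a (cfcj y β) := by
        rw [← cfcj_of_mem (cfcj_mem_cf_N (cfcj_mem_cf_N (cf_of_irr hβ) (YB hy)) (AB ha)) b1]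
        simp only [cfcj_cfcj]
        congr 1
        group
      have e2 : cfcj a σ x = σ x := by
        rw [cfcj_apply, show a⁻¹ * x * a = x * ⁅x⁻¹, a⁻¹⁆ by rw [commutatorElement_def]; group]
        exact cfker_mul' (cf_of_irr s1) (s2 (cBA (commutator_mem_commutator (inv_mem xB) (inv_mem ha)))) _
      rw [n4, s4, cfcj_mul, cfcj_mul, n4, s4] at e1
      have e3 := congrFun e1 x
      simp only [Pi.mul_apply] at e3
      rw [e2, mul_right_comm (β x) (ν x)] at e3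
      exact mul_left_cancel₀ (mul_ne_zero hx (lin_ne_zero (chars_of_irr s1) s3 xB)) e3
    refine mem_inertia.2 ⟨AB ha, n4.trans (funext fun x => ?_)⟩
    by_cases hx : β x = 0
    · simp [hx]
    · simp [this x hx]
  have s3 : ∀ β ∈ H19.irr B, ip Q θ β ≠ 0 → ∀ y ∈ Y, cfcj y β = β := by
    intro β hβ o y hy
    obtain ⟨η, g1, g2⟩ := exists_irr_over BA hβ
    have g3 := LA η (h.lo_over (hZQ.trans QB) BA (h.lo_over hZQ QB hθ hβ o) g1 g2) ⟨hM.le hy.1, hy.2⟩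
    have g4 := clifford_res_of_le_inertia ⟨BA, AB⟩ g1 hβ g2 (s2 β hβ o)
    have g5 := cfcj_res_N (YB hy) η
    rw [(mem_inertia.1 g3).2, g4, map_smul] at g5
    exact smul_right_injective _ (fun h0 => g2 (ip_comm_of_zero h0)) g5
  by_contra h0
  obtain ⟨μ, m1, m2, m3⟩ := exists_irr_not_mem_cfker nQ hx
  have m4 := irr_apply_one_of_der_le m1 hab m2
  refine m3 ((ag β hβ o μ m1 m2 m4 (fun y hy x hx => ?_) x h0).trans m4.symm)
  have := s3 _ (irr_mul_lin hβ (chars_of_irr m1) m4) (by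
    rwa [ip_congr Q (φ := θ) (ψ := β * μ) (ψ' := β) fun x hx => by
      rw [Pi.mul_apply, cfker_apply (m2 (mem_of_cf_ne_zero (cf_of_irr t1) hx)), m4, mul_one]]) y hy
  rw [cfcj_mul, s3 β hβ o y hy] at this
  exact mul_left_cancel₀ hx (congrFun this x)

omit h in
theorem ip_mul_card (U V : Subgroup Γ) (φ ψ : Γ → ℂ) :
    ip U φ ψ * Nat.card U = ip V φ ψ * Nat.card V := by
  have : ∀ W : Subgroup Γ, (Nat.card W : ℂ) ≠ 0 := fun W => Nat.cast_ne_zero.2 card_ne_zero'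
  simp only [ip]
  field_simp [this U, this V]

/-- the index `|M ⊓ ZS : K ⊓ ZS|` is a square, and `1` in the cyclic case -/
theorem sq_idx (hp : p.Prime) (hS : Hall {p} S ⊤) [K.Normal] [L.Normal] (hZ : Z ≤ K) (hKM : K ≤ M)
    (hM : M ⊴ L) (h1 : ⁅M ⊓ (Z ⊔ S), L ⊓ (Z ⊔ S)⁆ ≤ K)
    (h2 : ∀ R ≤ M ⊓ (Z ⊔ S), M ⊓ N(L ⊓ (Z ⊔ S)) ≤ N(R) → R ≤ K ⊔ ⁅R, M ⊓ N(L ⊓ (Z ⊔ S))⁆)
    (h3 : ∀ U, K ≤ U → PiNat {p} (U.relIndex L) → L ≤ U) :
    IsSquare (K.relIndex (M ⊓ (Z ⊔ S))) ∧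
      ((∃ s ∈ M ⊓ (Z ⊔ S), M ⊓ (Z ⊔ S) ≤ K ⊔ zpowers s) → M ⊓ (Z ⊔ S) ≤ K) := by
  obtain ⟨θ, hθ⟩ := h.exists_lo (U := K ⊓ (Z ⊔ S)) (le_inf hZ le_sup_left)
  have v := fun β hβ o x hx => h.van (β := β) (x := x) hp hS hZ hKM hM h1 h2 h3 hθ hβ o hx
  have LT := h.fix2 hp hS hZ (hKM.trans hM.le) h3 hθ
  generalize Z ⊔ S = P at *
  have eQ : K.relIndex (M ⊓ P) = (K ⊓ P).relIndex (M ⊓ P) := by
    rw [← relIndex_inf_right, ← inf_assoc, inf_eq_left.2 hKM]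
  set Q := K ⊓ P with hQ
  set B := M ⊓ P with hB
  have t1 := (mem_loS.1 hθ).1
  have QB : Q ≤ B := inf_le_inf_right _ hKM
  have BQ : B ≤ N(Q) := norm_inf le_normalizer_of_normal (inf_le_right.trans le_N)
  have BT : B ≤ inertia Q θ := (le_inf (inf_le_left.trans hM.le) BQ).trans LT
  have key : ∀ β ∈ H19.irr B, ∀ n : ℕ, n ≠ 0 → res Q β = (n : ℂ) • θ → Q.relIndex B = n * n := by
    intro β hβ n n0 e1
    have o : ip Q θ β ≠ 0 := by
      rw [← ip_res_right (irr_supp t1), e1, ip_smul_right, ip_irr_self t1]; simpa using n0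
    rw [res_eq_self (v β hβ o)] at e1
    have e2 := ip_mul_card B Q β β
    rw [ip_irr_self hβ, e1, ip_smul_left, ip_smul_right, ip_irr_self t1, ← H18.card_mul_relIndex QB] at e2
    simp only [map_natCast, mul_one, one_mul] at e2
    norm_cast at e2
    exact Nat.eq_of_mul_eq_mul_left card_pos' (e2.trans (mul_comm _ _))
  constructor
  · obtain ⟨β, g1, g2⟩ := exists_irr_over QB t1
    have g3 := clifford_res_of_le_inertia ⟨QB, BQ⟩ g1 t1 g2 BT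
    obtain ⟨n, hn⟩ := ip_nat (chars_of_irr t1) (res_mem_chars QB (chars_of_irr g1))
    rw [ip_res_right (irr_supp t1)] at hn
    rw [← ip_conj, hn, map_natCast] at g3
    exact ⟨n, eQ.trans (key β g1 n (by rintro rfl; exact g2 (by simpa using hn)) g3)⟩
  · rintro ⟨s, hs, hle⟩
    obtain ⟨η, g1, g2⟩ := exists_ext_cyclic (BQ hs) t1 (s := s) (by
      rw [← cfcj_eq_cjf]; exact (mem_inertia.1 (inv_mem (BT hs))).2)
    have e : Q ⊔ zpowers s = B := by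
      refine le_antisymm (sup_le QB (zpowers_le.2 hs)) ?_
      have := le_inf le_rfl hle
      rw [Nrm2.modular_left' (Or.inr le_normalizer_of_normal) (zpowers_le.2 hs)] at this
      exact this.trans (sup_le_sup_right (le_inf inf_le_right (inf_le_left.trans inf_le_right)) _)
    rw [e] at g1
    exact (relIndex_eq_one_iff.1 (key η g1 1 one_ne_zero (by simpa using g2))).trans inf_le_left

end CenT
end H8
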