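import Cfsg.Agent.H8.Pairs4
import Cfsg.Agent.H8.B1
import Cfsg.Agent.H4.PSol
import Cfsg.Agent.S4492
import Cfsg.Agent.S4436
import Cfsg.Agent.S4435

/-! Fong's theorems in idempotent form (`fong_blk`, `blk_Br_of_cop`), blocks of `C_G(R)` induced to `G`
(`isInducedBlock_cC_iff`), and the Fong reduction for `p`-solvable groups (`fong_red`). -/

open H5 H7 Cfsg MonoidAlgebra
open scoped Pointwise

namespace H8

variable {G : Type*} [Group G] {p : ℕ} [hp : Fact p.Prime] {K H Q R : Subgroup G}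

omit hp in
theorem exists_mul_of_nN (h : Q ≤ nN K) {x : G} (hx : x ∈ K ⊔ Q) : ∃ k ∈ K, ∃ q ∈ Q, k * q = x := by
  rw [← SetLike.mem_coe, Subgroup.coe_mul_of_right_le_normalizer_left _ _ h] at hx
  exact hx

theorem sylIn_sup_of_cop (hK : ¬ p ∣ Nat.card K) (hQ : IsPGroup p Q) (h : Q ≤ nN K) :
    SylIn p Q (K ⊔ Q) :=
  sylIn_of_maximal le_sup_right hQ fun S hS h1 h2 => le_antisymm (fun x hx => by
    obtain ⟨k, hk, q, hq, rfl⟩ := exists_mul_of_nN h (h2 hx)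
    rw [(isPE_of_mem hS ((S.mul_mem_cancel_right (h1 hq)).1 hx)).eq_one (not_dvd_orderOf_of_mem hK hk),
      one_mul]
    exact hq) h1

theorem mem_of_mem_sup_nN [Finite G] (hQ : IsPGroup p Q) (h : Q ≤ nN K) {x : G} (hx : x ∈ K ⊔ Q)
    (hr : ¬ p ∣ orderOf x) : x ∈ K := by
  haveI : (K.subgroupOf (K ⊔ Q)).Normal :=
    (Subgroup.normal_subgroupOf_iff_le_normalizer le_sup_left).2 (sup_le (le_nN_self K) h)
  refine mem_of_mem_sup (G := (K ⊔ Q : Subgroup G)) (N := K.subgroupOf _) (P := Q.subgroupOf _) (g := ⟨x, hx⟩)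
    (hQ.comap_of_injective _ (Subgroup.subtype_injective _)) ?_ (by simpa using hr)
  rw [← Subgroup.subgroupOf_sup le_sup_left le_sup_right, Subgroup.subgroupOf_self]
  trivial

theorem inf_nN_le_cC (hK : ¬ p ∣ Nat.card K) (hQ : IsPGroup p Q) (h : Q ≤ nN K) : K ⊓ nN Q ≤ cC Q :=
  fun x hx q hq => by
    have h1 : x * q * x⁻¹ * q⁻¹ ∈ Q := mul_mem ((conj_mem_of_nN hx.2).2 hq) (inv_mem hq)
    have h2 : x * (q * x⁻¹ * q⁻¹) ∈ K := mul_mem hx.1 ((conj_mem_of_nN (h hq)).2 (inv_mem hx.1))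
    have h3 := (isPE_of_mem hQ h1).eq_one (not_dvd_orderOf_of_mem hK (by simpa [mul_assoc] using h2))
    rw [mul_inv_eq_one, mul_inv_eq_iff_eq_mul] at h3
    exact h3.symm

omit hp in
theorem index_center_congr {G' : Type*} [Group G'] [Finite G] (e : G ≃* G') :
    (Subgroup.center G).index = (Subgroup.center G').index := by
  refine Nat.eq_of_mul_eq_mul_left (Nat.card_pos (α := Subgroup.center G)) ?_
  rw [Subgroup.card_mul_index, Nat.card_congr (Subgroup.centerCongr e).toEquiv, Subgroup.card_mul_index,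
    Nat.card_congr e.toEquiv]

omit hp in
theorem apply_one_eq_of_ext [Fintype G] {N : Subgroup G} [N.Normal] [Fintype N] (h : commutator G ≤ N)
    {χ ψ : G → ℂ} (hχ : IsCharacter G χ) (hχN : IsIrrCharacter N fun n : N => χ n)
    (hψ : IsIrrCharacter G ψ) (e : classInner (fun n : N => ψ n) (fun n : N => χ n) ≠ 0) :
    ψ 1 = χ 1 := by
  obtain ⟨β, h1, h2, rfl⟩ := H6.gallagher_surj hχ hχN hψ e
  rw [Pi.mul_apply, show β 1 = 1 from apply_one_of_mem_kerSet h (β := ⟨β, h1⟩) fun n hn => h2 ⟨n, hn⟩,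
    one_mul]

omit hp in
theorem apply_one_eq_of_cop {N A : Subgroup G} [Finite G] [N.Normal] [Fintype N] (hNA : N ≤ A)
    (h : ⁅A, A⁆ ≤ N) (hc : (Nat.card N).Coprime (N.relIndex A)) {θ : N → ℂ} (hθ : IsIrrCharacter N θ)
    (hi : ∀ g ∈ A, H6.cj θ g = θ) {η : A → ℂ} (hη : IsIrrCharacter A η)
    (e : classInner (fun n : N => η ⟨n, hNA n.2⟩) θ ≠ 0) : η 1 = θ 1 := by
  classical
  haveI := Fintype.ofFinite G
  obtain ⟨χ, h1, h2⟩ := H6.ext_of_coprime_card (N := N.subgroupOf A) (H6.isIrr_sOf hNA hθ)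
    (fun g => by rw [H6.cj_sOf, hi g g.2])
    (by rwa [Nat.card_congr (Subgroup.subgroupOfEquivOfLe hNA).toEquiv])
  refine (apply_one_eq_of_ext (N := N.subgroupOf A) ?_ h1.isCharacter (by
    rw [funext h2]; exact H6.isIrr_sOf hNA hθ) hη (by rwa [funext h2, H6.inner_res_sOf hNA])).trans (h2 1)
  rw [Subgroup.subgroupOf, ← Subgroup.map_le_iff_le_comap, commutator, Subgroup.map_commutator,
    ← MonoidHom.range_eq_map, Subgroup.range_subtype]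
  exact h

variable [Finite G] {M : Ideal AlgInt} [PM p M] {c : (F M)[G]}

theorem def_of_cop (hK : ¬ p ∣ Nat.card K) (hQ : IsPGroup p Q) (h : Q ≤ nN K) (hc : Blk K c)
    (hi : c ∈ Inv (F M) Q) : Def p (K ⊔ Q) c Q := by
  have hT : Tw K (K ⊔ Q) := ⟨le_sup_left, sup_le (le_nN_self K) h⟩
  have hi' := mem_Inv_sup.2 ⟨hc.mem.2, hi⟩
  obtain ⟨D, hD⟩ := exists_def p hT (Prim.of_Inv hc le_sup_left hi')
  obtain ⟨x, hx, h1⟩ := (fong hT hc hi' hD).2 Q le_sup_right hQ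
  obtain ⟨y, hy, h2⟩ := (sylIn_sup_of_cop hK hD.pg (hD.le.trans hT.norm)).exists_cj_le
    (isPGroup_cj hQ x) h1
  exact hD.of_card le_sup_right hQ ((hD.Br_ne_zero_iff hi' le_sup_right hQ).2
    ⟨y * x, mul_mem (sup_le le_sup_left hD.le hy) hx, cj_cj y x Q ▸ h2⟩)
    ((sylIn_sup_of_cop hK hQ h).card_le hD.pg hD.le)

theorem blk_Br_of_cop (hK : ¬ p ∣ Nat.card K) (hQ : IsPGroup p Q) (h : Q ≤ nN K) (hc : Blk K c)
    (hi : c ∈ Inv (F M) Q) : Blk (K ⊓ cC Q) (Br Q c) := by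
  have hT : Tw K (K ⊔ Q) := ⟨le_sup_left, sup_le (le_nN_self K) h⟩
  have h1 := ((def_of_cop hK hQ h hc hi).prim_Br hT
    (Prim.of_Inv hc le_sup_left (mem_Inv_sup.2 ⟨hc.mem.2, hi⟩))).1
  refine h1.of_le (fun a ha => ⟨ha.1, Inv_anti (fun x hx => ?_) (mem_Inv_sup.2
    ⟨ha.2, mem_Inv_of_Sp_cC (P := Q) (Sp_mono inf_le_right ha.1)⟩)⟩) (Br_mem_blk hc.mem inf_le_left)
  obtain ⟨k, hk, q, hq, rfl⟩ := exists_mul_of_nN h hx.1
  exact Subgroup.mul_mem_sup ⟨hk, inf_nN_le_cC hK hQ h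
    ⟨hk, ((nN Q).mul_mem_cancel_right (le_nN_self Q hq)).1 hx.2⟩⟩ hq

theorem fong_blk (hT : Tw K H) (hK : ¬ p ∣ Nat.card K) (hQ : IsPGroup p Q) (hQH : Q ≤ H)
    (hL : H ≤ nN (K ⊔ Q)) (hC : ∀ y ∈ H ⊓ cC Q, ¬ p ∣ orderOf y → y ∈ K) (hc : Blk K c)
    (hi : c ∈ Inv (F M) H) : Blk H c := by
  have h := hQH.trans hT.norm
  have hle : K ⊔ Q ≤ H := sup_le hT.le hQH
  have h1 : Blk (K ⊔ Q) c := (blk_iff_of_reg le_sup_left fun g hg => mem_of_mem_sup_nN hQ h hg).2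
    (Prim.of_Inv hc le_sup_left (Inv_anti hle hi))
  have h2 := blk_Br_of_cop hK hQ h hc (Inv_anti hQH hi)
  have hm : c ∈ ZI (F M) H H := ⟨Sp_mono hT.le hc.mem.1, hi⟩
  have h3 : ∀ e ∈ ZI (F M) H H, IsIdempotentElem e → e * c ≠ 0 → Br Q (e * c) = Br Q c := fun e he hi h0 => by
    have h4 := mul_mem he hm
    have h5 := (comm_blk H).idem_mul he hm hi hc.idem
    have h6 : e * c * c = e * c := by rw [mul_assoc, hc.idem]
    have h7 := knoerr_core ⟨hle, hL⟩ h1 hQ le_sup_right h2.ne ⟨h4.1, Inv_anti hle h4.2⟩ h5 h6 h0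
    have h8 := Br_idem hQ (Inv_anti hQH h4.2) h5
    have h9 : Br Q (e * c) ∈ ZI (F M) (K ⊓ cC Q) (K ⊓ cC Q) := by
      have := Br_mem_blk (P := Q) h4 inf_le_left
      exact ⟨mem_Sp_iff.2 fun g hg => ⟨hC g (mem_of_Sp this.1 hg) (not_dvd_of_idem this h8 hg),
        (mem_of_Sp this.1 hg).2⟩, Inv_anti (inf_le_inf_right _ hT.le) this.2⟩
    have := h2.mul_eq h9 h8
    rw [← Br_mul' hQ (Inv_anti hQH h4.2) (Inv_anti hQH hm.2), h6] at this
    exact this h7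
  refine ⟨hm, hc.idem, hc.ne, fun j hj hi => ?_⟩
  by_contra! e
  have h4 := h3 j hj hi e.1
  have h5 := h3 (1 - j) (sub_mem (one_mem _) hj) hi.one_sub (by
    rw [sub_mul, one_mul]; exact sub_ne_zero.2 e.2.symm)
  rw [sub_mul, one_mul, map_sub, h4, sub_self] at h5
  exact h2.ne h5.symm

theorem isInducedBlock_cC_iff (hR : IsPGroup p R) {b : Set (IrrCharacter (cC R))}
    {B : Set (IrrCharacter G)} (hb : IsPBlock M b) (hB : IsPBlock M B) :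
    IsInducedBlock M (cC R) b B ↔ Br R (fB M B) * io M (cC R) b = io M (cC R) b := by
  have hi := (cC R).subtype_injective
  have h1 : cC R ≤ (cC R).subtype.range := (Subgroup.range_subtype _).ge
  have h2 : (cC R).subtype.range ≤ nN R := (Subgroup.range_subtype _).le.trans (cC_le_nN R)
  have h3 : ∀ z : (F M)[G], res (cC R).subtype (Br R z) = res (cC R).subtype z := fun z =>
    MonoidAlgebra.ext (Finsupp.ext fun x => by
      rw [coeff_res, coeff_res]; exact coeff_Br_of_mem _ x.2)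
  rw [isInducedBlock_iff_indB, io, ← mp_res_Br hi h1, ← map_mul, (mp_injective hi).eq_iff,
    mul_fB_iff (isSat_of_isPBlock hb) (res_Br_mem_Z h2 (fB_mem_Z B)) ((mp_idem hi).1 (by
      rw [mp_res_Br hi h1]
      exact Br_idem hR (Inv_anti le_top (fB_mem_ZI B).2) (fB_idem hB))), h3]
  refine ⟨fun h ξ hξ => h.lam_fB hξ, fun h => ?_⟩
  obtain ⟨ξ, hξ⟩ := block_nonempty hb
  obtain ⟨χ, hχ⟩ := exists_lam_Br (M := M) hi hR h1 h2 ξ.2
  have h4 : Ind M (cC R).subtype ξ.1 χ.1 := fun z hz => by rw [← hχ z hz, h3]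
  exact (indB_iff hb hB hξ ((h4.mem_iff (isSat_of_isPBlock hB)).2 (h ξ hξ ▸ one_ne_zero))).2 h4

theorem isPBlock_singleton (hG : ¬ p ∣ Nat.card G) (θ : IrrCharacter G) : IsPBlock M {θ} :=
  ⟨θ, Set.Subset.antisymm (by simpa using mem_blockOf_self θ) ((isSat_of_not_dvd hG {θ}).subset_of_mem
    (isPBlock_blockOf θ) rfl (mem_blockOf_self θ))⟩

/-- Fong reduction along a normal `p'`-subgroup. -/
theorem fong_red [Fintype G] (N : Subgroup G) [N.Normal] [Fintype N] (hN : ¬ p ∣ Nat.card N)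
    {B : Set (IrrCharacter G)} (hB : IsPBlock M B) :
    (∃ θ : IrrCharacter N, (∀ g, H6.cj θ.1 g = θ.1) ∧
      ∀ χ ∈ B, classInner (fun n : N => χ.1 n) θ.1 ≠ 0) ∨
    ∃ T : Subgroup G, T ≠ ⊤ ∧ N ≤ T ∧ ∃ B' : Set (IrrCharacter T), IsPBlock M B' ∧
      (∀ D, IsDefectGroup p M B' D → IsDefectGroup p M B (D.map T.subtype)) ∧
      (∀ ψ ∈ B', ∃ χ ∈ B, χ.1 = indFun T ψ.1) ∧
      ∀ χ ∈ B, ∃ ψ ∈ B', χ.1 = indFun T ψ.1 ∧ blockHeight p B χ.1 = blockHeight p B' ψ.1 := by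
  classical
  obtain ⟨χ, hχ⟩ := block_nonempty hB
  obtain ⟨θ, hθ, h1⟩ := H6.exists_irr_under (N := N) χ.2
  by_cases e : H6.inertia θ = ⊤
  · exact .inl ⟨⟨θ, hθ⟩, H6.inertia_eq_top_iff.1 e, fun ψ hψ =>
      (ne_subtype N).over_iff_of_sameBlock hN (sameBlock_of_mem hB hχ hψ) (θ := ⟨θ, hθ⟩) h1⟩
  have hb := isPBlock_singleton (M := M) hN ⟨θ, hθ⟩
  have hT : ∀ g : G, g ∈ H6.inertia θ ↔ ∀ η ∈ ({⟨θ, hθ⟩} : Set (IrrCharacter N)), ∀ θ' : IrrCharacter N,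
      (∀ n : N, θ'.1 n = H6.cj η.1 g n) →
        θ' ∈ ({⟨θ, hθ⟩} : Set (IrrCharacter N)) := fun g =>
    ⟨fun h η e θ' h' => by subst e; exact Subtype.ext ((funext h').trans h),
      fun h => congrArg Subtype.val (h _ rfl ⟨_, H6.isIrr_cj hθ g⟩ fun _ => rfl)⟩
  have hNT := H6.le_inertia hθ.isClassFunction
  obtain ⟨k1, -, k3⟩ := Cfsg.Agent.S4435.result p M PM.out N _ hb _ hT hNT
  obtain ⟨B', h2, h3, h4⟩ := k3 B hB ⟨χ, hχ, _, rfl, h1⟩
  obtain ⟨k4, k5⟩ := Cfsg.Agent.S4436.result p M PM.out N _ hb _ hT hNT B' h2 h3 B h4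
  obtain ⟨B'', h5, -, -, h6⟩ := k1 B' h2 h3
  obtain rfl := (isInducedBlock_iff_indB.1 h4).unique (isInducedBlock_iff_indB.1 h5)
  refine .inr ⟨_, e, hNT, B', h2, k4, fun ψ hψ => (k5 ψ hψ).imp fun _ h => ⟨h.1, h.2.1⟩, fun ξ hξ => ?_⟩
  obtain ⟨ψ, hψ, h7⟩ := (h6 ξ).1 hξ
  obtain ⟨ξ', -, h8, h9⟩ := k5 ψ hψ
  exact ⟨ψ, hψ, h7, by rw [h7, ← h8, h9]⟩

/-- In a `p`-solvable group a block over an invariant character of `O_{p'}(G)`. -/
theorem fong_inv [Fintype G] (hs : H4.PSol p (⊤ : Subgroup G)) [Fintype (pPrimeCore p G)]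
    {B : Set (IrrCharacter G)} (hB : IsPBlock M B) {θ : IrrCharacter (pPrimeCore p G)}
    (hi : ∀ g, H6.cj θ.1 g = θ.1) (h : ∀ χ ∈ B, classInner (fun n : pPrimeCore p G => χ.1 n) θ.1 ≠ 0) :
    (∀ χ : IrrCharacter G, classInner (fun n : pPrimeCore p G => χ.1 n) θ.1 ≠ 0 → χ ∈ B) ∧
      ∀ D, IsDefectGroup p M B D → ∃ P : Sylow p G, D = P := by
  obtain ⟨B', h1, h2, -, h3⟩ := Cfsg.Agent.S4492.result p M PM.out (H4.isPSolvable_iff.2 hs) _ rfl θ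
    fun g => congrFun (hi g)
  obtain ⟨χ, hχ⟩ := block_nonempty hB
  obtain rfl := (eq_blockOf_of_mem hB hχ).trans (eq_blockOf_of_mem h1 ((h2 χ).2 (h χ hχ))).symm
  exact ⟨fun χ => (h2 χ).2, h3⟩

end H8
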