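import Cfsg.Agent.H2.Gd0

/-! Piece `PX` of the four degrees theorem: `GdX.split` (inertia groups over a complemented abelian normal subgroup) and
`GdX.pX`. -/

set_option autoImplicit false

namespace H8.GdX

open Subgroup Cfsg H18 H5 H6 H8 H2.Gd
open scoped commutatorElement

universe u

theorem split {G : Type*} [Group G] [Finite G] {V H M : Subgroup G} [hV : V.Normal] {x y : ℕ} (hs : V ⊔ H = ⊤)
    (hi : V ⊓ H = ⊥) (hM : V ≤ M) (rel : Rel2 M x y) (xy : x < y) (ν : V →* ℂˣ) (h1 : ν ≠ 1)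
    (hT : ¬ M ≤ inertia fun v => (ν v : ℂ)) : (inertia fun v => (ν v : ℂ)).index = y ∧
      ⁅inertia fun v => (ν v : ℂ), inertia fun v => (ν v : ℂ)⁆ ≤ V := by
  set T := inertia fun v => (ν v : ℂ) with hTd
  have hθ := isIrrCharacter_hom ν
  have VT : V ≤ T := le_inertia hθ.isClassFunction
  have nV : H ≤ N(V) := le_top.trans (norm_top_iff.2 hV)
  have : ∀ g : G, ∃ v : V, (v : G)⁻¹ * g ∈ H := fun g => by
    obtain ⟨v, hv, h, hh, rfl⟩ := (mem_sup_of_norm' nV).1 (show g ∈ V ⊔ H by rw [hs]; trivial)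
    exact ⟨⟨v, hv⟩, by simpa using hh⟩
  choose π hπ using this
  have un : ∀ g, ∀ v : V, (v : G)⁻¹ * g ∈ H → π g = v := fun g v h => by
    have : (v : G)⁻¹ * π g = 1 := eq_one_of_eq_bot hi (mem_inf.2 ⟨mul_mem (inv_mem v.2) (π g).2, by
      have := mul_mem h (inv_mem (hπ g))
      convert this using 1
      group⟩)
    exact Subtype.ext (inv_mul_eq_one.1 this).symm
  let η : T →* ℂˣ := MonoidHom.mk' (fun t => ν (π t)) fun a b => by
    have m : (π a : G)⁻¹ * a ∈ T := mul_mem (inv_mem (VT (π a).2)) a.2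
    have e := Units.ext (mem_inertia'.1 m (π b))
    rw [← e, ← map_mul, un]
    have := mul_mem (hπ a) (hπ b)
    convert this using 1
    simp only [coe_mul]
    group
  have xT : x < T.index := lt_of_not_ge fun l => hT (le_of_small_ker fun ξ hξ d => by
    by_contra e
    have := rel ξ hξ e
    omega)
  have h4 : ∀ β : T → ℂ, IsIrrCharacter _ β → V.subgroupOf _ ≤ charKer β → T.index * charDegree β = y :=
    fun β hβ hk => by
      obtain ⟨χ, h5, h6, h7⟩ := deg_over_ext hθ (isIrrCharacter_hom η) (fun n => congrArg (fun v => (ν v : ℂ))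
        (un _ ⟨_, mem_subgroupOf.1 n.2⟩ (by simp))) hβ hk
      rw [charDegree_of_eq (χ := fun v => (ν v : ℂ)) (n := 1) (by simp), mul_one] at h6
      rw [charKer_hom] at h7
      have := rel χ h5 fun e => h1 (MonoidHom.ext fun v => h7 (e (hM v.2)))
      have l : T.index ≤ T.index * charDegree β := Nat.le_mul_of_pos_right _ hβ.charDegree_pos
      change charDegree χ = T.index * charDegree β at h6
      omega
  have h5 := h4 _ isIrrCharacter_one (le_top.trans charKer_one.ge)
  rw [charDegree_of_eq (n := 1) (by simp), mul_one] at h5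
  refine ⟨h5, ?_⟩
  rw [← Subgroup.map_subtype_commutator, Subgroup.map_le_iff_le_comap]
  refine le_of_forall_ker (K := V.subgroupOf _) fun β hβ hk => by_contra fun e =>
    (not_le_ker_iff hβ).1 e (Nat.eq_of_mul_eq_mul_left (Nat.pos_of_ne_zero
      T.index_ne_zero_of_finite) ((h4 β hβ hk).trans (h5.symm.trans (mul_one _).symm)))

theorem pX (hPV : PV.{u}) (hPR : PR.{u}) : PX.{u} := by
  intro G _ _ V R B M nV nR nM r s x y hr hs sr V0 VR RC pR pB aB nVB nRB VB RBC RBM rel xy
  have aV : Abel V := VR.trans RC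
  have pV : PiGrp {r} V := pR.of_le VR
  have pV' : PiGrp {s}ᶜ V := fun q hq d e' => sr (by
    rw [← Set.mem_singleton_iff.1 e', Set.mem_singleton_iff.1 (pV q hq d)])
  have tN : ∀ X : Subgroup G, X ≤ N(V) := fun X => le_top.trans (norm_top_iff.2 nV)
  have cop : (Nat.card B).Coprime (Nat.card V) := pB.coprime pV'
  have hs1 : V ⊔ N(B) = ⊤ := by
    have := frattini_arg hs (nml_top_iff.2 nVB) (hall_of_sup' pB pV' (Or.inl (tN B)))
    rwa [top_inf_eq, sup_assoc, sup_eq_right.2 (le_N (H := B))] at this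
  have hi : V ⊓ N(B) = ⊥ := eq_bot_iff.2 (VB ▸ le_inf inf_le_left (comm_eq_bot_iff.1 (eq_bot_iff.2
    ((le_inf ((commutator_mono inf_le_left le_rfl).trans (comm_le_left (tN B))) (comm_le_right inf_le_right)).trans
      (pV'.inf_eq_bot' pB).le))))
  have cvb : ⁅V, B⁆ = V := by simpa only [VB, sup_bot_eq] using (H1.Cop.mk (tN B) cop (Or.inr aV.solv)).comm_sup
  have BC : ¬ B ≤ C(V) := fun e => V0 (by rw [← VB, inf_eq_left.2 (cent_symm e)])
  have key := fun (ν : V →* ℂˣ) h1 => split hs1 hi ((VR.trans le_sup_left).trans RBM) rel xy ν h1 fun e => h1 (by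
    have := comm_le_ker_of_inertia ν ((le_sup_right.trans RBM).trans e)
    rw [cvb] at this
    refine MonoidHom.ext fun v => ?_
    obtain ⟨w, hw, e⟩ := this v.2
    exact Subtype.ext e ▸ hw)
  have syl : ∀ S, Hall {r} S ⊤ → ¬ r ∣ y ∧ ⁅S, S⁆ ≤ V := fun S hS => by
    have VS : V ≤ S := hS.nml_le (nml_top_iff.2 nV) pV
    obtain ⟨g, hg, gn⟩ := SetLike.exists_of_lt (hS.pi.nil.comm_lt VS le_rfl (tN S) V0)
    obtain ⟨ν, h1, h2⟩ := exists_lin_ne_one (G := V) (N := ⁅V, S⁆.subgroupOf V) (g := ⟨g, hg⟩) (by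
      rw [subgroupOf, ← map_le_iff_le_comap, map_subtype_commutator]; exact commutator_mono le_rfl VS) gn
    obtain ⟨k1, k2⟩ := key ν fun e => h2 (by simp [e])
    have ST : S ≤ inertia fun v => (ν v : ℂ) := fun t ht => mem_inertia'.2 fun n => by
      have := h1 (⟨t * n * t⁻¹, nV.conj_mem n n.2 t⟩ * n⁻¹) (by
        rw [mem_subgroupOf, commutator_comm]; exact commutator_mem_commutator ht n.2)
      rw [map_mul, map_inv, mul_inv_eq_one] at this
      exact congrArg _ this
    refine ⟨fun d => ?_, (commutator_mono ST ST).trans k2⟩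
    have := hS.idx_of_le ST r hr (by rwa [relIndex_top_right, k1])
    exact this rfl
  obtain ⟨S₀, hS₀⟩ := exists_sylow hr (⊤ : Subgroup G)
  refine ⟨(syl S₀ hS₀).1, fun χ hχ hk => ?_, fun S hS => ?_⟩
  · obtain ⟨ν, hν⟩ := hPR G V B aV aB cop
    obtain ⟨k1, k2⟩ := key ν (by
      rintro rfl
      exact BC (le_trans (le_inf le_rfl fun t _ => mem_inertia'.2 fun n => rfl) hν))
    have RT : R ≤ inertia fun v => (ν v : ℂ) := fun t ht => mem_inertia'.2 fun n =>
      congrArg (fun v => (ν v : ℂ)) (Subtype.ext (mul_inv_eq_iff_eq_mul.2 (mem_C.1 (RC ht) _ n.2).symm))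
    rw [← k1]
    refine hPV G _ (R ⊔ B) R χ le_sup_left (fun e => BC ((le_sup_right.trans e).trans RC)) ?_ hχ hk
      (k2.trans (VR.trans hk))
    have n2 : Nrm2 R B := Or.inr (le_top.trans (norm_top_iff.2 nR))
    rw [n2.modular_left RT]
    exact sup_le le_rfl ((le_inf (inf_le_right.trans le_sup_right) ((inf_comm _ _).le.trans hν)).trans RBC)
  · obtain ⟨P, hP, SP⟩ := H18.exists_sylow_le hr hS (le_top (a := S))
    exact (commutator_mono SP SP).trans ((syl P hP).2.trans VR)

end H8.GdX
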