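import Cfsg.Agent.H8.Glaub2
import Cfsg.Agent.H6.Extension

/-! Characters of abelian groups of small norm off the identity (`exists_eq_reg_add_of_sum_le`:
`ψ = a ρ ± μ`), Galois invariance of canonical extensions (`canonical_ext_pow`,
`canonical_ext_mul_pow`). -/

set_option autoImplicit false
open H5 H19 Cfsg
open scoped ComplexConjugate

namespace H8

theorem exists_of_sum_sq_sub_le {ι : Type*} [Fintype ι] (c : ι → ℤ)
    (h : ∑ i, ∑ j, (c i - c j) ^ 2 ≤ 2 * ((Fintype.card ι : ℤ) - 1)) (hne : ∃ i j, c i ≠ c j) :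
    ∃ (i0 : ι) (a ε : ℤ), (ε = 1 ∨ ε = -1) ∧ c i0 = a + ε ∧ ∀ j, j ≠ i0 → c j = a := by
  classical
  obtain ⟨i1, j1, hij⟩ := hne
  obtain ⟨m, -, hm⟩ := Finset.exists_min_image Finset.univ c ⟨i1, Finset.mem_univ _⟩
  set S := Finset.univ.filter fun i => c i = c m with hS
  set T := Finset.univ.filter fun i => ¬ c i = c m with hT
  have hst : (S.card : ℤ) + T.card = Fintype.card ι := by
    exact_mod_cast Finset.card_filter_add_card_filter_not (s := Finset.univ) _
  have hs : 1 ≤ (S.card : ℤ) := by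
    exact_mod_cast Finset.card_pos.2 ⟨m, by simp [hS]⟩
  have ht : 1 ≤ (T.card : ℤ) := by
    have : T.Nonempty := by
      by_cases h1 : c i1 = c m
      · exact ⟨j1, by simpa [hT, ← h1] using hij.symm⟩
      · exact ⟨i1, by simpa [hT] using h1⟩
    exact_mod_cast Finset.card_pos.2 this
  set W := ∑ j ∈ T, (c j - c m) ^ 2 with hW
  have h1 : ∀ j ∈ T, 1 ≤ c j - c m := fun j hj => by
    have h2 := hm j (Finset.mem_univ _)
    have h3 : c j ≠ c m := (Finset.mem_filter.1 hj).2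
    omega
  have h2 : (T.card : ℤ) ≤ W := by
    rw [hW, Finset.card_eq_sum_ones]; push_cast
    exact Finset.sum_le_sum fun j hj => by nlinarith [h1 j hj]
  have h3 : 2 * (S.card * W) ≤ ∑ i, ∑ j, (c i - c j) ^ 2 := by
    rw [← Finset.sum_filter_add_sum_filter_not Finset.univ (fun i => c i = c m), two_mul]
    refine add_le_add ?_ ?_
    · rw [← nsmul_eq_mul, ← Finset.sum_const]
      refine Finset.sum_le_sum fun i hi => ?_
      rw [(Finset.mem_filter.1 hi).2]
      refine le_trans (le_of_eq (Finset.sum_congr rfl fun j _ => by ring))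
        (Finset.sum_le_sum_of_subset_of_nonneg (Finset.subset_univ T) fun _ _ _ => sq_nonneg _)
    · rw [hW, Finset.mul_sum]
      refine Finset.sum_le_sum fun i _ => ?_
      rw [← nsmul_eq_mul, ← Finset.sum_const]
      refine le_trans (le_of_eq (Finset.sum_congr rfl fun j hj => by
        rw [(Finset.mem_filter.1 hj).2]))
        (Finset.sum_le_sum_of_subset_of_nonneg (Finset.subset_univ S) fun _ _ _ => sq_nonneg _)
  have h4 : (S.card : ℤ) = 1 ∨ (T.card : ℤ) = 1 := by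
    by_contra hc
    push Not at hc
    have : 2 ≤ (S.card : ℤ) := by omega
    have : 2 ≤ (T.card : ℤ) := by omega
    nlinarith
  have h5 : W ≤ T.card := by
    rcases h4 with h4 | h4
    · rw [h4] at h3 hst; linarith
    · rw [h4] at hst ⊢; nlinarith
  have h6 : ∀ j ∈ T, c j = c m + 1 := by
    have : ∑ j ∈ T, ((c j - c m) ^ 2 - 1) = 0 := by
      rw [Finset.sum_sub_distrib, ← hW]; simp; omega
    rw [Finset.sum_eq_zero_iff_of_nonneg (fun j hj => by nlinarith [h1 j hj])] at this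
    intro j hj
    have h7 := this j hj
    have h8 := h1 j hj
    nlinarith
  rcases h4 with h4 | h4
  · obtain ⟨i0, hi0⟩ := Finset.card_eq_one.1 (by exact_mod_cast h4 : S.card = 1)
    have : i0 ∈ S := hi0 ▸ Finset.mem_singleton_self i0
    refine ⟨i0, c m + 1, -1, Or.inr rfl, by rw [(Finset.mem_filter.1 this).2]; ring, fun j hj => ?_⟩
    refine h6 j (Finset.mem_filter.2 ⟨Finset.mem_univ _, fun h => hj ?_⟩)
    have : j ∈ S := Finset.mem_filter.2 ⟨Finset.mem_univ _, h⟩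
    rwa [hi0, Finset.mem_singleton] at this
  · obtain ⟨i0, hi0⟩ := Finset.card_eq_one.1 (by exact_mod_cast h4 : T.card = 1)
    have : i0 ∈ T := hi0 ▸ Finset.mem_singleton_self i0
    refine ⟨i0, c m, 1, Or.inl rfl, h6 i0 this, fun j hj => ?_⟩
    by_contra h
    have : j ∈ T := Finset.mem_filter.2 ⟨Finset.mem_univ _, h⟩
    rw [hi0, Finset.mem_singleton] at this
    exact hj this

/-- A character of an abelian group with values of norm at most one off the identity, not all zero,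
is a multiple of the regular character plus or minus a linear character. -/
theorem exists_eq_reg_add_of_sum_le {A : Type*} [Group A] [Finite A]
    (hA : ∀ a b : A, a * b = b * a) {ψ : A → ℂ} (hψ : IsCharacter A ψ)
    (h : ∀ x, x ≠ 1 → ‖ψ x‖ ≤ 1) (h0 : ∃ x, x ≠ 1 ∧ ψ x ≠ 0) :
    ∃ (ε : ℤ) (a : ℕ) (μ : A →* ℂˣ), (ε = 1 ∨ ε = -1) ∧ ψ 1 = Nat.card A * a + ε ∧
      ∀ x, x ≠ 1 → ψ x = ε * μ x := by
  classical
  have := Fintype.ofFinite A
  obtain ⟨m, -, hm1, hm2⟩ := hψ.classInner_self_eq_sum_sq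
  have hcard : Fintype.card (IrrCharacter A) = Nat.card A := by
    rw [← Nat.card_eq_fintype_card, card_irr_of_comm hA]
  have hlin : ∀ χ : IrrCharacter A, (χ : A → ℂ) 1 = 1 := fun χ => χ.2.apply_one_of_comm hA
  have hval : ∀ x, ψ x = ∑ χ : IrrCharacter A, (m χ : ℂ) * (χ : A → ℂ) x := fun x => by
    conv_lhs => rw [hm1]
    simp [Finset.sum_apply]
  have h1 : ψ 1 = ((∑ χ, m χ : ℕ) : ℂ) := by
    rw [hval]; simp [hlin]
  have h2 : (Nat.card A : ℝ) * (∑ χ, m χ ^ 2 : ℕ) ≤ ((∑ χ, m χ : ℕ) : ℝ) ^ 2 + (Nat.card A - 1) := by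
    rw [classInner_self] at hm2
    have h3 : (Nat.card A : ℝ)⁻¹ * ∑ g, ‖ψ g‖ ^ 2 = (∑ χ, m χ ^ 2 : ℕ) := by exact_mod_cast hm2
    have h4 : (0 : ℝ) < Nat.card A := by exact_mod_cast Nat.card_pos
    rw [← h3, mul_inv_cancel_left₀ h4.ne', ← Finset.add_sum_erase _ _ (Finset.mem_univ (1 : A)), h1,
      Complex.norm_natCast]
    refine add_le_add_right ?_ _
    refine (Finset.sum_le_card_nsmul _ _ 1 fun x hx => ?_).trans ?_
    · have := h x (Finset.mem_erase.1 hx).1
      nlinarith [norm_nonneg (ψ x)]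
    · rw [Finset.card_erase_of_mem (Finset.mem_univ _), Finset.card_univ, ← Nat.card_eq_fintype_card,
        nsmul_eq_mul, mul_one, Nat.cast_sub Nat.card_pos, Nat.cast_one]
  have hreg : ∀ x : A, x ≠ 1 → ∑ χ : IrrCharacter A, (χ : A → ℂ) x = 0 := fun x hx => by
    simpa [hlin] using sum_degree_mul_apply_of_ne_one hx
  obtain ⟨i0, a, ε, hε, h3, h4⟩ := exists_of_sum_sq_sub_le (fun χ => (m χ : ℤ)) (by
    have h3 : (Nat.card A : ℤ) * (∑ χ, (m χ : ℤ) ^ 2) ≤ (∑ χ, (m χ : ℤ)) ^ 2 + (Nat.card A - 1) := by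
      exact_mod_cast h2
    have h4 : ∑ i, ∑ j, ((m i : ℤ) - m j) ^ 2 =
        2 * ((Nat.card A : ℤ) * (∑ χ, (m χ : ℤ) ^ 2) - (∑ χ, (m χ : ℤ)) ^ 2) := by
      simp only [sub_sq, Finset.sum_add_distrib, Finset.sum_sub_distrib, Finset.sum_const,
        Finset.card_univ, hcard, nsmul_eq_mul, ← Finset.mul_sum, ← Finset.sum_mul]
      ring
    rw [h4, hcard]; linarith) (by
    by_contra hc
    push Not at hc
    obtain ⟨x, hx, hx0⟩ := h0
    apply hx0
    rw [hval, Finset.sum_congr rfl (g := fun χ : IrrCharacter A => (m (irrOne A) : ℂ) * (χ : A → ℂ) x)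
      (fun χ _ => by rw [show m χ = m (irrOne A) by exact_mod_cast hc χ _]), ← Finset.mul_sum,
      hreg x hx, mul_zero])
  have h5 : ∀ x, ψ x = a * ∑ χ : IrrCharacter A, (χ : A → ℂ) x + ε * (i0 : A → ℂ) x := fun x => by
    rw [hval, Finset.mul_sum, ← Finset.add_sum_erase _ _ (Finset.mem_univ i0),
      ← Finset.add_sum_erase _ _ (Finset.mem_univ i0)]
    have e1 : (m i0 : ℂ) = a + ε := by exact_mod_cast h3
    have e2 : ∑ χ ∈ Finset.univ.erase i0, (m χ : ℂ) * (χ : A → ℂ) x =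
        ∑ χ ∈ Finset.univ.erase i0, (a : ℂ) * (χ : A → ℂ) x := Finset.sum_congr rfl fun χ hχ => by
      have : (m χ : ℂ) = a := by exact_mod_cast h4 χ (Finset.mem_erase.1 hχ).1
      rw [this]
    rw [e1, e2]
    ring
  obtain ⟨μ, hμ⟩ := i0.2.exists_hom_of_comm hA
  have ha : 0 ≤ a := by
    obtain ⟨x, hx, -⟩ := h0
    haveI : Nontrivial A := ⟨⟨x, 1, hx⟩⟩
    have : 1 < Fintype.card (IrrCharacter A) := by rw [hcard]; exact Finite.one_lt_card
    obtain ⟨j, hj⟩ := Fintype.exists_ne_of_one_lt_card this i0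
    rw [← h4 j hj]; positivity
  refine ⟨ε, a.toNat, μ, hε, ?_, fun x hx => by rw [h5, hreg x hx, hμ]; simp⟩
  rw [h5]
  simp only [hlin, Finset.sum_const, Finset.card_univ, hcard, nsmul_eq_mul, mul_one]
  have : ((a.toNat : ℕ) : ℂ) = a := by exact_mod_cast Int.toNat_of_nonneg ha
  rw [this]; ring

/-- The canonical extension is fixed by Galois automorphisms fixing the values on `G`. -/
theorem canonical_ext_pow {Γ : Type*} [Group Γ] [Finite Γ] (G : Subgroup Γ) [G.Normal]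
    (hcop : (Nat.card G).Coprime G.index) {χh : Γ → ℂ} (hχ : IsIrrCharacter Γ χh)
    (hres : IsIrrCharacter G fun g : G => χh g) (hdet : (detOrder χh).Coprime G.index) {k : ℕ}
    (hk : k.Coprime (Nat.card Γ)) (hk1 : k ≡ 1 [MOD Nat.card G]) (x : Γ) : χh (x ^ k) = χh x := by
  obtain ⟨σ, hσ⟩ := exists_ringEquiv_char Γ hk
  obtain ⟨d, -, hd⟩ := hres.exists_apply_one
  have h1 := H6.ext_eq_of_det_eq (N := G) hres hd hχ.isCharacter
    (hχ.isCharacter.map_ringHom σ.toRingHom) (fun _ => rfl) (fun n => by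
      change σ _ = _
      rw [hσ _ hχ.isCharacter, pow_eq_self_of_modEq_one (pow_card_eq_one_of_mem n.2) hk1])
    (k := detOrder χh) (Nat.Coprime.mul_right
      (hcop.symm.coprime_dvd_right (hres.degree_dvd_card hd)) hdet.symm) (fun g => by
      have h2 : detChar χh g ^ detOrder χh = 1 := congrFun (pow_orderOf_eq_one (detChar χh)) g
      rw [H6.detChar_ringHom _ hχ.isCharacter, ← map_pow, h2, map_one])
  rw [← hσ _ hχ.isCharacter]
  exact congrFun h1 x

theorem canonical_ext_mul_pow {Γ : Type*} [Group Γ] [Finite Γ] (G : Subgroup Γ) [G.Normal]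
    (hcop : (Nat.card G).Coprime G.index) {χh : Γ → ℂ} (hχ : IsIrrCharacter Γ χh)
    (hres : IsIrrCharacter G fun g : G => χh g) (hdet : (detOrder χh).Coprime G.index) {j : ℕ}
    (hj : j.Coprime G.index) {c s : Γ} (hc : c ∈ G) (hs : s ^ G.index = 1) (hcs : c * s = s * c) :
    χh (c * s ^ j) = χh (c * s) := by
  obtain ⟨k, hk1, hk2⟩ := Nat.chineseRemainder hcop 1 j
  have hk : k.Coprime (Nat.card Γ) := by
    rw [← G.card_mul_index]
    refine Nat.Coprime.mul_right ?_ ?_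
    · rw [Nat.Coprime, hk1.gcd_eq]; simp
    · rw [Nat.Coprime, hk2.gcd_eq]; exact hj
  rw [← canonical_ext_pow G hcop hχ hres hdet hk hk1 (c * s), (show Commute c s from hcs).mul_pow,
    pow_eq_self_of_modEq_one (pow_card_eq_one_of_mem hc) hk1,
    pow_eq_pow_iff_modEq.2 (hk2.of_dvd (orderOf_dvd_of_pow_eq_one hs))]

theorem normal_of_sup_eq_top {Γ : Type*} [Group Γ] {G S : Subgroup Γ}
    (hn : S ≤ Subgroup.normalizer (G : Set Γ)) (htop : G ⊔ S = ⊤) : G.Normal :=
  Subgroup.normalizer_eq_top_iff.1 (top_le_iff.1 (htop ▸ sup_le Subgroup.le_normalizer hn))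

end H8
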