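import Cfsg.Agent.H8.FRam
import Cfsg.Agent.H8.Contr
/-! Counting characters over a linear character of a central subgroup by good classes
(`card_over_central`). -/
open H5 Cfsg
open scoped ComplexConjugate
namespace H8
variable {G : Type*} [Group G]

open Classical in
theorem sum_card_centralizer_filter [Fintype G] (P : ConjClasses G → Prop) :
    (∑ g : G, if P (ConjClasses.mk g) then (Nat.card (Subgroup.centralizer ({g} : Set G)) : ℂ) else 0) =
      Nat.card G * Nat.card {C // P C} := by
  letI := Fintype.ofFinite (ConjClasses G)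
  have := sum_eq_sum_conjClasses (G := G) fun C => if P C then (Nat.card G : ℂ) / C.carrier.ncard else 0
  have h0 : ∀ g : G, ((Subgroup.centralizer ({g} : Set G)).index : ℂ) ≠ 0 := fun g =>
    Nat.cast_ne_zero.2 Subgroup.index_ne_zero_of_finite
  rw [Finset.sum_congr rfl (g := fun g => if P (ConjClasses.mk g) then
    (Nat.card G : ℂ) / (ConjClasses.mk g).carrier.ncard else 0), this, Nat.subtype_card
      (Finset.univ.filter P) (by simp), Finset.card_filter]
  · push_cast
    rw [Finset.mul_sum]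
    refine Finset.sum_congr rfl fun C _ => ?_
    obtain ⟨g, rfl⟩ := ConjClasses.mk_surjective C
    rw [ncard_carrier_mk]
    split_ifs
    · field_simp [h0 g]
    · simp
  · intro g _
    split_ifs
    · rw [ncard_carrier_mk, eq_div_iff (h0 g), ← Nat.cast_mul, Subgroup.card_mul_index]
    · rfl

variable {N : Subgroup G}

/-- `g` is good for the linear character `ψ` of the central subgroup `N` -/
def Good (ψ : N →* ℂˣ) (g : G) : Prop := ∀ (x : G) (h : x * g * x⁻¹ * g⁻¹ ∈ N), ψ ⟨_, h⟩ = 1

theorem Good.of_isConj [N.Normal] (hN : N ≤ Subgroup.center G) {ψ : N →* ℂˣ} {g g' : G}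
    (h : Good ψ g) (e : IsConj (g : G ⧸ N) g') : Good ψ g' := by
  obtain ⟨y, hy⟩ := isConj_iff.1 e
  obtain ⟨y, rfl⟩ := QuotientGroup.mk_surjective y
  rw [← QuotientGroup.mk_inv, ← QuotientGroup.mk_mul, ← QuotientGroup.mk_mul, QuotientGroup.eq] at hy
  obtain ⟨n, hn, rfl⟩ : ∃ n ∈ N, g' = y * g * y⁻¹ * n := ⟨_, hy, by group⟩
  intro x hx
  have hc := Subgroup.mem_center_iff.1 (hN hn)
  have e1 : x * (y * g * y⁻¹ * n) * x⁻¹ * (y * g * y⁻¹ * n)⁻¹ =
      y * ((y⁻¹ * x * y) * g * (y⁻¹ * x * y)⁻¹ * g⁻¹) * y⁻¹ := by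
    have : n * x⁻¹ = x⁻¹ * n := (hc _).symm
    calc _ = x * y * g * y⁻¹ * (n * x⁻¹) * n⁻¹ * y * g⁻¹ * y⁻¹ := by group
      _ = _ := by rw [this]; group
  have h1 : (y⁻¹ * x * y) * g * (y⁻¹ * x * y)⁻¹ * g⁻¹ ∈ N := by
    rw [e1] at hx
    exact (Subgroup.Normal.mem_comm_iff ‹_›).1 (by
      have := (Subgroup.Normal.mem_comm_iff ‹_›).1 hx
      rwa [inv_mul_cancel_left, Subgroup.Normal.mem_comm_iff ‹_›] at this)
  rw [← h _ h1]
  congr 2
  rw [e1, Subgroup.mem_center_iff.1 (hN h1) y, mul_inv_cancel_right]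

open Classical in
theorem sum_central_avg [Finite G] [Fintype N] [N.Normal] (hN : N ≤ Subgroup.center G) (ψ : N →* ℂˣ)
    {χ : G → ℂ} (hχ : IsIrrCharacter G χ) (g : G) :
    ∑ n : N, conj (ψ n : ℂ) * χ (n * g) =
      if classInner (fun n : N => χ n) (fun n => (ψ n : ℂ)) ≠ 0 then Nat.card N * χ g else 0 := by
  letI := Fintype.ofFinite G
  have h1 : ∑ n : N, conj (ψ n : ℂ) * χ (n * g) =
      Nat.card N * classInner (fun n : N => χ n) (fun n => (ψ n : ℂ)) / χ 1 * χ g := by
    rw [card_mul_classInner, Finset.sum_div, Finset.sum_mul]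
    refine Finset.sum_congr rfl fun n _ => ?_
    rw [irr_central_mul hχ (Subgroup.mem_center_iff.1 (hN n.2))]; ring
  rw [h1]
  split_ifs with h
  · have := congrFun (H6.res_eq_smul_of_invariant hχ (isIrrCharacter_hom ψ) (fun g => funext fun n => by
      rw [H6.cj_apply]
      congr 3
      rw [Subgroup.mem_center_iff.1 (hN n.2) g, mul_inv_cancel_right]) h) 1
    simp only [OneMemClass.coe_one, Pi.smul_apply, map_one, Units.val_one, smul_eq_mul,
      mul_one] at this
    rw [← this, mul_div_cancel_right₀ _ hχ.apply_one_ne_zero]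
  · rw [not_not.1 h]; simp

open Classical in
theorem sum_over_central_normSq [Fintype G] [Fintype N] [N.Normal] (hN : N ≤ Subgroup.center G)
    (ψ : N →* ℂˣ) (g : G) :
    (∑ χ : IrrCharacter G, if classInner (fun n : N => χ.1 n) (fun n => (ψ n : ℂ)) ≠ 0 then
      χ.1 g * conj (χ.1 g) else 0) =
      if Good ψ g then (Nat.card (Subgroup.centralizer ({(g : G ⧸ N)} : Set (G ⧸ N))) : ℂ) else 0 := by
  set D := (Subgroup.centralizer ({(g : G ⧸ N)} : Set (G ⧸ N))).comap (QuotientGroup.mk' N) with hD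
  have mD : ∀ x, x ∈ D ↔ x * g * x⁻¹ * g⁻¹ ∈ N := fun x => by
    rw [hD, Subgroup.mem_comap, Subgroup.mem_centralizer_singleton_iff, ← QuotientGroup.eq_one_iff]
    simp only [QuotientGroup.mk'_apply, QuotientGroup.mk_mul, QuotientGroup.mk_inv,
      mul_inv_eq_iff_eq_mul, one_mul]
  let f : D →* ℂˣ := MonoidHom.mk' (fun x => ψ ⟨_, (mD x).1 x.2⟩) fun a b => by
    rw [← map_mul]
    congr 1
    ext
    have := Subgroup.mem_center_iff.1 (hN ((mD b).1 b.2))
    simp only [Subgroup.coe_mul, MulMemClass.mk_mul_mk]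
    calc _ = a * (b * g * (b : G)⁻¹ * g⁻¹) * (g * (a : G)⁻¹ * g⁻¹) := by group
      _ = _ := by rw [this, this (a * g * (a : G)⁻¹ * g⁻¹)]; group
  apply mul_left_cancel₀ (card_ne_zero_complex (G := N))
  have e1 : ∀ n : N, ∑ χ : IrrCharacter G, χ.1 (n * g) * conj (χ.1 g) =
      ∑ x : G, if x * g * x⁻¹ = n * g then 1 else 0 := fun n => by
    rw [Finset.sum_boole, column_orthogonality, ← Nat.subtype_card _ (p := fun x => x * g * x⁻¹ = n * g)
      (by simp)]
    split_ifs with h
    · rw [card_conjugators h.symm, card_centralizer_eq_of_isConj h]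
    · rw [Nat.card_eq_zero.2 (Or.inl ⟨fun x => h (isConj_iff.2 ⟨x.1, x.2⟩).symm⟩), Nat.cast_zero]
  calc _ = ∑ χ : IrrCharacter G, ∑ n : N, conj (ψ n : ℂ) * (χ.1 (n * g) * conj (χ.1 g)) := by
        rw [Finset.mul_sum]
        refine Finset.sum_congr rfl fun χ _ => ?_
        simp only [← mul_assoc, ← Finset.sum_mul, sum_central_avg hN ψ χ.2]
        split_ifs <;> simp [mul_assoc]
    _ = ∑ x : G, ∑ n : N, if x * g * x⁻¹ = n * g then conj (ψ n : ℂ) else 0 := by
        rw [Finset.sum_comm]
        simp only [← Finset.mul_sum, e1]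
        simp only [Finset.mul_sum, mul_ite, mul_one, mul_zero]
        exact Finset.sum_comm
    _ = ∑ x : D, conj (f x : ℂ) := by
        rw [← Finset.sum_subset (Finset.subset_univ (Finset.univ.filter (· ∈ D))),
          Finset.sum_subtype _ (p := (· ∈ D)) (by simp)]
        · refine Finset.sum_congr rfl fun x _ => ?_
          rw [Finset.sum_eq_single ⟨_, (mD x).1 x.2⟩, if_pos (by simp)]
          · rfl
          · intro n _ hn
            exact if_neg fun e => hn (Subtype.ext (by simp only; rw [e]; group))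
          · simp
        · intro x _ hx
          refine Finset.sum_eq_zero fun n _ => if_neg fun e => hx ?_
          rw [Finset.mem_filter, mD, e]; simp
    _ = _ := by
        rw [← map_sum]
        split_ifs with h
        · rw [Finset.sum_congr rfl (g := fun _ => 1) fun x _ => by
            rw [show f x = 1 from h _ _, Units.val_one]]
          rw [Finset.sum_const, Finset.card_univ, ← Nat.card_eq_fintype_card, hD, H1.card_comap_mk']
          simp [mul_comm]
        · rw [(isIrrCharacter_hom f).sum_eq_zero fun e => h fun x hx => Units.ext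
            (congrFun e ⟨x, (mD x).2 hx⟩)]
          simp

theorem card_over_central [Finite G] [Fintype N] [N.Normal] (hN : N ≤ Subgroup.center G)
    (ψ : N →* ℂˣ) :
    Nat.card {χ : IrrCharacter G // classInner (fun n : N => χ.1 n) (fun n => (ψ n : ℂ)) ≠ 0} =
      Nat.card {C : ConjClasses (G ⧸ N) // ∃ g : G, ConjClasses.mk (g : G ⧸ N) = C ∧ Good ψ g} := by
  classical
  letI := Fintype.ofFinite G
  letI := Fintype.ofFinite (G ⧸ N)
  have h1 := sum_card_centralizer_filter (G := G ⧸ N)
    fun C => ∃ g : G, ConjClasses.mk (g : G ⧸ N) = C ∧ Good ψ g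
  have h2 := H6.sum_comp_surjective (QuotientGroup.mk' N) (QuotientGroup.mk'_surjective N)
    fun q => if ∃ g : G, ConjClasses.mk (g : G ⧸ N) = ConjClasses.mk q ∧ Good ψ g then
      (Nat.card (Subgroup.centralizer ({q} : Set (G ⧸ N))) : ℂ) else 0
  replace h2 := h2.trans (congrArg _ (Eq.trans (by convert rfl) h1))
  rw [← mul_assoc, ← Nat.cast_mul, ← H6.card_eq_ker_mul _ (QuotientGroup.mk'_surjective N),
    Finset.sum_congr rfl (g := fun g => ∑ χ : IrrCharacter G, if classInner (fun n : N => χ.1 n)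
      (fun n => (ψ n : ℂ)) ≠ 0 then χ.1 g * conj (χ.1 g) else 0), Finset.sum_comm,
    Finset.sum_congr rfl (g := fun χ : IrrCharacter G => if classInner (fun n : N => χ.1 n)
      (fun n => (ψ n : ℂ)) ≠ 0 then (Nat.card G : ℂ) else 0), ← Finset.sum_filter, Finset.sum_const,
    nsmul_eq_mul, mul_comm] at h2
  · rw [Nat.subtype_card (Finset.univ.filter fun χ : IrrCharacter G => classInner
      (fun n : N => χ.1 n) (fun n => (ψ n : ℂ)) ≠ 0) (by simp)]
    exact_mod_cast mul_left_cancel₀ card_ne_zero_complex h2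
  · intro χ _
    split_ifs
    · rw [← card_mul_classInner, χ.2.classInner_self, mul_one]
    · simp
  · intro g _
    rw [sum_over_central_normSq hN]
    refine if_congr ⟨fun ⟨g', e, h⟩ => h.of_isConj hN (ConjClasses.mk_eq_mk_iff_isConj.1 e),
      fun h => ⟨g, rfl, h⟩⟩ rfl rfl

end H8
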