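import Cfsg.Agent.H8.Gr3
import Cfsg.Agent.H1.BG3a

/-! Exceptional `p`-elements acting on a `p'`-group `Q` of class two with scalar centre (characteristic `p`):
`GrW.card` (index bound), `GqS` (setting), `GqG` (exceptional element), `GqE Q t = [Q, t] Z(Q)`, `GqS.lemT`, `GqS.dich`,
`GqS.comm` (for odd `p` the order `p` powers of exceptional elements of a `p`-group commute modulo `C(Q)`). -/

set_option autoImplicit false
set_option linter.unusedSectionVars false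

namespace H8
open Module Subgroup Cfsg H18 H1 H21.HB
open scoped commutatorElement
universe u v

section
variable {K : Type*} [Field K] {V : Type v} [AddCommGroup V] [Module K V] [FiniteDimensional K V]
  {Q : Type u} [Group Q] {p n : ℕ} [hp : Fact p.Prime] [CharP K p] [Fintype Q] {ρ : Q →* End K V} {σ : MulAut Q}
  {g : End K V} {Z : Subgroup Q}

theorem GrW.index_le [Nontrivial V] (w : GrW p n Z ρ σ) (hq : (Fintype.card Q : K) ≠ 0) : Z.index ≤ finrank K V ^ 2 := by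
  classical
  haveI := Fintype.ofFinite (Q ⧸ Z)
  have li : LinearIndependent K fun x : Q ⧸ Z => ρ x.out := Fintype.linearIndependent_iff.2 fun c hc x => by
    have e : ∑ b, ρ b * (ρ x.out⁻¹ * ∑ y, c y • ρ y.out) * ρ b⁻¹ = 0 := by simp [hc]
    simp only [Finset.mul_sum, Finset.sum_mul, mul_smul_comm, smul_mul_assoc, ← map_mul ρ x.out⁻¹] at e
    rw [Finset.sum_comm, Finset.sum_eq_single x (fun y _ hy => by
      rw [← Finset.smul_sum, w.avg_zero (fun h => hy ?_), smul_zero]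
      rw [← QuotientGroup.out_eq' x, ← QuotientGroup.out_eq' y]
      exact (QuotientGroup.eq.2 h).symm) (by simp)] at e
    simp only [inv_mul_cancel, map_one, mul_one, ← map_mul, mul_inv_cancel, Finset.sum_const, Finset.card_univ,
      ← Nat.cast_smul_eq_nsmul K, smul_smul, smul_eq_zero, mul_eq_zero, hq, one_ne_zero, or_false, false_or] at e
    exact e
  have := li.fintype_card_le_finrank
  rwa [Module.finrank_linearMap, ← sq, ← Nat.card_eq_fintype_card] at this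

theorem GrW.card [IsAlgClosed K] [Nontrivial V] (w : GrW p n Z ρ σ) (h : HD p n ρ σ g) (hq : (Fintype.card Q : K) ≠ 0)
    (h0 : (g - 1) ^ (p ^ n - 1) = 0) : Z.index ≤ (p ^ n - 1) ^ 2 := by
  obtain ⟨W, -, w2, ⟨w3, w4⟩, w5⟩ := exists_min (fun W : Submodule K V => (∀ a, ∀ w ∈ W, ρ a w ∈ W) ∧
    ∀ w ∈ W, g w ∈ W) (U := ⊤) ⟨fun _ _ _ => trivial, fun _ _ => trivial⟩ top_ne_bot
  haveI := Submodule.nontrivial_iff_ne_bot.2 w2
  have h' := h.res w3 w4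
  have w' := w.res w3
  have h1 : (g.restrict w4 - 1) ^ (p ^ n - 1) = 0 := by
    by_contra c
    obtain ⟨x, -, hx⟩ := res_pow_ne w4 c
    exact hx (by rw [h0]; rfl)
  have irr : ∀ U : Submodule K W, ((∀ a, ∀ w ∈ U, resHom ρ W w3 a w ∈ U) ∧ ∀ w ∈ U, g.restrict w4 w ∈ U) →
      U = ⊥ ∨ U = ⊤ := fun U hU => w5 U ⟨by rintro a _ ⟨w, hw, rfl⟩; exact ⟨_, hU.1 a w hw, rfl⟩,
        by rintro _ ⟨w, hw, rfl⟩; exact ⟨_, hU.2 w hw, rfl⟩⟩
  generalize resHom ρ W w3 = ρ' at h' w' irr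
  generalize g.restrict w4 = g' at h' h1 irr
  have sch2 : ∀ φ : End K W, (∀ a, φ * ρ' a = ρ' a * φ) → φ * g' = g' * φ → ∃ c : K, φ = c • 1 := fun φ h1 h2 =>
    H21.HB.schur _ irr φ fun μ => ⟨fun a => eig_inv (h1 a) μ, eig_inv h2 μ⟩
  refine (h'.crit hq (w'.schur h' hq sch2) (fun a => ?_) ?_ h1).2 ▸ w'.index_le hq
  · by_cases ha : a ∈ Z
    · exact Or.inl (w'.sc a ha)
    · exact Or.inr (w'.reg a ha)
  · rintro rfl
    obtain ⟨a, ha⟩ := w'.nt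
    obtain ⟨b, μ, m1, m2⟩ := w'.nd _ fun c => ha (w'.fpf a c)
    have : ρ' (σ a * a⁻¹) = 1 := by
      have := h'.rel a
      rw [one_mul, mul_one] at this
      rw [map_mul, ← this, ← map_mul, mul_inv_cancel, map_one]
    rw [this, one_mul, mul_one] at m2
    have e : (1 - μ) • ρ' b = 0 := (sub_smul (1 : K) μ (ρ' b)).trans (by rw [one_smul, ← m2, sub_self])
    exact rho_ne ρ' b ((smul_eq_zero.1 e).resolve_left (sub_ne_zero.2 m1.symm))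
end

variable {G : Type u} [Group G] [Finite G] {K : Type*} [Field K] {V : Type v} [AddCommGroup V] [Module K V]
  [FiniteDimensional K V] {p m n : ℕ} [hp : Fact p.Prime] {ρ : G →* End K V} {Q S A P Y : Subgroup G} {a c g r t x y z : G}

theorem gq_mem_of_pow (hx : PiElt {p}ᶜ x) {k : ℕ} (h : x ^ p ^ k ∈ S) : x ∈ S :=
  zpowers_le.2 h (mem_zpowers_pow_iff.2 (Nat.Coprime.pow_left k
    ((Nat.Prime.coprime_iff_not_dvd hp.out).2 ((piNat_compl_iff hp.out).1 hx))))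

theorem gq_mem_of_cop {m k : ℕ} (hx : x ^ p ^ k = 1) (hm : ¬ p ∣ m) (h : x ^ m ∈ S) : x ∈ S :=
  zpowers_le.2 h (mem_zpowers_pow_iff.2 (Nat.Coprime.coprime_dvd_right (orderOf_dvd_of_pow_eq_one hx)
    (Nat.Coprime.pow_right k ((Nat.Prime.coprime_iff_not_dvd hp.out).2 hm).symm)))

theorem gq_pelt {k : ℕ} (hx : x ^ p ^ k = 1) : PiElt {p} x :=
  (piNat_pow_self hp.out _).of_dvd (orderOf_dvd_of_pow_eq_one hx)

theorem gq_pow (hx : PiElt {p} x) : ∃ k, x ^ p ^ k = 1 := by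
  obtain ⟨k, hk⟩ := hx.eq_pow (orderOf_pos _).ne'
  exact ⟨k, hk ▸ pow_orderOf_eq_one x⟩

/-- the setting -/
structure GqS (p : ℕ) (ρ : G →* End K V) (Q : Subgroup G) : Prop where
  inj : ∀ x, ρ x = 1 → x = 1
  pi : PiGrp {p}ᶜ Q
  c2 : ⁅Q, Q⁆ ≤ C(Q)
  sc : ∀ z ∈ Q, z ∈ C(Q) → ∃ c : K, ρ z = c • 1

/-- exceptional elements -/
structure GqG (p : ℕ) (ρ : G →* End K V) (Q : Subgroup G) (n : ℕ) (g : G) : Prop where
  norm : g ∈ N(Q)
  pow : g ^ p ^ (n + 1) = 1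
  ex : (ρ g - 1) ^ (p ^ (n + 1) - 1) = 0

/-- `[Q, t] Z(Q)` -/
def GqE (Q : Subgroup G) (t : G) : Subgroup G := ⁅Q, zpowers t⁆ ⊔ Z(Q)

theorem GqE_le (ht : t ∈ N(Q)) : GqE Q t ≤ Q := sup_le (comm_le_left (zpowers_le.2 ht)) inf_le_left
theorem Z_le_GqE : Z(Q) ≤ GqE Q t := le_sup_right

theorem cj_GqE (hx : x ∈ N(Q)) : cj x (GqE Q t) = GqE Q (x * t * x⁻¹) := by
  rw [GqE, cj_sup, cj_comm, cj_inf, cj_C, cj_eq_self hx, cj_zpowers, GqE]

theorem norm_GqE (hx : x ∈ N(Q)) (e : x * t = t * x) : x ∈ N(GqE Q t) := by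
  rw [mem_N_iff_cj, cj_GqE hx, e, mul_inv_cancel_right]

theorem gq_conj_pow (x g : G) (k : ℕ) : (ρ (x * g * x⁻¹) - 1) ^ k = ρ x * (ρ g - 1) ^ k * ρ x⁻¹ := by
  have e1 : ρ x⁻¹ * ρ x = 1 := by rw [← map_mul]; simp
  have e2 : ρ x * ρ x⁻¹ = 1 := by rw [← map_mul]; simp
  induction k with
  | zero => simp [e2]
  | succ k ih =>
    have : ρ (x * g * x⁻¹) - 1 = ρ x * (ρ g - 1) * ρ x⁻¹ := by
      rw [map_mul, map_mul, mul_sub, sub_mul, mul_one, e2]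
    rw [pow_succ, ih, this, pow_succ]
    simp only [mul_assoc]
    rw [← mul_assoc (ρ x⁻¹) (ρ x), e1, one_mul]

theorem GqG.cj (h : GqG p ρ Q n g) (hx : x ∈ N(Q)) : GqG p ρ Q n (x * g * x⁻¹) :=
  ⟨mul_mem (mul_mem hx h.norm) (inv_mem hx), by rw [conj_pow, h.pow]; simp, by rw [gq_conj_pow, h.ex]; simp⟩

theorem GqG.tp (h : GqG p ρ Q n g) : PiElt {p} (g ^ p ^ n) := (gq_pelt h.pow).pow' _
theorem GqG.tn (h : GqG p ρ Q n g) : g ^ p ^ n ∈ N(Q) := pow_mem h.norm _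
theorem GqG.nE (h : GqG p ρ Q n g) : g ∈ N(GqE Q (g ^ p ^ n)) := norm_GqE h.norm (Commute.self_pow g _).eq

namespace GqS
variable (s : GqS p ρ Q)
include s

theorem cen (h1 : z ∈ Q) (h2 : z ∈ C(Q)) (x : G) : x * z = z * x := by
  obtain ⟨c, hc⟩ := s.sc z h1 h2
  have : ρ (x * z * (z * x)⁻¹) = 1 := by
    rw [mul_inv_rev, map_mul, map_mul, hc, mul_smul_comm, smul_mul_assoc, mul_one, ← map_mul, mul_inv_cancel_left,
      ← one_mul (ρ z⁻¹), ← smul_mul_assoc, ← hc, ← map_mul, mul_inv_cancel, map_one]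
  exact mul_inv_eq_one.1 (s.inj _ this)

theorem Z_cen (A : Subgroup G) : Z(Q) ≤ C(A) := fun _ hz => mem_C.2 fun x _ => s.cen hz.1 hz.2 x

theorem cop (hA : A ≤ Q) (hn : t ∈ N(A)) (tp : PiElt {p} t) : Cop (zpowers t) A :=
  cop_of_pi (zpowers_le.2 hn) tp.zpowers (s.pi.of_le hA) (Or.inl abel_zpowers.solv)

theorem mem_E : a ∈ GqE Q t ↔ ∃ e ∈ ⁅Q, zpowers t⁆, ∃ z ∈ Z(Q), a = e * z := mem_sup_of_cent (cent_symm (s.Z_cen _))

theorem cent_of_EC (ht : t ∈ N(Q)) (tp : PiElt {p} t) (h1 : a ∈ GqE Q t) (h2 : a * t = t * a) : a ∈ C(Q) := by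
  obtain ⟨e, e1, z, z1, rfl⟩ := s.mem_E.1 h1
  have c := s.cop le_rfl ht tp
  have e2 : e ∈ C(zpowers t) := by
    rw [C_zpowers, mem_C1]
    rw [mul_assoc, ← s.cen z1.1 z1.2 t, ← mul_assoc, ← mul_assoc] at h2
    exact mul_right_cancel h2
  have l := comm_le_left (B := Q) (zpowers_le.2 ht)
  exact mul_mem (s.c2 (comm_mono l l (c.comm.cent_le_of_comm_eq c.comm_comm ⟨e1, e2⟩))) z1.2

theorem EC_comm (h1 : a ∈ GqE Q t) (h2 : c ∈ Q) (h3 : c * t = t * c) : a * c = c * a := by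
  obtain ⟨e, e1, z, z1, rfl⟩ := s.mem_E.1 h1
  have : ⁅⁅Q, zpowers t⁆, zpowers c⁆ = ⊥ := commutator_commutator_eq_bot_of_rotate
    (by rw [commutator_eq_bot_iff_le_centralizer.2 (show zpowers t ≤ C(zpowers c) from
      zpowers_le.2 (by rw [C_zpowers, mem_C1, h3])), commutator_bot_left])
    (commutator_eq_bot_iff_le_centralizer.2 ((le_inf (comm_le_of_le (zpowers_le.2 h2) le_rfl)
      ((comm_mono (zpowers_le.2 h2) le_rfl).trans s.c2)).trans (s.Z_cen _)))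
  rw [mul_assoc, ← s.cen z1.1 z1.2 c, ← mul_assoc, comm_of_cent (commutator_eq_bot_iff_le_centralizer.1 this) e1
    (mem_zpowers c), mul_assoc]

theorem dec (hA : A ≤ Q) (hn : t ∈ N(A)) (tp : PiElt {p} t) (hx : x ∈ A) :
    ∃ e ∈ A, ∃ c ∈ A, e ∈ GqE Q t ∧ c * t = t * c ∧ x = e * c := by
  obtain ⟨e, e1, c, c1, h⟩ := (s.cop hA hn tp).exists_mul hx
  exact ⟨e, comm_le_left (zpowers_le.2 hn) e1, c, c1.1, mem_sup_left (comm_mono hA le_rfl e1),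
    mem_C1.1 (C_zpowers (x := t) ▸ c1.2), h⟩

theorem nondeg (ht : t ∈ N(Q)) (tp : PiElt {p} t) (h1 : a ∈ GqE Q t) (h2 : a ∈ C(GqE Q t)) : a ∈ C(Q) := by
  refine mem_C.2 fun x hx => ?_
  obtain ⟨e, -, c, c1, e1, c2, rfl⟩ := s.dec le_rfl ht tp hx
  rw [mul_assoc, ← s.EC_comm h1 c1 c2, ← mul_assoc, mem_C.1 h2 e e1, mul_assoc]

theorem cent_t (ht : t ∈ N(Q)) (tp : PiElt {p} t) (h1 : a ∈ Q) (h2 : a ∈ C(GqE Q t)) : a * t = t * a := by
  obtain ⟨e, e0, c, c1, e1, c2, rfl⟩ := s.dec le_rfl ht tp h1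
  have c3 : c ∈ C(GqE Q t) := mem_C.2 fun b hb => s.EC_comm hb c1 c2
  have := s.nondeg ht tp e1 (by simpa using mul_mem h2 (inv_mem c3))
  rw [mul_assoc, c2, ← mul_assoc, ← s.cen e0 this t, mul_assoc]

theorem cent_of_triv (ht : t ∈ N(Q)) (tp : PiElt {p} t) (h : GqE Q t ≤ C(Q)) : t ∈ C(Q) :=
  mem_C.2 fun _ ha => s.cent_t ht tp ha (cent_symm h ha)

theorem cent_of_mod (hx : PiElt {p} x) (h1 : x * a * x⁻¹ * a⁻¹ ∈ Q) (h2 : x * a * x⁻¹ * a⁻¹ ∈ C(Q)) :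
    x * a = a * x := by
  obtain ⟨k, hx⟩ := gq_pow hx
  have z1 := s.cen h1 h2
  have e : x * a * x⁻¹ = (x * a * x⁻¹ * a⁻¹) * a := by group
  generalize x * a * x⁻¹ * a⁻¹ = z at z1 e h1
  have : ∀ m : ℕ, x ^ m * a * (x ^ m)⁻¹ = z ^ m * a := fun m => by
    induction m with
    | zero => simp
    | succ m ih =>
      have c : Commute x (z ^ m) := (show Commute x z from z1 x).pow_right m
      calc x ^ (m + 1) * a * (x ^ (m + 1))⁻¹ = x * (x ^ m * a * (x ^ m)⁻¹) * x⁻¹ := by group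
        _ = z ^ m * (x * a * x⁻¹) := by rw [ih, ← mul_assoc, c.eq]; group
        _ = _ := by rw [e]; group
  have e2 := this (p ^ k)
  rw [hx, one_mul, inv_one, mul_one, eq_comm, mul_eq_right] at e2
  have := mem_bot.1 (gq_mem_of_pow (S := ⊥) (s.pi.elt h1) (mem_bot.2 e2))
  rw [this, one_mul] at e
  rw [← e]; nth_rewrite 1 [e]; group

variable [IsAlgClosed K] [CharP K p]

/-- the refined exceptional case -/
theorem lemT0 (gp : g ^ p ^ (n + 1) = 1) (ex : (ρ g - 1) ^ (p ^ (n + 1) - 1) = 0) (AQ : A ≤ Q) (hn : g ∈ N(A))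
    (fp : ∀ a ∈ A, a * g ^ p ^ n = g ^ p ^ n * a → a ∈ C(Q)) (nd : ∀ a ∈ A, a ∈ C(A) → a ∈ C(Q))
    (nt : ¬ A ≤ C(Q)) : (∀ x ∈ C(A), x * g = g * x) ∧ (ρ g - 1) ^ (p ^ (n + 1) - 2) ≠ 0 ∧
      C(Q).relIndex A ≤ (p ^ (n + 1) - 1) ^ 2 := by
  classical
  haveI := Fintype.ofFinite A
  let σ : MulAut A := A.normalizerMonoidHom ⟨g, hn⟩
  have hσ : ∀ (i : ℕ) (a : A), ((σ ^ i) a : G) = g ^ i * a * (g ^ i)⁻¹ := fun i a => by
    rw [← map_pow]; rfl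
  let ρ' : A →* End K V := ρ.comp A.subtype
  have hd : HD p (n + 1) ρ' σ (ρ g) := ⟨fun a => by
      show ρ g * ρ a = ρ (g * a * g⁻¹) * ρ g
      rw [← map_mul, ← map_mul, inv_mul_cancel_right], by rw [← map_pow, gp, map_one],
    by ext a; rw [hσ, gp]; simp⟩
  have hc : (Fintype.card A : K) ≠ 0 := by
    rw [← Nat.card_eq_fintype_card, Ne, CharP.cast_eq_zero_iff K p]
    exact (piNat_compl_iff hp.out).1 (s.pi.of_le AQ)
  obtain ⟨a₀, a1, a2⟩ := SetLike.not_le_iff_exists.1 nt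
  haveI : Nontrivial V := not_subsingleton_iff_nontrivial.1 fun c => a2 (by
    rw [s.inj a₀ (Subsingleton.elim _ _)]; exact one_mem _)
  have w : GrW p (n + 1) (C(Q).subgroupOf A) ρ' σ := by
    refine ⟨fun a ha => s.sc a (AQ a.2) ha, fun a ha => ?_, fun a ha i hi => ?_, fun a ha => ?_, ⟨⟨a₀, a1⟩, a2⟩⟩
    · obtain ⟨b, b1, b2⟩ : ∃ b ∈ A, b * a ≠ a * b := by
        by_contra! c
        exact ha (nd a a.2 (mem_C.2 c))
      have k1 : ⁅(a : G), b⁆ ∈ Q := comm_le_of_le AQ AQ (commutator_mem_commutator a.2 b1)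
      have k2 : ⁅(a : G), b⁆ ∈ C(Q) := s.c2 (commutator_mem_commutator (AQ a.2) (AQ b1))
      obtain ⟨μ, hμ⟩ := s.sc _ k1 k2
      refine ⟨⟨b, b1⟩, μ, fun e => b2 ?_, ?_⟩
      · rw [e, one_smul] at hμ
        exact (commutatorElement_eq_one_iff_mul_comm.1 (s.inj _ hμ)).symm
      · show ρ a * ρ b = μ • (ρ b * ρ a)
        rw [← one_mul (ρ b * ρ a), ← smul_mul_assoc, ← hμ, ← map_mul, ← map_mul, ← map_mul, commutatorElement_def]
        congr 1; group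
    · by_contra c
      obtain ⟨k, k1, k2⟩ := (Nat.dvd_prime_pow hp.out).1 (MulAction.pow_smul_eq_iff_period_dvd.1
        (show σ ^ p ^ (n + 1) • a = a by rw [hd.sp, one_smul]))
      have k3 : k ≤ n := Nat.le_of_lt_succ (k1.lt_of_ne fun e => c (by
        rw [← e, ← k2]; exact MulAction.pow_smul_eq_iff_period_dvd.1 hi))
      have k4 : (σ ^ p ^ n) a = a := MulAction.pow_smul_eq_iff_period_dvd.2 (k2 ▸ pow_dvd_pow p k3)
      have := hσ (p ^ n) a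
      rw [k4, eq_mul_inv_iff_mul_eq] at this
      exact ha (fp a a.2 this)
    · have e := s.cent_of_mod (gq_pelt gp) (AQ (σ a * a⁻¹).2) ha
      exact fp a a.2 ((show Commute g a from e).pow_left _).eq.symm
  refine ⟨fun x hx => ?_, w.ne_zero hd hc ex, w.card hd hc ex⟩
  have := w.comm hd hc (by omega) ex (φ := ρ x) fun a => by
    show ρ x * ρ a = ρ a * ρ x
    rw [← map_mul, ← map_mul, mem_C.1 hx a a.2]
  rw [← map_mul, ← map_mul] at this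
  refine mul_inv_eq_one.1 (s.inj _ ?_)
  rw [map_mul, this, ← map_mul, mul_inv_cancel, map_one]

theorem lemT (h : GqG p ρ Q n g) (hA : A ≤ GqE Q (g ^ p ^ n)) (hn : g ∈ N(A)) (nd : ∀ a ∈ A, a ∈ C(A) → a ∈ C(Q))
    (nt : ¬ A ≤ C(Q)) (hx : x ∈ C(A)) : x * g = g * x :=
  (s.lemT0 h.pow h.ex (hA.trans (GqE_le h.tn)) hn (fun _ ha => s.cent_of_EC h.tn h.tp (hA ha)) nd nt).1 x hx

theorem lemT' (h : GqG p ρ Q n g) (nt : ¬ GqE Q (g ^ p ^ n) ≤ C(Q)) (hx : x ∈ C(GqE Q (g ^ p ^ n))) : x * g = g * x :=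
  s.lemT h le_rfl h.nE (fun _ => s.nondeg h.tn h.tp) nt hx

/-- an orthogonal decomposition of the plane of `g` is trivial -/
theorem split (h : GqG p ρ Q n g) {D : Subgroup G} (hD : D ≤ GqE Q (g ^ p ^ n)) (hn : g ∈ N(D))
    (d : ∀ x ∈ GqE Q (g ^ p ^ n), ∃ e ∈ C(D), ∃ c ∈ D, x = e * c) :
    (∀ x ∈ GqE Q (g ^ p ^ n), ∃ z ∈ Z(Q), ∃ c ∈ D, x = z * c) ∨ D ≤ C(Q) := by
  have d' : ∀ x ∈ GqE Q (g ^ p ^ n), ∃ e ∈ GqE Q (g ^ p ^ n) ⊓ C(D), ∃ c ∈ D, x = e * c := fun x hx => by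
    obtain ⟨e, e1, c, c1, rfl⟩ := d x hx
    exact ⟨e, ⟨by simpa using mul_mem hx (inv_mem (hD c1)), e1⟩, c, c1, rfl⟩
  by_cases nt : GqE Q (g ^ p ^ n) ⊓ C(D) ≤ C(Q)
  · refine Or.inl fun x hx => ?_
    obtain ⟨e, e1, c, c1, rfl⟩ := d' x hx
    exact ⟨e, ⟨GqE_le h.tn e1.1, nt e1⟩, c, c1, rfl⟩
  · refine Or.inr fun c hc => s.cent_of_EC h.tn h.tp (hD hc) ((show Commute c g from s.lemT h inf_le_left
      (zpowers_le.1 (norm_inf (zpowers_le.2 h.nE) (zpowers_le.2 (N_le_N_C hn)))) (fun a ha a1 => s.nondeg h.tn h.tp ha.1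
      (mem_C.2 fun y hy => ?_)) nt (cent_symm inf_le_right hc)).pow_right _).eq
    obtain ⟨e, e1, c, c1, rfl⟩ := d' y hy
    rw [mul_assoc, mem_C.1 ha.2 c c1, ← mul_assoc, mem_C.1 a1 e e1, mul_assoc]

/-- a `p`-element commuting with `g` modulo `C(E)` acts trivially or fixed-point-freely on the plane `E` of `g` -/
theorem dich (h : GqG p ρ Q n g) (ap : PiElt {p} a) (aE : a ∈ N(GqE Q (g ^ p ^ n)))
    (cm : g⁻¹ * a * g * a⁻¹ ∈ C(GqE Q (g ^ p ^ n))) :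
    a ∈ C(GqE Q (g ^ p ^ n)) ∨ GqE Q (g ^ p ^ n) ⊓ C1(a) ≤ C(Q) := by
  refine (s.split h (D := GqE Q (g ^ p ^ n) ⊓ C1(a)) inf_le_left (mem_N_of_finite fun c hc => ⟨conj_mem_N h.nE hc.1, ?_⟩)
    fun x hx => ?_).imp_left fun d => mem_C.2 fun x hx => ?_
  · have e1 := mem_C.1 cm c hc.1
    have e2 := mem_C1.1 hc.2
    refine mem_C1.2 ?_
    calc g * c * g⁻¹ * a = g * (c * (g⁻¹ * a * g * a⁻¹) * a) * g⁻¹ := by group
      _ = g * ((g⁻¹ * a * g * a⁻¹) * (c * a)) * g⁻¹ := by rw [e1, mul_assoc _ c]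
      _ = _ := by rw [e2]; group
  · obtain ⟨e, -, c, c1, e1, c2, rfl⟩ := s.dec (GqE_le h.tn) aE ap hx
    exact ⟨e, mem_C.2 fun b hb => (s.EC_comm e1 (GqE_le h.tn hb.1) (mem_C1.1 hb.2)).symm, c, ⟨c1, mem_C1.2 c2⟩, rfl⟩
  · obtain ⟨z, z1, c, c1, rfl⟩ := d x hx
    rw [mul_assoc, mem_C1.1 c1.2, ← mul_assoc, ← s.cen z1.1 z1.2 a, mul_assoc]

theorem le_or_perp (h : GqG p ρ Q n g) (ht : t ∈ N(Q)) (tp : PiElt {p} t) (hn : g ∈ N(GqE Q t)) :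
    GqE Q (g ^ p ^ n) ≤ GqE Q t ∨ GqE Q (g ^ p ^ n) ≤ C(GqE Q t) := by
  have τn : g ^ p ^ n ∈ N(GqE Q t) := pow_mem hn _
  have cC : (GqE Q (g ^ p ^ n) ⊓ GqE Q t) ≤ C(GqE Q (g ^ p ^ n) ⊓ C(GqE Q t)) :=
    cent_symm (inf_le_right.trans (C_anti inf_le_right))
  have d : GqE Q (g ^ p ^ n) ≤ (GqE Q (g ^ p ^ n) ⊓ GqE Q t) ⊔ (GqE Q (g ^ p ^ n) ⊓ C(GqE Q t)) := by
    refine sup_le (commutator_le.2 fun x hx y hy => ?_) (le_sup_of_le_left (le_inf Z_le_GqE Z_le_GqE))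
    obtain ⟨e, e0, c, c1, e1, c2, rfl⟩ := s.dec le_rfl ht tp hx
    have c3 : c ∈ C(GqE Q t) := mem_C.2 fun b hb => s.EC_comm hb c1 c2
    have yn := zpowers_le.2 τn hy
    have f1 : ⁅c, y⁆ ∈ C(GqE Q t) := comm_le_left (zpowers_le.2 (N_le_N_C yn)) (commutator_mem_commutator c3 (mem_zpowers y))
    have f2 : ⁅e, y⁆ ∈ GqE Q t := comm_le_left (zpowers_le.2 yn) (commutator_mem_commutator e1 (mem_zpowers y))
    have : ⁅e * c, y⁆ = ⁅c, y⁆ * ⁅e, y⁆ := by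
      calc ⁅e * c, y⁆ = e * ⁅c, y⁆ * e⁻¹ * ⁅e, y⁆ := by simp only [commutatorElement_def]; group
        _ = _ := by rw [mem_C.1 f1 e e1, mul_inv_cancel_right]
    rw [this]
    exact mul_mem (mem_sup_right ⟨mem_sup_left (commutator_mem_commutator c1 hy), f1⟩)
      (mem_sup_left ⟨mem_sup_left (commutator_mem_commutator e0 hy), f2⟩)
  rcases s.split h (D := GqE Q (g ^ p ^ n) ⊓ C(GqE Q t)) inf_le_left
    (zpowers_le.1 (norm_inf (zpowers_le.2 h.nE) (zpowers_le.2 (N_le_N_C hn)))) (fun x hx => by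
      obtain ⟨e, e1, c, c1, rfl⟩ := (mem_sup_of_cent cC).1 (d hx)
      exact ⟨e, cC e1, c, c1, rfl⟩) with d' | d'
  · refine Or.inr fun x hx => ?_
    obtain ⟨z, z1, c, c1, rfl⟩ := d' x hx
    exact mul_mem (s.Z_cen _ z1) c1.2
  · exact Or.inl (d.trans (sup_le inf_le_right ((le_inf (inf_le_left.trans (GqE_le h.tn)) d').trans Z_le_GqE)))

theorem card_lt_of_perm (h2 : p ≠ 2) (h : GqG p ρ Q n g) (ht : t ∈ N(Q)) (tp : PiElt {p} t) (nt : ¬ GqE Q t ≤ C(Q))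
    (nt' : ¬ GqE Q (g ^ p ^ n) ≤ C(Q))
    (hp' : ∀ i : ℕ, cj (g ^ i) (GqE Q t) = GqE Q t ∨ cj (g ^ i) (GqE Q t) ≤ C(GqE Q t)) (c : g ∉ N(GqE Q t)) :
    Nat.card (GqE Q t) < Nat.card (GqE Q (g ^ p ^ n)) := by
  have p1 : cj g (GqE Q t) ≤ C(GqE Q t) := by
    simpa using (hp' 1).resolve_left fun e => c (by rwa [pow_one, ← mem_N_iff_cj] at e)
  have p2 : cj (g * g) (GqE Q t) ≤ C(GqE Q t) := by
    rw [← sq]
    exact (hp' _).resolve_left fun e => c (gq_mem_of_cop h.pow (fun d => h2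
      ((Nat.prime_dvd_prime_iff_eq hp.out Nat.prime_two).1 d)) (mem_N_iff_cj.2 e))
  have AQ := GqE_le ht
  have nd := fun a => s.nondeg (a := a) ht tp
  generalize GqE Q t = A at *
  have BQ : cj g A ≤ Q := (cj_mono AQ).trans (cj_eq_self h.norm).le
  have τQ := h.tn
  have k1 : (A ⊔ cj g A) ⊓ (Q ⊓ C1(g ^ p ^ n)) ≤ GqE Q (g ^ p ^ n) ⊓ (Q ⊓ C1(g ^ p ^ n)) := fun x hx => by
    refine ⟨Z_le_GqE ⟨hx.2.1, ?_⟩, hx.2⟩
    have x1 := s.lemT' h nt' (mem_C.2 fun b hb => s.EC_comm hb hx.2.1 (mem_C1.1 hx.2.2))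
    obtain ⟨a, a1, b, b1, rfl⟩ := (mem_sup_of_cent (cent_symm p1)).1 hx.1
    obtain ⟨b, b2, rfl⟩ := mem_cj'.1 b1
    have a2 : a ∈ C(Q) := nd a a1 (by
      have : a = (g * a * g⁻¹) * ((g * g) * b * (g * g)⁻¹) * (g * b * g⁻¹)⁻¹ := by
        calc a = g * (a * (g * b * g⁻¹)) * g⁻¹ * (g * b * g⁻¹)⁻¹ := by rw [← x1]; group
          _ = _ := by group
      rw [this]
      exact mul_mem (mul_mem (p1 (conj_mem_cj a1)) (p2 (conj_mem_cj b2))) (inv_mem (p1 b1)))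
    have b3 : b ∈ C(Q) := nd b b2 (by
      have e : g * b * g⁻¹ * g = g * (g * b * g⁻¹) := by
        rw [mul_assoc a, ← mul_assoc g a, s.cen (AQ a1) a2 g, mul_assoc a g] at x1
        exact mul_left_cancel x1
      have : b = g * b * g⁻¹ := by
        rw [inv_mul_cancel_right] at e
        exact mul_left_cancel e
      rw [this]; exact p1 b1)
    exact mul_mem a2 (conj_mem_N (N_le_N_C h.norm) b3)
  have k2 := card_mul_le (sup_le AQ BQ) (inf_le_left (b := C1(g ^ p ^ n)))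
  have k3 := Nrm2.card_sup (A := GqE Q (g ^ p ^ n)) (B := Q ⊓ C1(g ^ p ^ n)) (Or.inr fun x hx =>
    C_le_N (mem_C.2 fun b hb => s.EC_comm hb hx.1 (mem_C1.1 hx.2)))
  have k4 : GqE Q (g ^ p ^ n) ⊔ (Q ⊓ C1(g ^ p ^ n)) = Q := le_antisymm (sup_le (GqE_le τQ) inf_le_left) fun x hx => by
    obtain ⟨e, -, c, c1, e1, c2, rfl⟩ := s.dec le_rfl τQ h.tp hx
    exact mul_mem_sup' e1 ⟨c1, mem_C1.2 c2⟩
  rw [k4, mul_comm] at k3
  have k5 := (k2.trans (Nat.mul_le_mul_right _ (card_le k1))).trans k3.le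
  refine (card_lt (left_lt_sup.2 fun e => c (mem_N_of_cj_le e))).trans_le (Nat.le_of_mul_le_mul_right k5 card_pos')

theorem planes (h2 : p ≠ 2) (P : Subgroup G) : PiGrp {p} P → P ≤ N(Q) → ∀ g ∈ P, GqG p ρ Q n g →
    ¬ GqE Q (g ^ p ^ n) ≤ C(Q) → ∀ x ∈ P, cj x (GqE Q (g ^ p ^ n)) = GqE Q (g ^ p ^ n) ∨
      cj x (GqE Q (g ^ p ^ n)) ≤ C(GqE Q (g ^ p ^ n)) := by
  induction P using H18.card_induction with
  | ih P ih =>
  intro hP hn g hg h nt x hx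
  rcases (zpowers_le.2 hg).eq_or_lt with e | e
  · exact Or.inl (cj_eq_self (zpowers_le.2 h.nE (e ▸ hx)))
  obtain ⟨M, m1, m2⟩ := e.exists_le_covby
  have m3 := hP.nil.covBy_nml m2
  have gM := m1 (mem_zpowers g)
  have g2 := conj_mem m3.2 hx gM
  have h' := h.cj (hn hx)
  have e2 : cj x (GqE Q (g ^ p ^ n)) = GqE Q ((x * g * x⁻¹) ^ p ^ n) := by
    rw [cj_GqE (hn hx), conj_pow]
  have hc : Nat.card (GqE Q ((x * g * x⁻¹) ^ p ^ n)) = Nat.card (GqE Q (g ^ p ^ n)) := by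
    rw [← e2, card_cj]
  rw [e2]
  refine (s.le_or_perp h' h.tn h.tp (by_contra fun c => (s.card_lt_of_perm h2 h' h.tn h.tp nt (fun c => nt ?_) (fun i =>
    ih M (card_lt m2.lt) (hP.of_le m2.le) (m2.le.trans hn) g gM h nt _ (pow_mem g2 i)) c).ne' hc)).imp_left
    fun e => eq_of_card_eq e hc
  rw [← e2, ← cj_eq_self (N_le_N_C (hn hx))] at c
  exact cj_le_cj.1 c

/-- the power `g ^ p ^ n` is central, modulo `C(Q)`, in a `p`-group normalizing the plane of `g` -/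
theorem central (hP : PiGrp {p} P) (hn : P ≤ N(Q)) (h : GqG p ρ Q n g) (hg : g ∈ P) (hE : P ≤ N(GqE Q (g ^ p ^ n)))
    (hx : x ∈ P) : ⁅g ^ p ^ n, x⁆ ∈ C(Q) := by
  have EQ := GqE_le h.tn
  have τP := pow_mem hg (p ^ n)
  suffices k : ⁅g ^ p ^ n, x⁆ ∈ C(GqE Q (g ^ p ^ n)) by
    refine mem_C.2 fun y hy => ?_
    obtain ⟨e, -, c, c1, e1, c2, rfl⟩ := s.dec le_rfl h.tn h.tp hy
    have c3 : c ∈ C(GqE Q (g ^ p ^ n)) := mem_C.2 fun b hb => s.EC_comm hb c1 c2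
    have c4 := s.cent_t h.tn h.tp (conj_mem' hn hx c1) (conj_mem_N' (N_le_N_C (hE hx)) c3)
    have c5 : c * ⁅g ^ p ^ n, x⁆ = ⁅g ^ p ^ n, x⁆ * c := by
      generalize g ^ p ^ n = τ at c2 c4
      have c6 : Commute c τ := c2
      have c7 : Commute (x⁻¹ * c * x) τ := c4
      calc c * ⁅τ, x⁆ = (c * τ) * x * τ⁻¹ * x⁻¹ := by rw [commutatorElement_def]; group
        _ = τ * x * ((x⁻¹ * c * x) * τ⁻¹) * x⁻¹ := by rw [c6.eq]; group
        _ = _ := by rw [c7.inv_right.eq, commutatorElement_def]; group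
    rw [mul_assoc, c5, ← mul_assoc, mem_C.1 k e e1, mul_assoc]
  by_cases τE : g ^ p ^ n ∈ C(GqE Q (g ^ p ^ n))
  · exact comm_le_left (zpowers_le.2 (N_le_N_C (hE hx))) (commutator_mem_commutator τE (mem_zpowers x))
  have D := fun a ap aE cm => s.dich h (a := a) ap aE cm
  have τp : (g ^ p ^ n) ^ p = 1 := by rw [← pow_mul, ← pow_succ, h.pow]
  have gτ := (Commute.self_pow g (p ^ n)).eq
  have nE : ¬ GqE Q (g ^ p ^ n) ≤ C(GqE Q (g ^ p ^ n)) := fun e => τE (C_anti EQ (s.cent_of_triv h.tn h.tp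
    fun a ha => s.nondeg h.tn h.tp ha (e ha)))
  generalize g ^ p ^ n = τ at *
  generalize GqE Q τ = E at *
  have LC : (P ⊓ C(E)) ⊔ Z(Q) ≤ C(E) := sup_le inf_le_right (s.Z_cen _)
  have PL : P ≤ N((P ⊓ C(E)) ⊔ Z(Q)) := norm_sup (norm_inf le_N (hE.trans N_le_N_C)) ((cent_symm (s.Z_cen _)).trans C_le_N)
  have EL : E ≤ N((P ⊓ C(E)) ⊔ Z(Q)) := (cent_symm LC).trans C_le_N
  have L1 : P ⊓ C(E) ≤ (P ⊓ C(E)) ⊔ Z(Q) := le_sup_left
  have L2 : Z(Q) ≤ (P ⊓ C(E)) ⊔ Z(Q) := le_sup_right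
  generalize (P ⊓ C(E)) ⊔ Z(Q) = L at *
  have cp : Cop P E := cop_of_pi hE hP (s.pi.of_le EQ) (Or.inl hP.nil.solv)
  have τ1 : cs L τ ≠ 1 := fun e => τE (LC ((cs_eq_one_iff (PL τP)).1 e))
  have P' : PiGrp {p} (P ⫽ L) := hP.mim
  obtain ⟨z, z1, z2⟩ := cauchy hp.out ((P'.of_le (inf_le_left (b := C(P ⫽ L)))).dvd_card
    (P'.nil.Z_ne_bot (ne_bot_of_mem (mfun_mem_mim τP) τ1)))
  have oτ : orderOf (cs L τ) = p := orderOf_eq_prime (by rw [← mfun_pow (PL τP), τp, mfun_one]) τ1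
  have AP : zpowers (cs L τ) ⊔ zpowers z ≤ P ⫽ L := sup_le (zpowers_le.2 (mfun_mem_mim τP)) (zpowers_le.2 z1.1)
  have Ag : zpowers (cs L τ) ⊔ zpowers z ≤ C1(cs L g) := sup_le (zpowers_le.2 (mem_C1.2 (by
    rw [← mfun_mul (PL τP) (PL hg), ← gτ, mfun_mul (PL hg) (PL τP)])))
    (zpowers_le.2 (mem_C1.2 (mem_C.1 z1.2 _ (mfun_mem_mim hg)).symm))
  have Aab : Abel (zpowers (cs L τ) ⊔ zpowers z) := abel_zpowers.sup abel_zpowers (cent_symm ((zpowers_le.2 z1.2).trans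
    (C_anti (zpowers_le.2 (mfun_mem_mim τP)))))
  by_cases cy : Cyc (zpowers (cs L τ) ⊔ zpowers z)
  · have e := cy.eq_of_card_eq le_sup_left le_sup_right (by rw [card_zpowers', card_zpowers', oτ, z2])
    have e2 := mem_C.1 (zpowers_le.2 z1.2 (e ▸ mem_zpowers (cs L τ))) _ (mfun_mem_mim hx)
    refine LC ((cs_eq_one_iff (PL (comm_le_of_le le_rfl le_rfl (commutator_mem_commutator τP hx)))).1 ?_)
    rw [mfun_comm (PL τP) (PL hx), commutatorElement_eq_one_iff_mul_comm, e2]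
  obtain ⟨a, a1, a2, a3⟩ := exists_cent_ne_bot_of_not_cyc Aab cy ((cp.mim (f := coset L)).left AP)
    fun e => nE (((quo_eq_bot_iff EL).1 e).trans LC)
  · obtain ⟨b, b1, rfl⟩ := (mem_quo PL).1 (AP a1)
    exfalso
    rcases D b (hP.elt b1) (hE b1) (LC ((cs_eq_one_iff (PL (mul_mem (mul_mem (mul_mem (inv_mem hg) b1) hg)
      (inv_mem b1)))).1 (by
        rw [mfun_mul (PL (mul_mem (mul_mem (inv_mem hg) b1) hg)) (PL (inv_mem b1)), mfun_mul (PL (mul_mem (inv_mem hg) b1))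
          (PL hg), mfun_mul (PL (inv_mem hg)) (PL b1), mfun_inv (PL hg), mfun_inv (PL b1), mul_assoc (cs L g)⁻¹,
          mem_C1.1 (Ag a1)]; group))) with d | d
    · exact a2 (cs_eq_one (L1 ⟨b1, d⟩))
    · have := (cp.left (zpowers_le.2 b1)).quo_cent_eq_bot (zpowers_le.2 (PL b1)) EL (by
        rw [C_zpowers]; exact (le_inf (inf_le_left.trans EQ) d).trans L2)
      rw [mim_zpowers (PL b1), C_zpowers] at this
      exact a3 this

/-- the order `p` powers of two exceptional elements of a `p`-group commute modulo `C(Q)` -/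
theorem comm (h2 : p ≠ 2) (hP : PiGrp {p} P) (hn : P ≤ N(Q)) (h : GqG p ρ Q n g) (hg : g ∈ P) (h' : GqG p ρ Q m x)
    (hx : x ∈ P) : ⁅g ^ p ^ n, x ^ p ^ m⁆ ∈ C(Q) := by
  have sy : ∀ a b : G, ⁅a, b⁆ ∈ C(Q) → ⁅b, a⁆ ∈ C(Q) := fun a b c => by
    rw [← commutatorElement_inv]; exact inv_mem c
  have tr : ∀ a b : G, a ∈ C(Q) → b ∈ N(Q) → ⁅a, b⁆ ∈ C(Q) := fun a b c d =>
    comm_le_left (zpowers_le.2 (N_le_N_C d)) (commutator_mem_commutator c (mem_zpowers b))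
  by_cases nt : GqE Q (g ^ p ^ n) ≤ C(Q)
  · exact tr _ _ (s.cent_of_triv h.tn h.tp nt) h'.tn
  by_cases nt' : GqE Q (x ^ p ^ m) ≤ C(Q)
  · exact sy _ _ (tr _ _ (s.cent_of_triv h'.tn h'.tp nt') h.tn)
  by_cases c : x ∈ N(GqE Q (g ^ p ^ n))
  · exact s.central (P := P ⊓ N(GqE Q (g ^ p ^ n))) hP.inf_left (inf_le_left.trans hn) h ⟨hg, h.nE⟩ inf_le_right
      ⟨pow_mem hx _, pow_mem c _⟩
  by_cases c' : g ∈ N(GqE Q (x ^ p ^ m))
  · exact sy _ _ (s.central (P := P ⊓ N(GqE Q (x ^ p ^ m))) hP.inf_left (inf_le_left.trans hn) h' ⟨hx, h'.nE⟩ inf_le_right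
      ⟨pow_mem hg _, pow_mem c' _⟩)
  exact absurd (s.card_lt_of_perm h2 h' h.tn h.tp nt nt' (fun i => s.planes h2 P hP hn g hg h nt _ (pow_mem hx i)) c)
    (s.card_lt_of_perm h2 h h'.tn h'.tp nt' nt (fun i => s.planes h2 P hP hn x hx h' nt' _ (pow_mem hg i)) c').not_gt

end GqS
end H8
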