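import Cfsg.Agent.H8.Gq1

/-! Reduction lemmas for modules in characteristic `p`: `gqV` (weight spaces of a normal abelian subgroup), `gq_indep`,
`gq_down`, `gq_glob` (an element centralizing all invariant class two `p'`-subgroups is trivial), `gq_main` (order `p`
powers of exceptional elements of a `p`-group commute modulo `C(Q)`). -/

set_option autoImplicit false
set_option linter.unusedSectionVars false

namespace H8
open Module Subgroup Cfsg H18 H1 H21 H21.HB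
open scoped commutatorElement
universe u v

variable {G : Type u} [Group G] [Finite G] {K : Type*} [Field K] {V : Type v} [AddCommGroup V] [Module K V]
  [FiniteDimensional K V] {p k m n : ℕ} [hp : Fact p.Prime] {ρ : G →* End K V} {H Q S A B P Y Z : Subgroup G}
  {a b c g r t x y z : G} {l : G → K} {w : V}

/-- weight space -/
def gqV (ρ : G →* End K V) (Z : Subgroup G) (l : G → K) : Submodule K V := ⨅ z ∈ Z, (ρ z).eigenspace (l z)

theorem mem_gqV : w ∈ gqV ρ Z l ↔ ∀ z ∈ Z, ρ z w = l z • w := by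
  simp [gqV, Submodule.mem_iInf]

theorem gqV_map (hx : x ∈ N(Z)) (h : w ∈ gqV ρ Z l) : ρ x w ∈ gqV ρ Z fun z => l (x⁻¹ * z * x) :=
  mem_gqV.2 fun z hz => by
    rw [← map_smul, ← mem_gqV.1 h _ (conj_mem_N' hx hz), ← End.mul_apply, ← End.mul_apply, ← map_mul, ← map_mul]
    congr 2; group

theorem gqV_ne (hx : x ∈ N(Z)) (h : x ∉ grStab ρ (gqV ρ Z l)) : ∃ z ∈ Z, l (x⁻¹ * z * x) ≠ l z := by
  by_contra! c
  exact h fun w hw => mem_gqV.2 fun z hz => by rw [← c z hz]; exact mem_gqV.1 (gqV_map hx hw) z hz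

theorem gqV_cent : C(Z) ≤ grStab ρ (gqV ρ Z l) := fun x hx => by_contra fun c => by
  obtain ⟨z, z1, z2⟩ := gqV_ne (C_le_N hx) c
  exact z2 (by rw [mul_assoc, mem_C.1 hx z z1, inv_mul_cancel_left])

theorem gq_indep {ι : Type*} (s : Finset ι) (μ : ι → G → K) (hne : ∀ i ∈ s, ∃ z ∈ Z, μ i z ≠ l z) :
    ∀ (v : ι → V) (w : V), w ∈ gqV ρ Z l → (∀ i ∈ s, v i ∈ gqV ρ Z (μ i)) → w + ∑ i ∈ s, v i = 0 → w = 0 := by
  classical
  induction s using Finset.induction_on with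
  | empty => intro v w _ _ e; simpa using e
  | insert j s hj ih =>
    intro v w hw hv e
    obtain ⟨z, z1, z2⟩ := hne j (Finset.mem_insert_self j s)
    have e2 := congrArg (fun u => ρ z u - μ j z • u) e
    simp only [Finset.sum_insert hj, map_add, smul_add, map_sum, Finset.smul_sum, map_zero, smul_zero, sub_zero,
      mem_gqV.1 hw z z1, mem_gqV.1 (hv j (Finset.mem_insert_self j s)) z z1] at e2
    have := ih (fun i hi => hne i (Finset.mem_insert_of_mem hi)) (fun i => (μ i z - μ j z) • v i) ((l z - μ j z) • w)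
      (Submodule.smul_mem _ _ hw) (fun i hi => Submodule.smul_mem _ _ (hv i (Finset.mem_insert_of_mem hi))) (by
        rw [← e2, Finset.sum_congr rfl fun i hi => mem_gqV.1 (hv i (Finset.mem_insert_of_mem hi)) z z1]
        simp only [sub_smul, Finset.sum_sub_distrib]
        abel)
    exact (smul_eq_zero.1 this).resolve_left (sub_ne_zero.2 z2.symm)

theorem gqV_span [IsAlgClosed K] (hZ : Abel Z) (hA : A ≤ N(Z)) (irr : ∀ U : Submodule K V, A ≤ grStab ρ U → U = ⊥ ∨ U = ⊤)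
    {φ : End K V} (h : ∀ l, ∀ w ∈ gqV ρ Z l, φ w = w) : φ = 1 := by
  rcases subsingleton_or_nontrivial V with hV | hV
  · exact Subsingleton.elim _ _
  obtain ⟨W, -, w2, w3, w4⟩ := exists_min (fun W : Submodule K V => ∀ a : Z, ∀ w ∈ W, (ρ.comp Z.subtype) a w ∈ W)
    (U := ⊤) (fun _ _ _ => trivial) top_ne_bot
  haveI := Submodule.nontrivial_iff_ne_bot.2 w2
  have : ∀ z : G, ∃ c : K, z ∈ Z → ∀ w ∈ W, ρ z w = c • w := fun z => by
    by_cases hz : z ∈ Z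
    · obtain ⟨c, hc⟩ := schur _ w4 (resHom _ W w3 ⟨z, hz⟩) fun μ => by
        rintro a _ ⟨w, hw, rfl⟩
        exact ⟨_, eig_inv (f := resHom _ W w3 a) (by
          rw [← map_mul, ← map_mul]; exact congrArg _ (Subtype.ext (comm_of_cent hZ hz a.2))) μ w hw, rfl⟩
      exact ⟨c, fun _ w hw => congrArg (fun θ : End K W => (θ ⟨w, hw⟩ : V)) hc⟩
    · exact ⟨0, fun c => absurd c hz⟩
  choose l hl using this
  have e := (irr (⨆ l, gqV ρ Z l) fun x hx w hw => Submodule.iSup_induction _ (motive := fun w => ρ x w ∈ ⨆ l, gqV ρ Z l) hw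
    (fun l w hw => Submodule.mem_iSup_of_mem _ (gqV_map (hA hx) hw)) (by simp)
    fun a b ha hb => by rw [map_add]; exact add_mem ha hb).resolve_left fun e => w2 (eq_bot_iff.2 fun w hw =>
      e ▸ Submodule.mem_iSup_of_mem l (mem_gqV.2 fun z hz => hl z hz w hw))
  refine LinearMap.ext fun w => Submodule.iSup_induction _ (motive := fun w => φ w = w)
    (e ▸ Submodule.mem_top : w ∈ ⨆ l, gqV ρ Z l) h (by simp) fun a b ha hb => by rw [map_add, ha, hb]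

theorem gq_res_pow {M : Type*} [Monoid M] {ρ : M →* End K V} {U : Submodule K V} (i : ∀ a, ∀ w ∈ U, ρ a w ∈ U) {a : M}
    (h : ∀ w ∈ U, ((ρ a - 1) ^ k) w = 0) : (resHom ρ U i a - 1) ^ k = 0 := by
  by_contra c
  obtain ⟨w, w1, hw⟩ := res_pow_ne (i a) c
  exact hw (h w w1)

theorem gq_quo_pow {M : Type*} [Monoid M] {ρ : M →* End K V} {U : Submodule K V} (i : ∀ a, ∀ w ∈ U, ρ a w ∈ U) {a : M}
    (h : (ρ a - 1) ^ k = 0) : (grQuo ρ U i a - 1) ^ k = 0 := by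
  have : ∀ (k : ℕ) (w : V), ((grQuo ρ U i a - 1) ^ k) (U.mkQ w) = U.mkQ (((ρ a - 1) ^ k) w) := fun k w => by
    induction k with
    | zero => rfl
    | succ k ih => rw [pow_succ', pow_succ', End.mul_apply, ih]; rfl
  exact U.linearMap_qext (LinearMap.ext fun w => (this _ w).trans (by rw [h]; rfl))

theorem gq_glob (hs : H4.PSol p H) (hO : O[{p}](H) = ⊥) (hP : PiGrp {p} P) (PH : P ≤ H) (hc : c ∈ P)
    (h : ∀ U ≤ H, PiGrp {p}ᶜ U → ⁅U, U⁆ ≤ C(U) → P ≤ N(U) → c ∈ C(U)) : c = 1 := by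
  by_contra c1
  obtain ⟨A, y1, ⟨y2, y3⟩, y4⟩ := exists_minimal_sub (fun L => c ∈ L ∧ P ≤ N(L)) (A := P) ⟨hc, le_N⟩
  have cp : Cop P O[{p}ᶜ](H) := cop_of_pi (PH.trans pcore_nml.2) hP pcore_pi (Or.inl hP.nil.solv)
  obtain ⟨q, hq, q1, Q, hQ, n1, n2⟩ : ∃ q, q.Prime ∧ q ∣ Nat.card O[{p}ᶜ](H) ∧ ∃ Q, Hall {q} Q O[{p}ᶜ](H) ∧ P ≤ N(Q) ∧
      ¬ Q ≤ C(A) := by
    by_contra! c2
    refine c1 ((hP.elt hc).eq_one' (pcore_pi.elt (psol_cent_p'core hs hO ⟨PH hc, cent_symm (le_of_sylows fun q hq q1 => ?_) y2⟩)))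
    obtain ⟨Q, h1, h2⟩ := cp.exists_sylow hq
    exact ⟨Q, h1, c2 q hq q1 Q h1 h2⟩
  have qp : q ≠ p := fun e => (piNat_compl_iff hp.out).1 (pcore_pi (π := {p}ᶜ) (H := H)) (e ▸ q1)
  obtain ⟨U, u1, hU⟩ := exists_minAct hQ.2 n1 y1 y3 (PiNat.p'_of_ne (hP.of_le y1) qp.symm) n2
  have := y4 (A ⊓ C(U)) ⟨⟨y2, h U (u1.trans (hQ.1.trans pcore_nml.1)) (PiNat.p'_of_ne hU.pi qp) hU.der_cent hU.norm⟩,
    norm_inf y3 (hU.norm.trans N_le_N_C)⟩ inf_le_left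
  exact hU.nt (cent_symm (this.ge.trans inf_le_right))

variable [CharP K p]

theorem gq_unip {U : Submodule K V} (inj : ∀ x, ρ x = 1 → x = 1) (ap : PiElt {p}ᶜ a) (ha : a ∈ grStab ρ U)
    (i : ∀ x : grStab ρ U, ∀ w ∈ U, (ρ.comp (grStab ρ U).subtype) x w ∈ U) (a1 : resHom _ U i ⟨a, ha⟩ = 1)
    (a2 : grQuo _ U i ⟨a, ha⟩ = 1) : a = 1 := by
  have a3 : (ρ a - 1) ^ 2 = 0 := LinearMap.ext fun w => by
    have b1 : (ρ a - 1) w ∈ U := (Submodule.Quotient.eq U).1 (congrArg (fun θ : End K (V ⧸ U) => θ (U.mkQ w)) a2)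
    have b2 := congrArg (fun θ : End K U => (θ ⟨_, b1⟩ : V)) a1
    rw [sq, End.mul_apply, LinearMap.sub_apply]
    exact sub_eq_zero.2 b2
  have a4 := pow_eq_zero_of_le (show 2 ≤ p ^ 1 by simpa using hp.out.two_le) a3
  rw [sub_one_pow (K := K), sub_eq_zero, ← map_pow] at a4
  exact mem_bot.1 (gq_mem_of_pow (S := ⊥) ap (mem_bot.2 (inj _ a4)))

theorem gq_down (hg : g ∈ N(Z)) (gp : g ^ p ^ (n + 1) = 1) (ex : (ρ g - 1) ^ (p ^ (n + 1) - 1) = 0) (h0 : gqV ρ Z l ≠ ⊥) :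
    ∃ k m, k + m = n ∧ g ^ p ^ k ∈ grStab ρ (gqV ρ Z l) ∧
      ∀ w ∈ gqV ρ Z l, ((ρ (g ^ p ^ k) - 1) ^ (p ^ (m + 1) - 1)) w = 0 := by
  classical
  have e : ∃ k, g ^ p ^ k ∈ grStab ρ (gqV ρ Z l) := ⟨n + 1, gp ▸ one_mem _⟩
  have k1 := Nat.find_spec e
  have k2 : Nat.find e ≤ n + 1 := Nat.find_min' e (gp ▸ one_mem _)
  have k3 : ∀ j < Nat.find e, g ^ p ^ j ∉ grStab ρ (gqV ρ Z l) := fun j => Nat.find_min e
  generalize Nat.find e = k at *
  have key : ∀ w ∈ gqV ρ Z l, ((ρ g - 1) ^ (p ^ k - 1)) w = 0 → w = 0 := fun w hw e => by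
    rw [← geom_char (K := K), Finset.range_eq_Ico, Finset.sum_eq_sum_Ico_succ_bot (pow_pos hp.out.pos k), pow_zero,
      LinearMap.add_apply, LinearMap.sum_apply] at e
    refine gq_indep _ (fun i z => l ((g ^ i)⁻¹ * z * g ^ i)) (fun i hi => gqV_ne (ρ := ρ) (pow_mem hg i) fun c => ?_) _ w hw
      (fun i _ => by rw [← map_pow]; exact gqV_map (pow_mem hg i) hw) e
    obtain ⟨i1, i2⟩ := Finset.mem_Ico.1 hi
    obtain ⟨j, u, u1, rfl⟩ := Nat.exists_eq_pow_mul_and_not_dvd (show i ≠ 0 by omega) p hp.out.ne_one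
    refine k3 j ((Nat.pow_lt_pow_iff_right hp.out.one_lt).1 ((Nat.le_mul_of_pos_right _ (Nat.pos_of_ne_zero ?_)).trans_lt i2))
      (gq_mem_of_cop (k := n + 1) (by rw [← pow_mul, mul_comm, pow_mul, gp, one_pow]) u1 (by rwa [← pow_mul]))
    rintro rfl
    exact u1 (dvd_zero p)
  rcases k2.eq_or_lt with rfl | k2
  · exact absurd (eq_bot_iff.2 fun w hw => key w hw (by rw [ex]; rfl)) h0
  obtain ⟨m, rfl⟩ := Nat.exists_eq_add_of_le (Nat.le_of_lt_succ k2)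
  refine ⟨k, m, rfl, k1, fun w hw => key _ (End.pow_apply_mem_of_forall_mem _ (fun w hw => sub_mem (k1 w hw) hw) w hw) ?_⟩
  have e6 : p ^ (k + m + 1) - 1 = p ^ k - 1 + p ^ k * (p ^ (m + 1) - 1) := by
    have := Nat.one_le_pow k p hp.out.pos
    have := Nat.le_mul_of_pos_right (p ^ k) (pow_pos hp.out.pos (m + 1))
    rw [Nat.mul_sub_one, add_assoc, pow_add]; omega
  rw [e6, pow_add, pow_mul, sub_one_pow (K := K), ← map_pow] at ex
  exact congrArg (fun θ : End K V => θ w) ex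

/-- the statement for a fixed module -/
def GqP (G : Type u) [Group G] (p : ℕ) (K : Type*) [Field K] (V : Type v) [AddCommGroup V] [Module K V] : Prop :=
  ∀ (ρ : G →* End K V), (∀ x, ρ x = 1 → x = 1) → ∀ (Q P : Subgroup G) (n m : ℕ) (g x : G), PiGrp {p}ᶜ Q → ⁅Q, Q⁆ ≤ C(Q) →
    PiGrp {p} P → P ≤ N(Q) → g ∈ P → x ∈ P → g ^ p ^ (n + 1) = 1 → x ^ p ^ (m + 1) = 1 →
    (ρ g - 1) ^ (p ^ (n + 1) - 1) = 0 → (ρ x - 1) ^ (p ^ (m + 1) - 1) = 0 → ⁅g ^ p ^ n, x ^ p ^ m⁆ ∈ C(Q)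

theorem gq_transfer (ih : ∀ (G : Type u) [Group G] [Finite G], GqP G p K V) {D : Subgroup G} (ρ : D →* End K V)
    (h1 : PiGrp {p}ᶜ Q) (h2 : ⁅Q, Q⁆ ≤ C(Q)) (h3 : PiGrp {p} P) (h4 : P ≤ N(Q)) (hg : g ∈ P) (hx : x ∈ P)
    (gp : g ^ p ^ (n + 1) = 1) (xp : x ^ p ^ (m + 1) = 1) (QD : Q ≤ D) (gD : g ∈ D) (xD : x ∈ D)
    (e1 : (ρ ⟨g, gD⟩ - 1) ^ (p ^ (n + 1) - 1) = 0) (e2 : (ρ ⟨x, xD⟩ - 1) ^ (p ^ (m + 1) - 1) = 0)
    (ha : a ∈ ⁅zpowers ⁅g ^ p ^ n, x ^ p ^ m⁆, Q⁆) (hD : a ∈ D) : ρ ⟨a, hD⟩ = 1 := by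
  let f := QuotientGroup.mk' ρ.toHomUnits.ker
  let ρ' := (Units.coeHom _).comp (QuotientGroup.kerLift ρ.toHomUnits)
  have := ih _ ρ' (fun x hx => QuotientGroup.kerLift_injective ρ.toHomUnits (Units.ext (by rw [map_one]; exact hx)))
    (mim f Q) (mim f P) n m (mfun f g) (mfun f x) h1.mim (by rw [← mim_comm QD QD]; exact mim_cent h2) h3.mim (mim_norm h4)
    (mfun_mem_mim hg) (mfun_mem_mim hx) (by rw [← mfun_pow gD, gp, mfun_one]) (by rw [← mfun_pow xD, xp, mfun_one])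
    (by rw [mfun_of_mem gD]; exact e1) (by rw [mfun_of_mem xD]; exact e2)
  have cD : ⁅g ^ p ^ n, x ^ p ^ m⁆ ∈ D := comm_le_of_le le_rfl le_rfl (commutator_mem_commutator (pow_mem gD _) (pow_mem xD _))
  rw [← mfun_pow gD, ← mfun_pow xD, ← mfun_comm (pow_mem gD _) (pow_mem xD _), ← zpowers_le, ← mim_zpowers cD,
    ← comm_le_mker_iff (zpowers_le.2 cD) QD] at this
  have e := (mem_mker.1 (this ha)).2
  rw [mfun_of_mem hD] at e
  exact congrArg ρ' e |>.trans (map_one ρ')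

theorem gq_sc [IsAlgClosed K] (hA : A ≤ N(Z)) (hZ : Abel Z) (irr : ∀ U : Submodule K V, A ≤ grStab ρ U → U = ⊥ ∨ U = ⊤)
    (h : gqV ρ Z l = ⊤) (hz : z ∈ Z) : ∃ c : K, ρ z = c • 1 :=
  ⟨l z, LinearMap.ext fun w => mem_gqV.1 (h ▸ Submodule.mem_top : w ∈ gqV ρ Z l) z hz⟩

theorem gq_all [IsAlgClosed K] (h2 : p ≠ 2) (d : ℕ) : ∀ (V : Type v) [AddCommGroup V] [Module K V] [FiniteDimensional K V],
    finrank K V = d → ∀ (G : Type u) [Group G] [Finite G], GqP G p K V := by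
  induction d using Nat.strong_induction_on with | _ d ih
  intro V _ _ _ hd G _ _ ρ inj Q P n m g x h1 h3 h4 h5 hg hx gp xp e1 e2
  have cP : ⁅g ^ p ^ n, x ^ p ^ m⁆ ∈ P := comm_le_of_le le_rfl le_rfl (commutator_mem_commutator (pow_mem hg _) (pow_mem hx _))
  have XQ : ⁅zpowers ⁅g ^ p ^ n, x ^ p ^ m⁆, Q⁆ ≤ Q := comm_le_right (zpowers_le.2 (h5 cP))
  suffices fin : ∀ a ∈ ⁅zpowers ⁅g ^ p ^ n, x ^ p ^ m⁆, Q⁆, a = 1 from
    zpowers_le.1 (commutator_eq_bot_iff_le_centralizer.1 (eq_bot_iff.2 fun a ha => mem_bot.2 (fin a ha)))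
  by_cases irr : ∀ U : Submodule K V, Q ⊔ P ≤ grStab ρ U → U = ⊥ ∨ U = ⊤
  swap
  · push Not at irr
    obtain ⟨U, u1, u5, u6⟩ := irr
    obtain ⟨u1, u2⟩ := sup_le_iff.1 u1
    intro a ha
    have i1 : ∀ x : grStab ρ U, ∀ w ∈ U, (ρ.comp (grStab ρ U).subtype) x w ∈ U := fun x => x.2
    exact gq_unip inj (h1.elt (XQ ha)) (u1 (XQ ha)) i1 (gq_transfer (ih _ (hd ▸ Submodule.finrank_lt u6) U rfl)
      (resHom _ U i1) h1 h3 h4 h5 hg hx gp xp u1 (u2 hg) (u2 hx) (gq_res_pow i1 fun w _ => congrArg (fun θ : End K V => θ w) e1)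
      (gq_res_pow i1 fun w _ => congrArg (fun θ : End K V => θ w) e2) ha _) (gq_transfer (ih _ (by
        have := U.finrank_quotient_add_finrank
        have := Submodule.finrank_eq_zero.not.2 u5
        omega) (V ⧸ U) rfl) (grQuo _ U i1) h1 h3 h4 h5 hg hx gp xp u1 (u2 hg) (u2 hx) (gq_quo_pow i1 e1)
        (gq_quo_pow i1 e2) ha _)
  by_cases sc : ∀ z ∈ Q, z ∈ C(Q) → ∃ c : K, ρ z = c • 1
  · have s : GqS p ρ Q := ⟨inj, h1, h3, sc⟩
    intro a ha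
    rwa [commutator_eq_bot_iff_le_centralizer.2 (zpowers_le.2 (s.comm h2 h4 h5 ⟨h5 hg, gp, e1⟩ hg ⟨h5 hx, xp, e2⟩ hx)),
      mem_bot] at ha
  have nZ : N(Q) ≤ N(Z(Q)) := norm_inf le_rfl N_le_N_C
  have aZ : Abel Z(Q) := inf_le_right.trans (C_anti inf_le_left)
  have nA : Q ⊔ P ≤ N(Z(Q)) := (sup_le le_N h5).trans nZ
  refine fun a ha => inj a (gqV_span aZ nA irr fun l w hw => ?_)
  by_cases h0 : gqV ρ Z(Q) l = ⊥
  · rw [h0, Submodule.mem_bot] at hw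
    rw [hw, map_zero]
  have u6 : gqV ρ Z(Q) l ≠ ⊤ := fun e => sc fun z z1 z2 => gq_sc nA aZ irr e ⟨z1, z2⟩
  have u1 : Q ≤ grStab ρ (gqV ρ Z(Q) l) := (cent_symm inf_le_right).trans gqV_cent
  obtain ⟨k, n, rfl, a1, a2⟩ := gq_down (nZ (h5 hg)) gp e1 h0
  obtain ⟨j, m, rfl, b1, b2⟩ := gq_down (nZ (h5 hx)) xp e2 h0
  generalize gqV ρ Z(Q) l = U at *
  have i1 : ∀ x : grStab ρ U, ∀ w ∈ U, (ρ.comp (grStab ρ U).subtype) x w ∈ U := fun x => x.2
  have := gq_transfer (ih _ (hd ▸ Submodule.finrank_lt u6) U rfl) (resHom _ U i1) h1 h3 h4 h5 (pow_mem hg _) (pow_mem hx _)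
    (by rw [← pow_mul, ← pow_add, ← add_assoc, gp]) (by rw [← pow_mul, ← pow_add, ← add_assoc, xp]) u1 a1 b1
    (gq_res_pow i1 a2) (gq_res_pow i1 b2) (by rwa [← pow_mul, ← pow_mul, ← pow_add, ← pow_add]) (u1 (XQ ha))
  exact congrArg (fun θ : End K U => (θ ⟨w, hw⟩ : V)) this

theorem gq_main (h2 : p ≠ 2) (G : Type u) [Group G] [Finite G] : GqP G p K V := by
  intro ρ inj Q P n m g x h1 h3 h4 h5 hg hx gp xp e1 e2
  let F := AlgebraicClosure K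
  let φ := End.baseChangeHom K F V
  have i : Function.Injective φ := LinearMap.baseChangeHom_injective K V F
  exact gq_all (K := F) h2 _ _ rfl G (φ.toMonoidHom.comp ρ) (fun x e => inj x (i (e.trans (map_one φ).symm))) Q P n m g x
    h1 h3 h4 h5 hg hx gp xp (by simpa using congrArg φ e1) (by simpa using congrArg φ e2)

end H8
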