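import Cfsg.Agent.H8.Gr3
import Cfsg.Agent.H9.SylowBasic

/-! Gross' theorem: `gr_thmK` (the involution of an exceptional `2`-element lies in `O_{2',2}`), `gr_plr`
(`l_2 ≤ 2 e - 1` for solvable groups). -/

set_option autoImplicit false
set_option linter.unusedSectionVars false

namespace H8
open Module Subgroup Cfsg H18 H1 H21 H21.HB
open scoped commutatorElement
universe u v

variable {G : Type u} [Group G] [Finite G] {K : Type*} [Field K] {V : Type v} [AddCommGroup V] [Module K V]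
  [FiniteDimensional K V] {n : ℕ} {ρ : G →* End K V} {H T W : Subgroup G} {g t : G}

/-- an involution outside `O_{2',2}(H)` inverts an element of odd order of `N(T)` outside `O_{2',2}(H)` -/
theorem gr_exists_inv (hT : Hall {2} T O2[{2}ᶜ,{2}](H)) (tH : t ∈ H) (tT : t ∈ N(T)) (t2 : t * t = 1)
    (c : t ∉ O2[{2}ᶜ,{2}](H)) :
    ∃ r ∈ H, r ∈ N(T) ∧ PiElt {2}ᶜ r ∧ t * r * t⁻¹ = r⁻¹ ∧ r ∉ O2[{2}ᶜ,{2}](H) := by
  have nM : O2[{2}ᶜ,{2}](H) ⊴ H := pcore2_nml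
  have e0 : O[{2}](H ⫽ O2[{2}ᶜ,{2}](H)) = ⊥ := by
    rw [← quo_rad]; refine quo_eq_bot ?_
    rw [← rad_pcore]; exact rad_rad_le pcore_nml
  generalize O2[{2}ᶜ,{2}](H) = M at *
  have tM := nM.2 tH
  have t1 : cs M t ≠ 1 := fun e => c ((cs_eq_one_iff tM).1 e)
  haveI : Fact (Nat.Prime 2) := ⟨Nat.prime_two⟩
  obtain ⟨⟨h, h0⟩, h1, h2, h3⟩ := H9.exists_odd_inverted (G := H ⫽ M) (t := ⟨cs M t, mfun_mem_mim tH⟩)
    (orderOf_eq_prime (Subtype.ext (by show cs M t ^ 2 = 1; rw [← mfun_pow tM, sq, t2, mfun_one]))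
      fun e => t1 (congrArg Subtype.val e)) fun e => t1 (by
      have := le_pcore (nml_map_subtype (X := normalClosure {(⟨cs M t, mfun_mem_mim tH⟩ : H ⫽ M)}))
        (piGrp_of_isPGroup Nat.prime_two (e.map _))
      rw [e0] at this
      exact this ⟨_, subset_normalClosure rfl, rfl⟩)
  obtain ⟨x, x1, rfl⟩ := (mem_quo nM.2).1 h0
  obtain ⟨k, k1, b, b1, rfl⟩ := frattini_elt Nat.prime_two hT (nM.2 x1)
  have bH : b ∈ H := by simpa using mul_mem (inv_mem (nM.1 k1)) x1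
  have bM := nM.2 bH
  have e1 : cs M (k * b) = cs M b := by rw [mfun_mul (le_N k1) bM, cs_eq_one k1, one_mul]
  have h1' : cs M b ≠ 1 := fun e => h1 (Subtype.ext (e1.trans e))
  have h2' : PiElt {2}ᶜ (cs M b) := (piNat_compl_iff Nat.prime_two).2 (by
    rw [← e1, ← Subgroup.orderOf_mk _ h0]; exact h2.not_two_dvd_nat)
  have h3' : cs M t * cs M b * (cs M t)⁻¹ = (cs M b)⁻¹ := by rw [← e1]; exact congrArg Subtype.val h3
  have y1 : t * b * t⁻¹ * b⁻¹ ∈ H := mul_mem (mul_mem (mul_mem tH bH) (inv_mem tH)) (inv_mem bH)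
  have y2 : t * b * t⁻¹ * b⁻¹ ∈ N(T) := mul_mem (mul_mem (mul_mem tT b1) (inv_mem tT)) (inv_mem b1)
  have y3 : t * (t * b * t⁻¹ * b⁻¹) * t⁻¹ = (t * b * t⁻¹ * b⁻¹)⁻¹ := by
    have : t * (t * b * t⁻¹ * b⁻¹) * t⁻¹ = (t * t) * b * t⁻¹ * b⁻¹ * t⁻¹ := by group
    rw [this, t2]; nth_rewrite 1 [inv_eq_of_mul_eq_one_right t2]; group
  have y4 : cs M (t * b * t⁻¹ * b⁻¹) = (cs M b)⁻¹ * (cs M b)⁻¹ := by
    rw [mfun_mul (mul_mem (mul_mem tM bM) (inv_mem tM)) (inv_mem bM), mfun_conj tM bM, mfun_inv bM, h3']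
  generalize t * b * t⁻¹ * b⁻¹ = y at *
  refine ⟨piPart {2}ᶜ y, piPart_mem y1, piPart_mem y2, piElt_piPart, ?_, fun e => h1' ?_⟩
  · obtain ⟨m, hm⟩ := mem_zpowers_iff.1 (piPart_mem_zpowers (π := {2}ᶜ) (x := y))
    rw [← hm, ← conj_zpow, y3, inv_zpow]
  · have := cs_eq_one e
    rw [mfun_piPart (nM.2 y1), y4, piPart_eq_self (h2'.inv.mul' h2'.inv rfl)] at this
    exact inv_eq_one.1 (mem_bot.1 (gr_mem_of_sq (S := ⊥) h2'.inv (mem_bot.2 this)))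

theorem gr_thmK [CharP K 2] (inj : ∀ u ∈ H, ρ u = 1 → u = 1) (hs : Solv H) (hO : O[{2}](H) = ⊥) (gH : g ∈ H)
    (gp : g ^ 2 ^ (n + 1) = 1) (ex : (ρ g - 1) ^ (2 ^ (n + 1) - 1) = 0) : g ^ 2 ^ n ∈ O2[{2}ᶜ,{2}](H) := by
  haveI : Fact (Nat.Prime 2) := ⟨Nat.prime_two⟩
  by_contra c
  have g2 : PiElt {2} g := (piNat_pow_self Nat.prime_two _).of_dvd (orderOf_dvd_of_pow_eq_one gp)
  obtain ⟨S, hS, gS⟩ := exists_sylow_le Nat.prime_two g2.zpowers (zpowers_le.2 gH)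
  have hT := hS.inf_nml (pcore2_nml (π := {2}ᶜ) (ρ := {2}))
  have gT : g ∈ N(S ⊓ O2[{2}ᶜ,{2}](H)) := zpowers_le.1 (norm_inf (gS.trans le_N) ((zpowers_le.2 gH).trans pcore2_nml.2))
  generalize S ⊓ O2[{2}ᶜ,{2}](H) = T at hT gT
  have TH : T ≤ H := hT.1.trans pcore2_le
  obtain ⟨r, r1, r2, r3, r4, r5⟩ := gr_exists_inv hT (pow_mem gH (2 ^ n)) (pow_mem gT _)
    (by rw [← pow_add, ← two_mul, ← pow_succ', gp]) c
  have XT : ⁅T, zpowers r⁆ ≤ T := comm_le_left (zpowers_le.2 r2)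
  have cp : Cop (zpowers r) T := cop_of_pi' (zpowers_le.2 r2) r3.zpowers hT.2 (Or.inl abel_zpowers.solv)
  obtain ⟨q, hq, q1⟩ : ∃ q, q.Prime ∧ ¬ O[{q}](H) ≤ C(⁅T, zpowers r⁆) := by
    by_contra! c2
    have e1 : ⁅T, zpowers r⁆ ≤ O[{2}ᶜ](H) := ((le_inf (XT.trans TH) (cent_symm (fit_le_of_pcores fun q hq _ => c2 q hq))).trans
      (cent_sub_Fitting hs)).trans (fit_le_p'core hO)
    have e2 : ⁅T, zpowers r⁆ = ⊥ := eq_bot_iff.2 fun a ha =>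
      mem_bot.2 ((hT.2.elt (XT ha)).eq_one' (pcore_pi.elt (e1 ha)))
    have nO : H ≤ N(O[{2}ᶜ](H)) := pcore_nml.2
    refine r5 (zpowers_le.1 (rad_pcore (π := {2}ᶜ) (H := H) ▸ psol_cent_rad (H4.pSol_of_solvable hs) pcore_nml
      (by simpa only [rad_bot] using rad_rad_le (π := {2}ᶜ) (Nml.bot (H := H))) (zpowers_le.2 r1) ?_))
    rw [rad_pcore, comm_le_iff_quo (zpowers_le.2 (nO r1)) (pcore2_le.trans nO), ← hT.sup_pcore2,
      mim_sup le_N (TH.trans nO), quo_eq_bot le_rfl, bot_sup_eq]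
    exact mim_cent (cent_symm (commutator_eq_bot_iff_le_centralizer.1 e2))
  have q2 : q ≠ 2 := by
    rintro rfl
    exact q1 (hO ▸ bot_le)
  have BT : T ⊔ zpowers g ⊔ zpowers r ≤ N(T) := sup_le (sup_le le_N (zpowers_le.2 gT)) (zpowers_le.2 r2)
  have BH : T ⊔ zpowers g ⊔ zpowers r ≤ H := sup_le (sup_le TH (zpowers_le.2 gH)) (zpowers_le.2 r1)
  have TB : T ≤ T ⊔ zpowers g ⊔ zpowers r := le_sup_left.trans le_sup_left
  have gB : g ∈ T ⊔ zpowers g ⊔ zpowers r := mem_sup_left (mem_sup_right (mem_zpowers g))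
  have rB : r ∈ T ⊔ zpowers g ⊔ zpowers r := mem_sup_right (mem_zpowers r)
  generalize T ⊔ zpowers g ⊔ zpowers r = B at *
  obtain ⟨Y, y1, ⟨y2, y3⟩, y4⟩ := exists_minimal_sub (fun L => ⁅T, zpowers r⁆ ≤ L ∧ B ≤ N(L)) (A := T) ⟨XT, BT⟩
  obtain ⟨U, u1, hU⟩ := exists_minAct (pcore_pi (π := {q}) (H := H)) (BH.trans pcore_nml.2) (y1.trans TB) y3
    (PiNat.p'_of_ne (hT.2.of_le y1) q2.symm) fun e => q1 (e.trans (C_anti y2))
  have h : GrH n U Y g r := ⟨PiNat.p'_of_ne hU.pi q2, hU.der_cent, hT.2.of_le y1, (y1.trans TB).trans hU.norm, hU.norm gB,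
    hU.norm rB, y3 gB, y3 rB, gp, r3, r4⟩
  have UH := u1.trans (pcore_nml (H := H)).1
  have e : ⁅Y, zpowers r⁆ ≤ C(U) := commutator_eq_bot_iff_le_centralizer.1 (eq_bot_iff.2 fun a ha => by
    have aH : a ∈ H := comm_le_of_le (comm_le_of_le (y1.trans TH) (zpowers_le.2 r1)) UH ha
    exact mem_bot.2 (inj a aH (gr_transfer (fun G _ _ ρ inj Q Y g r h ex => gr_main inj h ex) (ρ.comp H.subtype) h UH
      (y1.trans TH) gH r1 ex ha aH)))
  have := y4 (Y ⊓ C(U)) ⟨le_inf y2 (cp.comm_comm.ge.trans ((comm_mono y2 le_rfl).trans e)),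
    norm_inf y3 (hU.norm.trans N_le_N_C)⟩ inf_le_left
  exact hU.nt (cent_symm (this.ge.trans inf_le_right))

theorem gr_ex {p : ℕ} [hp : Fact p.Prime] (h : RD p H W) (he : ∀ x ∈ H, PiElt {p} x → x ^ p ^ n = 1) {z : Coset W}
    (hz : z ∈ H ⫽ W) (z1 : PiElt {p} z) : (qrep h.elem z - 1) ^ (p ^ n - 1) = 0 := by
  obtain ⟨x, x1, x2, x3, rfl⟩ := exists_piElt_lift hz z1
  refine LinearMap.ext fun v => ?_
  have := he (v.val * x) (mul_mem (h.nml.1 v.mem) x1) ((x3.zpowers.sup_norm h.pi (zpowers_le.2 x2)).elt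
    (mul_mem (mem_sup_right v.mem) (mem_sup_left (mem_zpowers x))))
  rw [mul_pow_val h.elem x2, he x x1 x3, mul_one, geom_char (K := ZMod p)] at this
  by_contra c
  exact val_ne c this

theorem gr_plr (e : ℕ) : ∀ (G : Type u) [Group G] [Finite G] (H : Subgroup G), Solv H →
    (∀ x ∈ H, PiElt {2} x → x ^ 2 ^ (e + 1) = 1) → PLR 2 H (2 * e + 1) ⊥ := by
  haveI : Fact (Nat.Prime 2) := ⟨Nat.prime_two⟩
  induction e with
  | zero =>
    intro G _ _ H hs he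
    refine plr_step (fun G _ H => ∀ x ∈ H, PiElt {2} x → x ^ 2 ^ (0 + 1) = 1) (fun G _ _ H K _ h => exp_quo h)
      (fun G _ _ H V h a => (plr_quo_iff h.nml).1 (plr_zero_iff.2 ⟨Nml.bot, ?_⟩)) (H4.pSol_of_solvable hs) he
    rw [relIndex_bot_left]
    refine piGrp_of_prime_elt fun x hx h1 (e : _ = 2) => h1.one_lt.ne' (orderOf_eq_one_iff.2 (h.inj x hx ?_))
    simpa [sub_eq_zero] using gr_ex h a hx (e ▸ piNat_self h1)
  | succ e ih =>
    intro G _ _ H hs he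
    refine plr_step (fun G _ H => Solv H ∧ ∀ x ∈ H, PiElt {2} x → x ^ 2 ^ (e + 1 + 1) = 1)
      (fun G _ _ H K _ h => ⟨h.1.mim, exp_quo h.2⟩) (fun G _ _ H V h a => (plr_quo_iff h.nml).1 ?_)
      (H4.pSol_of_solvable hs) ⟨hs, he⟩
    refine PLR.succ Nml.bot (pcore_nml (π := {2}ᶜ)) (by simpa using pcore_pi) pcore2_idx
      ((plr_quo_iff pcore2_nml).1 (ih _ _ a.1.mim.mim fun z hz z1 => ?_))
    obtain ⟨x, x1, x2, x3, rfl⟩ := exists_piElt_lift hz z1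
    rw [← mfun_pow x2]
    exact cs_eq_one (gr_thmK h.inj a.1.mim h.quo_core x1 (exp_quo a.2 x x1 x3) (gr_ex h a.2 x1 x3))

end H8
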