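import Cfsg.Agent.H8.Gq2
import Cfsg.Agent.H8.Gr4

/-! Hall-Higman bounds for odd `p`: `gq_plr_exp` (`l_p ≤ 2 e_p`), `GqS.quad`, `gq_quad` (quadratic derived group of a
`p`-group centralizes `Q`), `gq_plr_der` (`l_p ≤ d_p`). -/

set_option autoImplicit false
set_option linter.unusedSectionVars false

namespace H8
open Module Subgroup Cfsg H18 H1 H21 H21.HB
open scoped commutatorElement
universe u v

variable {G : Type u} [Group G] [Finite G] {K : Type*} [Field K] {V : Type v} [AddCommGroup V] [Module K V]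
  [FiniteDimensional K V] {p k m n : ℕ} [hp : Fact p.Prime] {ρ : G →* End K V} {H Q S A B P W X Z : Subgroup G}
  {a b c g r t x y z : G} {l : G → K} {w : V}

/-- `p ^ n`-th powers of elements of a `p`-subgroup commute -/
def GqC (p n : ℕ) (H : Subgroup G) : Prop := ∀ P ≤ H, PiGrp {p} P → ∀ g ∈ P, ∀ x ∈ P, ⁅g ^ p ^ n, x ^ p ^ n⁆ = 1

theorem GqC.quo (h : GqC p n H) (hW : H ≤ N(W)) : GqC p n (H ⫽ W) := fun U h1 h2 g hg x hx => by
  obtain ⟨P, p1, p2, rfl⟩ := exists_pGrp_lift hp.out hW h1 h2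
  have n := p1.trans hW
  obtain ⟨g, g1, rfl⟩ := (mem_quo n).1 hg
  obtain ⟨x, x1, rfl⟩ := (mem_quo n).1 hx
  rw [← mfun_pow (n g1), ← mfun_pow (n x1), ← mfun_comm (pow_mem (n g1) _) (pow_mem (n x1) _), h P p1 p2.2 g g1 x x1, mfun_one]

theorem gq_lemA (h2 : p ≠ 2) (h : RD p H W) (he : ∀ x ∈ H, PiElt {p} x → x ^ p ^ (n + 1) = 1) : GqC p n (H ⫽ W) := by
  intro P PH hP g hg x hx
  have cP : ⁅g ^ p ^ n, x ^ p ^ n⁆ ∈ P := comm_le_of_le le_rfl le_rfl (commutator_mem_commutator (pow_mem hg _) (pow_mem hx _))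
  refine gq_glob (psol_mim h.psol) h.quo_core hP PH cP fun U u1 u2 u3 u4 => zpowers_le.1
    (commutator_eq_bot_iff_le_centralizer.1 (eq_bot_iff.2 fun a ha => mem_bot.2 ?_))
  have aH : a ∈ H ⫽ W := comm_le_of_le (zpowers_le.2 (PH cP)) u1 ha
  exact h.inj a aH (gq_transfer (fun G _ _ => gq_main h2 G) ((qrep h.elem).comp (H ⫽ W).subtype) u2 u3 hP u4 hg hx
    (exp_quo he g (PH hg) (hP.elt hg)) (exp_quo he x (PH hx) (hP.elt hx)) u1 (PH hg) (PH hx) (gr_ex h he (PH hg) (hP.elt hg))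
    (gr_ex h he (PH hx) (hP.elt hx)) ha aH)

theorem gq_lemB (h2 : p ≠ 2) (h : RD p H W) (he : ∀ x ∈ H, PiElt {p} x → x ^ p ^ (n + 1) = 1) (hc : GqC p n H) :
    ∀ z ∈ H ⫽ W, PiElt {p} z → z ^ p ^ n = 1 := fun z hz z1 => by
  have e0 := exp_quo he z hz z1
  obtain ⟨x, x1, x2, x3, rfl⟩ := exists_piElt_lift hz z1
  by_cases h0 : W = ⊥
  · rw [cs_eq_one (h.le_of_bot h0 x1), one_pow]
  by_contra c
  obtain ⟨r, r1, r2⟩ := h.thmB x1 h0 (orderOf_eq_prime_pow c e0)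
  have p3 : 3 ≤ p := lt_of_le_of_ne hp.out.two_le h2.symm
  have pn := pow_pos hp.out.pos n
  have r3 : p ^ n + (p ^ n - 1) ≤ r := by
    have e1 : 3 * p ^ n ≤ p ^ (n + 1) := by rw [pow_succ']; exact Nat.mul_le_mul_right _ p3
    rcases r2 with r2 | ⟨q, n₀, m, U, -, -, -, -, -, a1, a2, -, -, r2⟩
    · omega
    · have : p ^ (n + 1 - n₀) ≤ p ^ n := Nat.pow_le_pow_right hp.out.pos (by omega)
      rw [Nat.mul_sub_one, ← pow_add, Nat.sub_add_cancel a2] at r2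
      omega
  refine r1 (pow_eq_zero_of_le r3 (LinearMap.ext fun v => ?_))
  have := hc _ (sup_le (zpowers_le.2 x1) h.nml.1) (x3.zpowers.sup_norm h.pi (zpowers_le.2 x2)) (v.val * x)
    (mul_mem (mem_sup_right v.mem) (mem_sup_left (mem_zpowers x))) x (mem_sup_left (mem_zpowers x))
  rw [mul_pow_val h.elem x2, geom_char (K := ZMod p), commutatorElement_eq_one_iff_mul_comm, ← mul_assoc,
    mul_left_inj] at this
  rw [pow_add, End.mul_apply, sub_one_pow (K := ZMod p), ← map_pow, ← mfun_pow x2, LinearMap.sub_apply, LinearMap.zero_apply,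
    sub_eq_zero]
  exact EV.ext (by rw [qrep_val h.elem (pow_mem x2 _), ← this, mul_inv_cancel_right]; rfl)

theorem gq_plr_exp (h2 : p ≠ 2) (e : ℕ) : ∀ (G : Type u) [Group G] [Finite G] (H : Subgroup G), H4.PSol p H →
    (∀ x ∈ H, PiElt {p} x → x ^ p ^ e = 1) → PLR p H (2 * e) ⊥ := by
  induction e with
  | zero =>
    intro G _ _ H _ he
    refine plr_zero_iff.2 ⟨Nml.bot, ?_⟩
    rw [relIndex_bot_left]
    refine piGrp_of_prime_elt fun x hx h1 (e : _ = p) => h1.one_lt.ne' (orderOf_eq_one_iff.2 ?_)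
    simpa using he x hx (e ▸ piNat_self h1)
  | succ e ih =>
    intro G _ _ H hs he
    refine plr_step (k := 2 * e + 1) (fun G _ H => ∀ x ∈ H, PiElt {p} x → x ^ p ^ (e + 1) = 1) (fun G _ _ H K _ h => exp_quo h)
      (fun G _ _ H V h a => (plr_quo_iff h.nml).1 ?_) hs he
    exact plr_step (fun G _ H => (∀ x ∈ H, PiElt {p} x → x ^ p ^ (e + 1) = 1) ∧ GqC p e H)
      (fun G _ _ H K hK h => ⟨exp_quo h.1, h.2.quo hK.2⟩) (fun G _ _ H V h a => (plr_quo_iff h.nml).1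
        (ih _ _ (psol_mim h.psol) (gq_lemB h2 h a.1 a.2))) (psol_mim h.psol) ⟨exp_quo a, gq_lemA h2 h a⟩

theorem gq_small (hB : PiGrp {3} B) (hn : B ≤ N(X)) (h4 : Nat.card X ≤ 4) : ⁅B, B⁆ ≤ C(X) := by
  classical
  rw [← mker_actf, comm_le_mker_iff hn hn]
  have d : Nat.card (mim (actf X) B) ∣ 24 := ((card_subgroup_dvd_card _).trans (card_dvd_of_injective (MulAut.toPerm X)
    fun a b e => MulEquiv.toEquiv_injective e)).trans (by rw [Nat.card_perm]; exact Nat.factorial_dvd_factorial h4)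
  obtain ⟨k, hk⟩ := (hB.mim (f := actf X)).card_eq_pow
  rcases k with _ | _ | k
  · rw [card_eq_one.1 hk]; exact bot_le
  · exact abel_of_prime (hk ▸ Nat.prime_three)
  · exact absurd ((hk ▸ pow_dvd_pow 3 (show 2 ≤ k + 1 + 1 by omega)).trans d) (by norm_num)

variable [CharP K p]

theorem GqS.quad [IsAlgClosed K] (s : GqS p ρ Q) (h2 : p ≠ 2) (hB : PiGrp {p} B) (hn : B ≤ N(Q)) (ab : Abel ⁅B, B⁆)
    (q : ∀ a ∈ ⁅B, B⁆, (ρ a - 1) ^ 2 = 0) : ⁅B, B⁆ ≤ C(Q) := by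
  intro a ha
  by_contra c
  have p3 : 3 ≤ p := lt_of_le_of_ne hp.out.two_le h2.symm
  have AB : ⁅B, B⁆ ≤ B := der_le
  have nA : B ≤ N(⁅B, B⁆) := norm_comm_left
  have sm := fun (X : Subgroup (Coset (Q ⊓ C(⁅B, B⁆)))) (e : p = 3) => gq_small (X := X) (e ▸ hB.mim (f := coset _))
  have mc := fun h => mim_comm (f := coset (Q ⊓ C(⁅B, B⁆))) (A := B) (B := B) h h
  generalize ⁅B, B⁆ = A at *
  have gg : ∀ b ∈ A, GqG p ρ Q 0 b := fun b hb => ⟨hn (AB hb), s.inj _ (by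
    rw [map_pow, ← sub_eq_zero, ← sub_one_pow (K := K)]; exact pow_eq_zero_of_le (by simpa using hp.out.two_le) (q b hb)),
    pow_eq_zero_of_le (by simp; omega) (q b hb)⟩
  have an := hn (AB ha)
  have ap := hB.elt (AB ha)
  have nt : ¬ GqE Q a ≤ C(Q) := fun e => c (s.cent_of_triv an ap e)
  have nE : ∀ b ∈ A, b ∈ N(GqE Q a) := fun b hb => norm_GqE (hn (AB hb)) (comm_of_cent ab hb ha)
  have T := fun b hb fp => s.lemT0 (gg b hb).pow (gg b hb).ex (GqE_le an) (nE b hb) fp (fun _ => s.nondeg an ap) nt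
  simp only [pow_zero, pow_one, zero_add] at T
  obtain ⟨t1, t2, t3⟩ := T a ha fun _ => s.cent_of_EC an ap
  have e3 : p = 3 := by
    by_contra e
    exact t2 (pow_eq_zero_of_le (by omega) (q a ha))
  have k1 : C(GqE Q a) ≤ C(A) := fun x hx => mem_C.2 fun b hb => by
    have := s.dich (gg a ha) (hB.elt (AB hb))
    simp only [pow_zero, pow_one] at this
    rcases this (nE b hb) (by rw [mul_assoc a⁻¹, comm_of_cent ab hb ha]; simp) with d | d
    · have := (T _ (mul_mem ha hb) fun y hy e => s.cent_of_EC an ap hy (by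
        rw [mul_assoc, ← mem_C.1 d y hy, ← mul_assoc, ← mul_assoc] at e
        exact mul_right_cancel e)).1 x hx
      rw [← mul_assoc, t1 x hx, mul_assoc, mul_assoc] at this
      exact (mul_left_cancel this).symm
    · exact ((T b hb fun y hy e => d ⟨hy, mem_C1.2 e⟩).1 x hx).symm
  have ZD : Z(Q) ≤ Q ⊓ C(A) := le_inf inf_le_left (s.Z_cen _)
  have QD : Q ≤ N(Q ⊓ C(A)) := norm_of_comm_le ((comm_mono le_rfl inf_le_left).trans ((le_inf der_le s.c2).trans ZD))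
  have BD : B ≤ N(Q ⊓ C(A)) := norm_inf hn (nA.trans N_le_N_C)
  have e1 : Q ⫽ (Q ⊓ C(A)) ≤ GqE Q a ⫽ (Q ⊓ C(A)) := fun y hy => by
    obtain ⟨x, hx, rfl⟩ := (mem_quo QD).1 hy
    obtain ⟨e, e0, c, c1, e1, c2, rfl⟩ := s.dec le_rfl an ap hx
    rw [mfun_mul (QD e0) (QD c1), cs_eq_one (mem_inf.2 ⟨c1, k1 (mem_C.2 fun b hb => s.EC_comm hb c1 c2)⟩), mul_one]
    exact mfun_mem_mim e1
  have e2 := sm (Q ⫽ (Q ⊓ C(A))) e3 (mim_norm hn) ((card_le e1).trans (by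
    rw [card_quo ((GqE_le an).trans QD)]
    rw [e3, ← inf_relIndex_right] at t3
    exact (relIndex_le_of_le_left ((le_inf (inf_le_right.trans (GqE_le an)) inf_le_left).trans ZD)
      FiniteIndex.index_ne_zero).trans t3))
  rw [← mc BD, ← comm_le_iff_quo (AB.trans BD) QD] at e2
  exact nt fun x hx => s.cent_of_EC an ap hx (mem_C.1 ((sup_le (by
    rw [commutator_comm]; exact (comm_mono (zpowers_le.2 ha) le_rfl).trans e2) ZD hx).2) a ha).symm

/-- the statement for a fixed module -/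
def GqR (G : Type u) [Group G] (p : ℕ) (K : Type*) [Field K] (V : Type v) [AddCommGroup V] [Module K V] : Prop :=
  ∀ (ρ : G →* End K V), (∀ x, ρ x = 1 → x = 1) → ∀ (Q B : Subgroup G), PiGrp {p}ᶜ Q → ⁅Q, Q⁆ ≤ C(Q) →
    PiGrp {p} B → B ≤ N(Q) → Abel ⁅B, B⁆ → (∀ a ∈ ⁅B, B⁆, (ρ a - 1) ^ 2 = 0) →
    (∀ a ∈ ⁅B, B⁆, ∀ b ∈ B, (ρ a - 1) * (ρ b - 1) * (ρ b - 1) = 0) → ⁅B, B⁆ ≤ C(Q)

theorem gq_transfer' (ih : ∀ (G : Type u) [Group G] [Finite G], GqR G p K V) {D : Subgroup G} (ρ : D →* End K V)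
    (h1 : PiGrp {p}ᶜ Q) (h2 : ⁅Q, Q⁆ ≤ C(Q)) (h3 : PiGrp {p} B) (h4 : B ≤ N(Q)) (ab : Abel ⁅B, B⁆) (QD : Q ≤ D) (BD : B ≤ D)
    (e1 : ∀ a : D, a.1 ∈ ⁅B, B⁆ → (ρ a - 1) ^ 2 = 0)
    (e2 : ∀ a : D, a.1 ∈ ⁅B, B⁆ → ∀ b : D, b.1 ∈ B → (ρ a - 1) * (ρ b - 1) * (ρ b - 1) = 0)
    (ha : a ∈ ⁅⁅B, B⁆, Q⁆) (hD : a ∈ D) : ρ ⟨a, hD⟩ = 1 := by
  let f := QuotientGroup.mk' ρ.toHomUnits.ker
  let ρ' := (Units.coeHom _).comp (QuotientGroup.kerLift ρ.toHomUnits)
  have := ih _ ρ' (fun x hx => QuotientGroup.kerLift_injective ρ.toHomUnits (Units.ext (by rw [map_one]; exact hx)))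
    (mim f Q) (mim f B) h1.mim (by rw [← mim_comm QD QD]; exact mim_cent h2) h3.mim (mim_norm h4)
    (by rw [← mim_comm BD BD]; exact ab.mim) (fun a ha => by
      rw [← mim_comm BD BD] at ha
      obtain ⟨a, a1, a2, rfl⟩ := mem_mim.1 ha
      rw [mfun_of_mem a2]; exact e1 _ a1) fun a ha b hb => by
      rw [← mim_comm BD BD] at ha
      obtain ⟨a, a1, a2, rfl⟩ := mem_mim.1 ha
      obtain ⟨b, b1, b2, rfl⟩ := mem_mim.1 hb
      rw [mfun_of_mem a2, mfun_of_mem b2]; exact e2 _ a1 _ b1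
  rw [← mim_comm BD BD, ← comm_le_mker_iff (der_le.trans BD) QD] at this
  have e := (mem_mker.1 (this ha)).2
  rw [mfun_of_mem hD] at e
  exact congrArg ρ' e |>.trans (map_one ρ')

theorem gq_three (h2 : p ≠ 2) (bp : PiElt {p} b) (hb : b ∈ N(Z)) (nb : b ∉ grStab ρ (gqV ρ Z l)) {u v : V}
    (hw : w ∈ gqV ρ Z l) (hu : u ∈ gqV ρ Z fun z => l (b⁻¹ * z * b))
    (hv : v ∈ gqV ρ Z fun z => l ((b ^ 2)⁻¹ * z * b ^ 2)) (e : w + (u + v) = 0) : w = 0 := by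
  obtain ⟨k, hk⟩ := gq_pow bp
  refine gq_indep (Finset.univ : Finset (Fin 2)) ![_, _] ?_ ![u, v] w hw (by simpa [Fin.forall_fin_two] using ⟨hu, hv⟩)
    (by simpa using e)
  simpa [Fin.forall_fin_two] using And.intro (gqV_ne hb nb) (gqV_ne (ρ := ρ) (pow_mem hb 2) fun c => nb
    (gq_mem_of_cop hk (fun d => h2 ((Nat.prime_dvd_prime_iff_eq hp.out Nat.prime_two).1 d)) c))

theorem gq_all' [IsAlgClosed K] (h2 : p ≠ 2) (d : ℕ) : ∀ (V : Type v) [AddCommGroup V] [Module K V] [FiniteDimensional K V],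
    finrank K V = d → ∀ (G : Type u) [Group G] [Finite G], GqR G p K V := by
  induction d using Nat.strong_induction_on with | _ d ih
  intro V _ _ _ hd G _ _ ρ inj Q B h1 h3 h4 h5 ab e1 e2
  have XQ : ⁅⁅B, B⁆, Q⁆ ≤ Q := comm_le_right (der_le.trans h5)
  by_cases irr : ∀ U : Submodule K V, Q ⊔ B ≤ grStab ρ U → U = ⊥ ∨ U = ⊤
  swap
  · push Not at irr
    obtain ⟨U, u1, u5, u6⟩ := irr
    obtain ⟨u1, u2⟩ := sup_le_iff.1 u1
    refine commutator_eq_bot_iff_le_centralizer.1 (eq_bot_iff.2 fun a ha => mem_bot.2 ?_)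
    have i1 : ∀ x : grStab ρ U, ∀ w ∈ U, (ρ.comp (grStab ρ U).subtype) x w ∈ U := fun x => x.2
    exact gq_unip inj (h1.elt (XQ ha)) (u1 (XQ ha)) i1 (gq_transfer' (ih _ (hd ▸ Submodule.finrank_lt u6) U rfl)
      (resHom _ U i1) h1 h3 h4 h5 ab u1 u2 (fun a ha => gq_res_pow i1 fun w _ => congrArg (fun θ : End K V => θ w) (e1 a ha))
      (fun a ha b hb => LinearMap.ext fun w => Subtype.ext (congrArg (fun θ : End K V => θ w) (e2 a ha b hb))) ha _)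
      (gq_transfer' (ih _ (by
        have := U.finrank_quotient_add_finrank
        have := Submodule.finrank_eq_zero.not.2 u5
        omega) (V ⧸ U) rfl) (grQuo _ U i1) h1 h3 h4 h5 ab u1 u2 (fun a ha => gq_quo_pow i1 (e1 a ha))
        (fun a ha b hb => U.linearMap_qext (LinearMap.ext fun w =>
          congrArg (fun θ : End K V => U.mkQ (θ w)) (e2 a ha b hb))) ha _)
  by_cases sc : ∀ z ∈ Q, z ∈ C(Q) → ∃ c : K, ρ z = c • 1
  · exact GqS.quad ⟨inj, h1, h3, sc⟩ h2 h4 h5 ab e1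
  have nZ : N(Q) ≤ N(Z(Q)) := norm_inf le_rfl N_le_N_C
  have aZ : Abel Z(Q) := inf_le_right.trans (C_anti inf_le_left)
  have nA : Q ⊔ B ≤ N(Z(Q)) := (sup_le le_N h5).trans nZ
  intro a ha
  rw [inj a (gqV_span aZ nA irr fun l w hw => ?_)]
  · exact one_mem _
  have an := nZ (h5 (der_le ha))
  have st : ∀ l, ∀ w ∈ gqV ρ Z(Q) l, (ρ a - 1) w ∈ gqV ρ Z(Q) l := fun l w hw => by
    by_cases c : a ∈ grStab ρ (gqV ρ Z(Q) l)
    · exact sub_mem (c w hw) hw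
    rw [gq_three h2 (h4.elt (der_le ha)) an c hw (neg_mem (add_mem (gqV_map an hw) (gqV_map an hw)))
      (gqV_map (pow_mem an 2) hw) ?_, map_zero]
    · exact zero_mem _
    rw [← show (0 : End K V) w = 0 from rfl, ← e1 a ha, map_pow]
    simp only [sq, End.mul_apply, LinearMap.sub_apply, End.one_apply, map_sub]
    abel
  by_cases h0 : gqV ρ Z(Q) l = ⊥
  · rw [h0, Submodule.mem_bot] at hw
    rw [hw, map_zero]
  obtain ⟨b, b1, b2⟩ : ∃ b ∈ B, b ∉ grStab ρ (gqV ρ Z(Q) l) := by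
    by_contra! c
    exact sc fun z z1 z2 => gq_sc nA aZ irr ((irr _ (sup_le ((cent_symm inf_le_right).trans gqV_cent) c)).resolve_left h0)
      ⟨z1, z2⟩
  have bn := nZ (h5 b1)
  refine sub_eq_zero.1 (gq_three h2 (h4.elt b1) bn b2 (st l w hw) (neg_mem (add_mem (st _ _ (gqV_map bn hw))
    (st _ _ (gqV_map bn hw)))) (st _ _ (gqV_map (pow_mem bn 2) hw)) ?_)
  rw [← show (0 : End K V) w = 0 from rfl, ← e2 a ha b b1, map_pow]
  simp only [sq, End.mul_apply, LinearMap.sub_apply, End.one_apply, map_sub]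
  abel

theorem gq_quad (h2 : p ≠ 2) (G : Type u) [Group G] [Finite G] : GqR G p K V := by
  intro ρ inj Q B h1 h3 h4 h5 ab e1 e2
  let F := AlgebraicClosure K
  let φ := End.baseChangeHom K F V
  have i : Function.Injective φ := LinearMap.baseChangeHom_injective K V F
  exact gq_all' (K := F) h2 _ _ rfl G (φ.toMonoidHom.comp ρ) (fun x e => inj x (i (e.trans (map_one φ).symm))) Q B
    h1 h3 h4 h5 ab (fun a ha => by simpa using congrArg φ (e1 a ha)) fun a ha b hb => by simpa using congrArg φ (e2 a ha b hb)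

theorem gq_val (hW : Elem p W) (hx : x ∈ N(W)) (v : EV hW) : ((qrep hW (cs W x) - 1) v).val = ⁅x, v.val⁆ := by
  rw [LinearMap.sub_apply, sub_eq_add_neg, EV.val_add, EV.val_neg, qrep_val hW hx]; rfl

theorem gq_lemD (h2 : p ≠ 2) (h : RD p H W) (he : ∀ P ≤ H, PiGrp {p} P → dser P (n + 1) = ⊥) :
    ∀ P ≤ H ⫽ W, PiGrp {p} P → dser P n = ⊥ := fun U h1 h3 => by
  obtain ⟨P, p1, p2, rfl⟩ := exists_pGrp_lift hp.out h.nml.2 h1 h3
  have PN := p1.trans h.nml.2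
  have e := he _ (sup_le p1 h.nml.1) (p2.2.sup_norm h.pi PN)
  have SH : P ⊔ W ≤ H := sup_le p1 h.nml.1
  have WS : W ≤ P ⊔ W := le_sup_right
  have hS := p2.2.sup_norm h.pi PN
  refine eq_bot_iff.2 ((dser_mono (mim_mono (le_sup_left (b := W)))).trans (le_of_eq ?_))
  generalize P ⊔ W = S at *
  have SN := SH.trans h.nml.2
  rw [← mim_dser SN]
  rcases n with _ | n
  · exact quo_eq_bot ((le_inf SH ((commutator_eq_bot_iff_le_centralizer.1 e).trans (C_anti WS))).trans h.cent)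
  have nB : W ≤ N(dser S n) := WS.trans dser_nml.2
  have BH : dser S n ≤ H := dser_le.trans SH
  have hB : PiGrp {p} (dser S n) := hS.of_le dser_le
  rw [dser_succ, dser_succ] at e
  rw [dser_succ]
  generalize dser S n = B at *
  have BN := BH.trans h.nml.2
  have ab : Abel ⁅B, B⁆ := commutator_eq_bot_iff_le_centralizer.1 e
  have f1 : ∀ x ∈ B, ∀ v ∈ W, ⁅x, v⁆ ∈ B := fun x hx v hv => comm_le_left nB (commutator_mem_commutator hx hv)
  have f2 : ∀ x ∈ ⁅B, B⁆, ∀ v ∈ W, ⁅x, v⁆ ∈ ⁅B, B⁆ := fun x hx v hv => comm_le_left (norm_comm nB nB)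
    (commutator_mem_commutator hx hv)
  have f3 : ∀ x ∈ ⁅B, B⁆, ∀ v ∈ ⁅B, B⁆, ⁅x, v⁆ = 1 := fun x hx v hv => commutatorElement_eq_one_iff_mul_comm.2
    (comm_of_cent ab hx hv)
  have AN : ⁅B, B⁆ ≤ N(W) := der_le.trans BN
  rw [mim_comm BN BN]
  refine eq_bot_iff.2 fun c hc => mem_bot.2 (gq_glob (psol_mim h.psol) h.quo_core hB.mim (mim_mono BH) (der_le hc)
    fun U u1 u2 u3 u4 => commutator_eq_bot_iff_le_centralizer.1 (eq_bot_iff.2 fun a ha => mem_bot.2 ?_) hc)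
  have aH : a ∈ H ⫽ W := comm_le_of_le (der_le.trans (mim_mono BH)) u1 ha
  refine h.inj a aH (gq_transfer' (fun G _ _ => gq_quad h2 G) ((qrep h.elem).comp (H ⫽ W).subtype) u2 u3 hB.mim u4
    (by rw [← mim_comm BN BN]; exact ab.mim) u1 (mim_mono BH) ?_ ?_ ha aH)
  · rintro ⟨a, a0⟩ ha
    rw [← mim_comm BN BN] at ha
    obtain ⟨a, a1, rfl⟩ := (mem_quo AN).1 ha
    refine LinearMap.ext fun v => EV.ext ?_
    rw [sq, End.mul_apply]
    exact (gq_val h.elem (AN a1) _).trans (f3 _ a1 _ (by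
      erw [gq_val h.elem (AN a1)]; exact f2 _ a1 _ v.mem))
  · rintro ⟨a, a0⟩ ha ⟨b, b0⟩ hb
    rw [← mim_comm BN BN] at ha
    obtain ⟨a, a1, rfl⟩ := (mem_quo AN).1 ha
    obtain ⟨b, b1, rfl⟩ := (mem_quo BN).1 hb
    refine LinearMap.ext fun v => EV.ext ?_
    rw [End.mul_apply, End.mul_apply]
    exact (gq_val h.elem (AN a1) _).trans (f3 _ a1 _ (by
      erw [gq_val h.elem (BN b1), gq_val h.elem (BN b1)]; exact commutator_mem_commutator b1 (f1 _ b1 _ v.mem)))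

theorem gq_plr_der (h2 : p ≠ 2) (d : ℕ) : ∀ (G : Type u) [Group G] [Finite G] (H : Subgroup G), H4.PSol p H →
    (∀ P ≤ H, PiGrp {p} P → dser P d = ⊥) → PLR p H d ⊥ := by
  induction d with
  | zero =>
    intro G _ _ H _ he
    refine plr_zero_iff.2 ⟨Nml.bot, ?_⟩
    rw [relIndex_bot_left]
    refine piGrp_of_prime_elt fun x hx h1 (e : _ = p) => h1.one_lt.ne' (orderOf_eq_one_iff.2 ?_)
    exact zpowers_eq_bot.1 (he _ (zpowers_le.2 hx) (PiElt.zpowers (e ▸ piNat_self h1)))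
  | succ d ih =>
    intro G _ _ H hs he
    refine plr_step (fun G _ H => ∀ P ≤ H, PiGrp {p} P → dser P (d + 1) = ⊥) (fun G _ _ H K hK h U h1 h3 => ?_)
      (fun G _ _ H V h a => (plr_quo_iff h.nml).1 (ih _ _ (psol_mim h.psol) (gq_lemD h2 h a))) hs he
    obtain ⟨P, p1, p2, rfl⟩ := exists_pGrp_lift hp.out hK.2 h1 h3
    rw [← mim_dser (p1.trans hK.2), h P p1 p2.2, mim_bot]

end H8
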