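import Cfsg.Agent.H21.HHC

/-! Exceptional case of Hall-Higman Theorem B, refined: if `g` of order `p ^ n` normalizes a group `Q` of class two
acting with scalar centre `Z` (`Q / Z` nondegenerate, `g` regular on it) and `(g - 1) ^ (p ^ n - 1) = 0`, then `g` commutes
with every operator commuting with `Q` (`GrW.comm`). -/

set_option autoImplicit false
set_option linter.unusedSectionVars false

namespace H8
open Module LinearMap Finset H21.HB
universe u v

variable {K : Type*} [Field K] {V : Type v} [AddCommGroup V] [Module K V] [FiniteDimensional K V]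
  {Q : Type u} [Group Q] {p n : ℕ}

/-- data of a nondegenerate class two action -/
structure GrW (p n : ℕ) (Z : Subgroup Q) (ρ : Q →* End K V) (σ : MulAut Q) : Prop where
  sc : ∀ a ∈ Z, ∃ c : K, ρ a = c • 1
  nd : ∀ a, a ∉ Z → ∃ (b : Q) (μ : K), μ ≠ 1 ∧ ρ a * ρ b = μ • (ρ b * ρ a)
  reg : ∀ a, a ∉ Z → ∀ i, (σ ^ i) a = a → p ^ n ∣ i
  fpf : ∀ a, σ a * a⁻¹ ∈ Z → a ∈ Z
  nt : ∃ a, a ∉ Z

variable [hp : Fact p.Prime] [CharP K p] [Fintype Q] {ρ : Q →* End K V} {σ : MulAut Q} {g : End K V} {Z : Subgroup Q}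

omit hp [CharP K p] [Fintype Q] in
theorem GrW.res (w : GrW p n Z ρ σ) {W : Submodule K V} (h1 : ∀ a, ∀ w ∈ W, ρ a w ∈ W) :
    GrW p n Z (resHom ρ W h1) σ := by
  refine ⟨fun a ha => ?_, fun a ha => ?_, w.reg, w.fpf, w.nt⟩
  · obtain ⟨c, hc⟩ := w.sc a ha
    exact ⟨c, by ext x; rw [resHom_apply, hc]; rfl⟩
  · obtain ⟨b, μ, h2, h3⟩ := w.nd a ha
    exact ⟨b, μ, h2, by ext x; exact congrArg (fun θ : End K V => θ x) h3⟩

omit hp [CharP K p] [FiniteDimensional K V] in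
theorem GrW.avg_zero (w : GrW p n Z ρ σ) {a : Q} (ha : a ∉ Z) : ∑ b, ρ b * ρ a * ρ b⁻¹ = 0 := by
  obtain ⟨b₀, μ, h1, h2⟩ := w.nd a ha
  have e : ∑ b, ρ b * ρ a * ρ b⁻¹ = μ • ∑ b, ρ b * ρ a * ρ b⁻¹ := by
    rw [smul_sum]
    refine (Fintype.sum_equiv (Equiv.mulRight b₀⁻¹) _ _ fun b => ?_).symm
    have : ρ b = ρ (b * b₀⁻¹) * ρ b₀ := by rw [← map_mul, inv_mul_cancel_right]
    show _ = ρ (b * b₀⁻¹) * ρ a * ρ (b * b₀⁻¹)⁻¹
    rw [mul_inv_rev, inv_inv, map_mul ρ b₀, ← mul_assoc, mul_assoc _ (ρ a) (ρ b₀), h2, mul_smul_comm, smul_mul_assoc,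
      ← mul_assoc, ← this]
  have : (1 - μ) • ∑ b, ρ b * ρ a * ρ b⁻¹ = 0 := by rw [sub_smul, one_smul, ← e, sub_self]
  exact (smul_eq_zero.1 this).resolve_left (sub_ne_zero.2 h1.symm)

/-- an irreducible `Q⟨g⟩`-module is irreducible for `Q` -/
theorem GrW.schur [Nontrivial V] (w : GrW p n Z ρ σ) (h : HD p n ρ σ g) (hq : (Fintype.card Q : K) ≠ 0)
    (sch : ∀ φ : End K V, (∀ a, φ * ρ a = ρ a * φ) → φ * g = g * φ → ∃ c : K, φ = c • 1)
    (φ : End K V) (hφ : ∀ a, φ * ρ a = ρ a * φ) : ∃ c : K, φ = c • 1 := by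
  classical
  let u : End K V := ∑ a, ρ (σ a * a⁻¹)
  have u1 : ∀ b, u * ρ b = ρ (σ b) * u := fun b => by
    rw [sum_mul, mul_sum]
    refine (Fintype.sum_equiv (Equiv.mulLeft b) _ _ fun a => ?_).symm
    rw [Equiv.coe_mulLeft, ← map_mul, ← map_mul, map_mul σ]
    congr 1; group
  have u2 : g * u = u * g := by
    rw [sum_mul, mul_sum]
    refine Fintype.sum_equiv σ.toEquiv _ _ fun a => ?_
    rw [h.rel, map_mul σ, map_inv σ]; rfl
  let g' := g ^ (p ^ n - 1)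
  have g1 : g * g' = 1 := h.mul_inv
  have g2 : g' * g = 1 := h.inv_mul
  have g3 : ∀ b, g' * ρ (σ b) = ρ b * g' := fun b => by
    calc g' * ρ (σ b) = g' * ρ (σ b) * (g * g') := by rw [g1, mul_one]
      _ = g' * (g * ρ b) * g' := by rw [h.rel]; simp only [mul_assoc]
      _ = ρ b * g' := by rw [← mul_assoc g', g2, one_mul]
  obtain ⟨c, hc⟩ := sch (g' * u) (fun b => by rw [mul_assoc, u1, ← mul_assoc, g3, mul_assoc])
    (by rw [mul_assoc, ← u2, ← mul_assoc, ← mul_assoc, g1, g2])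
  have hu : u = c • g := by rw [← one_mul u, ← g1, mul_assoc, hc, mul_smul_comm, mul_one]
  have u0 : u ≠ 0 := fun e => by
    have e1 : ∑ b, ρ b * u * ρ b⁻¹ = 0 := by simp [e]
    simp only [u, mul_sum, sum_mul] at e1
    rw [sum_comm, ← sum_filter_add_sum_filter_not univ (· ∈ Z), sum_eq_zero (s := filter (fun a => ¬ a ∈ Z) univ)
      (fun a ha => w.avg_zero fun c => (mem_filter.1 ha).2 (w.fpf a c)), add_zero,
      sum_congr rfl (g := fun _ => (Fintype.card Q : K) • (1 : End K V)) fun a ha => ?_, sum_const, ← Nat.cast_smul_eq_nsmul K,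
      smul_smul, smul_eq_zero, mul_eq_zero] at e1
    · rcases e1 with (e1 | e1) | e1
      · have : (filter (· ∈ Z) univ).card ∣ Fintype.card Q := by
          rw [← Fintype.card_subtype, ← Nat.card_eq_fintype_card, ← Nat.card_eq_fintype_card]
          exact Z.card_subgroup_dvd_card
        obtain ⟨k, hk⟩ := this
        exact hq (by rw [hk, Nat.cast_mul, e1, zero_mul])
      · exact hq e1
      · exact one_ne_zero e1
    · obtain ⟨d, hd⟩ := w.sc a (mem_filter.1 ha).2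
      have : ρ (σ a) = ρ a := by
        rw [← mul_one (ρ (σ a)), ← g1, ← mul_assoc, ← h.rel, hd, mul_smul_comm, mul_one, smul_mul_assoc, g1]
      rw [map_mul, this, ← map_mul, mul_inv_cancel, map_one]
      simp only [mul_one, ← map_mul, mul_inv_cancel, map_one, sum_const, card_univ, Nat.cast_smul_eq_nsmul]
  have c0 : c ≠ 0 := fun e => u0 (by rw [hu, e, zero_smul])
  refine sch φ hφ ?_
  have : φ * u = u * φ := by
    rw [sum_mul, mul_sum]; exact sum_congr rfl fun a _ => hφ _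
  rw [hu, mul_smul_comm, smul_mul_assoc] at this
  exact smul_right_injective _ c0 this

theorem GrW.ne_zero [IsAlgClosed K] [Nontrivial V] (w : GrW p n Z ρ σ) (h : HD p n ρ σ g) (hq : (Fintype.card Q : K) ≠ 0)
    (h0 : (g - 1) ^ (p ^ n - 1) = 0) : (g - 1) ^ (p ^ n - 2) ≠ 0 := by
  obtain ⟨W, -, w2, ⟨w3, w4⟩, w5⟩ := exists_min (fun W : Submodule K V => (∀ a, ∀ w ∈ W, ρ a w ∈ W) ∧
    ∀ w ∈ W, g w ∈ W) (U := ⊤) ⟨fun _ _ _ => trivial, fun _ _ => trivial⟩ top_ne_bot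
  haveI := Submodule.nontrivial_iff_ne_bot.2 w2
  have h' := h.res w3 w4
  have w' := w.res w3
  have h1 : (g.restrict w4 - 1) ^ (p ^ n - 1) = 0 := by
    by_contra c
    obtain ⟨x, -, hx⟩ := res_pow_ne w4 c
    exact hx (by rw [h0]; rfl)
  suffices (g.restrict w4 - 1) ^ (p ^ n - 2) ≠ 0 by
    obtain ⟨x, -, hx⟩ := res_pow_ne w4 this
    exact fun e => hx (by rw [e]; rfl)
  have irr : ∀ U : Submodule K W, ((∀ a, ∀ w ∈ U, resHom ρ W w3 a w ∈ U) ∧ ∀ w ∈ U, g.restrict w4 w ∈ U) →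
      U = ⊥ ∨ U = ⊤ := fun U hU => w5 U ⟨by rintro a _ ⟨w, hw, rfl⟩; exact ⟨_, hU.1 a w hw, rfl⟩,
        by rintro _ ⟨w, hw, rfl⟩; exact ⟨_, hU.2 w hw, rfl⟩⟩
  generalize resHom ρ W w3 = ρ' at h' w' irr
  generalize g.restrict w4 = g' at h' h1 irr
  have sch2 : ∀ φ : End K W, (∀ a, φ * ρ' a = ρ' a * φ) → φ * g' = g' * φ → ∃ c : K, φ = c • 1 := fun φ h1 h2 =>
    H21.HB.schur _ irr φ fun μ => ⟨fun a => eig_inv (h1 a) μ, eig_inv h2 μ⟩
  refine (h'.crit hq (w'.schur h' hq sch2) (fun a => ?_) ?_ h1).1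
  · by_cases ha : a ∈ Z
    · exact Or.inl (w'.sc a ha)
    · exact Or.inr (w'.reg a ha)
  · rintro rfl
    obtain ⟨a, ha⟩ := w'.nt
    obtain ⟨b, μ, m1, m2⟩ := w'.nd _ fun c => ha (w'.fpf a c)
    have : ρ' (σ a * a⁻¹) = 1 := by
      have := h'.rel a
      rw [one_mul, mul_one] at this
      rw [map_mul, ← this, ← map_mul, mul_inv_cancel, map_one]
    rw [this, one_mul, mul_one] at m2
    have e : (1 - μ) • ρ' b = 0 := (sub_smul (1 : K) μ (ρ' b)).trans (by rw [one_smul, ← m2, sub_self])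
    exact rho_ne ρ' b ((smul_eq_zero.1 e).resolve_left (sub_ne_zero.2 m1.symm))

theorem GrW.comm [IsAlgClosed K] (w : GrW p n Z ρ σ) (h : HD p n ρ σ g) (hq : (Fintype.card Q : K) ≠ 0) (hn : n ≠ 0)
    (h0 : (g - 1) ^ (p ^ n - 1) = 0) {φ : End K V} (h1 : ∀ a, φ * ρ a = ρ a * φ) : φ * g = g * φ := by
  classical
  let D := cjE g (g ^ (p ^ n - 1)) - 1
  have d1 : ∀ θ, D θ * g = g * θ - θ * g := fun θ => by
    simp only [D, LinearMap.sub_apply, cjE_apply, End.one_apply, sub_mul, mul_assoc, h.inv_mul, mul_one]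
  have d2 : ∀ θ : End K V, (∀ a, θ * ρ a = ρ a * θ) → ∀ a, D θ * ρ a = ρ a * D θ := fun θ hθ a => by
    obtain ⟨b, rfl⟩ := σ.surjective a
    simp only [D, LinearMap.sub_apply, End.one_apply, sub_mul, mul_sub, hθ, sub_left_inj]
    rw [← h.cj_rho, cjE_apply, cjE_apply]
    simp only [mul_assoc]
    rw [← mul_assoc _ g (ρ b * _), ← mul_assoc _ g (θ * _), h.inv_mul, one_mul, one_mul, ← mul_assoc θ, hθ, mul_assoc]
  have d3 : ∀ k a, (D ^ k) φ * ρ a = ρ a * (D ^ k) φ := fun k => by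
    induction k with
    | zero => exact h1
    | succ k ih => rw [pow_succ']; exact d2 _ ih
  have ex : ∃ k, (D ^ k) φ = 0 := ⟨p ^ n, by
    rw [sub_one_pow (K := K), LinearMap.sub_apply, cjE_pow, ← pow_mul, mul_comm, pow_mul, h.gp]; simp⟩
  have s1 := Nat.find_spec ex
  have s2 : ∀ k < Nat.find ex, (D ^ k) φ ≠ 0 := fun k => Nat.find_min ex
  generalize Nat.find ex = s at s1 s2
  have d4 : ∀ k, (D ^ (k + 1)) φ = 0 → (D ^ k) φ * g = g * (D ^ k) φ := fun k e => by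
    rw [eq_comm, ← sub_eq_zero, ← d1, ← End.mul_apply, ← pow_succ', e, zero_mul]
  match s, s1, s2 with
  | 0, s1, _ => rw [show φ = 0 by simpa using s1]; simp
  | 1, s1, _ => exact d4 0 s1
  | k + 2, s1, s2 =>
    exfalso
    have e1 := d4 _ s1
    have e0 := s2 (k + 1) (by omega)
    have e2 := d1 ((D ^ k) φ)
    have e3 := d3 (k + 1)
    rw [← End.mul_apply, ← pow_succ'] at e2
    generalize (D ^ (k + 1)) φ = ψ at e0 e1 e2 e3
    generalize (D ^ k) φ = χ at e2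
    have x1 : (g - 1) * χ = χ * (g - 1) + ψ * g := by rw [e2, sub_mul, mul_sub, one_mul, mul_one]; abel
    have x2 : Commute ψ (g - 1) := by rw [Commute, SemiconjBy, mul_sub, sub_mul, e1, mul_one, one_mul]
    have x3 : Commute g (g - 1) := (Commute.refl g).sub_right (Commute.one_right g)
    have x4 : ∀ j : ℕ, (g - 1) ^ (j + 1) * χ = χ * (g - 1) ^ (j + 1) + ((j + 1 : ℕ) : K) • (ψ * g * (g - 1) ^ j) := by
      intro j
      induction j with
      | zero => simpa using x1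
      | succ j ih =>
        rw [pow_succ' _ (j + 1), mul_assoc, ih, mul_add, ← mul_assoc, x1, mul_smul_comm, ← mul_assoc, ← mul_assoc,
          ← x2.eq, mul_assoc ψ, ← x3.eq, Nat.cast_succ (j + 1), add_smul, one_smul, add_mul]
        simp only [mul_assoc, ← pow_succ']
        abel
    have N1 : 2 ≤ p ^ n := Nat.one_lt_pow hn hp.out.one_lt
    have x5 := x4 (p ^ n - 2)
    rw [show p ^ n - 2 + 1 = p ^ n - 1 by omega, h0, zero_mul, mul_zero, zero_add, eq_comm, smul_eq_zero] at x5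
    have x6 : ((p ^ n - 1 : ℕ) : K) ≠ 0 := by
      rw [Nat.cast_sub (by omega), Nat.cast_pow, CharP.cast_eq_zero, zero_pow hn]; simp
    have x7 : (g - 1) ^ (p ^ n - 2) * ψ = 0 := by
      have := congrArg (· * g ^ (p ^ n - 1)) (x5.resolve_left x6)
      simp only [zero_mul] at this
      rw [mul_assoc ψ, (x3.pow_right _).eq, mul_assoc, mul_assoc, h.mul_inv, mul_one] at this
      rw [← (x2.pow_right _).eq, this]
    have i1 : ∀ a, ∀ x ∈ LinearMap.range ψ, ρ a x ∈ LinearMap.range ψ := by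
      rintro a _ ⟨x, rfl⟩; exact ⟨ρ a x, congrArg (fun θ : End K V => θ x) (e3 a)⟩
    have i2 : ∀ x ∈ LinearMap.range ψ, g x ∈ LinearMap.range ψ := by
      rintro _ ⟨x, rfl⟩; exact ⟨g x, congrArg (fun θ : End K V => θ x) e1⟩
    haveI : Nontrivial (LinearMap.range ψ) := Submodule.nontrivial_iff_ne_bot.2 fun c => e0 (LinearMap.range_eq_bot.1 c)
    obtain ⟨_, ⟨x, rfl⟩, hx⟩ := res_pow_ne i2 ((w.res i1).ne_zero (h.res i1 i2) hq (by
      by_contra c
      obtain ⟨x, -, hx⟩ := res_pow_ne i2 c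
      exact hx (by rw [h0]; rfl)))
    exact hx (congrArg (fun θ : End K V => θ x) x7)

end H8
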