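import Cfsg.Agent.H8.Gr1
import Cfsg.Agent.H21.HHE

/-! Exceptional `2`-elements acting on an odd order group `Q` of class two with scalar centre (characteristic `2`):
`GrS` (setting), `GrG` (exceptional element), `GrE Q t` (elements inverted modulo the centre), `GrS.main`: an exceptional
element `g` in a `2`-group `Y⟨g⟩` has `[Y, t] ≤ Φ(Y) C_Y(Q)` for the involution `t` of `⟨g⟩`. -/

set_option autoImplicit false
set_option linter.unusedSectionVars false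

namespace H8
open Module Subgroup Cfsg H18 H1 H21.HB
open scoped commutatorElement
universe u v

variable {G : Type u} [Group G] [Finite G] {K : Type*} [Field K] {V : Type v} [AddCommGroup V] [Module K V]
  [FiniteDimensional K V] {n : ℕ} {ρ : G →* End K V} {Q S A P Y : Subgroup G} {a c g r t x y z : G}

theorem gr_mem_of_pow (hx : PiElt {2}ᶜ x) {k : ℕ} (h : x ^ 2 ^ k ∈ S) : x ∈ S :=
  zpowers_le.2 h (mem_zpowers_pow_iff.2 (Nat.Coprime.pow_left k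
    ((Nat.Prime.coprime_iff_not_dvd Nat.prime_two).2 ((piNat_compl_iff Nat.prime_two).1 hx))))

theorem gr_mem_of_sq (hx : PiElt {2}ᶜ x) (h : x * x ∈ S) : x ∈ S :=
  gr_mem_of_pow hx (k := 1) (by rwa [pow_one, sq])

theorem gr_mem_of_odd {m k : ℕ} (hx : x ^ 2 ^ k = 1) (hm : Odd m) (h : x ^ m ∈ S) : x ∈ S :=
  zpowers_le.2 h (mem_zpowers_pow_iff.2 (Nat.Coprime.coprime_dvd_right (orderOf_dvd_of_pow_eq_one hx)
    (Nat.Coprime.pow_right k hm.coprime_two_right)))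

/-- an element of odd order inverted by `t ∈ S` and normalizing `S` lies in `S` -/
theorem gr_inv_mem (hr : PiElt {2}ᶜ r) (e : t * r * t⁻¹ = r⁻¹) (ht : t ∈ S) (hn : r ∈ N(S)) : r ∈ S := by
  refine gr_mem_of_sq hr ?_
  have : r * r = (r * t * r⁻¹) * t⁻¹ := by
    calc r * r = r * (t * r * t⁻¹)⁻¹ := by rw [e, inv_inv]
      _ = _ := by group
  rw [this]; exact mul_mem (conj_mem_N hn ht) (inv_mem ht)

/-- decomposition under an involution -/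
theorem gr_dec (hA : PiGrp {2}ᶜ A) (ht : t ∈ N(A)) (t2 : t * t = 1) (hx : x ∈ A) :
    ∃ e ∈ A, ∃ c ∈ A, t * e * t⁻¹ = e⁻¹ ∧ c * t = t * c ∧ x = e * c := by
  have w1 : x * (t * x * t⁻¹)⁻¹ ∈ A := mul_mem hx (inv_mem (conj_mem_N ht hx))
  have ti : t⁻¹ = t := inv_eq_of_mul_eq_one_right t2
  have w2 : t * (x * (t * x * t⁻¹)⁻¹) * t⁻¹ = (x * (t * x * t⁻¹)⁻¹)⁻¹ := by
    have : t * (x * (t * x * t⁻¹)⁻¹) * t⁻¹ = t * x * t⁻¹ * (t * t) * x⁻¹ * (t * t)⁻¹ := by group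
    rw [this, t2]; group
  have w3 : (t * x * t⁻¹) = (x * (t * x * t⁻¹)⁻¹)⁻¹ * x := by group
  generalize x * (t * x * t⁻¹)⁻¹ = w at w1 w2 w3
  obtain ⟨m, hm⟩ := gr_mem_of_sq (hA.elt w1) (mem_zpowers (w * w))
  have e1 : w ^ m * w ^ m = w := by rw [← (Commute.refl w).mul_zpow]; exact hm
  have e2 : t * w ^ m * t⁻¹ = (w ^ m)⁻¹ := by rw [← conj_zpow, w2, inv_zpow]
  refine ⟨w ^ m, zpow_mem w1 m, (w ^ m)⁻¹ * x, mul_mem (inv_mem (zpow_mem w1 m)) hx, e2, ?_, by group⟩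
  have e3 : t * (w ^ m)⁻¹ * t⁻¹ = w ^ m := by
    calc _ = (t * w ^ m * t⁻¹)⁻¹ := by group
      _ = _ := by rw [e2, inv_inv]
  rw [eq_comm, ← mul_inv_eq_iff_eq_mul]
  calc t * ((w ^ m)⁻¹ * x) * t⁻¹ = (t * (w ^ m)⁻¹ * t⁻¹) * (t * x * t⁻¹) := by group
    _ = w ^ m * ((w ^ m * w ^ m)⁻¹ * x) := by rw [e3, w3, e1]
    _ = _ := by group

/-- the setting -/
structure GrS (ρ : G →* End K V) (Q : Subgroup G) : Prop where
  inj : ∀ x, ρ x = 1 → x = 1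
  odd : PiGrp {2}ᶜ Q
  c2 : ⁅Q, Q⁆ ≤ C(Q)
  sc : ∀ z ∈ Q, z ∈ C(Q) → ∃ c : K, ρ z = c • 1

/-- exceptional elements -/
structure GrG (ρ : G →* End K V) (Q : Subgroup G) (n : ℕ) (g : G) : Prop where
  norm : g ∈ N(Q)
  pow : g ^ 2 ^ (n + 1) = 1
  ex : (ρ g - 1) ^ (2 ^ (n + 1) - 1) = 0

/-- elements of `Q` inverted by `t` modulo the centre -/
def GrE (Q : Subgroup G) (t : G) : Subgroup G := closure {a | a ∈ Q ∧ t * a * t⁻¹ * a ∈ C(Q)}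

theorem GrE_le : GrE Q t ≤ Q := (closure_le _).2 fun _ h => h.1

theorem mem_GrE (c2 : ⁅Q, Q⁆ ≤ C(Q)) (ht : t ∈ N(Q)) : a ∈ GrE Q t ↔ a ∈ Q ∧ t * a * t⁻¹ * a ∈ C(Q) := by
  refine ⟨fun h => ?_, fun h => subset_closure h⟩
  induction h using closure_induction with
  | mem _ h => exact h
  | one => simp
  | mul a b _ _ ha hb =>
    refine ⟨mul_mem ha.1 hb.1, ?_⟩
    have : t * (a * b) * t⁻¹ * (a * b) = (t * a * t⁻¹ * a) * (a⁻¹ * (t * b * t⁻¹ * b) * a) * ⁅a⁻¹, b⁻¹⁆ := by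
      rw [commutatorElement_def]; group
    rw [this]
    exact mul_mem (mul_mem ha.2 (conj_mem_N' (N_le_N_C (le_N ha.1)) hb.2))
      (c2 (commutator_mem_commutator (inv_mem ha.1) (inv_mem hb.1)))
  | inv a _ ha =>
    refine ⟨inv_mem ha.1, ?_⟩
    have : t * a⁻¹ * t⁻¹ * a⁻¹ = a * (t * a * t⁻¹ * a)⁻¹ * a⁻¹ := by group
    rw [this]
    exact conj_mem_N (N_le_N_C (le_N ha.1)) (inv_mem ha.2)

theorem cj_GrE (c2 : ⁅Q, Q⁆ ≤ C(Q)) (ht : t ∈ N(Q)) (hx : x ∈ N(Q)) : cj x (GrE Q t) = GrE Q (x * t * x⁻¹) := by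
  ext a
  rw [mem_cj, mem_GrE c2 ht, mem_GrE c2 (mul_mem (mul_mem hx ht) (inv_mem hx)), ← mem_cj, cj_eq_self hx]
  refine and_congr_right fun _ => ?_
  conv_rhs => rw [← cj_eq_self (N_le_N_C hx), mem_cj]
  congr! 1; group

theorem GrG.cj (h : GrG ρ Q n g) (hx : x ∈ N(Q)) : GrG ρ Q n (x * g * x⁻¹) := by
  refine ⟨mul_mem (mul_mem hx h.norm) (inv_mem hx), by rw [conj_pow, h.pow]; simp, ?_⟩
  have e1 : ρ x⁻¹ * ρ x = 1 := by rw [← map_mul]; simp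
  have e2 : ρ x * ρ x⁻¹ = 1 := by rw [← map_mul]; simp
  have : ∀ k, (ρ (x * g * x⁻¹) - 1) ^ k = ρ x * (ρ g - 1) ^ k * ρ x⁻¹ := fun k => by
    induction k with
    | zero => simp [e2]
    | succ k ih =>
      have : ρ (x * g * x⁻¹) - 1 = ρ x * (ρ g - 1) * ρ x⁻¹ := by
        rw [map_mul, map_mul, mul_sub, sub_mul, mul_one, e2]
      rw [pow_succ, ih, this, pow_succ]
      simp only [mul_assoc]
      rw [← mul_assoc (ρ x⁻¹) (ρ x), e1, one_mul]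
  rw [this, h.ex]; simp

theorem GrG.t2 (h : GrG ρ Q n g) : g ^ 2 ^ n * g ^ 2 ^ n = 1 := by rw [← pow_add, ← two_mul, ← pow_succ', h.pow]
theorem GrG.tn (h : GrG ρ Q n g) : g ^ 2 ^ n ∈ N(Q) := pow_mem h.norm _

namespace GrS
variable (s : GrS ρ Q)
include s

theorem cen (h1 : z ∈ Q) (h2 : z ∈ C(Q)) (x : G) : x * z = z * x := by
  obtain ⟨c, hc⟩ := s.sc z h1 h2
  have : ρ (x * z * (z * x)⁻¹) = 1 := by
    rw [mul_inv_rev, map_mul, map_mul, hc, mul_smul_comm, smul_mul_assoc, mul_one, ← map_mul, mul_inv_cancel_left,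
      ← one_mul (ρ z⁻¹), ← smul_mul_assoc, ← hc, ← map_mul, mul_inv_cancel, map_one]
  exact mul_inv_eq_one.1 (s.inj _ this)

theorem norm_E (ht : t ∈ N(Q)) (hx : x ∈ N(Q)) (e : x * t = t * x) : x ∈ N(GrE Q t) := by
  rw [mem_N_iff_cj, cj_GrE s.c2 ht hx, e, mul_inv_cancel_right]

theorem cent_of_EC (ht : t ∈ N(Q)) (h1 : a ∈ GrE Q t) (h2 : a * t = t * a) : a ∈ C(Q) := by
  have := ((mem_GrE s.c2 ht).1 h1).2
  rw [← h2, mul_inv_cancel_right] at this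
  exact gr_mem_of_sq (s.odd.elt (GrE_le h1)) this

theorem EC_comm (ht : t ∈ N(Q)) (h1 : a ∈ GrE Q t) (h2 : c ∈ Q) (h3 : c * t = t * c) : a * c = c * a := by
  obtain ⟨a1, a2⟩ := (mem_GrE s.c2 ht).1 h1
  have k1 : ⁅a, c⁆ ∈ Q := comm_le_of_le le_rfl le_rfl (commutator_mem_commutator a1 h2)
  have k2 : ⁅a, c⁆ ∈ C(Q) := s.c2 (commutator_mem_commutator a1 h2)
  have z1 := s.cen (mul_mem (conj_mem_N ht a1) a1) a2
  have c1 : t * c * t⁻¹ = c := by rw [← h3, mul_inv_cancel_right]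
  have e1 : ⁅a, c⁆ = t * ⁅a, c⁆ * t⁻¹ := by rw [s.cen k1 k2 t, mul_inv_cancel_right]
  have e2 : t * ⁅a, c⁆ * t⁻¹ = (t * a * t⁻¹ * a) * a⁻¹ * (t * c * t⁻¹) * a * (t * a * t⁻¹ * a)⁻¹ * (t * c * t⁻¹)⁻¹ := by
    rw [commutatorElement_def]; group
  rw [c1] at e2
  generalize t * a * t⁻¹ * a = z at z1 e2
  have e3 : z * a⁻¹ * c * a * z⁻¹ * c⁻¹ = a⁻¹ * ⁅a, c⁆⁻¹ * a := by
    rw [mul_assoc z, mul_assoc z, ← z1, commutatorElement_def]; group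
  have e4 : a⁻¹ * ⁅a, c⁆⁻¹ * a = ⁅a, c⁆⁻¹ := by rw [s.cen (inv_mem k1) (inv_mem k2) a⁻¹]; group
  have e5 : ⁅a, c⁆ * ⁅a, c⁆ = 1 := by
    nth_rewrite 1 [e1, e2, e3, e4]; exact inv_mul_cancel _
  have := gr_mem_of_sq (S := ⊥) (s.odd.elt k1) (mem_bot.2 e5)
  exact commutatorElement_eq_one_iff_mul_comm.1 (mem_bot.1 this)

theorem dec (ht : t ∈ N(Q)) (hA : A ≤ Q) (hn : t ∈ N(A)) (t2 : t * t = 1) (hx : x ∈ A) :
    ∃ e ∈ A, ∃ c ∈ A, e ∈ GrE Q t ∧ t * e * t⁻¹ = e⁻¹ ∧ c * t = t * c ∧ x = e * c := by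
  obtain ⟨e, e1, c, c1, h1, h2, h3⟩ := gr_dec (s.odd.of_le hA) hn t2 hx
  exact ⟨e, e1, c, c1, (mem_GrE s.c2 ht).2 ⟨hA e1, by rw [h1, inv_mul_cancel]; exact one_mem _⟩, h1, h2, h3⟩

/-- `GrE Q t` is nondegenerate -/
theorem nondeg (ht : t ∈ N(Q)) (t2 : t * t = 1) (h1 : a ∈ GrE Q t) (h2 : a ∈ C(GrE Q t)) : a ∈ C(Q) := by
  refine mem_C.2 fun x hx => ?_
  obtain ⟨e, -, c, c1, e1, -, c2, rfl⟩ := s.dec ht le_rfl ht t2 hx
  rw [mul_assoc, ← s.EC_comm ht h1 c1 c2, ← mul_assoc, mem_C.1 h2 e e1, mul_assoc]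

theorem cent_t (ht : t ∈ N(Q)) (t2 : t * t = 1) (h1 : a ∈ Q) (h2 : a ∈ C(GrE Q t)) : a * t = t * a := by
  obtain ⟨e, e0, c, c1, e1, -, c2, rfl⟩ := s.dec ht le_rfl ht t2 h1
  have c3 : c ∈ C(GrE Q t) := mem_C.2 fun b hb => s.EC_comm ht hb c1 c2
  have := s.nondeg ht t2 e1 (by simpa using mul_mem h2 (inv_mem c3))
  rw [mul_assoc, c2, ← mul_assoc, ← s.cen e0 this t, mul_assoc]

/-- a `2`-element centralizing `Q / Z(Q)` centralizes `Q` -/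
theorem cent_of_mod {k : ℕ} (hx : x ^ 2 ^ k = 1) (ha : a ∈ Q) (h1 : x * a * x⁻¹ * a⁻¹ ∈ Q) (h2 : x * a * x⁻¹ * a⁻¹ ∈ C(Q)) :
    x * a = a * x := by
  have z1 := s.cen h1 h2
  have e : x * a * x⁻¹ = (x * a * x⁻¹ * a⁻¹) * a := by group
  generalize x * a * x⁻¹ * a⁻¹ = z at z1 e h1
  have : ∀ m : ℕ, x ^ m * a * (x ^ m)⁻¹ = z ^ m * a := fun m => by
    induction m with
    | zero => simp
    | succ m ih =>
      have c : Commute x (z ^ m) := (show Commute x z from z1 x).pow_right m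
      calc x ^ (m + 1) * a * (x ^ (m + 1))⁻¹ = x * (x ^ m * a * (x ^ m)⁻¹) * x⁻¹ := by group
        _ = z ^ m * (x * a * x⁻¹) := by rw [ih, ← mul_assoc, c.eq]; group
        _ = _ := by rw [e]; group
  have e2 := this (2 ^ k)
  rw [hx, one_mul, inv_one, mul_one, eq_comm, mul_eq_right] at e2
  have := mem_bot.1 (gr_mem_of_pow (S := ⊥) (s.odd.elt h1) (mem_bot.2 e2))
  rw [this, one_mul] at e
  rw [← e]; nth_rewrite 1 [e]; group

variable [IsAlgClosed K] [CharP K 2]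

/-- the refined exceptional case -/
theorem lemT (h : GrG ρ Q n g) (hA : A ≤ GrE Q (g ^ 2 ^ n)) (hn : g ∈ N(A)) (nd : ∀ a ∈ A, a ∈ C(A) → a ∈ C(Q))
    (nt : ¬ A ≤ C(Q)) (hx : x ∈ C(A)) : x * g = g * x := by
  classical
  haveI := Fintype.ofFinite A
  haveI : Fact (Nat.Prime 2) := ⟨Nat.prime_two⟩
  have AQ : A ≤ Q := hA.trans GrE_le
  let σ : MulAut A := A.normalizerMonoidHom ⟨g, hn⟩
  have hσ : ∀ (i : ℕ) (a : A), ((σ ^ i) a : G) = g ^ i * a * (g ^ i)⁻¹ := fun i a => by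
    rw [← map_pow]; rfl
  let ρ' : A →* End K V := ρ.comp A.subtype
  have hd : HD 2 (n + 1) ρ' σ (ρ g) := ⟨fun a => by
      show ρ g * ρ a = ρ (g * a * g⁻¹) * ρ g
      rw [← map_mul, ← map_mul, inv_mul_cancel_right], by rw [← map_pow, h.pow, map_one],
    by ext a; rw [hσ, h.pow]; simp⟩
  have hc : (Fintype.card A : K) ≠ 0 := by
    rw [← Nat.card_eq_fintype_card, Ne, CharP.cast_eq_zero_iff K 2]
    exact (piNat_compl_iff Nat.prime_two).1 (s.odd.of_le AQ)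
  have w : GrW 2 (n + 1) (C(Q).subgroupOf A) ρ' σ := by
    refine ⟨fun a ha => s.sc a (AQ a.2) ha, fun a ha => ?_, fun a ha i hi => ?_, fun a ha => ?_, ?_⟩
    · obtain ⟨b, b1, b2⟩ : ∃ b ∈ A, b * a ≠ a * b := by
        by_contra! c
        exact ha (nd a a.2 (mem_C.2 c))
      have k1 : ⁅(a : G), b⁆ ∈ Q := comm_le_of_le AQ AQ (commutator_mem_commutator a.2 b1)
      have k2 : ⁅(a : G), b⁆ ∈ C(Q) := s.c2 (commutator_mem_commutator (AQ a.2) (AQ b1))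
      obtain ⟨μ, hμ⟩ := s.sc _ k1 k2
      refine ⟨⟨b, b1⟩, μ, fun e => b2 ?_, ?_⟩
      · rw [e, one_smul] at hμ
        exact (commutatorElement_eq_one_iff_mul_comm.1 (s.inj _ hμ)).symm
      · show ρ a * ρ b = μ • (ρ b * ρ a)
        rw [← one_mul (ρ b * ρ a), ← smul_mul_assoc, ← hμ, ← map_mul, ← map_mul, ← map_mul, commutatorElement_def]
        congr 1; group
    · by_contra c
      obtain ⟨k, k1, k2⟩ := (Nat.dvd_prime_pow Nat.prime_two).1 (MulAction.pow_smul_eq_iff_period_dvd.1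
        (show σ ^ 2 ^ (n + 1) • a = a by rw [hd.sp, one_smul]))
      have k3 : k ≤ n := Nat.le_of_lt_succ (k1.lt_of_ne fun e => c (by
        rw [← e, ← k2]; exact MulAction.pow_smul_eq_iff_period_dvd.1 hi))
      have k4 : (σ ^ 2 ^ n) a = a := MulAction.pow_smul_eq_iff_period_dvd.2 (k2 ▸ pow_dvd_pow 2 k3)
      have := hσ (2 ^ n) a
      rw [k4, eq_mul_inv_iff_mul_eq] at this
      exact ha (s.cent_of_EC h.tn (hA a.2) this)
    · have e := s.cent_of_mod h.pow (AQ a.2) (AQ (σ a * a⁻¹).2) ha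
      exact s.cent_of_EC h.tn (hA a.2) ((show Commute g a from e).pow_left _).eq.symm
    · obtain ⟨a, a1, a2⟩ := SetLike.not_le_iff_exists.1 nt
      exact ⟨⟨a, a1⟩, a2⟩
  have := w.comm hd hc (by omega) h.ex (φ := ρ x) fun a => by
    show ρ x * ρ a = ρ a * ρ x
    rw [← map_mul, ← map_mul, mem_C.1 hx a a.2]
  rw [← map_mul, ← map_mul] at this
  refine mul_inv_eq_one.1 (s.inj _ ?_)
  rw [map_mul, this, ← map_mul, mul_inv_cancel, map_one]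

theorem lemT' (h : GrG ρ Q n g) (nt : ¬ GrE Q (g ^ 2 ^ n) ≤ C(Q)) (hx : x ∈ C(GrE Q (g ^ 2 ^ n))) : x * g = g * x :=
  s.lemT h le_rfl (s.norm_E h.tn h.norm (Commute.self_pow g _).eq) (fun _ => s.nondeg h.tn h.t2) nt hx

/-- if `g` normalizes the "plane" of `t`, the two planes are equal or orthogonal -/
theorem eq_or_perp (h : GrG ρ Q n g) (ht : t ∈ N(Q)) (t2 : t * t = 1)
    (hc : Nat.card (GrE Q (g ^ 2 ^ n)) = Nat.card (GrE Q t)) (hn : g ∈ N(GrE Q t)) :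
    GrE Q (g ^ 2 ^ n) = GrE Q t ∨ GrE Q (g ^ 2 ^ n) ≤ C(GrE Q t) := by
  have gE := s.norm_E h.tn h.norm (Commute.self_pow g _).eq
  have τn : g ^ 2 ^ n ∈ N(GrE Q t) := pow_mem hn _
  have τQ := h.tn
  have τ2 := h.t2
  have T := fun hA hn nd nt x hx => s.lemT h (A := GrE Q (g ^ 2 ^ n) ⊓ GrE Q t) (x := x) hA hn nd nt hx
  have gτ : ∀ x, x * g = g * x → x * g ^ 2 ^ n = g ^ 2 ^ n * x := fun x e => ((show Commute x g from e).pow_right _).eq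
  generalize g ^ 2 ^ n = τ at *
  have d : ∀ x ∈ GrE Q τ, ∃ e ∈ GrE Q τ ⊓ GrE Q t, ∃ c ∈ GrE Q τ, c ∈ C(GrE Q t) ∧ x = e * c := fun x hx => by
    obtain ⟨e, e0, c, c1, e1, -, c2, rfl⟩ := s.dec ht le_rfl ht t2 (GrE_le hx)
    have c3 : c ∈ C(GrE Q t) := mem_C.2 fun b hb => s.EC_comm ht hb c1 c2
    have x1 := ((mem_GrE s.c2 τQ).1 hx).2
    have a1 : τ * e * τ⁻¹ * e ∈ GrE Q t := mul_mem (conj_mem_N τn e1) e1
    have a2 : τ * c * τ⁻¹ ∈ C(GrE Q t) := conj_mem_N (N_le_N_C τn) c3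
    have a3 : τ * (e * c) * τ⁻¹ * (e * c) = (τ * e * τ⁻¹ * e) * (τ * c * τ⁻¹ * c) := by
      calc _ = (τ * e * τ⁻¹) * ((τ * c * τ⁻¹) * e) * c := by group
        _ = _ := by rw [← mem_C.1 a2 e e1]; group
    have a4 : τ * e * τ⁻¹ * e ∈ C(Q) := s.nondeg ht t2 a1 (by
      have := mul_mem (C_anti GrE_le x1) (inv_mem (mul_mem a2 c3))
      rwa [a3, mul_inv_cancel_right] at this)
    have a5 : e ∈ GrE Q τ := (mem_GrE s.c2 τQ).2 ⟨e0, a4⟩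
    exact ⟨e, ⟨a5, e1⟩, c, by simpa using mul_mem (inv_mem a5) hx, c3, rfl⟩
  by_cases nt : GrE Q τ ⊓ GrE Q t ≤ C(Q)
  · refine Or.inr fun x hx => ?_
    obtain ⟨e, e1, c, -, c2, rfl⟩ := d x hx
    exact mul_mem (C_anti GrE_le (nt e1)) c2
  · refine Or.inl (eq_of_card_eq (fun x hx => ?_) hc)
    obtain ⟨e, e1, c, c1, c2, rfl⟩ := d x hx
    have := T inf_le_left (zpowers_le.1 (norm_inf (zpowers_le.2 gE) (zpowers_le.2 hn))) (fun a ha a1 => s.nondeg τQ τ2 ha.1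
      (mem_C.2 fun y hy => by
        obtain ⟨e', f1, c', -, f2, rfl⟩ := d y hy
        rw [mul_assoc, ← mem_C.1 f2 a ha.2, ← mul_assoc, mem_C.1 a1 e' f1, mul_assoc])) nt c (C_anti inf_le_right c2)
    have c3 := s.cent_of_EC τQ c1 (gτ c this)
    refine mul_mem e1.2 ((mem_GrE s.c2 ht).2 ⟨GrE_le c1, ?_⟩)
    rw [s.cen (GrE_le c1) c3 t, mul_inv_cancel_right]
    exact mul_mem c3 c3

/-- an exceptional element of order at least `4` permuting orthogonal planes normalizes them -/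
theorem norm_of_perm (h : GrG ρ Q (n + 1) g) (ht : t ∈ N(Q)) (t2 : t * t = 1)
    (hc : Nat.card (GrE Q (g ^ 2 ^ (n + 1))) = Nat.card (GrE Q t)) (nt : ¬ GrE Q t ≤ C(Q))
    (nt' : ¬ GrE Q (g ^ 2 ^ (n + 1)) ≤ C(Q))
    (hp : ∀ i : ℕ, cj (g ^ i) (GrE Q t) = GrE Q t ∨ cj (g ^ i) (GrE Q t) ≤ C(GrE Q t)) : g ∈ N(GrE Q t) := by
  by_contra c
  have p1 : cj g (GrE Q t) ≤ C(GrE Q t) := by
    simpa using (hp 1).resolve_left fun e => c (by rwa [pow_one, ← mem_N_iff_cj] at e)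
  have T := fun x hx => s.lemT' h nt' (x := x) hx
  have p3 : cj (g * g ^ 2 ^ (n + 1)) (GrE Q t) ≤ C(GrE Q t) := by
    rw [← pow_succ']
    exact (hp _).resolve_left fun e => c (gr_mem_of_odd h.pow (Even.add_one (Nat.even_pow.2 ⟨even_two, by omega⟩))
      (mem_N_iff_cj.2 e))
  have gE := s.norm_E h.tn h.norm (Commute.self_pow g _).eq
  have τQ := h.tn
  have τ2 := h.t2
  have p2 := hp (2 ^ (n + 1))
  generalize g ^ 2 ^ (n + 1) = τ at *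
  have T' : ∀ x ∈ Q, x * τ = τ * x → x * g = g * x := fun x h1 h2 => T x (mem_C.2 fun b hb => s.EC_comm τQ hb h1 h2)
  rcases p2 with p2 | p2
  · refine c (eq_of_card_eq (fun x hx => ?_) hc.symm ▸ gE)
    obtain ⟨e, -, a, a1, e1, -, a2, rfl⟩ := s.dec τQ GrE_le (mem_N_iff_cj.2 p2) τ2 hx
    have a3 := T' a (GrE_le a1) a2
    have a4 := s.nondeg ht t2 a1 (p1 (by rw [mem_cj, mul_assoc, a3, inv_mul_cancel_left]; exact a1))
    refine mul_mem e1 ((mem_GrE s.c2 τQ).2 ⟨GrE_le a1, ?_⟩)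
    rw [← a2, mul_inv_cancel_right]; exact mul_mem a4 a4
  · refine nt fun a ha => s.nondeg ht t2 ha ?_
    have b1 := p2 (conj_mem_cj (g := τ) ha)
    have b2 : (a * (τ * a * τ⁻¹)) * τ = τ * (a * (τ * a * τ⁻¹)) := by
      conv_rhs => rw [mem_C.1 b1 a ha]
      have : τ * (τ * a * τ⁻¹ * a) = (τ * τ) * a * τ⁻¹ * a := by group
      rw [this, τ2, mul_assoc a, inv_mul_cancel_right, inv_eq_of_mul_eq_one_right τ2]; group
    have b3 := T' _ (mul_mem (GrE_le ha) (conj_mem_N τQ (GrE_le ha))) b2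
    have b4 : a = (g * a * g⁻¹) * ((g * τ) * a * (g * τ)⁻¹) * (τ * a * τ⁻¹)⁻¹ := by
      calc a = g * (a * (τ * a * τ⁻¹)) * g⁻¹ * (τ * a * τ⁻¹)⁻¹ := by rw [← b3]; group
        _ = _ := by group
    rw [b4]
    exact mul_mem (mul_mem (p1 (conj_mem_cj ha)) (p3 (conj_mem_cj ha))) (inv_mem b1)

theorem planes (P : Subgroup G) : PiGrp {2} P → P ≤ N(Q) → ∀ g ∈ P, GrG ρ Q (n + 1) g →
    ¬ GrE Q (g ^ 2 ^ (n + 1)) ≤ C(Q) → ∀ x ∈ P, cj x (GrE Q (g ^ 2 ^ (n + 1))) = GrE Q (g ^ 2 ^ (n + 1)) ∨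
      cj x (GrE Q (g ^ 2 ^ (n + 1))) ≤ C(GrE Q (g ^ 2 ^ (n + 1))) := by
  induction P using H18.card_induction with
  | ih P ih =>
  intro hP hn g hg h nt x hx
  rcases (zpowers_le.2 hg).eq_or_lt with e | e
  · refine Or.inl (cj_eq_self (zpowers_le.2 (s.norm_E h.tn h.norm (Commute.self_pow g _).eq) (e ▸ hx)))
  obtain ⟨M, m1, m2⟩ := e.exists_le_covby
  have m3 := hP.nil.covBy_nml m2
  have gM := m1 (mem_zpowers g)
  have g2 := conj_mem m3.2 hx gM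
  have h2 := h.cj (hn hx)
  have e2 : cj x (GrE Q (g ^ 2 ^ (n + 1))) = GrE Q ((x * g * x⁻¹) ^ 2 ^ (n + 1)) := by
    rw [cj_GrE s.c2 h.tn (hn hx), conj_pow]
  have hc : Nat.card (GrE Q ((x * g * x⁻¹) ^ 2 ^ (n + 1))) = Nat.card (GrE Q (g ^ 2 ^ (n + 1))) := by
    rw [← e2, card_cj]
  rw [e2]
  refine s.eq_or_perp h2 h.tn h.t2 hc (s.norm_of_perm h2 h.tn h.t2 hc nt (fun c => nt ?_) fun i =>
    ih M (card_lt m2.lt) (hP.of_le m2.le) (m2.le.trans hn) g gM h nt _ (pow_mem g2 i))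
  rw [← e2, ← cj_eq_self (N_le_N_C (hn hx))] at c
  exact cj_le_cj.1 c

theorem main (hY : PiGrp {2} Y) (hn : Y ≤ N(Q)) (h : GrG ρ Q (n + 1) g) (gY : g ∈ N(Y)) (hy : y ∈ Y) :
    y * g ^ 2 ^ (n + 1) * y⁻¹ * (g ^ 2 ^ (n + 1))⁻¹ ∈ Φ(Y) ⊔ (Y ⊓ C(Q)) := by
  have gp : PiElt {2} g := (piNat_pow_self Nat.prime_two _).of_dvd (orderOf_dvd_of_pow_eq_one h.pow)
  have uY : ∀ k : ℕ, y * g ^ k * y⁻¹ * (g ^ k)⁻¹ ∈ Y := fun k => by
    have := mul_mem hy (conj_mem_N (pow_mem gY k) (inv_mem hy))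
    simpa only [mul_assoc] using this
  have h2 := h.cj (hn hy)
  have τQ := h.tn
  have τ2 := h.t2
  by_cases nt : GrE Q (g ^ 2 ^ (n + 1)) ≤ C(Q)
  · have : g ^ 2 ^ (n + 1) ∈ C(Q) := mem_C.2 fun a ha => s.cent_t τQ τ2 ha (cent_symm (nt.trans (C_anti le_rfl)) ha)
    exact mem_sup_right (mem_inf.2 ⟨uY _, mul_mem (conj_mem_N (N_le_N_C (hn hy)) this) (inv_mem this)⟩)
  have e2 : cj y (GrE Q (g ^ 2 ^ (n + 1))) = GrE Q ((y * g * y⁻¹) ^ 2 ^ (n + 1)) := by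
    rw [cj_GrE s.c2 h.tn (hn hy), conj_pow]
  have nt' : ¬ GrE Q ((y * g * y⁻¹) ^ 2 ^ (n + 1)) ≤ C(Q) := fun c => nt (by
    rw [← e2, ← cj_eq_self (N_le_N_C (hn hy))] at c
    exact cj_le_cj.1 c)
  rcases s.planes _ (gp.zpowers.sup_norm hY (zpowers_le.2 gY)) (sup_le (zpowers_le.2 h.norm) hn) g
    (mem_sup_left (mem_zpowers g)) h nt y (mem_sup_right hy) with p | p
  · refine mem_sup_right ⟨uY _, mem_C.2 fun a ha => ?_⟩
    obtain ⟨k, hk⟩ := (hY.elt (uY (2 ^ (n + 1)))).eq_pow (orderOf_pos _).ne'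
    have u1 := pow_orderOf_eq_one (y * g ^ 2 ^ (n + 1) * y⁻¹ * (g ^ 2 ^ (n + 1))⁻¹)
    rw [hk] at u1
    have u2 := hn (uY (2 ^ (n + 1)))
    have τQ' := h2.tn
    have τ2' := h2.t2
    rw [e2] at p
    rw [← conj_pow] at u1 u2 ⊢
    generalize (y * g * y⁻¹) ^ 2 ^ (n + 1) = τ' at *
    generalize g ^ 2 ^ (n + 1) = τ at *
    obtain ⟨e, e0, c, c1, e1, e3, c2, rfl⟩ := s.dec τQ le_rfl τQ τ2 ha
    have c3 : c * τ' = τ' * c := s.cent_t τQ' τ2' c1 (p ▸ mem_C.2 fun b hb => s.EC_comm τQ hb c1 c2)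
    have c4 : Commute c (τ' * τ⁻¹) := (show Commute c τ' from c3).mul_right (show Commute c τ from c2).inv_right
    have e4 : τ⁻¹ * e * τ = e⁻¹ := by
      rw [← e3, inv_eq_of_mul_eq_one_right τ2]
    have e5 := s.cent_of_mod u1 e0 (mul_mem (conj_mem_N u2 e0) (inv_mem e0)) (by
      have := ((mem_GrE s.c2 τQ').1 (inv_mem (p ▸ e1))).2
      rw [← e4] at this
      have e6 : τ' * τ⁻¹ * e * (τ' * τ⁻¹)⁻¹ * e⁻¹ = τ' * (τ⁻¹ * e * τ) * τ'⁻¹ * e⁻¹ := by group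
      rw [e6]; rwa [e4] at this ⊢)
    rw [mul_assoc, c4.eq, ← mul_assoc, ← e5, mul_assoc]
  · rw [e2] at p
    have T := fun x hx => s.lemT' h nt (x := x) hx
    have T' := fun x hx => s.lemT' h2 nt' (x := x) hx
    have gE := s.norm_E h.tn h.norm (Commute.self_pow g _).eq
    have g'Q := h2.norm
    have gQ := h.norm
    have g'C : y * g * y⁻¹ ∈ C(GrE Q (g ^ 2 ^ (n + 1))) := mem_C.2 fun a ha => T' a (cent_symm p ha)
    have u1 := uY 1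
    have u2 := uY (2 ^ (n + 1))
    rw [pow_one] at u1
    rw [← conj_pow] at u2 ⊢
    generalize y * g * y⁻¹ = g' at *
    have cm : Commute (mfun (actf Q) g') (mfun (actf Q) g) := by
      refine MulEquiv.ext fun a => Subtype.ext ?_
      rw [MulAut.mul_apply, MulAut.mul_apply, actf_apply gQ, actf_apply g'Q, actf_apply gQ, actf_apply g'Q]
      obtain ⟨e, e0, c, c1, e1, -, c2, hec⟩ := s.dec τQ le_rfl τQ τ2 a.2
      have c3 : c ∈ C(GrE Q (g ^ 2 ^ (n + 1))) := mem_C.2 fun b hb => s.EC_comm τQ hb c1 c2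
      have f1 : g' * e * g'⁻¹ = e := by rw [← mem_C.1 g'C e e1, mul_inv_cancel_right]
      have f2 : g' * (g * e * g⁻¹) * g'⁻¹ = g * e * g⁻¹ := by
        rw [← mem_C.1 g'C _ (conj_mem_N gE e1), mul_inv_cancel_right]
      have f3 : g * c * g⁻¹ = c := by rw [← T c c3, mul_inv_cancel_right]
      have f4 : g * (g' * c * g'⁻¹) * g⁻¹ = g' * c * g'⁻¹ := by
        rw [← T _ (mul_mem (mul_mem g'C c3) (inv_mem g'C)), mul_inv_cancel_right]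
      rw [hec]
      calc g' * (g * (e * c) * g⁻¹) * g'⁻¹ = (g' * (g * e * g⁻¹) * g'⁻¹) * (g' * (g * c * g⁻¹) * g'⁻¹) := by group
        _ = (g * (g' * e * g'⁻¹) * g⁻¹) * (g * (g' * c * g'⁻¹) * g⁻¹) := by rw [f1, f2, f3, f4]
        _ = _ := by group
    have u3 : (g' * g⁻¹) ^ 2 ^ (n + 1) ∈ Φ(Y) := by
      rw [pow_succ, pow_mul]; exact hY.pow_mem_phi Nat.prime_two (pow_mem u1 _)
    have u4 : ((g' * g⁻¹) ^ 2 ^ (n + 1))⁻¹ * (g' ^ 2 ^ (n + 1) * (g ^ 2 ^ (n + 1))⁻¹) ∈ C(Q) := by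
      rw [← mker_actf, ← mfun_eq_iff (hn (phi_le u3)) (hn u2), mfun_pow (hn u1), mfun_mul g'Q (inv_mem gQ),
        mfun_mul (pow_mem g'Q _) (inv_mem τQ), mfun_inv gQ, mfun_inv τQ, mfun_pow g'Q, mfun_pow gQ, cm.inv_right.mul_pow,
        inv_pow]
    rw [← mul_inv_cancel_left ((g' * g⁻¹) ^ 2 ^ (n + 1)) (g' ^ 2 ^ (n + 1) * (g ^ 2 ^ (n + 1))⁻¹)]
    exact mul_mem (mem_sup_left u3) (mem_sup_right (mem_inf.2 ⟨mul_mem (inv_mem (phi_le u3)) u2, u4⟩))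

end GrS
end H8
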