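import Cfsg.Agent.H8.Gr2

/-! Gross' two-step theorem, module part: `gr_main`: for an exceptional `2`-element `g` whose involution inverts `r`,
with `g`, `r` normalizing a `2`-group `Y` and an odd order group `Q` of class two, `[Y, r]` centralizes `Q`. -/

set_option autoImplicit false
set_option linter.unusedSectionVars false

namespace H8
open Module Subgroup Cfsg H18 H1 H21.HB
open scoped commutatorElement
universe u v

variable {G : Type u} [Group G] [Finite G] {K : Type*} [Field K] {V : Type v} [AddCommGroup V] [Module K V]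
  [FiniteDimensional K V] {n : ℕ} {ρ : G →* End K V} {Q S A P Y : Subgroup G} {a c g r t x y z : G}

/-- the configuration -/
structure GrH (n : ℕ) (Q Y : Subgroup G) (g r : G) : Prop where
  odd : PiGrp {2}ᶜ Q
  c2 : ⁅Q, Q⁆ ≤ C(Q)
  two : PiGrp {2} Y
  YQ : Y ≤ N(Q)
  gQ : g ∈ N(Q)
  rQ : r ∈ N(Q)
  gY : g ∈ N(Y)
  rY : r ∈ N(Y)
  gp : g ^ 2 ^ (n + 1) = 1
  ro : PiElt {2}ᶜ r
  inv : g ^ 2 ^ n * r * (g ^ 2 ^ n)⁻¹ = r⁻¹

theorem mfun_mem_N {G' : Type*} [Group G'] {D : Subgroup G} {f : D →* G'} (h : x ∈ N(A)) : mfun f x ∈ N(mim f A) :=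
  mim_norm (zpowers_le.2 h) (mfun_mem_mim (mem_zpowers x))

theorem GrH.mim {G' : Type*} [Group G'] {D : Subgroup G} (f : D →* G') (h : GrH n Q Y g r) (h1 : Q ≤ D) (h3 : g ∈ D)
    (h4 : r ∈ D) : GrH n (mim f Q) (mim f Y) (mfun f g) (mfun f r) :=
  ⟨h.odd.mim, by rw [← mim_comm h1 h1]; exact mim_cent h.c2, h.two.mim, mim_norm h.YQ, mfun_mem_N h.gQ, mfun_mem_N h.rQ,
    mfun_mem_N h.gY, mfun_mem_N h.rY, by rw [← mfun_pow h3, h.gp, mfun_one], h.ro.mfun h4,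
    by rw [← mfun_pow h3, ← mfun_conj (pow_mem h3 _) h4, h.inv, mfun_inv h4]⟩

theorem GrH.cop (h : GrH n Q Y g r) : Cop (zpowers r) Y :=
  cop_of_pi' (zpowers_le.2 h.rY) h.ro.zpowers h.two (Or.inl abel_zpowers.solv)

/-- the stabilizer of a subspace -/
def grStab (ρ : G →* End K V) (U : Submodule K V) : Subgroup G where
  carrier := {x | ∀ w ∈ U, ρ x w ∈ U}
  one_mem' := fun w hw => by simpa using hw
  mul_mem' := fun {a b} ha hb w hw => by rw [map_mul]; exact ha _ (hb w hw)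
  inv_mem' := fun {a} ha w hw => by
    have : a⁻¹ = a ^ (orderOf a - 1) := by
      rw [inv_eq_iff_mul_eq_one, ← pow_succ', Nat.sub_add_cancel (orderOf_pos a), pow_orderOf_eq_one]
    rw [this, map_pow]
    exact End.pow_apply_mem_of_forall_mem _ ha w hw

/-- action on a quotient space -/
def grQuo {M : Type*} [Monoid M] (ρ : M →* End K V) (W : Submodule K V) (h : ∀ a, ∀ w ∈ W, ρ a w ∈ W) :
    M →* End K (V ⧸ W) where
  toFun a := W.mapQ W (ρ a) (h a)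
  map_one' := by ext; simp
  map_mul' a b := by ext; simp

/-- the statement for a fixed module -/
def GrP (G : Type u) [Group G] (K : Type*) [Field K] (V : Type v) [AddCommGroup V] [Module K V] (n : ℕ) : Prop :=
  ∀ (ρ : G →* End K V), (∀ x, ρ x = 1 → x = 1) → ∀ (Q Y : Subgroup G) (g r : G), GrH n Q Y g r →
    (ρ g - 1) ^ (2 ^ (n + 1) - 1) = 0 → ⁅Y, zpowers r⁆ ≤ C(Q)

theorem gr_transfer (ih : ∀ (G : Type u) [Group G] [Finite G], GrP G K V n) {D : Subgroup G} (ρ : D →* End K V)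
    (h : GrH n Q Y g r) (h1 : Q ≤ D) (h2 : Y ≤ D) (h3 : g ∈ D) (h4 : r ∈ D)
    (ex : (ρ ⟨g, h3⟩ - 1) ^ (2 ^ (n + 1) - 1) = 0) (ha : a ∈ ⁅⁅Y, zpowers r⁆, Q⁆) (hD : a ∈ D) : ρ ⟨a, hD⟩ = 1 := by
  let f := QuotientGroup.mk' ρ.toHomUnits.ker
  let ρ' := (Units.coeHom _).comp (QuotientGroup.kerLift ρ.toHomUnits)
  have := ih _ ρ' (fun x hx => QuotientGroup.kerLift_injective ρ.toHomUnits (Units.ext (by rw [map_one]; exact hx))) _ _ _ _
    (h.mim f h1 h3 h4) (by rw [mfun_of_mem h3]; exact ex)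
  rw [← mim_zpowers h4, ← mim_comm h2 (zpowers_le.2 h4), ← comm_le_mker_iff (comm_le_of_le h2 (zpowers_le.2 h4)) h1] at this
  have e := (mem_mker.1 (this ha)).2
  rw [mfun_of_mem hD] at e
  exact congrArg ρ' e |>.trans (map_one ρ')

theorem gr_frattini (h : GrH n Q Y g r) (t2 : ∀ y ∈ Y, y * g ^ 2 ^ n * y⁻¹ * (g ^ 2 ^ n)⁻¹ ∈ Φ(Y) ⊔ (Y ⊓ C(Q))) :
    ⁅Y, zpowers r⁆ ≤ C(Q) := by
  have nD : ∀ x, x ∈ N(Y) → x ∈ N(Q) → x ∈ N(Y ⊓ C(Q)) := fun x h1 h2 =>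
    zpowers_le.1 (norm_inf (zpowers_le.2 h1) (zpowers_le.2 (N_le_N_C h2)))
  have nA : ∀ x, x ∈ N(Y) → x ∈ N(Q) → x ∈ N(Φ(Y) ⊔ (Y ⊓ C(Q))) := fun x h1 h2 =>
    zpowers_le.1 (norm_sup (norm_phi (zpowers_le.2 h1)) (zpowers_le.2 (nD x h1 h2)))
  have YA : Y ≤ N(Φ(Y) ⊔ (Y ⊓ C(Q))) := fun y hy => nA y (le_N hy) (h.YQ hy)
  have YD : Y ≤ N(Y ⊓ C(Q)) := fun y hy => nD y (le_N hy) (h.YQ hy)
  have tA := nA _ (pow_mem h.gY (2 ^ n)) (pow_mem h.gQ _)
  have rA := nA _ h.rY h.rQ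
  have rD := nD _ h.rY h.rQ
  have e1 : cs (Φ(Y) ⊔ (Y ⊓ C(Q))) r ∈ C(Y ⫽ (Φ(Y) ⊔ (Y ⊓ C(Q)))) := by
    refine gr_inv_mem (t := cs _ (g ^ 2 ^ n)) (h.ro.mfun rA) (by rw [← mfun_conj tA rA, h.inv, mfun_inv rA])
      (mem_C.2 fun b hb => ?_) (N_le_N_C (mfun_mem_N h.rY))
    obtain ⟨y, hy, rfl⟩ := (mem_quo YA).1 hb
    have := cs_eq_one (t2 y hy)
    rw [mfun_mul (mul_mem (mul_mem (YA hy) tA) (inv_mem (YA hy))) (inv_mem tA), mfun_conj (YA hy) tA, mfun_inv tA,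
      mul_inv_eq_one, mul_inv_eq_iff_eq_mul] at this
    exact this
  have e2 : ⁅Y, zpowers r⁆ ≤ Φ(Y) ⊔ (Y ⊓ C(Q)) := by
    rw [comm_le_iff_quo YA (zpowers_le.2 rA), mim_zpowers rA]
    exact cent_symm (zpowers_le.2 e1)
  have e3 : (Y ⊓ C(Q)) ⊔ (Y ⊓ C(zpowers r)) = Y := phi_nongen (sup_le inf_le_left inf_le_left)
    ((h.cop.le_sup_of_comm_le e2).trans (by rw [sup_assoc, sup_comm]))
  refine le_trans ?_ (inf_le_right (a := Y))
  rw [comm_le_iff_quo YD (zpowers_le.2 rD)]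
  refine (mim_mono e3.ge).trans ?_
  rw [mim_sup (inf_le_left.trans YD) (inf_le_left.trans YD), quo_eq_bot le_rfl, bot_sup_eq]
  exact mim_cent inf_le_right

variable [IsAlgClosed K] [CharP K 2]

theorem gr_step (d : ℕ) (ihn : ∀ m, n = m + 1 → ∀ (V : Type v) [AddCommGroup V] [Module K V] [FiniteDimensional K V]
      (G : Type u) [Group G] [Finite G], GrP G K V m)
    (ihd : ∀ (V : Type v) [AddCommGroup V] [Module K V] [FiniteDimensional K V], finrank K V < d →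
      ∀ (G : Type u) [Group G] [Finite G], GrP G K V n) (hd : finrank K V = d) : GrP G K V n := by
  haveI : Fact (Nat.Prime 2) := ⟨Nat.prime_two⟩
  intro ρ inj Q Y₀ g r h₀ ex
  have nZ : N(Q) ≤ N(Q ⊓ C(Q)) := norm_inf le_rfl N_le_N_C
  have QZ : Q ≤ C(Q ⊓ C(Q)) := cent_symm inf_le_right
  have tZ : g ^ 2 ^ n ∈ C(Q ⊓ C(Q)) := by
    by_contra c
    obtain ⟨k, k1, k2⟩ := thmB_q ρ h₀.gp h₀.odd.inf_left (nZ h₀.gQ) c fun u _ => inj u
    rcases k2 with k2 | ⟨q, n₀, m, U, u1, -, -, -, u2, -⟩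
    · exact k1 (by rw [← ex, ← k2, Nat.add_sub_cancel])
    · exact u2 (u1.trans (inf_le_right.trans (C_anti (u1.trans inf_le_left))))
  have rZ : r ∈ C(Q ⊓ C(Q)) := gr_inv_mem h₀.ro h₀.inv tZ (N_le_N_C (nZ h₀.rQ))
  suffices key : ∀ Y, GrH n Q Y g r → Y ≤ C(Q ⊓ C(Q)) → ⁅Y, zpowers r⁆ ≤ C(Q) by
    have nY : ∀ x, x ∈ N(Y₀) → x ∈ N(Q) → x ∈ N(Y₀ ⊓ C(Q ⊓ C(Q))) := fun x h1 h2 =>
      zpowers_le.1 (norm_inf (zpowers_le.2 h1) (zpowers_le.2 (N_le_N_C (nZ h2))))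
    refine le_trans ?_ (key _ ⟨h₀.odd, h₀.c2, h₀.two.inf_left, inf_le_left.trans h₀.YQ, h₀.gQ, h₀.rQ, nY _ h₀.gY h₀.gQ,
      nY _ h₀.rY h₀.rQ, h₀.gp, h₀.ro, h₀.inv⟩ inf_le_right)
    rw [← h₀.cop.comm_comm]
    exact comm_mono (le_inf (comm_le_left (zpowers_le.2 h₀.rY)) ((comm_mono le_rfl (zpowers_le.2 rZ)).trans
      (comm_le_right (h₀.YQ.trans (nZ.trans N_le_N_C))))) le_rfl
  intro Y h YZ
  have XQ : ⁅⁅Y, zpowers r⁆, Q⁆ ≤ Q := comm_le_right ((comm_le_left (zpowers_le.2 h.rY)).trans h.YQ)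
  suffices fin : ∀ a ∈ ⁅⁅Y, zpowers r⁆, Q⁆, ρ a = 1 from
    commutator_eq_bot_iff_le_centralizer.1 (eq_bot_iff.2 fun a ha => mem_bot.2 (inj a (fin a ha)))
  rcases subsingleton_or_nontrivial V with hV | hV
  · exact fun a _ => Subsingleton.elim _ _
  by_cases irr : ∀ U : Submodule K V, Q ≤ grStab ρ U → Y ≤ grStab ρ U → g ∈ grStab ρ U → r ∈ grStab ρ U → U = ⊥ ∨ U = ⊤
  swap
  · push Not at irr
    obtain ⟨U, u1, u2, u3, u4, u5, u6⟩ := irr
    intro a ha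
    have i1 : ∀ x : grStab ρ U, ∀ w ∈ U, (ρ.comp (grStab ρ U).subtype) x w ∈ U := fun x => x.2
    have a1 := gr_transfer (ihd U (hd ▸ Submodule.finrank_lt u6)) (resHom _ U i1) h u1 u2 u3 u4 (by
      by_contra c
      obtain ⟨w, -, hw⟩ := res_pow_ne (i1 ⟨g, u3⟩) c
      exact hw (congrArg (fun θ : End K V => θ w) ex)) ha (u1 (XQ ha))
    have a2 := gr_transfer (ihd (V ⧸ U) (by
      have := U.finrank_quotient_add_finrank
      have := Submodule.finrank_eq_zero.not.2 u5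
      omega)) (grQuo _ U i1) h u1 u2 u3 u4 (by
        have : ∀ (k : ℕ) (w : V), ((grQuo _ U i1 ⟨g, u3⟩ - 1) ^ k) (U.mkQ w) = U.mkQ (((ρ g - 1) ^ k) w) := fun k w => by
          induction k with
          | zero => rfl
          | succ k ih => rw [pow_succ', pow_succ', End.mul_apply, ih]; rfl
        refine U.linearMap_qext (LinearMap.ext fun w => ?_)
        exact (this _ w).trans (by rw [ex]; rfl)) ha (u1 (XQ ha))
    have a3 : (ρ a - 1) ^ 2 ^ 1 = 0 := LinearMap.ext fun w => by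
      have b1 : (ρ a - 1) w ∈ U := (Submodule.Quotient.eq U).1 (congrArg (fun θ : End K (V ⧸ U) => θ (U.mkQ w)) a2)
      have b2 := congrArg (fun θ : End K U => (θ ⟨_, b1⟩ : V)) a1
      rw [pow_one, sq, End.mul_apply, LinearMap.sub_apply]
      exact sub_eq_zero.2 b2
    rw [sub_one_pow (K := K), sub_eq_zero, ← map_pow] at a3
    rw [mem_bot.1 (gr_mem_of_pow (S := ⊥) (h.odd.elt (XQ ha)) (mem_bot.2 (inj _ a3))), map_one]
  rcases n with _ | m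
  · have g1 : g = 1 := inj g (by simpa [sub_eq_zero] using ex)
    have r1 : r = 1 := mem_bot.1 (gr_inv_mem h.ro h.inv (S := ⊥) (by simp [g1]) (by simp))
    intro a ha
    rw [r1, zpowers_one_eq_bot, commutator_bot_right, commutator_bot_left] at ha
    rw [mem_bot.1 ha, map_one]
  by_cases sc : ∀ z ∈ Q, z ∈ C(Q) → ∃ c : K, ρ z = c • 1
  · have s : GrS ρ Q := ⟨inj, h.odd, h.c2, sc⟩
    have := gr_frattini h fun y hy => s.main h.two h.YQ ⟨h.gQ, h.gp, ex⟩ h.gY hy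
    intro a ha
    rw [commutator_eq_bot_iff_le_centralizer.2 this] at ha
    rw [mem_bot.1 ha, map_one]
  classical
  push Not at sc
  obtain ⟨z, z1, z2, z3⟩ := sc
  have gJ := N_le_N_C (nZ h.gQ)
  have zJ : ∀ x ∈ C(Q ⊓ C(Q)), z * x = x * z := fun x hx => mem_C.1 hx z ⟨z1, z2⟩
  generalize C(Q ⊓ C(Q)) = J at QZ rZ YZ gJ zJ
  haveI := Fintype.ofFinite J
  let σ : MulAut J := J.normalizerMonoidHom ⟨g, gJ⟩
  have hσ : ∀ (i : ℕ) (a : J), ((σ ^ i) a : G) = g ^ i * a * (g ^ i)⁻¹ := fun i a => by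
    rw [← map_pow]; rfl
  let ρ' : J →* End K V := ρ.comp J.subtype
  have hD : HD 2 (m + 1 + 1) ρ' σ (ρ g) := ⟨fun a => by
      show ρ g * ρ a = ρ (g * a * g⁻¹) * ρ g
      rw [← map_mul, ← map_mul, inv_mul_cancel_right], by rw [← map_pow, h.gp, map_one],
    by ext a; rw [hσ, h.gp]; simp⟩
  have irr' : ∀ U : Submodule K V, J ≤ grStab ρ U ∧ g ∈ grStab ρ U → U = ⊥ ∨ U = ⊤ := fun U hU =>
    irr U (QZ.trans hU.1) (YZ.trans hU.1) hU.2 (hU.1 rZ)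
  obtain ⟨ψ, p1, p2⟩ := hD.exists_shift (fun φ h1 h2 => schur _ irr' φ fun μ =>
    ⟨fun a ha => eig_inv (h1 ⟨a, ha⟩) μ, eig_inv h2 μ⟩) (φ := ρ z) (fun a => by
      show ρ z * ρ a = ρ a * ρ z
      rw [← map_mul, zJ a a.2, map_mul]) fun ⟨c, hc⟩ => z3 c hc
  have JU : ∀ μ, J ≤ grStab ρ (ψ.eigenspace μ) := fun μ a ha => eig_inv (p1 ⟨a, ha⟩) μ
  have e1 : ∀ μ, ∀ w ∈ ψ.eigenspace μ, ρ g w ∈ ψ.eigenspace (μ - 1) := fun μ w hw => by
    have := congrArg (fun θ : End K V => θ w) p2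
    simp only [End.mul_apply, LinearMap.add_apply, End.one_apply, End.mem_eigenspace_iff.1 hw, map_smul] at this
    rw [End.mem_eigenspace_iff, sub_smul, this, one_smul, add_sub_cancel_right]
  have e0 : ∀ μ : K, μ - 1 - 1 = μ := fun μ => by
    rw [sub_sub, CharTwo.add_self_eq_zero, sub_zero]
  have e2 : ∀ μ, g ^ 2 ∈ grStab ρ (ψ.eigenspace μ) := fun μ w hw => by
    rw [sq, map_mul, End.mul_apply, ← e0 μ]; exact e1 _ _ (e1 _ _ hw)
  have h' : GrH m Q Y (g ^ 2) r := ⟨h.odd, h.c2, h.two, h.YQ, pow_mem h.gQ 2, h.rQ, pow_mem h.gY 2, h.rY,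
    by rw [← pow_mul, ← pow_succ', h.gp], h.ro, by rw [← pow_mul, ← pow_succ', h.inv]⟩
  intro a ha
  have e3 : ∀ μ, ∀ w ∈ ψ.eigenspace μ, ρ a w = w := fun μ w hw => by
    have i1 : ∀ x : grStab ρ (ψ.eigenspace μ), ∀ w ∈ ψ.eigenspace μ,
      (ρ.comp (grStab ρ (ψ.eigenspace μ)).subtype) x w ∈ ψ.eigenspace μ := fun x => x.2
    have a1 := gr_transfer (ihn m rfl _) (resHom _ _ i1) h' (QZ.trans (JU μ)) (YZ.trans (JU μ)) (e2 μ) (JU μ rZ) (by
      by_contra c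
      obtain ⟨w, w1, hw⟩ := res_pow_ne (i1 ⟨_, e2 μ⟩) c
      have v3 : ((ρ (g ^ 2) - 1 : End K V) ^ (2 ^ (m + 1) - 1) : End K V) w ∈ ψ.eigenspace μ :=
        End.pow_apply_mem_of_forall_mem _ (fun w hw => sub_mem (e2 μ w hw) hw) w w1
      have e5 := sub_one_pow (K := K) (p := 2) (ρ g) 1
      have e6 : 2 ^ (m + 1 + 1) - 1 = 1 + 2 ^ 1 * (2 ^ (m + 1) - 1) := by
        have := Nat.one_le_two_pow (n := m + 1)
        rw [pow_succ]; omega
      rw [e6, pow_add, pow_mul, e5, pow_one, pow_one, ← map_pow] at ex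
      have e7 := congrArg (fun θ : End K V => θ w) ex
      simp only [End.mul_apply, LinearMap.sub_apply, End.one_apply, LinearMap.zero_apply, sub_eq_zero] at e7
      have e8 := End.mem_eigenspace_iff.1 (e1 μ _ v3)
      rw [e7, End.mem_eigenspace_iff.1 v3, sub_smul, one_smul, eq_comm, sub_eq_self] at e8
      exact hw e8) ha (JU μ (QZ (XQ ha)))
    exact congrArg (fun θ : End K (ψ.eigenspace μ) => (θ ⟨w, hw⟩ : V)) a1
  obtain ⟨μ, hμ⟩ := ψ.exists_eigenvalue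
  have e4 := (irr' (ψ.eigenspace μ ⊔ ψ.eigenspace (μ - 1)) ⟨fun x hx w hw => by
      obtain ⟨b, hb, c, hc, rfl⟩ := Submodule.mem_sup.1 hw
      rw [map_add]; exact Submodule.add_mem_sup (JU _ hx b hb) (JU _ hx c hc), fun w hw => by
      obtain ⟨b, hb, c, hc, rfl⟩ := Submodule.mem_sup.1 hw
      rw [map_add, add_comm]; exact Submodule.add_mem_sup (e0 μ ▸ e1 _ c hc) (e1 _ b hb)⟩).resolve_left
    fun e => hμ (sup_eq_bot_iff.1 e).1
  refine LinearMap.ext fun w => ?_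
  obtain ⟨b, hb, c, hc, rfl⟩ := Submodule.mem_sup.1 (e4 ▸ Submodule.mem_top : w ∈ ψ.eigenspace μ ⊔ ψ.eigenspace (μ - 1))
  rw [map_add, e3 _ b hb, e3 _ c hc]; rfl

theorem gr_all (n : ℕ) : ∀ (d : ℕ) (V : Type v) [AddCommGroup V] [Module K V] [FiniteDimensional K V], finrank K V = d →
    ∀ (G : Type u) [Group G] [Finite G], GrP G K V n := by
  induction n with
  | zero =>
    intro d
    induction d using Nat.strong_induction_on with
    | h d ih => exact fun V _ _ _ hd G _ _ => gr_step d (fun _ e => absurd e (by omega)) (fun V _ _ _ h => ih _ h V rfl) hd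
  | succ n ihn =>
    intro d
    induction d using Nat.strong_induction_on with
    | h d ih =>
      exact fun V _ _ _ hd G _ _ => gr_step d (fun m e V _ _ _ => by cases e; exact ihn _ V rfl)
        (fun V _ _ _ h => ih _ h V rfl) hd

omit [IsAlgClosed K] in
theorem gr_main (inj : ∀ x, ρ x = 1 → x = 1) (h : GrH n Q Y g r) (ex : (ρ g - 1) ^ (2 ^ (n + 1) - 1) = 0) :
    ⁅Y, zpowers r⁆ ≤ C(Q) := by
  let F := AlgebraicClosure K
  let φ := End.baseChangeHom K F V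
  have i : Function.Injective φ := LinearMap.baseChangeHom_injective K V F
  exact gr_all (K := F) n _ _ rfl G (φ.toMonoidHom.comp ρ) (fun x e => inj x (i (e.trans (map_one φ).symm))) Q Y g r h
    (by simpa using congrArg φ ex)

end H8
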