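import Cfsg.Agent.H5.FS
import Cfsg.Agent.H5.Galois
import Cfsg.Agent.H6.Det
import Cfsg.Agent.H8.Deg

/-! Herzog's hypothesis `Hz u c` (`χ(1) - χ(u) = c` or `χ(u) = 0` for nonprincipal `χ`): basic facts, and for
`c = 4`, `u` an involution (`Hz4`), the analysis of the characters of degree `3` (`Hz4.main`). -/

open H5 H6 Cfsg Finset
open scoped ComplexConjugate

namespace H8
variable {G : Type*} [Group G] [Finite G] {u : G} {c : ℂ} {χ ψ Θ : G → ℂ}

/-- Herzog's hypothesis -/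
def Hz (u : G) (c : ℂ) : Prop :=
  ∀ χ : IrrCharacter G, χ.1 ≠ (fun _ => 1) → χ.1 1 - χ.1 u = c ∨ χ.1 u = 0

omit [Finite G] in
theorem Hz.quot (h : Hz u c) (N : Subgroup G) [N.Normal] : Hz (u : G ⧸ N) c := fun χ h1 =>
  h ⟨_, χ.2.inflate⟩ fun e => h1 (funext fun x => QuotientGroup.induction_on x fun g => congrFun e g)

theorem ne_irrOne {χ : IrrCharacter G} : χ ≠ irrOne G ↔ χ.1 ≠ fun _ => 1 :=
  not_congr Subtype.ext_iff

open Classical in
/-- the nonprincipal irreducible characters -/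
noncomputable def nIr (G : Type*) [Group G] [Finite G] : Finset (IrrCharacter G) := univ.erase (irrOne G)

theorem mem_nIr {χ : IrrCharacter G} : χ ∈ nIr G ↔ χ ≠ irrOne G := by simp [nIr]

open Classical in
theorem sum_irr_split {A : Type*} [AddCommMonoid A] (f : IrrCharacter G → A) :
    ∑ χ, f χ = f (irrOne G) + ∑ χ ∈ nIr G, f χ :=
  (add_sum_erase _ _ (mem_univ _)).symm

theorem Hz.sum (h : Hz u c) (h1 : u ≠ 1) : 1 + ∑ χ ∈ nIr G, χ.1 u * (χ.1 u + c) = 0 := by
  have := sum_degree_mul_apply_of_ne_one h1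
  rw [sum_irr_split] at this
  rw [← this, irrOne_apply, irrOne_apply, one_mul]
  congr 1
  refine sum_congr rfl fun χ hχ => ?_
  rcases h χ (ne_irrOne.1 (mem_nIr.1 hχ)) with e | e
  · rw [← e]; ring
  · rw [e]; ring

theorem norm_lin (hχ : IsIrrCharacter G χ) (h1 : χ 1 = 1) (g : G) : ‖χ g‖ = 1 := by
  obtain ⟨l, rfl⟩ := hχ.isCharacter.exists_hom_of_apply_one h1
  exact norm_eq_one_of_pow_eq_one (orderOf_pos g) (by
    rw [← Units.val_pow_eq_pow_val, ← map_pow, pow_orderOf_eq_one, map_one, Units.val_one])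

theorem Hz.eq_one_of_ker (h : Hz u c) (hc : c ≠ 0) (hχ : IsIrrCharacter G χ) (e : χ u = χ 1) :
    χ = fun _ => 1 := by_contra fun h1 => by
  rcases h ⟨χ, hχ⟩ h1 with k | k
  · exact hc (by rw [← k]; exact sub_eq_zero.2 e.symm)
  · exact hχ.apply_one_ne_zero (e.symm.trans k)

theorem inner_mul_conj [Fintype G] (χ ψ : G → ℂ) :
    classInner (χ * fun g => conj (ψ g)) (fun _ => 1) = classInner χ ψ := by
  rw [classInner_mul_left]; congr 1; funext g; simp

theorem Hz.lin_of_norm (h : Hz u c) (hc : c ≠ 0) (hχ : IsIrrCharacter G χ) (e : ‖χ u‖ = ‖χ 1‖) :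
    χ 1 = 1 := by
  classical
  haveI := Fintype.ofFinite G
  have hΘ := hχ.isCharacter.mul hχ.conj.isCharacter
  have h1 := hΘ.isClassFunction.apply_eq_sum_irr 1
  rw [sum_eq_single (irrOne G) (fun ψ _ h2 => ?_) (by simp), coe_irrOne, inner_mul_conj,
    hχ.classInner_self] at h1
  · obtain ⟨n, -, hn⟩ := hχ.exists_apply_one
    simp only [Pi.mul_apply, hn, map_natCast, mul_one] at h1
    rw [hn]
    exact_mod_cast Nat.eq_one_of_mul_eq_one_left (show n * n = 1 by exact_mod_cast h1)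
  refine mul_eq_zero_of_left (by_contra fun h3 => ne_irrOne.1 h2 (h.eq_one_of_ker hc ψ.2
    (ψ.2.mem_charKer.1 (hΘ.charKer_le_of_constituent ψ.2 h3 (hΘ.mem_charKer.2 ?_))))) _
  simp only [Pi.mul_apply, Complex.mul_conj, Complex.normSq_eq_norm_sq, e]

theorem Hz.ne_lin (h : Hz u 4) (hχ : IsIrrCharacter G χ) (h1 : χ ≠ fun _ => 1) : χ 1 ≠ 1 := fun e => by
  have h2 := norm_lin hχ e u
  rcases h ⟨χ, hχ⟩ h1 with k | k
  · rw [show χ u = -3 by linear_combination e - k] at h2
    norm_num at h2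
  · rw [show χ u = 0 from k] at h2
    norm_num at h2

theorem Hz.det (h : Hz u 4) (χ : G → ℂ) (g : G) : detChar χ g = 1 :=
  congrFun (by_contra fun e => h.ne_lin (isIrr_detChar χ) e (detChar_one χ)) g

theorem Hz.eig (h : Hz u 4) (hχ : IsCharacter G χ) {n : ℕ} (hn : χ 1 = n) (g : G) : ∃ ε : Fin n → ℂ,
    (∀ i, ε i ^ orderOf g = 1) ∧ (∀ j : ℕ, χ (g ^ j) = ∑ i, ε i ^ j) ∧ ∏ i, ε i = 1 := by
  obtain ⟨m, ε, h1, h2, h3, h4⟩ := exists_eigenvalues_det hχ g
  obtain rfl : m = n := by exact_mod_cast h1.symm.trans hn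
  exact ⟨ε, h2, h3, h4.symm.trans (h.det χ g)⟩

theorem Hz.eig3 (h : Hz u 4) (hχ : IsCharacter G χ) (h3 : χ 1 = 3) (g : G) : ∃ a b d : ℂ,
    a * conj a = 1 ∧ b * conj b = 1 ∧ d * conj d = 1 ∧ a * b * d = 1 ∧ ∀ j : ℕ, χ (g ^ j) = a ^ j + b ^ j + d ^ j := by
  obtain ⟨ε, h1, h2, h4⟩ := h.eig hχ (n := 3) h3 g
  have k : ∀ i, ε i * conj (ε i) = 1 := fun i => by
    rw [Complex.mul_conj, Complex.normSq_eq_norm_sq, norm_eq_one_of_pow_eq_one (orderOf_pos g) (h1 i)]
    norm_num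
  exact ⟨ε 0, ε 1, ε 2, k 0, k 1, k 2, by simpa [Fin.prod_univ_three] using h4,
    fun j => by simpa [Fin.sum_univ_three] using h2 j⟩

/-- the alternating square of a character of degree three -/
theorem Hz.alt (h : Hz u 4) (hχ : IsCharacter G χ) (h3 : χ 1 = 3) (g : G) :
    χ (g * g) = χ g ^ 2 - 2 * conj (χ g) := by
  obtain ⟨a, b, d, ha, hb, hd, e, k⟩ := h.eig3 hχ h3 g
  have k1 := k 1
  have k2 := k 2
  rw [pow_one] at k1
  rw [← sq, k2, k1]
  simp only [pow_one, map_add]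
  linear_combination (2 * b * d) * ha + (2 * a * d) * hb + (2 * a * b) * hd -
    2 * (conj a + conj b + conj d) * e

theorem Hz.sym (h : Hz u 4) (hχ : IsCharacter G χ) (h3 : χ 1 = 3) :
    IsCharacter G (χ * χ - fun g => conj (χ g)) := by
  convert hχ.symSq using 2 with g
  rw [h.alt hχ h3]; simp; ring

/-- `χ(u) = -1` forces `u² ∈ ker χ` -/
theorem Hz.sq_ker (h : Hz u 4) (hχ : IsCharacter G χ) (h3 : χ 1 = 3) (e : χ u = -1) : χ (u * u) = χ 1 := by
  rw [h.alt hχ h3, e, h3]; simp; norm_num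

theorem Hz.re_ge (h : Hz u 4) (hχ : IsCharacter G χ) (h3 : χ 1 = 3) (hr : (fun g => conj (χ g)) = χ) (g : G) :
    -1 ≤ (χ g).re := by
  obtain ⟨a, b, d, ha, hb, hd, e, k⟩ := h.eig3 hχ h3 g
  have k1 := k 1
  have r := congrFun hr g
  simp only [pow_one] at k1
  simp only [k1, map_add] at r
  have key : ∀ a b d : ℂ, a = 1 → b * conj b = 1 → d * conj d = 1 → -1 ≤ (a + b + d).re := by
    intro a b d ha hb hd
    have f : ∀ z : ℂ, z * conj z = 1 → -1 ≤ z.re := fun z hz => by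
      have := congrArg Complex.re hz
      simp at this
      nlinarith [sq_nonneg z.im, sq_nonneg (z.re + 1)]
    have := f b hb
    have := f d hd
    simp [ha]; linarith
  have : (a - 1) * (b - 1) * (d - 1) = 0 := by
    linear_combination (b * d) * ha + (a * d) * hb + (a * b) * hd - (conj a + conj b + conj d - 1) * e - r
  rw [k1]
  rcases mul_eq_zero.1 this with h1 | h1
  · rcases mul_eq_zero.1 h1 with h1 | h1
    · exact key a b d (sub_eq_zero.1 h1) hb hd
    · rw [add_comm a]; exact key b a d (sub_eq_zero.1 h1) ha hd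
  · rw [add_comm, ← add_assoc]; exact key d a b (sub_eq_zero.1 h1) ha hb

section split
variable [Fintype G]

theorem char_split (hΘ : IsCharacter G Θ) (h1 : classInner Θ (fun _ => 1) = 0) (h0 : Θ ≠ 0) :
    ∃ ψ, IsIrrCharacter G ψ ∧ ψ ≠ (fun _ => 1) ∧ IsCharacter G (Θ - ψ) ∧
      classInner (Θ - ψ) (fun _ => 1) = 0 := by
  obtain ⟨ψ, h2, h3⟩ := hΘ.exists_irr_constituent h0
  have h4 : ψ ≠ fun _ => 1 := fun e => h3 (e ▸ h1)
  exact ⟨ψ, h2, h4, hΘ.sub_irr h2 h3, by
    rw [classInner_sub_left, h1, h2.classInner_of_ne isIrrCharacter_one h4, sub_zero]⟩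

omit [Fintype G] in
theorem re_sub_nonneg (hΘ : IsCharacter G Θ) (g : G) : 0 ≤ (Θ 1 - Θ g).re := by
  obtain ⟨n, hn⟩ := hΘ.exists_apply_one
  have := (Complex.re_le_norm _).trans (hΘ.norm_le g)
  simp [hn] at this ⊢
  exact this

end split

theorem sq_eq_one_iff_of_ne_zero' {z : ℂ} (h : z ^ 2 = 1) : z = 1 ∨ z = -1 := by
  simpa using sq_eq_sq_iff_eq_or_eq_neg.1 (h.trans (one_pow 2).symm)

/-- Herzog's hypothesis with `c = 4` at an involution -/
structure Hz4 (u : G) : Prop where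
  hz : Hz u 4
  sq : u * u = 1

namespace Hz4
variable (h : Hz4 u)
include h

theorem pm (hχ : IsCharacter G χ) {n : ℕ} (hn : χ 1 = n) : ∃ ε : Fin n → ℂ,
    (∀ i, ε i = 1 ∨ ε i = -1) ∧ χ u = ∑ i, ε i ∧ ∏ i, ε i = 1 := by
  obtain ⟨ε, h1, h2, h3⟩ := h.hz.eig hχ hn u
  refine ⟨ε, fun i => sq_eq_one_iff_of_ne_zero' ?_, by simpa using h2 1, h3⟩
  obtain ⟨k, hk⟩ := orderOf_dvd_of_pow_eq_one (show u ^ 2 = 1 by rw [pow_two, h.sq])
  rw [hk, pow_mul, h1, one_pow]

theorem val3 (hχ : IsIrrCharacter G χ) (h3 : χ 1 = 3) : χ u = -1 := by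
  rcases h.hz ⟨χ, hχ⟩ (fun e => by rw [show χ = _ from e] at h3; norm_num at h3) with k | k
  · linear_combination h3 - k
  obtain ⟨ε, h1, h2, -⟩ := h.pm hχ.isCharacter (n := 3) h3
  rw [show χ u = 0 from k, Fin.sum_univ_three] at h2
  rcases h1 0 with a | a <;> rcases h1 1 with b | b <;> rcases h1 2 with d | d <;>
    rw [a, b, d] at h2 <;> norm_num at h2

theorem w (hχ : IsIrrCharacter G χ) (h1 : χ ≠ fun _ => 1) : ∃ d : ℕ, 3 ≤ d ∧ χ 1 = d ∧
    (χ u = d - 4 ∨ 4 ≤ d ∧ χ u = 0) := by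
  obtain ⟨d, h0, hd⟩ := hχ.exists_apply_one
  have d1 : d ≠ 1 := fun e => h.hz.ne_lin hχ h1 (by simp [hd, e])
  have d2 : d ≠ 2 := fun e => by
    subst e
    rcases h.hz ⟨χ, hχ⟩ h1 with k | k
    · exact h.hz.ne_lin hχ h1 (h.hz.lin_of_norm (by norm_num) hχ (by
        rw [show χ u = -2 by push_cast at hd; linear_combination hd - k, hd]; simp))
    obtain ⟨ε, h1, h2, h3⟩ := h.pm hχ.isCharacter hd
    rw [show χ u = 0 from k, Fin.sum_univ_two] at h2
    rw [Fin.prod_univ_two] at h3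
    rcases h1 0 with a | a <;> rcases h1 1 with b | b <;> rw [a, b] at h2 h3 <;>
      first | (norm_num at h2; done) | norm_num at h3
  refine ⟨d, by omega, hd, ?_⟩
  rcases h.hz ⟨χ, hχ⟩ h1 with k | k
  · exact Or.inl (by linear_combination hd - k)
  refine Or.inr ⟨by_contra fun e => ?_, k⟩
  have := h.val3 hχ (by rw [hd, show d = 3 by omega]; rfl)
  rw [show χ u = 0 from k] at this
  norm_num at this

theorem w4 (hχ : IsIrrCharacter G χ) (h1 : χ ≠ fun _ => 1) : 4 ≤ (χ 1 - χ u).re := by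
  obtain ⟨d, -, h2, h3 | ⟨h3, h4⟩⟩ := h.w hχ h1
  · simp [h2, h3]
  · simpa [h2, h4] using h3

variable [Fintype G]

theorem zero (hΘ : IsCharacter G Θ) (h1 : classInner Θ (fun _ => 1) = 0) (e : (Θ 1 - Θ u).re < 4) :
    Θ = 0 := by_contra fun h0 => by
  obtain ⟨ψ, h2, h3, h4, -⟩ := char_split hΘ h1 h0
  have := re_sub_nonneg h4 u
  have := h.w4 h2 h3
  simp at *; linarith

theorem irr (hΘ : IsCharacter G Θ) (h1 : classInner Θ (fun _ => 1) = 0) (h0 : Θ ≠ 0)
    (e : (Θ 1 - Θ u).re < 8) : IsIrrCharacter G Θ ∧ Θ ≠ fun _ => 1 := by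
  obtain ⟨ψ, h2, h3, h4, h5⟩ := char_split hΘ h1 h0
  have := h.w4 h2 h3
  rw [sub_eq_zero.1 (h.zero h4 h5 (by simp at *; linarith))]
  exact ⟨h2, h3⟩

/-- products of two characters of degree three -/
theorem nine (hχ : IsIrrCharacter G χ) (h3 : χ 1 = 3) (hψ : IsIrrCharacter G ψ) (k3 : ψ 1 = 3) (ne : χ ≠ ψ) :
    classInner (χ * fun g => conj (ψ g)) (χ * fun g => conj (ψ g)) = 2 ∧
      ∀ φ, IsIrrCharacter G φ → φ 1 = 8 → classInner (χ * fun g => conj (ψ g)) φ = 0 := by
  have hΘ := hχ.isCharacter.mul hψ.conj.isCharacter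
  have e1 : (χ * fun g => conj (ψ g)) 1 = 9 := by simp [h3, k3, map_ofNat]; norm_num
  have e2 : (χ * fun g => conj (ψ g)) u = 1 := by simp [h.val3 hχ h3, h.val3 hψ k3]
  have e3 := (inner_mul_conj χ ψ).trans (hχ.classInner_of_ne hψ ne)
  generalize (χ * fun g => conj (ψ g)) = Θ at *
  obtain ⟨α, h2, h4, h5, h6⟩ := char_split hΘ e3 (fun e => by simp [e] at e1)
  obtain ⟨d, d3, hd, hd'⟩ := h.w h2 h4
  have h7 := h.w4 h2 h4
  obtain ⟨h8, h9⟩ := h.irr h5 h6 (fun e => by
    rw [sub_eq_zero.1 e, hd] at e1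
    rw [sub_eq_zero.1 e] at e2
    rw [e1, e2] at hd'
    norm_num at hd') (by simp [e1, e2] at *; linarith)
  obtain ⟨β, rfl⟩ : ∃ β, Θ = α + β := ⟨Θ - α, by ring⟩
  rw [add_sub_cancel_left] at h8 h9
  obtain ⟨d', d3', hd2, -⟩ := h.w h8 h9
  have e4 : d + d' = 9 := by
    rw [Pi.add_apply, hd, hd2] at e1
    exact_mod_cast e1
  have ne' : α ≠ β := fun e => by
    have : d = d' := by rw [e, hd2] at hd; exact_mod_cast hd.symm
    omega
  refine ⟨?_, fun φ hφ h8' => ?_⟩
  · simp only [classInner_add_left, classInner_add_right, h2.classInner_self, h8.classInner_self,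
      h2.classInner_of_ne h8 ne', h8.classInner_of_ne h2 ne'.symm]
    norm_num
  rw [classInner_add_left, h2.classInner_of_ne hφ fun e => ?_, h8.classInner_of_ne hφ fun e => ?_, add_zero]
  · have : d' = 8 := by rw [e, h8'] at hd2; exact_mod_cast hd2.symm
    omega
  · have : d = 8 := by rw [e, h8'] at hd; exact_mod_cast hd.symm
    omega

omit h in
theorem inner_cross (a b c d : G → ℂ) : classInner (a * fun g => conj (b g)) (c * fun g => conj (d g)) =
    classInner (a * d) (c * b) := by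
  simp only [classInner]; congr 1; refine sum_congr rfl fun g _ => ?_; simp; ring

theorem real (hχ : IsIrrCharacter G χ) (h3 : χ 1 = 3) : (fun g => conj (χ g)) = χ := by_contra fun hr => by
  classical
  have hb := hχ.conj
  have b3 : (fun g => conj (χ g)) 1 = 3 := by simp [h3, map_ofNat]
  have n1 : ∀ {φ : G → ℂ}, φ 1 = 3 → φ ≠ fun _ => 1 := fun e e' => by simp [e'] at e
  have u1 := h.val3 hχ h3
  have hS := h.hz.sym hχ.isCharacter h3
  have i1 : classInner (χ * χ) (fun _ => 1) = 0 := by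
    have := inner_mul_conj χ fun g => conj (χ g)
    simp only [Complex.conj_conj] at this
    exact this.trans (hχ.classInner_of_ne hb (Ne.symm hr))
  obtain ⟨S, hS'⟩ : ∃ S, χ * χ = S + fun g => conj (χ g) := ⟨χ * χ - _, (sub_add_cancel _ _).symm⟩
  have S1 : S 1 = 6 := by have := congrFun hS' 1; simp [h3, map_ofNat] at this; linear_combination -this
  have Su : S u = 2 := by have := congrFun hS' u; simp [u1] at this; linear_combination -this
  rw [hS', add_sub_cancel_right] at hS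
  have iS := (h.irr hS (by
    rwa [hS', classInner_add_left, hb.classInner_of_ne isIrrCharacter_one (n1 b3), add_zero] at i1)
    (fun e => by simp [e] at S1) (by simp [S1, Su]; norm_num)).1
  have Sn : ∀ {φ}, IsIrrCharacter G φ → φ 1 = 3 → classInner S φ = 0 := fun hφ e =>
    iS.classInner_of_ne hφ fun e' => by rw [e', e] at S1; norm_num at S1
  have i2 : classInner (χ * χ) (χ * χ) = 2 := by
    rw [hS']
    simp only [classInner_add_left, classInner_add_right, iS.classInner_self, hb.classInner_self, Sn hb b3,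
      (classInner_eq_zero_comm _ _).1 (Sn hb b3)]
    norm_num
  have hN := hχ.isCharacter.mul hb.isCharacter
  have i3 := (inner_mul_conj χ χ).trans hχ.classInner_self
  have h8 := hN.sub_irr isIrrCharacter_one (by rw [i3]; exact one_ne_zero)
  obtain ⟨φ, hφ⟩ : ∃ φ, (χ * fun g => conj (χ g)) = φ + fun _ => 1 :=
    ⟨_ - fun _ => 1, (sub_add_cancel _ _).symm⟩
  have φ1 : φ 1 = 8 := by have := congrFun hφ 1; simp [h3, map_ofNat] at this; linear_combination -this
  rw [hφ, add_sub_cancel_right] at h8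
  have i4 := (inner_cross χ χ χ χ).trans i2
  rw [hφ] at i3 i4
  rw [classInner_add_left, isIrrCharacter_one.classInner_self, add_eq_right] at i3
  simp only [classInner_add_left, classInner_add_right, i3, (classInner_eq_zero_comm _ _).1 i3,
    isIrrCharacter_one.classInner_self] at i4
  have iφ := h8.isIrr_of_classInner_self (by linear_combination i4)
  have hΘ := hS.mul hb.isCharacter
  obtain ⟨m, hm, -⟩ := hΘ.exists_nat
  have key : ∀ ψ : IrrCharacter G, (m ψ : ℂ) + classInner (fun g => conj (χ g)) (ψ.1 * χ) =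
      classInner (φ + fun _ => 1) (ψ.1 * fun g => conj (χ g)) := fun ψ => by
    rw [← hφ, inner_cross, hS', classInner_add_left, ← hm, classInner_mul_left]
    simp
  have h4 := congrArg Complex.re (hΘ.isClassFunction.apply_eq_sum_irr u)
  simp only [hm, Pi.mul_apply, Su, u1, Complex.re_sum] at h4
  have h5 : ∑ ψ : IrrCharacter G, (if ψ = ⟨χ, hχ⟩ then -1 else 0 : ℝ) ≤ ∑ ψ, ((m ψ : ℂ) * ψ.1 u).re := by
    refine sum_le_sum fun ψ _ => ?_
    have k := key ψ
    split_ifs with e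
    · subst e
      rw [hS', hφ, classInner_add_right, (classInner_eq_zero_comm _ _).1 (Sn hb b3), hb.classInner_self] at k
      simp only [classInner_add_left, classInner_add_right, i3, (classInner_eq_zero_comm _ _).1 i3,
        isIrrCharacter_one.classInner_self, iφ.classInner_self] at k
      rw [show (m ⟨χ, hχ⟩ : ℂ) = 1 by linear_combination k]
      simp [u1]
    by_cases e1 : ψ.1 = fun _ => 1
    · simp [e1]
    by_cases e3 : ψ.1 1 = 3
    · have ne : ψ.1 ≠ χ := fun e' => e (Subtype.ext e')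
      obtain ⟨n, hn⟩ := hb.isCharacter.exists_classInner_nat (ψ.2.isCharacter.mul hχ.isCharacter)
      rw [hn, classInner_add_left, (classInner_eq_zero_comm _ _).1 ((h.nine ψ.2 e3 hχ h3 ne).2 φ iφ φ1),
        (classInner_eq_zero_comm _ _).1 ((inner_mul_conj _ _).trans (ψ.2.classInner_of_ne hχ ne))] at k
      have : m ψ + n = 0 := by exact_mod_cast k.trans (add_zero 0)
      simp [show m ψ = 0 by omega]
    obtain ⟨d, d3, hd, k | k⟩ := h.w ψ.2 e1
    · have : 4 ≤ d := by_contra fun e' => e3 (by rw [hd, show d = 3 by omega]; rfl)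
      have : (4 : ℝ) ≤ d := by exact_mod_cast this
      simp [k]; positivity
    · simp [k.2]
  rw [← h4] at h5
  simp at h5

theorem five (hχ : IsIrrCharacter G χ) (h3 : χ 1 = 3) :
    IsIrrCharacter G (χ * χ - χ - fun _ => 1) ∧ (χ * χ - χ - fun _ => 1 : G → ℂ) ≠ fun _ => 1 := by
  have hr := h.real hχ h3
  have hS := h.hz.sym hχ.isCharacter h3
  rw [hr] at hS
  have i1 := (inner_mul_conj χ χ).trans hχ.classInner_self
  rw [hr] at i1
  have i2 : classInner (χ * χ - χ) (fun _ => 1) = 1 := by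
    rw [classInner_sub_left, i1, hχ.classInner_of_ne isIrrCharacter_one fun e => by simp [e] at h3, sub_zero]
  exact h.irr (hS.sub_irr isIrrCharacter_one (by rw [i2]; exact one_ne_zero))
    (by rw [classInner_sub_left, i2, isIrrCharacter_one.classInner_self, sub_self])
    (fun e => by have := congrFun e 1; simp [h3] at this; norm_num at this)
    (by simp [h3, h.val3 hχ h3]; norm_num)

theorem five_eq (hχ : IsIrrCharacter G χ) (h3 : χ 1 = 3) (hψ : IsIrrCharacter G ψ) (k3 : ψ 1 = 3) (g : G) :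
    χ g * χ g - χ g = ψ g * ψ g - ψ g := by
  by_cases ne : χ = ψ
  · rw [ne]
  have h1 := (inner_cross χ ψ ψ χ).symm.trans (show _ = 2 by
    rw [← (h.nine hχ h3 hψ k3 ne).1, h.real hχ h3, h.real hψ k3, mul_comm ψ χ])
  obtain ⟨a, a1⟩ := h.five hχ h3
  obtain ⟨b, b1⟩ := h.five hψ k3
  by_contra e
  obtain ⟨α, hα⟩ : ∃ α, χ * χ = α + χ + fun _ => 1 := ⟨χ * χ - χ - fun _ => 1, by ring⟩
  obtain ⟨β, hβ⟩ : ∃ β, ψ * ψ = β + ψ + fun _ => 1 := ⟨ψ * ψ - ψ - fun _ => 1, by ring⟩
  have α1 : α 1 = 5 := by have := congrFun hα 1; simp [h3] at this; linear_combination -this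
  have β1 : β 1 = 5 := by have := congrFun hβ 1; simp [k3] at this; linear_combination -this
  have ab : α ≠ β := fun e' => e (by
    have k1 := congrFun hα g
    have k2 := congrFun hβ g
    simp [e'] at k1 k2; linear_combination k1 - k2)
  rw [show (χ * χ - χ - fun _ => 1 : G → ℂ) = α by rw [hα]; ring] at a a1
  rw [show (ψ * ψ - ψ - fun _ => 1 : G → ℂ) = β by rw [hβ]; ring] at b b1
  have n : ∀ {x y : G → ℂ} {i j : ℂ}, x 1 = i → y 1 = j → i ≠ j → x ≠ y := fun e1 e2 e3 e4 =>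
    e3 (by rw [← e1, ← e2, e4])
  have o := @isIrrCharacter_one G _
  rw [hα, hβ] at h1
  simp only [classInner_add_left, classInner_add_right, o.classInner_self, a.classInner_of_ne b ab,
    a.classInner_of_ne hψ (n α1 k3 (by norm_num)), a.classInner_of_ne o a1,
    hχ.classInner_of_ne b (n h3 β1 (by norm_num)), hχ.classInner_of_ne hψ ne,
    hχ.classInner_of_ne o (n h3 rfl (by norm_num)), o.classInner_of_ne b b1.symm,
    o.classInner_of_ne hψ (n rfl k3 (by norm_num))] at h1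
  norm_num at h1

theorem gal (hχ : IsIrrCharacter G χ) (h3 : χ 1 = 3) (σ : ℂ ≃+* ℂ) (g : G) :
    σ (χ g) * σ (χ g) - σ (χ g) = χ g * χ g - χ g ∧ (σ (χ g)).im = 0 ∧ -1 ≤ (σ (χ g)).re := by
  have h1 := hχ.map_ringHom (σ : ℂ →+* ℂ)
  have h2 : (fun g => (σ : ℂ →+* ℂ) (χ g)) 1 = 3 := by simp [h3, map_ofNat]
  exact ⟨h.five_eq h1 h2 hχ h3 g, conj_eq_self_iff_im.1 (h.real h1 h2) g,
    h.hz.re_ge h1.isCharacter h2 (h.real h1 h2) g⟩

theorem cases (hχ : IsIrrCharacter G χ) (h3 : χ 1 = 3) (g : G) :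
    (χ g * χ g - χ g - 1 = 0) ∨ (∀ σ : ℂ ≃+* ℂ, σ (χ g) = χ g) ∧
      (χ g = 3 ∨ χ g ≠ 3 ∧ (χ g * χ g - χ g - 1) ^ 2 = 1) := by
  have hi := hχ.isCharacter.isIntegral g
  obtain ⟨-, h1, h2⟩ := h.gal hχ h3 (RingEquiv.refl ℂ) g
  simp only [RingEquiv.refl_apply] at h1 h2
  by_cases e : ∀ σ : ℂ ≃+* ℂ, σ (χ g) = χ g
  · obtain ⟨n, hn⟩ := exists_int_of_forall_ringEquiv hi e
    have h4 := (Complex.re_le_norm _).trans (hχ.isCharacter.norm_le g)
    refine Or.inr ⟨e, ?_⟩
    rw [hn] at h2 h4 ⊢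
    simp [h3] at h2 h4
    have h2' : -1 ≤ n := by exact_mod_cast h2
    have h4' : n ≤ 3 := by exact_mod_cast h4
    interval_cases n <;> norm_num
  push Not at e
  obtain ⟨σ, e⟩ := e
  obtain ⟨h4, -, h5⟩ := h.gal hχ h3 σ g
  have h6 : σ (χ g) = 1 - χ g := by
    have : (σ (χ g) - χ g) * (σ (χ g) - (1 - χ g)) = 0 := by linear_combination h4
    exact sub_eq_zero.1 ((mul_eq_zero.1 this).resolve_left (sub_ne_zero.2 e))
  obtain ⟨n, hn⟩ := exists_int_of_forall_ringEquiv (α := χ g * χ g - χ g - 1)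
    (((hi.mul hi).sub hi).sub isIntegral_one) fun τ => by
      simp only [map_sub, map_mul, map_one, (h.gal hχ h3 τ g).1]
  have h7 := congrArg Complex.re hn
  rw [h6] at h5
  simp [h1] at h7 h5
  have h8 : -2 < n := by exact_mod_cast (show (-2 : ℝ) < n by nlinarith [sq_nonneg ((χ g).re - 1 / 2)])
  have h9 : n ≤ 1 := by exact_mod_cast (show (n : ℝ) ≤ 1 by nlinarith)
  have k : ∀ a b : ℤ, (χ g - a) * (χ g - b) ≠ 0 := fun a b e' => by
    rcases mul_eq_zero.1 e' with e' | e' <;> exact e (by rw [sub_eq_zero.1 e', map_intCast])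
  interval_cases n
  · exact absurd (by push_cast at hn ⊢; linear_combination hn) (k 0 1)
  · exact Or.inl (by simpa using hn)
  · exact absurd (by push_cast at hn ⊢; linear_combination hn) (k (-1) 2)

theorem index (hχ : IsIrrCharacter G χ) (h3 : χ 1 = 3) : (charKer χ).index = 60 := by
  classical
  have hr := h.real hχ h3
  obtain ⟨h5, -⟩ := h.five hχ h3
  let A := univ.filter fun g => χ g * χ g - χ g - 1 = 0
  have hK : (univ.filter fun g => χ g = 3).card = Nat.card (charKer χ) := by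
    rw [← Fintype.card_subtype, ← Nat.card_eq_fintype_card]
    exact Nat.card_congr (Equiv.subtypeEquivRight fun g => by rw [hχ.mem_charKer, h3])
  have h1 : (A.card : ℂ) = 24 * Nat.card (charKer χ) := by
    have := card_mul_classInner (χ * χ - χ - fun _ => 1) (χ * χ - χ - fun _ => 1)
    rw [h5.classInner_self, sum_congr rfl (g := fun g => 1 - (if g ∈ A then 1 else 0) +
      24 * if χ g = 3 then 1 else 0) fun g _ => ?_, sum_add_distrib, sum_sub_distrib, ← mul_sum, sum_boole,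
      sum_boole, hK] at this
    · simp at this ⊢
      linear_combination this
    simp only [Pi.sub_apply, Pi.mul_apply, map_sub, map_mul, map_one, congrFun hr g, A, mem_filter, mem_univ,
      true_and]
    rcases h.cases hχ h3 g with e | ⟨-, e | ⟨e, e'⟩⟩
    · rw [if_pos e, if_neg fun e' => by rw [e'] at e; norm_num at e, e]; ring
    · rw [e]; norm_num
    · rw [if_neg e, if_neg fun e => by rw [e] at e'; norm_num at e', ← pow_two, e']; ring
  obtain ⟨g, hg⟩ : A.Nonempty := card_pos.1 (Nat.pos_of_ne_zero fun e => by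
    simp [e, Nat.card_pos.ne'] at h1)
  have hg' := (mem_filter.1 hg).2
  obtain ⟨σ, hσ⟩ : ∃ σ : ℂ ≃+* ℂ, σ (χ g) ≠ χ g := by_contra fun e => by
    push Not at e
    obtain ⟨n, hn⟩ := exists_int_of_forall_ringEquiv (hχ.isCharacter.isIntegral g) e
    rw [hn] at hg'
    have : n * (n - 1) = 1 := by exact_mod_cast (show (n : ℂ) * (n - 1) = 1 by linear_combination hg')
    rcases Int.eq_one_or_neg_one_of_mul_eq_one this with rfl | rfl <;> omega
  have h6 : σ (χ g) = 1 - χ g := by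
    have : (σ (χ g) - χ g) * (σ (χ g) - (1 - χ g)) = 0 := by linear_combination (h.gal hχ h3 σ g).1
    exact sub_eq_zero.1 ((mul_eq_zero.1 this).resolve_left (sub_ne_zero.2 hσ))
  have h7 := hχ.map_ringHom (σ : ℂ →+* ℂ)
  have ne : χ ≠ fun g => (σ : ℂ →+* ℂ) (χ g) := fun e => hσ (congrFun e g).symm
  have h2 := card_mul_classInner (χ - fun g => (σ : ℂ →+* ℂ) (χ g)) (χ - fun g => (σ : ℂ →+* ℂ) (χ g))
  rw [sum_congr rfl (g := fun g => 5 * if g ∈ A then 1 else 0) fun x _ => ?_, ← mul_sum, sum_boole] at h2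
  · simp only [classInner_sub_left, classInner_sub_right, hχ.classInner_self, h7.classInner_self,
      hχ.classInner_of_ne h7 ne, h7.classInner_of_ne hχ ne.symm, filter_mem_eq_inter, univ_inter, h1,
      ← (charKer χ).card_mul_index, Nat.cast_mul] at h2
    have : ((charKer χ).index : ℂ) = 60 := mul_left_cancel₀ (card_ne_zero_complex (G := charKer χ))
      (by linear_combination h2 / 2)
    exact_mod_cast this
  have r2 := Complex.conj_eq_iff_im.2 (h.gal hχ h3 σ x).2.1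
  simp only [Pi.sub_apply, map_sub, congrFun hr x, A, mem_filter, mem_univ, true_and, RingHom.coe_coe, r2]
  split_ifs with e
  · have : (χ x - χ g) * (χ x - (1 - χ g)) = 0 := by linear_combination e - hg'
    have : σ (χ x) = 1 - χ x := by
      rcases mul_eq_zero.1 this with k | k <;> rw [sub_eq_zero.1 k]
      · exact h6
      · rw [map_sub, map_one, h6]
    rw [this]; linear_combination 4 * e
  · rw [((h.cases hχ h3 x).resolve_left e).1]; ring

theorem ker_eq (hχ : IsIrrCharacter G χ) (h3 : χ 1 = 3) (hψ : IsIrrCharacter G ψ) (k3 : ψ 1 = 3) :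
    charKer χ ≤ charKer ψ := fun g hg => by
  rw [hχ.mem_charKer, h3] at hg
  have h1 := h.five_eq hχ h3 hψ k3 g
  have : (ψ g - 3) * (ψ g + 2) = 0 := by rw [hg] at h1; linear_combination -h1
  rw [hψ.mem_charKer, k3]
  refine sub_eq_zero.1 ((mul_eq_zero.1 this).resolve_right fun e => ?_)
  have := h.hz.re_ge hψ.isCharacter k3 (h.real hψ k3) g
  rw [eq_neg_of_add_eq_zero_left e] at this
  norm_num at this

end Hz4

open Classical in
theorem sum_sq_ker (N : Subgroup G) [N.Normal] :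
    ∑ χ : IrrCharacter G, (if N ≤ charKer χ.1 then charDegree χ.1 ^ 2 else 0) = N.index := by
  have := sum_sq_degrees (G := G ⧸ N)
  rw [← sum_filter, sum_subtype (p := fun χ : IrrCharacter G => N ≤ charKer χ.1) _ (by simp),
    ← (irrQuotientEquiv N).sum_comp, N.index_eq_card]
  exact_mod_cast (show ((∑ χ : IrrCharacter (G ⧸ N), charDegree ((irrQuotientEquiv N χ).1 : G → ℂ) ^ 2 : ℕ) : ℂ)
    = Nat.card (G ⧸ N) by simp only [Nat.cast_sum, Nat.cast_pow, coe_deg]; exact this)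

open Classical in
theorem Hz4.card_le (h : Hz4 u) : (univ.filter fun χ : IrrCharacter G => χ.1 1 = 3).card ≤ 2 := by
  haveI := Fintype.ofFinite G
  by_contra hc
  obtain ⟨s, hs, h3⟩ := exists_subset_card_eq (show 3 ≤ _ from not_le.1 hc)
  obtain ⟨χ, hχ⟩ := card_pos.1 (show 0 < s.card by omega)
  have d3 : ∀ ψ ∈ s, ψ.1 1 = 3 := fun ψ e => (mem_filter.1 (hs e)).2
  haveI := χ.2.isCharacter.normal_charKer
  have h1 := sum_sq_ker (charKer χ.1)
  rw [h.index χ.2 (d3 χ hχ)] at h1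
  let φ : IrrCharacter G := ⟨_, (h.five χ.2 (d3 χ hχ)).1⟩
  have φ5 : φ.1 1 = 5 := by simp [φ, d3 χ hχ]; norm_num
  have n1 : irrOne G ∉ insert φ s := by
    simp only [mem_insert, not_or]
    exact ⟨fun e => by rw [← e] at φ5; norm_num at φ5, fun e => by have := d3 _ e; norm_num at this⟩
  have n2 : φ ∉ s := fun e => by have := d3 _ e; rw [φ5] at this; norm_num at this
  rw [← sum_add_sum_compl (insert (irrOne G) (insert φ s)), sum_insert n1, sum_insert n2,
    if_pos (by simp [(irrOne G).2.charKer_eq_top_iff.2 rfl]), if_pos (c := charKer χ.1 ≤ charKer φ.1) fun g hg => ?_,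
    sum_congr rfl (g := fun _ => 9) fun ψ e => by
      rw [if_pos (h.ker_eq χ.2 (d3 χ hχ) ψ.2 (d3 ψ e)), charDegree_of_eq (n := 3) (d3 ψ e)]; rfl,
    charDegree_of_eq (n := 5) φ5, charDegree_of_eq (n := 1) (χ := (irrOne G).1) (by simp)] at h1
  · simp only [sum_const, h3, smul_eq_mul] at h1
    obtain ⟨ψ, e, e'⟩ := exists_ne_zero_of_sum_ne_zero (show ∑ ψ ∈ (insert (irrOne G) (insert φ s))ᶜ,
      (if charKer χ.1 ≤ charKer ψ.1 then charDegree ψ.1 ^ 2 else 0) ≠ 0 by omega)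
    have := single_le_sum (f := fun ψ : IrrCharacter G =>
      if charKer χ.1 ≤ charKer ψ.1 then charDegree ψ.1 ^ 2 else 0) (fun _ _ => Nat.zero_le _) e
    obtain ⟨d, d3, hd, -⟩ := h.w ψ.2 (ne_irrOne.1 fun k => by simp [k] at e)
    simp only [charDegree_of_eq hd] at this e'
    split_ifs at this e'
    · nlinarith
    · exact e' rfl
  rw [χ.2.mem_charKer] at hg
  rw [φ.2.mem_charKer]
  simp [φ, hg]

end H8
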