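import Cfsg.Agent.H8.FR
import Cfsg.Agent.H8.Avg2
import Cfsg.Agent.H8.Amb
import Cfsg.Agent.H6.Triple
/-! Harada's conjecture for `p`-solvable groups (Kiyota–Okuyama, `H8.harada`).  Brauer characters
modulo a normal `p`-subgroup (`bch_quot`), the saturation criterion `isSat_of_dec`; character triple
isomorphisms (`Cor`, `exists_cor`, `exists_repGroup_dvd`). -/
open H5 H7 Cfsg Finset MonoidAlgebra
open scoped ComplexConjugate ComplexOrder
namespace H8
universe u
variable {G H : Type*} [Group G] [Group H] {M : Ideal AlgInt} {p : ℕ} [hp : Fact p.Prime] [PM p M]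

theorem bch_quot [Finite G] [Finite H] {π : G →* H} (hπ : Function.Surjective π)
    (hN : IsPGroup p π.ker) (i : IBr M G) : ∃ c : IBr M H → ℕ, ∀ y, ¬ p ∣ orderOf y →
      bch p i y = ∑ j, (c j : ℂ) * bch p j (π y) := by
  let τ := ((brep i).toRingHom.toMonoidHom.comp (MonoidAlgebra.of (F M) G)).toHomUnits
  have hτ : π.ker ≤ τ.ker := fun u hu => Units.ext (by
    have := mem_jacobson_iff.1 (single_sub_one_mem_jacobson (k := F M) hN hu) i
    rw [map_sub, map_one, sub_eq_zero] at this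
    exact this)
  let τ' := π.liftOfRightInverse _ (Function.rightInverse_surjInv hπ) ⟨τ, hτ⟩
  let σ := MonoidAlgebra.lift (F M) _ H ((Units.coeHom _).comp τ')
  have hσ : ∀ a, σ (mapDomain π a) = brep i a := fun a => by
    have : σ.comp (mapDomainAlgHom (F M) (F M) π) = brep i := by
      ext1
      · ext1 g
        simp [σ, τ', τ]
      · exact Subsingleton.elim _ _
    exact congrArg (fun f => f a) this
  have hr : RkF fun a : OG M H => (σ (redA M a.1)).rank :=
    (rkF_rank _ _).comp (σ.toRingHom.comp (redH M H))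
  refine ⟨fun j => (σ (redA M (pidem j).1)).rank, fun y hy => ?_⟩
  obtain ⟨n, c, e, -, -, h1, h2, h3⟩ := exists_spectral (M := M) hy
  have h4 := congrArg (mapDomainAlgHom ℂ ℂ π) h3
  rw [map_sum] at h4
  have k1 := fun j => (h1 j).map (mapDomainAlgHom ℂ ℂ π)
  have k2 := fun j => mapDomain_mem_OG π (h2 j)
  simp only [bch_eq_of_spectral _ (not_dvd_orderOf_map π hy) (c := c)
    (e := fun j => mapDomain π (e j)) k1 k2 (by simpa using h4), bch_eq_of_spectral _ hy h1 h2 h3,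
    mul_sum]
  rw [sum_comm]
  refine sum_congr rfl fun k _ => ?_
  have := hr.eq_sum (idem_mk (k1 k) (k2 k))
  simp only [mapDomainAlgHom_apply] at this
  rw [← hσ, ← redA_mapDomain _ (h2 k), this]
  simp only [smul_eq_mul, Nat.cast_sum, Nat.cast_mul, mul_sum]
  exact sum_congr rfl fun j _ => by ring

omit hp [PM p M] in
theorem eq_zero_of_ev [Finite G] {w : ℂ[G]} (hw : IsIdempotentElem w)
    (h : ∀ χ : IrrCharacter G, ev (χ : G → ℂ) w = 0) : w = 0 := by
  classical
  letI := Fintype.ofFinite G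
  refine eq_zero_of_idem_of_coeff_one hw ?_
  have := ev_eq_sum_irr (θ := fun g : G => if g = 1 then 1 else 0) (fun g h => by simp) w
  simpa [h, ev_apply] using this

omit hp in
theorem isSat_of_dec [Finite G] {U : Set (IrrCharacter G)} {A : Set (IBr M G)}
    (h1 : ∀ χ ∈ U, ∀ i ∉ A, dec ((χ : IrrCharacter G) : G → ℂ) i = 0)
    (h2 : ∀ χ ∉ U, ∀ i ∈ A, dec ((χ : IrrCharacter G) : G → ℂ) i = 0) : IsSat M U := by
  classical
  obtain ⟨f, hf, e⟩ := (liftH_bσ (M := M) (G := G)).exists_idem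
    (r := fun i => if i ∈ A then 1 else 0) (funext fun i => by
      simp only [Pi.mul_apply]; split_ifs <;> simp)
  have hf' : IsIdempotentElem f.1 := congrArg Subtype.val hf
  have e1 : ∀ χ : IrrCharacter G, ev (χ : G → ℂ) f.1 =
      ∑ i, if i ∈ A then (dec (χ : G → ℂ) i : ℂ) * bdeg i else 0 := fun χ => by
    rw [ev_idem χ.2.isCharacter hf' f.2]
    refine sum_congr rfl fun i _ => ?_
    rw [← bσ_apply, e]
    by_cases hi : i ∈ A <;> simp [hi]
  have k1 : eB Uᶜ * f.1 = 0 := eq_zero_of_ev ((eB_idem _).mul_of_commute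
    (Z_comm (eB_mem_Z _) _) hf') fun χ => by
      by_cases h : χ ∈ U
      · exact ev_eB_mul_of_notMem (by simpa using h) _
      · rw [ev_eB_mul_of_mem (by simpa using h), e1]
        exact sum_eq_zero fun i _ => by split_ifs with hi <;> simp [h2 χ h i, *]
  have k2 : eB U * (1 - f.1) = 0 := eq_zero_of_ev ((eB_idem _).mul_of_commute
    (Z_comm (eB_mem_Z _) _) hf'.one_sub) fun χ => by
      by_cases h : χ ∈ U
      · rw [ev_eB_mul_of_mem h, map_sub, e1, one_def, ev_single, one_mul,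
          apply_one_eq_sum (M := M) χ.2.isCharacter, ← sum_sub_distrib]
        exact sum_eq_zero fun i _ => by split_ifs with hi <;> simp [h1 χ h i, *]
      · exact ev_eB_mul_of_notMem h _
  rw [eB_compl, sub_mul, one_mul, sub_eq_zero] at k1
  rw [mul_sub, mul_one, ← k1, sub_eq_zero] at k2
  exact isSat_of_eB_mem_OG (k2 ▸ f.2)

variable (p) in
/-- `∑_{χ ∈ U} χ(1) χ` vanishes on `p`-singular elements. -/
def HV (U : Set (IrrCharacter G)) : Prop := ∀ x : G, p ∣ orderOf x → mu U x 1 = 0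

omit hp [PM p M] in
open Classical in
theorem inner_mu_one [Fintype G] (U : Set (IrrCharacter G)) (χ : IrrCharacter G) :
    classInner (fun g => mu U g 1) χ = if χ ∈ U then (χ : G → ℂ) 1 else 0 := by
  rw [mu_fun_eq]
  simp only [classInner_sum_left, classInner_smul_left, classInner_irr]
  simp [χ.2.isCharacter.conj_apply_one]

omit hp [PM p M] in
theorem isClassFunction_mu [Finite G] (U : Set (IrrCharacter G)) (y : G) :
    IsClassFunction G fun g => mu U g y := fun g h =>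
  (mu_congr_left U (isConj_iff.2 ⟨h, rfl⟩) y).symm

omit [PM p M] in
theorem HV.compl [Finite G] {U : Set (IrrCharacter G)} (h : HV p U) : HV p Uᶜ := fun x hx => by
  classical
  have h1 := mu_univ x 1
  rw [if_neg fun e => by
    rw [isConj_one_left.1 e, orderOf_one] at hx; exact hp.out.not_dvd_one hx] at h1
  rw [← h1, ← zero_add (mu Uᶜ x 1), ← h x hx, mu_eq, mu_eq, mu_eq, ← sum_add_distrib]
  exact sum_congr rfl fun χ _ => by by_cases e : χ ∈ U <;> simp [e]

theorem HV.inter [Finite G] {U B : Set (IrrCharacter G)} (h : HV p U) (hB : IsSat M B) :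
    HV p (U ∩ B) := fun x hx => by
  classical
  letI := Fintype.ofFinite G
  have e : reg p (fun g => mu U g 1) = fun g => mu U g 1 := funext fun g => by
    by_cases hg : p ∣ orderOf g
    · rw [reg_of_dvd _ hg, h g hg]
    · rw [reg_of_not_dvd _ hg]
  have := congrFun (blockPart_reg (p := p) hB fun g => mu U g 1) x
  rw [e, reg_of_dvd _ hx, blockPart_eq_sum] at this
  rw [← this, mu_eq]
  refine sum_congr rfl fun χ _ => ?_
  rw [inner_mu_one, χ.2.isCharacter.conj_apply_one]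
  by_cases h1 : χ ∈ U <;> by_cases h2 : χ ∈ B <;> simp [h1, h2, mul_comm]

omit [PM p M] in
theorem HV.quot [Finite G] [Finite H] {π : G →* H} (hπ : Function.Surjective π)
    {U : Set (IrrCharacter G)} (h : HV p U) : HV p (icomp π hπ ⁻¹' U) := fun x hx => by
  letI := Fintype.ofFinite π.ker
  obtain ⟨y, rfl⟩ := hπ x
  have := sum_mu_mul U π.ker y 1
  rw [mu_icomp hπ, map_one, sum_eq_zero fun u _ => h _ (hx.trans (by
    have := orderOf_map_dvd π (u * y)
    rwa [map_mul, MonoidHom.mem_ker.1 u.2, one_mul] at this))] at this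
  exact (mul_eq_zero.1 this.symm).resolve_left (Nat.cast_ne_zero.2 Nat.card_pos.ne')

theorem HV.nonneg [Fintype G] [Finite H] {π : G →* H} (hπ : Function.Surjective π)
    (hN : IsPGroup p π.ker) {U : Set (IrrCharacter G)} (h : HV p U)
    (hs : IsSat M (icomp π hπ ⁻¹' U)) (i : IBr M G) :
    0 ≤ classInner (fun g => mu U g 1) (bch p i) := by
  classical
  letI := Fintype.ofFinite H
  obtain ⟨c, hc⟩ := bch_quot hπ hN i
  have e : classInner (fun g => mu U g 1) (bch p i) =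
      classInner (fun g => mu U g 1) (∑ j, (c j : ℂ) • fun g => bch p j (π g)) := by
    rw [classInner, classInner]
    congr 1
    refine sum_congr rfl fun g _ => ?_
    by_cases hg : p ∣ orderOf g
    · rw [h g hg, zero_mul, zero_mul]
    · rw [hc g hg]; simp
  rw [e, classInner_sum_right]
  refine sum_nonneg fun j _ => ?_
  rw [classInner_smul_right, map_natCast]
  refine mul_nonneg (Nat.cast_nonneg _) ?_
  have e2 : classInner (fun g => mu U g 1) (fun g => bch p j (π g)) =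
      conj (blockPart (icomp π hπ ⁻¹' U) (bch p j) 1) := by
    rw [show (fun g => bch p j (π g)) = ∑ η : IrrCharacter H,
      classInner (bch p j) η • (icomp π hπ η : G → ℂ) from funext fun g => by
        rw [(isClassFunction_bch j).apply_eq_sum_irr]; simp,
      classInner_sum_right, blockPart_eq_sum, map_sum]
    refine sum_congr rfl fun η _ => ?_
    rw [classInner_smul_right, inner_mu_one]
    by_cases h1 : icomp π hπ η ∈ U <;> simp [h1, η.2.isCharacter.conj_apply_one]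
  rw [e2]
  by_cases hj : j ∈ IB M (icomp π hπ ⁻¹' U)
  · rw [hs.blockPart_bch hj, bch_one, map_natCast]; exact Nat.cast_nonneg _
  · simp [hs.blockPart_bch' hj]

theorem HV.isSat_of_quot [Finite G] [Finite H] {π : G →* H} (hπ : Function.Surjective π)
    (hN : IsPGroup p π.ker) {U : Set (IrrCharacter G)} (h : HV p U)
    (hs : IsSat M (icomp π hπ ⁻¹' U)) : IsSat M U := by
  classical
  letI := Fintype.ofFinite G
  have key : ∀ U : Set (IrrCharacter G), HV p U → IsSat M (icomp π hπ ⁻¹' U) → ∀ χ ∉ U, ∀ i,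
      classInner (fun g => mu U g 1) (bch p i) ≠ 0 →
        dec (M := M) ((χ : IrrCharacter G) : G → ℂ) i = 0 := fun U h hs χ hχ i hi => by
    have e := inner_mu_one U χ
    rw [if_neg hχ, eq_sum_pim (M := M) (isClassFunction_mu U 1) h, classInner_sum_left] at e
    simp only [classInner_smul_left, inner_pim_irr] at e
    have := (sum_eq_zero_iff_of_nonneg fun i _ =>
      mul_nonneg (h.nonneg hπ hN hs i) (Nat.cast_nonneg _)).1 e i (mem_univ i)
    exact_mod_cast (mul_eq_zero.1 this).resolve_left hi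
  refine isSat_of_dec (A := {i | classInner (fun g => mu U g 1) (bch p i) ≠ 0})
    (fun χ hχ i hi => key Uᶜ h.compl hs.compl χ (by simpa using hχ) i fun e => ?_)
    fun χ hχ i hi => key U h hs χ hχ i hi
  have e1 : classInner (fun g => mu U g 1) (bch p i) = 0 := by simpa using hi
  have e2 := congrArg₂ (· + ·) e1 e
  rw [(isClassFunction_mu _ 1).classInner_eq_sum, (isClassFunction_mu _ 1).classInner_eq_sum] at e2
  simp only [inner_mu_one, ← sum_add_distrib] at e2
  have e3 := congrArg conj ((isClassFunction_bch (p := p) i).apply_eq_sum_irr 1)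
  rw [bch_one, map_natCast, map_sum] at e3
  refine (Nat.cast_ne_zero (R := ℂ)).2 (bdeg_pos i).ne' (e3.trans (Eq.trans ?_ (e2.trans (add_zero _))))
  refine sum_congr rfl fun χ _ => ?_
  by_cases h1 : χ ∈ U <;> simp [h1, χ.2.isCharacter.conj_apply_one, mul_comm]

section triple
variable {G : Type u} [Group G] {N : Subgroup G} [N.Normal] {θ : N → ℂ} (R : H6.RepGroup N θ)
omit hp [PM p M]

/-- `β` (on `Γ / N₀`) corresponds to `χ` (on `G`) in the character triple isomorphism. -/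
def Cor (β : R.Γ ⧸ R.N₀ → ℂ) (χ : G → ℂ) : Prop := ∀ γ, χ (R.π γ) = β γ * R.τ γ

theorem exists_τ_ne_zero (hθ : IsIrrCharacter N θ) (x : R.Γ ⧸ R.N₀) :
    ∃ γ : R.Γ, (γ : R.Γ ⧸ R.N₀) = x ∧ R.τ γ ≠ 0 := by
  letI := Fintype.ofFinite R.N₀
  obtain ⟨γ, rfl⟩ := QuotientGroup.mk_surjective x
  have h := sum_coset_eq_card R.N₀ (R.irr.isCharacter.mul R.irr.isCharacter.conj) (by
    simpa [classInner] using (R.irr_N₀ hθ).classInner_self) (by
    have := R.irr.classInner_self
    simp only [classInner, Pi.mul_apply, map_one, mul_one] at this ⊢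
    rw [this]; exact one_ne_zero) γ
  obtain ⟨n, -, hn⟩ := exists_ne_zero_of_sum_ne_zero
    (h.trans_ne (Nat.cast_ne_zero.2 Nat.card_pos.ne'))
  refine ⟨n * γ, ?_, left_ne_zero_of_mul hn⟩
  rw [QuotientGroup.mk_mul, (QuotientGroup.eq_one_iff _).2 n.2, one_mul]

variable {R}

theorem mk_s (n : N) : (R.s n : R.Γ ⧸ R.N₀) = 1 :=
  (QuotientGroup.eq_one_iff (N := R.N₀) _).2 (MonoidHom.mem_range.2 ⟨n, rfl⟩)

theorem Cor.left {β β' : R.Γ ⧸ R.N₀ → ℂ} {χ : G → ℂ} (hθ : IsIrrCharacter N θ) (h : Cor R β χ)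
    (h' : Cor R β' χ) : β = β' := funext fun x => by
  obtain ⟨γ, rfl, h0⟩ := exists_τ_ne_zero R hθ x
  exact mul_right_cancel₀ h0 ((h γ).symm.trans (h' γ))

theorem Cor.right {β : R.Γ ⧸ R.N₀ → ℂ} {χ χ' : G → ℂ} (h : Cor R β χ) (h' : Cor R β χ') :
    χ = χ' := funext fun x => by
  obtain ⟨γ, rfl⟩ := R.surj x
  exact (h γ).trans (h' γ).symm

theorem Cor.one {β : R.Γ ⧸ R.N₀ → ℂ} {χ : G → ℂ} (h : Cor R β χ) : χ 1 = β 1 * θ 1 := by
  simpa [R.τ_one] using h 1

theorem Cor.ker {β : R.Γ ⧸ R.N₀ → ℂ} {χ : G → ℂ} (hθ : IsIrrCharacter N θ) (h : Cor R β χ)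
    (z : R.π.ker) : β (z : R.Γ) * R.lam z = β 1 := by
  have h1 := h z
  have h2 := R.τ_mul z 1
  rw [mul_one, R.τ_one] at h2
  rw [MonoidHom.mem_ker.1 z.2, h.one, h2, ← mul_assoc] at h1
  exact (mul_right_cancel₀ hθ.apply_one_ne_zero h1).symm

theorem exists_cor [Fintype N] (hθ : IsIrrCharacter N θ) {χ : G → ℂ} (hχ : IsIrrCharacter G χ)
    (h : classInner (fun n : N => χ n) θ ≠ 0) :
    ∃ β : IrrCharacter (R.Γ ⧸ R.N₀), Cor R β χ := by
  obtain ⟨β, h1, h2, -, h3⟩ := R.exists_beta hθ hχ h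
  obtain ⟨β', h4, h5⟩ := h1.exists_deflate _ h2
  exact ⟨⟨β', h4⟩, fun γ => by rw [h3, ← h5]⟩

theorem exists_cor' [Finite G] [Fintype N] (hθ : IsIrrCharacter N θ) {β : R.Γ ⧸ R.N₀ → ℂ}
    (hβ : IsIrrCharacter _ β) (h : ∀ z : R.π.ker, β (z : R.Γ) * R.lam z = β 1) :
    ∃ χ : IrrCharacter G, Cor R β χ ∧ classInner (fun n : N => χ.1 n) θ ≠ 0 := by
  have h1 := H6.gallagher_irr R.irr.isCharacter (R.irr_N₀ hθ)
    (hβ.comp_surjective (QuotientGroup.mk' R.N₀) (QuotientGroup.mk'_surjective _)) fun n => by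
      simp [(QuotientGroup.eq_one_iff _).2 n.2]
  obtain ⟨χ, h2, h3⟩ := H6.exists_descend_irr R.π R.surj h1 fun z hz => h1.mem_charKer.2 (by
    have h2 := R.τ_mul ⟨z, hz⟩ 1
    rw [mul_one] at h2
    simp only [Pi.mul_apply, QuotientGroup.mk'_apply, QuotientGroup.mk_one, ← h ⟨z, hz⟩, mul_assoc]
    exact congrArg _ h2)
  refine ⟨⟨χ, h2⟩, h3, ?_⟩
  have : (fun n : N => χ n) = β 1 • θ := funext fun n => by
    rw [← R.π_s, h3]
    simp [R.τ_s, mk_s]
  simp only [this, classInner_smul_left, hθ.classInner_self, mul_one]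
  exact hβ.apply_one_ne_zero

theorem card_quot_N₀ [Finite G] : Nat.card (R.Γ ⧸ R.N₀) = Nat.card R.π.ker * N.index := by
  have h1 := R.N₀.card_mul_index
  have h2 := R.π.ker.card_mul_index
  rw [Subgroup.index_ker, MonoidHom.range_eq_top.2 R.surj, Subgroup.card_top, ← h1,
    ← N.card_mul_index, ← Nat.card_congr R.equivN₀.toEquiv, mul_left_comm] at h2
  exact (Nat.eq_of_mul_eq_mul_left Nat.card_pos h2).symm

theorem exists_ker_mk {x : R.Γ} (hx : R.π x ∈ N) :
    ∃ z : R.π.ker, ((z : R.Γ) : R.Γ ⧸ R.N₀) = x :=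
  ⟨R.zeta ⟨x, hx⟩, by
    conv_rhs => rw [← show _ = x from R.zeta_mul_s ⟨x, hx⟩]
    rw [QuotientGroup.mk_mul, mk_s, mul_one]⟩

theorem mk_ker_central (z : R.π.ker) :
    ((z : R.Γ) : R.Γ ⧸ R.N₀) ∈ Subgroup.center (R.Γ ⧸ R.N₀) :=
  Subgroup.mem_center_iff.2 fun g => by
    obtain ⟨g, rfl⟩ := QuotientGroup.mk_surjective g
    rw [← QuotientGroup.mk_mul, Subgroup.mem_center_iff.1 (R.central z.2), QuotientGroup.mk_mul]

/-- A representation group whose kernel has order with the same primes as `N`. -/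
theorem exists_repGroup_dvd [Finite G] (hθ : IsIrrCharacter N θ) (hi : ∀ g, H6.cj θ g = θ) :
    ∃ R : H6.RepGroup N θ, Nat.card R.π.ker ∣ Nat.card N ^ 2 := by
  obtain ⟨d, -, hd⟩ := hθ.exists_apply_one
  obtain ⟨R, h, -⟩ := H6.exists_repGroup_det hθ hi hd 1 (Nat.card_pos (α := N)) fun n => by
    rw [← H6.coe_detHom, ← Units.val_pow_eq_pow_val, ← map_pow, pow_card_eq_one', map_one]; simp
  haveI : IsCyclic R.π.ker := isCyclic_of_injective_ringHom ((Units.coeHom ℂ).comp R.lam)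
    (Units.val_injective.comp R.lam_inj)
  refine ⟨R, ?_⟩
  rw [← IsCyclic.exponent_eq_card, sq]
  refine (Monoid.exponent_dvd_of_forall_pow_eq_one fun z => R.lam_inj ?_).trans
    (Nat.mul_dvd_mul_right (a := d) ?_ _)
  · rw [map_pow, h, map_one]
  · have := hθ.charDegree_dvd_card
    rwa [charDegree_eq hd] at this

end triple

theorem HV.ind [Fintype G] {T : Subgroup G} {B : Set (IrrCharacter T)} (hB : IsSat M B)
    (h1 : ∀ ψ ∈ B, ∃ χ : IrrCharacter G, χ.1 = indFun T ψ.1) {U : Set (IrrCharacter G)}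
    (h : HV p U) : HV p {ψ | ψ ∈ B ∧ ∃ χ ∈ U, χ.1 = indFun T ψ.1} := fun x hx => by
  classical
  have e : reg p (fun g : T => mu U g 1) = fun g : T => mu U g 1 := funext fun g => by
    by_cases hg : p ∣ orderOf g
    · rw [reg_of_dvd _ hg, h g (by simpa using hg)]
    · rw [reg_of_not_dvd _ hg]
  have := congrFun (blockPart_reg (p := p) hB fun g : T => mu U g 1) x
  rw [e, reg_of_dvd _ hx, blockPart_eq_sum] at this
  refine mul_left_cancel₀ (Nat.cast_ne_zero.2 T.index_ne_zero_of_finite : (T.index : ℂ) ≠ 0) ?_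
  rw [mul_zero, ← this, mu_eq, mul_sum]
  refine sum_congr rfl fun ψ _ => ?_
  by_cases h2 : ψ ∈ B
  · obtain ⟨χ, h3⟩ := h1 ψ h2
    rw [if_pos h2, ← frobenius_reciprocity' _ _ (isClassFunction_mu U 1), ← h3, inner_mu_one,
      ψ.2.isCharacter.conj_apply_one]
    by_cases h4 : χ ∈ U
    · rw [if_pos h4, if_pos ⟨h2, χ, h4, h3⟩, h3, indFun_apply_one]; ring
    · rw [if_neg h4, if_neg fun ⟨_, χ', h5, h6⟩ => h4 (Subtype.ext (h6.trans h3.symm) ▸ h5)]; simp
  · simp [h2]

omit [PM p M] in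
theorem exists_normal_of_central [Finite G] (hs : H4.PSol p (⊤ : Subgroup G))
    (hZ : pPrimeCore p G ≤ Subgroup.center G) (hd : p ∣ Nat.card G) : pCore p G ≠ ⊥ := by
  intro h0
  let f := QuotientGroup.mk' (pPrimeCore p G)
  have hf := QuotientGroup.mk'_surjective (pPrimeCore p G)
  obtain ⟨P, -, hP, e⟩ := H4.exists_isPGroup_map_eq f (H := ⊤) (isPGroup_pCore' (p := p))
    (by rw [← MonoidHom.range_eq_map, MonoidHom.range_eq_top.2 hf]; exact le_top)
  have h1 := H4.sup_normalizer_eq_top_of_map hP (H1.coprime_card_pPrimeCore p G)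
    (by rw [e]; infer_instance)
  haveI : P.Normal := Subgroup.normalizer_eq_top_iff.1 (eq_top_iff.2 (h1.ge.trans
    (sup_le (hZ.trans (Subgroup.center_le_normalizer _)) le_rfl)))
  have h2 := (hs.quotient (pPrimeCore p G)).centralizer_pCore_le (H1.pPrimeCore_quotient_eq_bot p G)
  rw [← e, le_bot_iff.1 ((le_pCore' hP).trans h0.le), Subgroup.map_bot, Subgroup.coe_bot,
    Subgroup.centralizer_eq_top_iff_subset.2 (by simp)] at h2
  have h3 : pPrimeCore p G = ⊤ := eq_top_iff.2 fun g _ =>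
    (QuotientGroup.eq_one_iff g).1 (h2 (Subgroup.mem_top _))
  exact not_dvd_card_pPrimeCore (h3 ▸ by simpa using hd : p ∣ Nat.card (pPrimeCore p G))

theorem harada_inv {G : Type u} [Group G] [Fintype G] (hs : H4.PSol p (⊤ : Subgroup G))
    (hd : p ∣ Nat.card G) [Fintype (pPrimeCore p G)] {θ : IrrCharacter (pPrimeCore p G)}
    (hi : ∀ g, H6.cj θ.1 g = θ.1)
    (IH : ∀ (X : Type u) [Group X] [Finite X], (Nat.card X).factorization p =
      (Nat.card G).factorization p → H4.PSol p (⊤ : Subgroup X) → pCore p X ≠ ⊥ →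
      ∀ U : Set (IrrCharacter X), HV p U → IsSat M U)
    {U : Set (IrrCharacter G)} (h : HV p U)
    (hU : ∀ χ ∈ U, classInner (fun n : pPrimeCore p G => χ.1 n) θ.1 ≠ 0) {χ ψ : IrrCharacter G}
    (hχ : χ ∈ U) (hψ : classInner (fun n : pPrimeCore p G => ψ.1 n) θ.1 ≠ 0) : ψ ∈ U := by
  classical
  obtain ⟨R, hR⟩ := exists_repGroup_dvd θ.2 hi
  have hN := not_dvd_card_pPrimeCore (p := p) (G := G)
  have hK : ¬ p ∣ Nat.card R.π.ker := fun e => hN (hp.out.dvd_of_dvd_pow (e.trans hR))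
  have hc : (Nat.card (R.Γ ⧸ R.N₀)).factorization p = (Nat.card G).factorization p := by
    rw [card_quot_N₀, ← (pPrimeCore p G).card_mul_index,
      Nat.factorization_mul Nat.card_pos.ne' Subgroup.index_ne_zero_of_finite,
      Nat.factorization_mul Nat.card_pos.ne' Subgroup.index_ne_zero_of_finite]
    simp only [Finsupp.add_apply, Nat.factorization_eq_zero_of_not_dvd hN,
      Nat.factorization_eq_zero_of_not_dvd hK]
  have hs' : H4.PSol p (⊤ : Subgroup (R.Γ ⧸ R.N₀)) := (H4.PSol.of_map R.π (hs.mono le_top)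
    (H4.pSol_of_coprime (by rw [top_inf_eq]; exact (hp.out.coprime_iff_not_dvd.2 hK).symm))).quotient _
  have hO : ∀ x ∈ pPrimeCore p (R.Γ ⧸ R.N₀), ∃ z : R.π.ker, ((z : R.Γ) : R.Γ ⧸ R.N₀) = x := by
    intro x hx
    obtain ⟨γ, rfl⟩ := QuotientGroup.mk_surjective x
    refine exists_ker_mk (H1.map_pPrimeCore_le R.surj ⟨γ, ?_, rfl⟩)
    rw [← H1.comap_pPrimeCore_quotient R.N₀ (by
      rw [← Nat.card_congr R.equivN₀.toEquiv]; exact H1.coprime_card_pPrimeCore p G)]
    exact hx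
  have hZ : pPrimeCore p (R.Γ ⧸ R.N₀) ≤ Subgroup.center _ := fun x hx => by
    obtain ⟨z, rfl⟩ := hO x hx
    exact mk_ker_central z
  obtain ⟨V, mV⟩ : ∃ V : Set (IrrCharacter (R.Γ ⧸ R.N₀)), ∀ β, β ∈ V ↔ ∃ χ ∈ U, Cor R β.1 χ.1 :=
    ⟨{β | ∃ χ ∈ U, Cor R β.1 χ.1}, fun _ => Iff.rfl⟩
  have hV : HV p V := fun x hx => by
    obtain ⟨γ, rfl, h0⟩ := exists_τ_ne_zero R θ.2 x
    have h1 : p ∣ orderOf (R.π γ) := by
      refine (hp.out.dvd_mul.1 (hx.trans ((orderOf_map_dvd (QuotientGroup.mk' R.N₀) γ).trans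
        (orderOf_dvd_of_pow_eq_one (n := orderOf (R.π γ) * Nat.card R.π.ker) ?_)))).resolve_right hK
      rw [pow_mul]
      exact congrArg Subtype.val (pow_card_eq_one' (G := R.π.ker) (x := ⟨_, by
        rw [MonoidHom.mem_ker, map_pow, pow_orderOf_eq_one]⟩))
    refine mul_right_cancel₀ (mul_ne_zero h0 θ.2.apply_one_ne_zero) ?_
    rw [zero_mul, ← h _ h1, mu_eq, mu_eq, ← sum_filter, ← sum_filter, sum_mul]
    symm
    choose f hf using fun χ hχ => exists_cor (R := R) θ.2 (Subtype.property χ) (hU χ hχ)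
    refine sum_bij (fun χ hχ => f χ (mem_filter.1 hχ).2)
      (fun χ hχ => mem_filter.2 ⟨mem_univ _, (mV _).2 ⟨χ, (mem_filter.1 hχ).2, hf _ _⟩⟩)
      (fun χ hχ χ' hχ' e => Subtype.ext ((hf _ (mem_filter.1 hχ).2).right
        (by rw [e]; exact hf _ _))) (fun β hβ => ?_) fun χ hχ => ?_
    · obtain ⟨χ, h2, h3⟩ := (mV _).1 (mem_filter.1 hβ).2
      exact ⟨χ, mem_filter.2 ⟨mem_univ _, h2⟩, Subtype.ext ((hf _ _).left θ.2 h3)⟩
    · rw [χ.2.isCharacter.conj_apply_one, (f χ _).2.isCharacter.conj_apply_one,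
        hf _ (mem_filter.1 hχ).2 γ, (hf _ (mem_filter.1 hχ).2).one]
      ring
  have hsat := IH _ hc hs' (exists_normal_of_central hs' hZ
    (Nat.dvd_of_factorization_pos (hc ▸ (hp.out.factorization_pos_of_dvd Nat.card_pos.ne' hd).ne'))) V hV
  obtain ⟨β, hβ⟩ := exists_cor (R := R) θ.2 χ.2 (hU χ hχ)
  obtain ⟨β', hβ'⟩ := exists_cor (R := R) θ.2 ψ.2 hψ
  letI := Fintype.ofFinite (R.Γ ⧸ R.N₀)
  letI := Fintype.ofFinite (pPrimeCore p (R.Γ ⧸ R.N₀))
  obtain ⟨ν, h1, h2⟩ := H6.exists_irr_under (N := pPrimeCore p (R.Γ ⧸ R.N₀)) β.2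
  obtain ⟨B, h3, h4, -⟩ := Cfsg.Agent.S4492.result p M PM.out (H4.isPSolvable_iff.2 hs') _ rfl ⟨ν, h1⟩
    fun g n => congrArg ν (Subtype.ext (by simp [Subgroup.mem_center_iff.1 (hZ n.2) g]))
  obtain ⟨ξ, h5, h6⟩ := (mV β').1 (hsat.subset_of_mem h3 ((mV _).2 ⟨χ, hχ, hβ⟩) ((h4 β).2 h2)
    ((h4 β').2 (by
    have : (fun n : pPrimeCore p (R.Γ ⧸ R.N₀) => β'.1 n) =
        (β'.1 1 / β.1 1) • fun n : pPrimeCore p (R.Γ ⧸ R.N₀) => β.1 n := funext fun n => by
      obtain ⟨z, hz⟩ := hO n n.2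
      rw [Pi.smul_apply, smul_eq_mul, ← hz, ← hβ.ker θ.2 z, ← hβ'.ker θ.2 z]
      have := left_ne_zero_of_mul ((hβ.ker θ.2 z).trans_ne β.2.apply_one_ne_zero)
      field_simp
    rw [this, classInner_smul_left]
    exact mul_ne_zero (div_ne_zero β'.2.apply_one_ne_zero β.2.apply_one_ne_zero) h2)))
  rwa [show ψ = ξ from Subtype.ext (hβ'.right h6)]

theorem harada_aux (a : ℕ) : ∀ (n : ℕ) (G : Type u) [Group G] [Finite G],
    (Nat.card G).factorization p ≤ a → Nat.card G = n → H4.PSol p (⊤ : Subgroup G) →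
      ∀ U : Set (IrrCharacter G), HV p U → IsSat M U := by
  induction a using Nat.strong_induction_on with
  | _ a IH =>
  have A : ∀ (X : Type u) [Group X] [Finite X], (Nat.card X).factorization p ≤ a →
      H4.PSol p (⊤ : Subgroup X) → pCore p X ≠ ⊥ →
      ∀ U : Set (IrrCharacter X), HV p U → IsSat M U := fun X _ _ h1 hs h0 U h => by
    have hf := QuotientGroup.mk'_surjective (pCore p X)
    refine h.isSat_of_quot hf (by rw [QuotientGroup.ker_mk']; exact isPGroup_pCore')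
      (IH _ (lt_of_lt_of_le ?_ h1) _ _ le_rfl rfl (hs.quotient _) _ (h.quot hf))
    obtain ⟨k, hk⟩ := IsPGroup.iff_card.1 (isPGroup_pCore' (p := p) (G := X))
    rw [← (pCore p X).card_mul_index,
      Nat.factorization_mul Nat.card_pos.ne' Subgroup.index_ne_zero_of_finite, hk,
      Finsupp.add_apply, hp.out.factorization_pow, Finsupp.single_eq_same]
    refine lt_add_of_pos_left _ (Nat.pos_of_ne_zero fun e => h0 ?_)
    rwa [e, pow_zero, Subgroup.card_eq_one] at hk
  intro n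
  induction n using Nat.strong_induction_on with
  | _ n IH2 =>
  intro G _ _ h1 hn hs U h χ hχ ψ e
  by_cases hd : p ∣ Nat.card G
  swap
  · exact isSat_of_not_dvd hd U χ hχ ψ e
  letI := Fintype.ofFinite G
  letI := Fintype.ofFinite (pPrimeCore p G)
  have hB := isPBlock_blockOf (M := M) χ
  have hχB := mem_blockOf_self (M := M) χ
  have hψB := mem_of_sameBlock hB hχB e
  obtain ⟨θ, hi, h2⟩ | ⟨T, hT, -, B, h2, -, h3, h4⟩ :=
    fong_red (pPrimeCore p G) not_dvd_card_pPrimeCore hB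
  · exact (harada_inv hs hd hi (fun X _ _ k => A X (k.le.trans h1)) (h.inter (isSat_of_isPBlock hB))
      (fun ξ hξ => h2 ξ hξ.2) ⟨hχ, hχB⟩ (h2 ψ hψB)).1
  · have h5 := IH2 _ (hn ▸ (lt_of_le_of_ne (Subgroup.card_le_card_group T) fun e =>
      hT (Subgroup.eq_top_of_card_eq T e))) T
      (le_trans ((Nat.factorization_le_iff_dvd Nat.card_pos.ne' Nat.card_pos.ne').2
        T.card_subgroup_dvd_card p) h1) rfl (H4.pSol_top_iff.2 (hs.mono le_top)) _
      (h.ind (isSat_of_isPBlock h2) fun ψ hψ => (h3 ψ hψ).imp fun _ h => h.2)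
    obtain ⟨χ', k1, k2, -⟩ := h4 χ hχB
    obtain ⟨ψ', k3, k4, -⟩ := h4 ψ hψB
    obtain ⟨-, ξ, k5, k6⟩ := h5.subset_of_mem h2 ⟨k1, χ, hχ, k2⟩ k1 k3
    rwa [show ψ = ξ from Subtype.ext (k4.trans k6.symm)]

/-- Harada's conjecture for `p`-solvable groups. -/
theorem harada [Finite G] (hs : H4.PSol p (⊤ : Subgroup G)) {U : Set (IrrCharacter G)}
    (h : HV p U) : IsSat M U := harada_aux _ _ G le_rfl rfl hs U h

end H8
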