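import Cfsg.Agent.H8.RealC
import Cfsg.Agent.H7.Syl
import Cfsg.Agent.H19.Infl

/-! Counting characters of `p'`-degree through a normal subgroup (ambient characters):
`Ov` (lies over), Clifford bijection `card_cliff`, orbit count `count_mk`, the step of a
`p`-solvable series `exists_step`, restriction bijection `res_bij` for `K = L H`. -/

set_option autoImplicit false
open H5 H19 Cfsg
open scoped ComplexConjugate

namespace H8

variable {Γ : Type*} [Group Γ]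

theorem exists_step [Finite Γ] {p : ℕ} (h : IsPSolvable p Γ) {L G : Subgroup Γ} (hLG : L ≤ G)
    (hn : G ≤ Subgroup.normalizer (L : Set Γ)) (hne : L ≠ G) :
    ∃ K : Subgroup Γ, L < K ∧ K ≤ G ∧ G ≤ Subgroup.normalizer (K : Set Γ) ∧
      ((∃ m, L.relIndex K ∣ p ^ m) ∨ (L.relIndex K).Coprime p) := by
  classical
  obtain ⟨n, H, h0, h1, hm, hN, hi⟩ := h
  have ex : ∃ i : ℕ, ∃ hi : i < n + 1, ¬ G ⊓ H ⟨i, hi⟩ ≤ L :=
    ⟨n, Nat.lt_succ_self n, by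
      have : H ⟨n, Nat.lt_succ_self n⟩ = ⊤ := h1
      rw [this, inf_top_eq]; exact fun h => hne (le_antisymm hLG h)⟩
  obtain ⟨hlt, hj⟩ := Nat.find_spec ex
  obtain ⟨j, e⟩ : ∃ j, Nat.find ex = j + 1 := by
    refine Nat.exists_eq_succ_of_ne_zero fun e => hj ?_
    have : H ⟨Nat.find ex, hlt⟩ = ⊥ := by rw [← h0]; congr 1; exact Fin.ext e
    rw [this, inf_bot_eq]; exact bot_le
  have hj' : j < n := by omega
  have hprev : G ⊓ H (Fin.castSucc ⟨j, hj'⟩) ≤ L := by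
    by_contra h
    exact Nat.find_min ex (m := j) (by omega) ⟨by omega, h⟩
  have hcur : ¬ G ⊓ H (Fin.succ ⟨j, hj'⟩) ≤ L := by
    have : H (Fin.succ ⟨j, hj'⟩) = H ⟨Nat.find ex, hlt⟩ := by congr 1; exact Fin.ext e.symm
    rwa [this]
  set A := H (Fin.castSucc ⟨j, hj'⟩)
  set B := H (Fin.succ ⟨j, hj'⟩)
  haveI : A.Normal := hN _
  haveI : B.Normal := hN _
  have hGB : G ≤ Subgroup.normalizer ((G ⊓ B : Subgroup Γ) : Set Γ) := by
    rw [inf_comm]; exact le_normalizer_inf B G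
  refine ⟨L ⊔ G ⊓ B, lt_of_le_of_ne le_sup_left fun e => hcur (le_sup_right.trans e.ge),
    sup_le hLG inf_le_left, ?_, ?_⟩
  · refine le_normalizer_of_forall fun g hg x hx => ?_
    obtain ⟨a, ha, b, hb, rfl⟩ := (mem_sup_iff_of_le_normalizer (inf_le_left.trans hn)).1 hx
    have := Subgroup.mul_mem _ (Subgroup.mem_sup_left (T := G ⊓ B)
      (conj_mem_of_le_normalizer hn hg ha))
      (Subgroup.mem_sup_right (S := L) (conj_mem_of_le_normalizer hGB hg hb))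
    convert this using 1; group
  · have e1 : L.relIndex (L ⊔ G ⊓ B) ∣ A.relIndex B := by
      haveI := normal_subgroupOf_of_le_normalizer hn
      have a1 : L.relIndex (L ⊔ G ⊓ B) = L.relIndex (G ⊓ B) := by
        have hle : L ⊔ G ⊓ B ≤ G := sup_le hLG inf_le_left
        rw [← Subgroup.relIndex_subgroupOf hle, ← Subgroup.relIndex_subgroupOf
          (inf_le_left : G ⊓ B ≤ G), Subgroup.subgroupOf_sup hLG
          inf_le_left, Subgroup.relIndex_sup_left]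
      have a2 : L.relIndex (G ⊓ B) ∣ (G ⊓ A).relIndex (G ⊓ B) :=
        Subgroup.relIndex_dvd_of_le_left _ hprev
      have a3 : (G ⊓ A).relIndex (G ⊓ B) = A.relIndex (G ⊓ B) := by
        rw [← Subgroup.inf_relIndex_right, ← Subgroup.inf_relIndex_right A]
        congr 1
        ext x; simp only [Subgroup.mem_inf]; tauto
      have a4 : A.relIndex (G ⊓ B) ∣ A.relIndex B := by
        rw [← Subgroup.relIndex_subgroupOf (inf_le_right : G ⊓ B ≤ B)]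
        exact Subgroup.relIndex_dvd_index_of_normal _ _
      rw [a1]; exact a2.trans (a3 ▸ a4)
    rcases hi ⟨j, hj'⟩ with ⟨m, hm⟩ | hc
    · exact Or.inl ⟨m, hm ▸ e1⟩
    · exact Or.inr (hc.coprime_dvd_left e1)

theorem relIndex_dvd_of_nml {L K : Subgroup Γ} (hn : K ≤ Subgroup.normalizer (L : Set Γ))
    {H : Subgroup Γ} (hH : H ≤ K) : L.relIndex H ∣ L.relIndex K := by
  haveI := normal_subgroupOf_of_le_normalizer hn
  rw [← Subgroup.relIndex_subgroupOf hH]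
  exact Subgroup.relIndex_dvd_index_of_normal _ _

theorem sylIn_iff_relIndex [Finite Γ] {p : ℕ} [hp : Fact p.Prime] {S G : Subgroup Γ} :
    H7.SylIn p S G ↔ S ≤ G ∧ IsPGroup p S ∧ ¬ p ∣ S.relIndex G := by
  constructor
  · rintro ⟨P, rfl⟩
    refine ⟨Subgroup.map_subtype_le _, P.isPGroup'.map _, ?_⟩
    rw [Subgroup.relIndex, ← Subgroup.comap_subtype, Subgroup.comap_map_eq_self_of_injective
      G.subtype_injective]
    exact P.not_dvd_index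
  · rintro ⟨h1, h2, h3⟩
    refine H7.sylIn_of_maximal h1 h2 fun Q hQ a b => ?_
    obtain ⟨k, hk⟩ := (hQ.to_subgroup (S.subgroupOf Q) |> fun _ => hQ.index (S.subgroupOf Q))
    have : S.relIndex Q ∣ S.relIndex G := ⟨_, (Subgroup.relIndex_mul_relIndex S Q G a b).symm⟩
    have k0 : k = 0 := by
      by_contra h
      exact h3 ((dvd_pow_self p h).trans (hk ▸ this))
    subst k0
    exact le_antisymm (Subgroup.relIndex_eq_one.1 (by simpa using hk)) a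

theorem exists_norm_cjf [Finite Γ] {p : ℕ} [Fact p.Prime] {S G : Subgroup Γ}
    (hS : H7.SylIn p S G) {θ : Γ → ℂ} {g : Γ} (hg : g ∈ G) (h1 : S ≤ stabf θ)
    (h2 : S ≤ stabf (cjf g θ)) :
    ∃ n ∈ G ⊓ Subgroup.normalizer (S : Set Γ), cjf n θ = cjf g θ := by
  have a1 : H7.SylIn p S (G ⊓ stabf θ) := hS.of_le (le_inf hS.le h1) inf_le_left
  have a2 : H7.SylIn p (H7.cj g S) (G ⊓ stabf θ) := by
    have := hS.cj g
    rw [H7.cj_eq_of_mem hg] at this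
    refine this.of_le (le_inf this.le (H7.cj_le_iff'.2 fun s hs => ?_)) inf_le_left
    have e := mem_stabf.1 (h2 hs)
    rw [mem_stabf, cjf_mul, cjf_mul, e, cjf_inv_cjf]
  obtain ⟨t, ht, e⟩ := a1.exists_cj_eq a2
  rw [H7.cj_cj] at e
  exact ⟨t * g, ⟨G.mul_mem ht.1 hg, H7.mem_normalizer_of_cj_eq e⟩, by
    rw [cjf_mul, mem_stabf.1 ht.2]⟩

open Classical in
theorem sum_stab_orbit [Finite Γ] (N : Subgroup Γ) (θ₀ : Γ → ℂ) (Y : Finset (Γ → ℂ))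
    (h : ∀ θ, θ ∈ Y ↔ ∃ n ∈ N, cjf n θ₀ = θ) :
    ∑ θ ∈ Y, Nat.card (N ⊓ stabf θ : Subgroup Γ) = Nat.card N := by
  rw [← card_els N, Finset.card_eq_sum_card_fiberwise (f := fun n => cjf n θ₀) (t := Y)
    (fun n hn => (h _).2 ⟨n, mem_els.1 hn, rfl⟩)]
  refine Finset.sum_congr rfl fun θ hθ => ?_
  obtain ⟨n, hn, rfl⟩ := (h θ).1 hθ
  rw [← card_els]
  refine Finset.card_bij (fun m _ => n * m) (fun m hm => ?_) (fun a _ b _ e => by simpa using e)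
    fun m hm => ⟨n⁻¹ * m, ?_, by simp⟩
  · have := mem_els.1 hm
    simp only [Finset.mem_filter, mem_els]
    exact ⟨N.mul_mem hn this.1, by rw [cjf_mul]; exact this.2⟩
  · simp only [Finset.mem_filter, mem_els] at hm
    refine mem_els.2 ⟨N.mul_mem (N.inv_mem hn) hm.1, ?_⟩
    change cjf _ _ = _
    rw [cjf_mul, cjf_inv_cjf, hm.2]

variable [Fintype Γ]

/-- `χ` lies over the character `θ` of `N`. -/
def Ov (N : Subgroup Γ) (χ θ : Γ → ℂ) : Prop := ip N (res N χ) θ ≠ 0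

variable {N T G K L H S : Subgroup Γ} {θ χ ψ ψ' φ : Γ → ℂ}

theorem Ov.cjf {x : Γ} (hx : x ∈ Subgroup.normalizer (N : Set Γ)) (h : Ov N χ θ) :
    Ov N (cjf x χ) (cjf x θ) := by
  unfold Ov at *
  rwa [← cjf_res hx, ip_cjf]

theorem Ov.star (h : Ov N χ θ) : Ov N (star χ) (star θ) := by
  unfold Ov at *
  rwa [ip_res_star, map_ne_zero]

theorem Ov.trans (hNK : N ≤ K) (hKG : K ≤ G) (hχ : χ ∈ chars G) (hψ : ψ ∈ irr K)
    (hθ : θ ∈ chars N) (h1 : Ov K χ ψ) (h2 : Ov N ψ θ) : Ov N χ θ :=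
  ip_res_ne_zero_trans hNK hKG hχ hψ hθ h1 h2

theorem ov_self (hθ : θ ∈ irr N) : Ov N θ θ := by
  unfold Ov; rw [res_eq_self (irr_supp hθ), ip_irr_self hθ]; exact one_ne_zero

theorem Ov.eq (hχ : χ ∈ irr N) (hθ : θ ∈ irr N) (h : Ov N χ θ) : χ = θ := by
  unfold Ov at h; rw [res_eq_self (irr_supp hχ)] at h; exact irr_eq_of_ip_ne_zero hχ hθ h

theorem ov_of_res (hθ : θ ∈ irr N) (h : res N χ = θ) : Ov N χ θ := by
  unfold Ov; rw [h, ip_irr_self hθ]; exact one_ne_zero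

theorem ov_res (hNK : N ≤ K) : Ov N (res K χ) θ ↔ Ov N χ θ := by
  unfold Ov; rw [res_res hNK]

theorem exists_ov_under (hNG : N ≤ G) (hχ : χ ∈ irr G) : ∃ θ ∈ irr N, Ov N χ θ := by
  refine exists_irr_ip_ne_zero (res_mem_cf hNG (cf_of_irr hχ)) fun h => ?_
  have := congrFun h 1
  rw [res_one] at this
  exact irr_apply_one_ne_zero hχ this

theorem exists_ov_mid (hNK : N ≤ K) (hKG : K ≤ G) (hχ : χ ∈ irr G) (h : Ov N χ θ) :
    ∃ ψ ∈ irr K, Ov K χ ψ ∧ Ov N ψ θ := by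
  by_contra hc
  push Not at hc
  apply h
  rw [← res_res hNK, cf_eq_sum (res_mem_cf hKG (cf_of_irr hχ)), map_sum, ip_sum_left]
  refine Finset.sum_eq_zero fun ψ hψ => ?_
  rw [map_smul, ip_smul_left]
  by_cases h1 : Ov K χ ψ
  · have := hc ψ hψ h1
    unfold Ov at this; push Not at this
    rw [this, mul_zero]
  · unfold Ov at h1; push Not at h1
    rw [h1, zero_mul]

theorem Ov.cjf_right (hn : G ≤ Subgroup.normalizer (N : Set Γ)) (hχ : χ ∈ irr G) {g : Γ}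
    (hg : g ∈ G) (h : Ov N χ θ) : Ov N χ (H8.cjf g θ) := by
  unfold Ov at *; rwa [ip_res_cjf hn hχ hg]

theorem cliff_surj (hNT : N ≤ T) (hTG : T ≤ G) (hn : G ≤ Subgroup.normalizer (N : Set Γ))
    (hθ : θ ∈ irr N) (hT : G ⊓ stabf θ ≤ T) (hχ : χ ∈ irr G) (h : Ov N χ θ) :
    ∃ ψ ∈ irr T, Ov N ψ θ ∧ ind T G ψ = χ := by
  obtain ⟨ψ, hψ, h1, h2⟩ := exists_ov_mid hNT hTG hχ h
  refine ⟨ψ, hψ, h2, irr_eq_of_ip_ne_zero
    (ind_mem_irr_of_inertia hNT hTG hn hθ hT hψ h2).1 hχ ?_⟩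
  rw [ip_ind_res (cf_of_irr hψ) (cf_of_irr hχ)]
  exact fun e => h1 (ip_comm_of_zero e)

theorem cliff_inj (hNT : N ≤ T) (hTG : T ≤ G) (hn : G ≤ Subgroup.normalizer (N : Set Γ))
    (hθ : θ ∈ irr N) (hT : G ⊓ stabf θ ≤ T) (hψ : ψ ∈ irr T) (h : Ov N ψ θ) (hψ' : ψ' ∈ irr T)
    (h' : Ov N ψ' θ) (e : ind T G ψ = ind T G ψ') : ψ = ψ' := by
  haveI := normal_subgroupOf_of_le_normalizer hn
  have := Fintype.ofFinite G
  have := Fintype.ofFinite (N.subgroupOf G)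
  have hNG := hNT.trans hTG
  have h1 := H6.corr_inj (isIrr_subgroupOf hNG hθ) (T := T.subgroupOf G)
    (fun g hg => hT ⟨g.2, (mem_inertia_subgroupOf hNG hn (irr_supp hθ) g).1 hg⟩)
    (fun n hn => hNT hn) (isIrr_subgroupOf hTG hψ) (isIrr_subgroupOf hTG hψ')
    (by unfold Ov at h; rwa [← classInner_subgroupOf hNG] at h)
    (by unfold Ov at h'; rwa [← classInner_subgroupOf hNG] at h')
    (by rw [indFun_subgroupOf hTG (irr_supp hψ), indFun_subgroupOf hTG (irr_supp hψ'), e])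
  exact eq_of_eqOn (irr_supp hψ) (irr_supp hψ') fun x hx => congrFun h1 ⟨⟨x, hTG hx⟩, hx⟩

open Classical in
/-- number of irreducible characters of `G` with a property -/
noncomputable def cnt (G : Subgroup Γ) (A : (Γ → ℂ) → Prop) : ℕ := ((irr G).filter A).card

theorem cnt_bij {A B : (Γ → ℂ) → Prop} (f : (Γ → ℂ) → Γ → ℂ)
    (h1 : ∀ χ ∈ irr G, A χ → f χ ∈ irr H ∧ B (f χ))
    (h2 : ∀ χ ∈ irr G, A χ → ∀ χ' ∈ irr G, A χ' → f χ = f χ' → χ = χ')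
    (h3 : ∀ ψ ∈ irr H, B ψ → ∃ χ ∈ irr G, A χ ∧ f χ = ψ) : cnt G A = cnt H B := by
  classical
  unfold cnt
  refine Finset.card_bij (fun ψ _ => f ψ) (fun ψ hψ => ?_) (fun a ha b hb e => ?_)
    fun χ hχ => ?_ <;> simp only [Finset.mem_filter] at *
  · exact h1 _ hψ.1 hψ.2
  · exact h2 _ ha.1 ha.2 _ hb.1 hb.2 e
  · obtain ⟨a, b, c, d⟩ := h3 _ hχ.1 hχ.2
    exact ⟨a, ⟨b, c⟩, d⟩

theorem cnt_congr {A B : (Γ → ℂ) → Prop} (h : ∀ χ ∈ irr G, A χ ↔ B χ) : cnt G A = cnt G B :=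
  cnt_bij id (fun χ a b => ⟨a, (h χ a).1 b⟩) (fun _ _ _ _ _ _ e => e)
    fun χ a b => ⟨χ, a, (h χ a).2 b, rfl⟩

theorem cnt_ne_zero {A : (Γ → ℂ) → Prop} : cnt G A ≠ 0 ↔ ∃ χ ∈ irr G, A χ := by
  simp [cnt]

theorem cnt_eq_zero {A : (Γ → ℂ) → Prop} : cnt G A = 0 ↔ ∀ χ ∈ irr G, ¬ A χ := by
  simp [cnt]

theorem cnt_eq_one {A : (Γ → ℂ) → Prop} (hχ : χ ∈ irr G) (h : A χ)
    (hu : ∀ ψ ∈ irr G, A ψ → ψ = χ) : cnt G A = 1 := by
  classical
  refine Finset.card_eq_one.2 ⟨χ, Finset.eq_singleton_iff_unique_mem.2 ⟨?_, fun ψ hψ => ?_⟩⟩ <;>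
    simp only [Finset.mem_filter] at *
  exacts [⟨hχ, h⟩, hu _ hψ.1 hψ.2]

theorem cnt_eq_card (A : (Γ → ℂ) → Prop) : cnt G A = Nat.card {χ // χ ∈ irr G ∧ A χ} := by
  classical
  rw [cnt, ← Nat.card_eq_finsetCard]
  exact Nat.card_congr (Equiv.subtypeEquivRight fun χ => by simp)

theorem cnt_typed (P : IrrCharacter G → Prop) (A : (Γ → ℂ) → Prop)
    (h : ∀ χ : IrrCharacter G, P χ ↔ A (extendByZero G χ)) :
    Nat.card {χ : IrrCharacter G // P χ} = cnt G A := by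
  rw [cnt_eq_card, Glaub.card_irr_subtype G P A h]

theorem cnt_top (P : IrrCharacter Γ → Prop) (A : (Γ → ℂ) → Prop)
    (h : ∀ χ : IrrCharacter Γ, P χ ↔ A χ) :
    Nat.card {χ : IrrCharacter Γ // P χ} = cnt ⊤ A := by
  rw [cnt_eq_card]
  exact Nat.card_congr ⟨fun χ => ⟨χ.1.1, mem_irr_top.2 χ.1.2, (h _).1 χ.2⟩,
    fun χ => ⟨⟨χ.1, mem_irr_top.1 χ.2.1⟩, (h _).2 χ.2.2⟩, fun _ => rfl, fun _ => rfl⟩

theorem forall_of_cnt_le {A B : (Γ → ℂ) → Prop} (h : ∀ χ ∈ irr G, A χ → B χ)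
    (hc : cnt G B ≤ cnt G A) : ∀ χ ∈ irr G, B χ → A χ := by
  classical
  intro χ a b
  have := Finset.eq_of_subset_of_card_le (s := (irr G).filter A) (t := (irr G).filter B)
    (fun ψ => by simp only [Finset.mem_filter]; exact fun c => ⟨c.1, h _ c.1 c.2⟩)
    (by unfold cnt at hc; convert hc)
  exact (Finset.mem_filter.1 (this ▸ Finset.mem_filter.2 ⟨a, b⟩ : χ ∈ (irr G).filter A)).2

theorem card_cliff (hNT : N ≤ T) (hTG : T ≤ G) (hn : G ≤ Subgroup.normalizer (N : Set Γ))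
    (hθ : θ ∈ irr N) (hT : G ⊓ stabf θ ≤ T) (A B : (Γ → ℂ) → Prop)
    (h : ∀ ψ ∈ irr T, Ov N ψ θ → (B ψ ↔ A (ind T G ψ))) :
    cnt G (fun χ => Ov N χ θ ∧ A χ) = cnt T fun ψ => Ov N ψ θ ∧ B ψ := by
  symm
  refine cnt_bij (ind T G) (fun ψ h1 ⟨h2, h3⟩ => ?_)
    (fun a h1 h2 b h3 h4 e => cliff_inj hNT hTG hn hθ hT h1 h2.1 h3 h4.1 e)
    fun χ h1 ⟨h2, h3⟩ => ?_
  · have := ind_mem_irr_of_inertia hNT hTG hn hθ hT h1 h2
    exact ⟨this.1, by unfold Ov; rw [this.2]; exact h2, (h ψ h1 h2).1 h3⟩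
  · obtain ⟨ψ, a, b, rfl⟩ := cliff_surj hNT hTG hn hθ hT h1 h2
    exact ⟨ψ, a, ⟨b, (h ψ a b).2 h3⟩, rfl⟩

theorem ind_of_stab (hLK : L ≤ K) (h : K ≤ stabf θ) : ind L K θ = (L.relIndex K : ℂ) • θ := by
  ext g
  rw [ind_apply', Finset.sum_congr (f := fun x => θ (x * g * x⁻¹)) rfl
    fun x hx => congrFun (mem_stabf.1 (h (mem_els.1 hx))) g,
    sum_els_const, card_eq_relIndex_mul hLK, Pi.smul_apply, smul_eq_mul]
  have := card_ne_zero L
  push_cast; field_simp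

theorem ov_iff_ind (hθ : θ ∈ cf L) (hχ : χ ∈ cf K) : Ov L χ θ ↔ ip K (ind L K θ) χ ≠ 0 := by
  rw [ip_ind_res hθ hχ]
  exact ⟨fun h e => h (ip_comm_of_zero e), fun h e => h (ip_comm_of_zero e)⟩

omit [Fintype Γ] in
theorem relIndex_inf_of_sup (hLK : L ≤ K) (hHK : H ≤ K)
    (hn : K ≤ Subgroup.normalizer (L : Set Γ)) (hs : K ≤ L ⊔ H) :
    (L ⊓ H).relIndex H = L.relIndex K := by
  haveI := normal_subgroupOf_of_le_normalizer hn
  have e : K = L ⊔ H := le_antisymm hs (sup_le hLK hHK)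
  rw [Subgroup.inf_relIndex_right, ← Subgroup.relIndex_subgroupOf hHK,
    ← Subgroup.relIndex_sup_left, ← Subgroup.subgroupOf_sup hLK hHK, ← e,
    Subgroup.relIndex_subgroupOf le_rfl]

omit [Fintype Γ] in
theorem res_inf_right (hθ : ∀ x, x ∉ L → θ x = 0) : res H θ = res (L ⊓ H) θ := by
  ext x
  by_cases h1 : x ∈ H
  · by_cases h2 : x ∈ L
    · rw [res_of_mem _ h1, res_of_mem _ (show x ∈ L ⊓ H from ⟨h2, h1⟩)]
    · rw [res_of_mem _ h1, res_of_not_mem _ (fun h : x ∈ L ⊓ H => h2 h.1), hθ x h2]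
  · rw [res_of_not_mem _ h1, res_of_not_mem _ (fun h : x ∈ L ⊓ H => h1 h.2)]

omit [Fintype Γ] in
theorem le_stabf_res (hn : H ≤ Subgroup.normalizer (N : Set Γ)) (h : H ≤ stabf θ) :
    H ≤ stabf (res N θ) := fun x hx => by
  rw [mem_stabf, cjf_res (hn hx), mem_stabf.1 (h hx)]

omit [Fintype Γ] in
theorem le_norm_inf (hn : H ≤ Subgroup.normalizer (L : Set Γ))
    (hn' : H ≤ Subgroup.normalizer (N : Set Γ)) :
    H ≤ Subgroup.normalizer ((L ⊓ N : Subgroup Γ) : Set Γ) :=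
  le_normalizer_of_forall fun _ hg _ hx =>
    ⟨conj_mem_of_le_normalizer hn hg hx.1, conj_mem_of_le_normalizer hn' hg hx.2⟩

omit [Fintype Γ] in
theorem le_norm_sup (hLN : N ≤ Subgroup.normalizer (L : Set Γ))
    (hn : H ≤ Subgroup.normalizer (L : Set Γ)) (hn' : H ≤ Subgroup.normalizer (N : Set Γ)) :
    H ≤ Subgroup.normalizer ((L ⊔ N : Subgroup Γ) : Set Γ) :=
  le_normalizer_of_forall fun g hg x hx => by
    obtain ⟨a, ha, b, hb, rfl⟩ := (mem_sup_iff_of_le_normalizer hLN).1 hx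
    have := Subgroup.mul_mem _ (Subgroup.mem_sup_left (T := N)
      (conj_mem_of_le_normalizer hn hg ha))
      (Subgroup.mem_sup_right (S := L) (conj_mem_of_le_normalizer hn' hg hb))
    convert this using 1; group

theorem res_bij (hLK : L ≤ K) (hHK : H ≤ K) (hn : K ≤ Subgroup.normalizer (L : Set Γ))
    (hs : K ≤ L ⊔ H) (hθ : θ ∈ irr L) (hinv : K ≤ stabf θ)
    (hθ' : res (L ⊓ H) θ ∈ irr (L ⊓ H)) :
    (∀ χ ∈ irr K, Ov L χ θ → res H χ ∈ irr H ∧ Ov (L ⊓ H) (res H χ) (res (L ⊓ H) θ)) ∧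
    (∀ χ ∈ irr K, Ov L χ θ → ∀ χ' ∈ irr K, Ov L χ' θ → res H χ = res H χ' → χ = χ') ∧
    ∀ ψ ∈ irr H, Ov (L ⊓ H) ψ (res (L ⊓ H) θ) → ∃ χ ∈ irr K, Ov L χ θ ∧ res H χ = ψ := by
  have := Fintype.ofFinite K
  have := Fintype.ofFinite H
  have hα := ind_mem_chars hLK (chars_of_irr hθ)
  have i2 : H ≤ stabf (res (L ⊓ H) θ) :=
    le_stabf_res (le_norm_inf (hHK.trans hn) Subgroup.le_normalizer) (hHK.trans hinv)
  have e1 : res H (ind L K θ) = ind (L ⊓ H) H (res (L ⊓ H) θ) := by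
    rw [ind_of_stab hLK hinv, ind_of_stab inf_le_right i2, relIndex_inf_of_sup hLK hHK hn hs,
      map_smul, res_inf_right (irr_supp hθ)]
  let F : (K → ℂ) →ₗ[ℂ] (H → ℂ) := LinearMap.funLeft ℂ ℂ (Subgroup.inclusion hHK)
  have hF : ∀ φ : Γ → ℂ, F (fun x : K => φ x) = fun x : H => φ x := fun _ => rfl
  have c1 : ∀ χ ∈ irr K, classInner (fun x : K => ind L K θ x) (fun x : K => χ x) ≠ 0 ↔
      Ov L χ θ := fun χ hχ => by
    rw [← ip_eq_classInner hα.1, ov_iff_ind (cf_of_irr hθ) (cf_of_irr hχ)]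
  have c2 : ∀ ψ ∈ cf H, classInner (fun x : H => ind L K θ x) (fun x : H => ψ x) ≠ 0 ↔
      Ov (L ⊓ H) ψ (res (L ⊓ H) θ) := fun ψ hψ => by
    rw [classInner_comp, e1, ov_iff_ind (cf_of_irr hθ') hψ]
  obtain ⟨a1, a2, a3⟩ := H6.corr_abstract F (fun ψ hψ =>
    ⟨hψ.isCharacter.comp (Subgroup.inclusion hHK), fun e => hψ.apply_one_ne_zero (by
      simpa [F] using congrFun e 1)⟩) hα.2 (by
    rw [hF, ← res_comp, ← ip_eq_classInner (res_supp _ _), ← ip_eq_classInner hα.1, e1,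
      ip_ind_res (cf_of_irr hθ') (cf_of_chars (ind_mem_chars inf_le_right (chars_of_irr hθ'))),
      ip_ind_res (cf_of_irr hθ) (cf_of_chars hα), ind_of_stab hLK hinv,
      ind_of_stab inf_le_right i2, relIndex_inf_of_sup hLK hHK hn hs, map_smul, map_smul,
      res_eq_self (irr_supp hθ), res_eq_self (irr_supp hθ'), ip_smul_right, ip_smul_right,
      ip_irr_self hθ, ip_irr_self hθ'])
  refine ⟨fun χ hχ h => ?_, fun χ hχ h χ' hχ' h' e => ?_, fun ψ hψ h => ?_⟩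
  · obtain ⟨b1, b2⟩ := a1 _ (mem_irr.1 hχ).2 ((c1 χ hχ).2 h)
    refine ⟨res_mem_irr_iff.2 b1, (c2 _ (res_mem_cf hHK (cf_of_irr hχ))).1 ?_⟩
    rw [res_comp, ← hF, ← hF χ, b2]
    exact (c1 χ hχ).2 h
  · have := a2 _ _ (mem_irr.1 hχ).2 ((c1 χ hχ).2 h) (mem_irr.1 hχ').2 ((c1 χ' hχ').2 h')
      (by rw [hF, hF, ← res_comp, e, res_comp])
    exact eq_of_eqOn (irr_supp hχ) (irr_supp hχ') fun x hx => congrFun this ⟨x, hx⟩
  · obtain ⟨χ, b1, b2, b3⟩ := a3 _ (mem_irr.1 hψ).2 ((c2 ψ (cf_of_irr hψ)).2 h)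
    have b4 := extendByZero_mem_irr.2 b1
    refine ⟨_, b4, (c1 _ b4).1 (by rwa [comp_extendByZero]), ?_⟩
    refine eq_of_eqOn (res_supp _ _) (irr_supp hψ) fun x hx => ?_
    rw [res_of_mem _ hx, H19.extendByZero_of_mem _ (hHK hx)]
    exact congrFun b3 ⟨x, hx⟩

variable {p : ℕ} [hp : Fact p.Prime]

theorem exists_inv_under (hKG : K ≤ G) (hn : G ≤ Subgroup.normalizer (K : Set Γ))
    (hS : H7.SylIn p S G) (hχ : χ ∈ irr G) (hd : ¬ (p : ℤ) ∣ dg χ) :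
    ∃ θ ∈ irr K, S ≤ stabf θ ∧ Ov K χ θ := by
  obtain ⟨θ, hθ, h⟩ := exists_ov_under hKG hχ
  obtain ⟨d, hd'⟩ := chars_exists_apply_one (chars_of_irr hχ)
  have h1 := relIndex_stabf_dvd hKG hn hχ hθ h hd'
  rw [dg_eq_of_eq_nat hd', Int.natCast_dvd_natCast] at hd
  obtain ⟨D, hD⟩ := H7.exists_sylIn p (G ⊓ stabf θ)
  have hD' : H7.SylIn p D G := by
    obtain ⟨a, b, c⟩ := sylIn_iff_relIndex.1 hD
    refine sylIn_iff_relIndex.2 ⟨a.trans inf_le_left, b, fun e => ?_⟩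
    rw [← Subgroup.relIndex_mul_relIndex D _ G a inf_le_left] at e
    rcases hp.out.dvd_mul.1 e with e | e
    · exact c e
    · rw [inf_comm, Subgroup.inf_relIndex_right] at e
      exact hd (e.trans h1)
  obtain ⟨x, hx, e⟩ := hD'.exists_cj_eq hS
  refine ⟨cjf x θ, cjf_mem_irr (hn hx) hθ, fun s hs => ?_, h.cjf_right hn hχ hx⟩
  have : x * s * x⁻¹ ∈ stabf θ := (hD.le (e ▸ H7.conj_mem_cj.2 hs)).2
  rw [mem_stabf, cjf_mul, cjf_mul] at this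
  have := congrArg (cjf x) this
  rwa [cjf_cjf_inv] at this

open Classical in
theorem count_mk (hKG : K ≤ G) (hn : G ≤ Subgroup.normalizer (K : Set Γ))
    (hS : H7.SylIn p S G) (h1 : G ⊓ Subgroup.normalizer (S : Set Γ) ≤ N) (h2 : N ≤ G)
    (h3 : ∀ n ∈ N, ∀ θ ∈ irr K, S ≤ stabf θ → S ≤ stabf (cjf n θ)) (A : (Γ → ℂ) → Prop)
    (hA : ∀ χ ∈ irr G, A χ → ¬ (p : ℤ) ∣ dg χ) :
    Nat.card N * cnt G A = ∑ θ ∈ (irr K).filter (S ≤ stabf ·),
      Nat.card (N ⊓ stabf θ : Subgroup Γ) * cnt G fun χ => Ov K χ θ ∧ A χ := by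
  unfold cnt
  have e : ∀ χ ∈ (irr G).filter A, ∑ θ ∈ (irr K).filter (S ≤ stabf ·),
      (if Ov K χ θ then Nat.card (N ⊓ stabf θ : Subgroup Γ) else 0) = Nat.card N := by
    intro χ hχ
    obtain ⟨a, b⟩ := Finset.mem_filter.1 hχ
    obtain ⟨θ₀, c1, c2, c3⟩ := exists_inv_under hKG hn hS a (hA χ a b)
    rw [← Finset.sum_filter]
    refine sum_stab_orbit N θ₀ _ fun θ => ?_
    simp only [Finset.mem_filter]
    constructor
    · rintro ⟨⟨d1, d2⟩, d3⟩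
      obtain ⟨g, hg, rfl⟩ := exists_cjf_of_constituents hKG hn a c1 d1 c3 d3
      obtain ⟨n, hn', e⟩ := exists_norm_cjf hS hg c2 d2
      exact ⟨n, h1 hn', e⟩
    · rintro ⟨n, hn', rfl⟩
      exact ⟨⟨cjf_mem_irr (hn (h2 hn')) c1, h3 n hn' _ c1 c2⟩, c3.cjf_right hn a (h2 hn')⟩
  rw [mul_comm, ← smul_eq_mul, ← Finset.sum_const, ← Finset.sum_congr rfl e, Finset.sum_comm]
  refine Finset.sum_congr rfl fun θ _ => ?_
  rw [← Finset.sum_filter, Finset.sum_const, smul_eq_mul, mul_comm, Finset.filter_filter]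
  congr 2
  ext χ; simp only [Finset.mem_filter]; tauto

end H8
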