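import Cfsg.Agent.H8.MK1
import Cfsg.Agent.H6.Extension

/-! Real characters of odd degree of `2`-solvable groups: `real_mckay` (their number over an invariant
real linear character equals the number for the Sylow normalizer); ambient degree ratio `exists_dg_mul`. -/

set_option autoImplicit false
open H5 H19 Cfsg
open scoped ComplexConjugate

namespace H8

variable {Γ : Type*} [Group Γ] [Fintype Γ] {N T G K L H S : Subgroup Γ} {θ χ ψ φ μ ν : Γ → ℂ}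

theorem exists_dg_mul (hNG : N ≤ G) (hn : G ≤ Subgroup.normalizer (N : Set Γ)) (hχ : χ ∈ irr G)
    (hθ : θ ∈ irr N) (h : Ov N χ θ) : ∃ b : ℕ, b ∣ N.relIndex G ∧ dg χ = b * dg θ := by
  haveI := normal_subgroupOf_of_le_normalizer hn
  have := Fintype.ofFinite (N.subgroupOf G)
  obtain ⟨b, h1, h2⟩ := H6.degree_ratio_dvd (isIrr_subgroupOf hNG hθ) (mem_irr.1 hχ).2
    (by unfold Ov at h; rwa [← classInner_subgroupOf hNG] at h)
  refine ⟨b, h1, dg_eq_of_eq ?_⟩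
  push_cast
  rw [← irr_apply_one hθ]; exact h2

theorem ov_of_inv (hLK : L ≤ K) (hKG : K ≤ G) (hn : G ≤ Subgroup.normalizer (L : Set Γ))
    (hμ : μ ∈ irr L) (hi : G ≤ stabf μ) (hχ : χ ∈ irr G) (hν : ν ∈ irr K) (h1 : Ov L χ μ)
    (h2 : Ov K χ ν) : Ov L ν μ := by
  obtain ⟨μ', a, b⟩ := exists_ov_under hLK hν
  obtain ⟨g, hg, e⟩ := exists_cjf_of_constituents (hLK.trans hKG) hn hχ hμ a h1
    (h2.trans hLK hKG (chars_of_irr hχ) hν (chars_of_irr a) b)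
  rwa [e, mem_stabf.1 (hi hg)] at b

theorem res_eq_of_dg (hLK : L ≤ K) (hμ : μ ∈ irr L) (hν : ν ∈ chars K) (h : Ov L ν μ)
    (hd : dg ν = dg μ) : res L ν = μ :=
  eq_of_ip_ne_zero_of_dg_le (res_mem_chars hLK hν) hμ h (by rw [dg_res, hd])

/-- real of odd degree -/
def RO (χ : Γ → ℂ) : Prop := star χ = χ ∧ ¬ ((2 : ℕ) : ℤ) ∣ dg χ

/-- real linear extensions -/
def RE (K L : Subgroup Γ) (μ ν : Γ → ℂ) : Prop :=
  ν ∈ irr K ∧ ν 1 = 1 ∧ star ν = ν ∧ res L ν = μ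

theorem real_under_odd (hKG : K ≤ G) (hn : G ≤ Subgroup.normalizer (K : Set Γ))
    (hS : H7.SylIn 2 S G) (hχ : χ ∈ irr G) (h : RO χ) (hν : ν ∈ irr K) (h2 : Ov K χ ν) :
    star ν = ν := by
  obtain ⟨θ, a, b, c⟩ := exists_inv_under hKG hn hS hχ h.2
  have r : star θ = θ := by
    obtain ⟨g, hg, e⟩ := exists_cjf_of_constituents hKG hn hχ a (irr_star a) c
      (by have := c.star; rwa [h.1] at this)
    obtain ⟨n, hn', e'⟩ := exists_norm_cjf hS hg b (e ▸ le_stabf_star b)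
    rw [← e] at e'
    have o : Odd (S.relIndex (G ⊓ Subgroup.normalizer (S : Set Γ))) := by
      have := (sylIn_iff_relIndex.1 (hS.of_le (le_inf hS.le Subgroup.le_normalizer)
        inf_le_left)).2.2
      rwa [← even_iff_two_dvd, Nat.not_even_iff_odd] at this
    have : n ∈ stabf θ := mem_of_sq_mem_of_odd o (pow_relIndex_mem inf_le_right hn') b (by
      rw [mem_stabf, cjf_mul, e', cjf_star, e', star_star])
    rw [← e', mem_stabf.1 this]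
  obtain ⟨g, hg, rfl⟩ := exists_cjf_of_constituents hKG hn hχ a hν c h2
  rw [← cjf_star, r]

theorem re_of_under (hLK : L ≤ K) (hKG : K ≤ G) (hn : G ≤ Subgroup.normalizer (K : Set Γ))
    (hn' : G ≤ Subgroup.normalizer (L : Set Γ)) (hS : H7.SylIn 2 S G)
    (hi : (∃ m, L.relIndex K ∣ 2 ^ m) ∨ (L.relIndex K).Coprime 2) (hμ : RE L L μ μ)
    (hinv : G ≤ stabf μ) (hχ : χ ∈ irr G) (h : RO χ) (hν : ν ∈ irr K) (h1 : Ov L χ μ)
    (h2 : Ov K χ ν) : RE K L μ ν := by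
  have r := real_under_odd hKG hn hS hχ h hν h2
  have o := ov_of_inv hLK hKG hn' hμ.1 hinv hχ hν h1 h2
  have d : dg ν = dg μ := by
    rcases hi with ⟨m, hm⟩ | hc
    · obtain ⟨b, b1, b2⟩ := exists_dg_mul hLK (hKG.trans hn') hν hμ.1 o
      obtain ⟨c, -, c2⟩ := exists_dg_mul hKG hn hχ hν h2
      obtain ⟨k, -, rfl⟩ := (Nat.dvd_prime_pow Nat.prime_two).1 (b1.trans hm)
      rcases k with _ | k
      · simpa using b2
      · exact absurd ⟨c * 2 ^ k * dg μ, by rw [c2, b2]; push_cast; ring⟩ h.2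
    · have e := (real_eq_of_over hLK (hKG.trans hn') (Nat.coprime_two_right.1 hc) hμ.1 hμ.2.2.1
        hν r o hν r o).2
      have := congrFun (res_eq_smul_of_le_stabf hLK (hKG.trans hn') hν hμ.1 (hKG.trans hinv) o) 1
      rw [e, one_smul, res_one] at this
      simp only [dg, this]
  have e := res_eq_of_dg hLK hμ.1 (chars_of_irr hν) o d
  exact ⟨hν, by rw [← res_one L ν, e, hμ.2.1], r, e⟩

theorem RE.res (h : RE K L μ ν) (hH : H ≤ K) (hN : N ≤ H) (hNL : N ≤ L) :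
    RE H N (res N μ) (res H ν) :=
  ⟨irr_of_chars_of_apply_one (res_mem_chars hH (chars_of_irr h.1)) (by rw [res_one, h.2.1]),
    by rw [res_one, h.2.1], by rw [← res_star, h.2.2.1],
    by rw [res_res hN, ← h.2.2.2, res_res hNL]⟩

theorem RE.cjf (h : RE K L μ ν) {x : Γ} (h1 : x ∈ Subgroup.normalizer (K : Set Γ))
    (h2 : x ∈ Subgroup.normalizer (L : Set Γ)) (h3 : x ∈ stabf μ) : RE K L μ (cjf x ν) :=
  ⟨cjf_mem_irr h1 h.1, by rw [cjf_apply_one, h.2.1], by rw [← cjf_star, h.2.2.1],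
    by rw [← cjf_res h2, h.2.2.2, mem_stabf.1 h3]⟩

theorem RE.self (h : RE K L μ ν) : RE K K ν ν :=
  ⟨h.1, h.2.1, h.2.2.1, res_eq_self (irr_supp h.1)⟩

omit [Fintype Γ] in
theorem le_sup_of_pow [Finite Γ] {p : ℕ} [hp : Fact p.Prime] (hLK : L ≤ K)
    (hS : H7.SylIn p S K) {m : ℕ} (hm : L.relIndex K ∣ p ^ m) : K ≤ L ⊔ S := by
  have h1 : (L ⊔ S).relIndex K ∣ L.relIndex K := Subgroup.relIndex_dvd_of_le_left _ le_sup_left
  have h2 : (L ⊔ S).relIndex K ∣ S.relIndex K := Subgroup.relIndex_dvd_of_le_left _ le_sup_right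
  obtain ⟨k, -, e⟩ := (Nat.dvd_prime_pow hp.out).1 (h1.trans hm)
  rcases k with _ | k
  · exact Subgroup.relIndex_eq_one.1 (by simpa using e)
  · exact absurd ((dvd_pow_self p k.succ_ne_zero).trans (e ▸ h2)) (sylIn_iff_relIndex.1 hS).2.2

theorem re_bij (hLK : L ≤ K) (hn : K ≤ Subgroup.normalizer (L : Set Γ)) (hH : H ≤ K)
    (hS : H7.SylIn 2 S K) (hSH : S ≤ H)
    (hi : (∃ m, L.relIndex K ∣ 2 ^ m) ∨ (L.relIndex K).Coprime 2) (hμ : RE L L μ μ)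
    (hinv : K ≤ stabf μ) :
    (∀ ν ν', RE K L μ ν → RE K L μ ν' → res H ν = res H ν' → ν = ν') ∧
      ∀ ξ, RE H (L ⊓ H) (res (L ⊓ H) μ) ξ → ∃ ν, RE K L μ ν ∧ res H ν = ξ := by
  have hμ' := hμ.res (inf_le_left : L ⊓ H ≤ L) le_rfl inf_le_left
  rcases hi with ⟨m, hm⟩ | hc
  · obtain ⟨-, a2, a3⟩ := res_bij hLK hH hn
      ((le_sup_of_pow hLK hS hm).trans (sup_le_sup_left hSH _)) hμ.1 hinv hμ'.1
    refine ⟨fun ν ν' h h' e => a2 _ h.1 (ov_of_res hμ.1 h.2.2.2) _ h'.1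
      (ov_of_res hμ.1 h'.2.2.2) e, fun ξ h => ?_⟩
    obtain ⟨ν, b1, b2, b3⟩ := a3 ξ h.1 (ov_of_res hμ'.1 h.2.2.2)
    have d : ν 1 = 1 := by rw [← res_one H ν, b3, h.2.1]
    refine ⟨ν, ⟨b1, d, a2 _ (irr_star b1) (hμ.2.2.1 ▸ b2.star) _ b1 b2 ?_,
      res_eq_of_dg hLK hμ.1 (chars_of_irr b1) b2 (by simp only [dg, d, hμ.2.1])⟩, b3⟩
    rw [res_star, b3, h.2.2.1]
  · have o := Nat.coprime_two_right.1 hc
    refine ⟨fun ν ν' h h' _ => (real_eq_of_over hLK hn o hμ.1 hμ.2.2.1 h.1 h.2.2.1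
      (ov_of_res hμ.1 h.2.2.2) h'.1 h'.2.2.1 (ov_of_res hμ.1 h'.2.2.2)).1, fun ξ h => ?_⟩
    obtain ⟨ν, b1, b2, b3, -⟩ := real_over_amb hLK hn o hμ.1 hμ.2.2.1
    have e := res_eq_smul_of_le_stabf hLK hn b1 hμ.1 hinv (by rw [b3]; exact one_ne_zero)
    rw [b3, one_smul] at e
    have r : RE K L μ ν := ⟨b1, by rw [← res_one L ν, e, hμ.2.1], b2, e⟩
    have r' := r.res hH (inf_le_right : L ⊓ H ≤ H) inf_le_left
    refine ⟨ν, r, (real_eq_of_over inf_le_right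
      (le_norm_inf (hH.trans hn) Subgroup.le_normalizer) ?_ hμ'.1 hμ'.2.2.1 r'.1 r'.2.2.1
      (ov_of_res hμ'.1 r'.2.2.2) h.1 h.2.2.1 (ov_of_res hμ'.1 h.2.2.2)).1⟩
    rw [Subgroup.inf_relIndex_right]
    exact o.of_dvd_nat (relIndex_dvd_of_nml hn hH)

theorem not_dvd_ind {p : ℕ} [hp : Fact p.Prime] (hS : H7.SylIn p S G) (hST : S ≤ T) (hTG : T ≤ G)
    (hψ : ψ ∈ irr T) : ¬ (p : ℤ) ∣ dg ψ ↔ ¬ (p : ℤ) ∣ dg (ind T G ψ) := by
  rw [dg_ind hTG (vchar_of_irr hψ), (Nat.prime_iff_prime_int.1 hp.out).dvd_mul,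
    Int.natCast_dvd_natCast, or_iff_right fun h => (sylIn_iff_relIndex.1 hS).2.2
      (h.trans (Subgroup.relIndex_dvd_of_le_left _ hST))]

theorem card_cliff_ro (hNT : N ≤ T) (hTG : T ≤ G) (hn : G ≤ Subgroup.normalizer (N : Set Γ))
    (hθ : θ ∈ irr N) (hT : G ⊓ stabf θ ≤ T) (hr : star θ = θ) (hS : H7.SylIn 2 S G)
    (hST : S ≤ T) : cnt G (fun χ => Ov N χ θ ∧ RO χ) = cnt T fun ψ => Ov N ψ θ ∧ RO ψ := by
  refine card_cliff hNT hTG hn hθ hT _ _ fun ψ hψ h => and_congr ⟨fun e => ?_, fun e => ?_⟩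
    (not_dvd_ind hS hST hTG hψ)
  · rw [← ind_star, e]
  · exact cliff_inj hNT hTG hn hθ hT (irr_star hψ) (hr ▸ h.star) hψ h (by rw [ind_star, e])

omit [Fintype Γ] in
theorem relIndex_lt_of_lt [Finite Γ] (h : L < K) (hKT : K ≤ T) (hTG : T ≤ G) :
    K.relIndex T < L.relIndex G := by
  have h1 : K.relIndex T ≤ K.relIndex G :=
    Subgroup.relIndex_le_of_le_right hTG Subgroup.FiniteIndex.index_ne_zero
  rw [← Subgroup.relIndex_mul_relIndex L K G h.le (hKT.trans hTG)]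
  have h2 : 1 < L.relIndex K := by
    have a : L.relIndex K ≠ 0 := Subgroup.FiniteIndex.index_ne_zero
    have b : L.relIndex K ≠ 1 := fun e => h.not_ge (Subgroup.relIndex_eq_one.1 e)
    omega
  have h3 : 0 < K.relIndex G := Nat.pos_of_ne_zero Subgroup.FiniteIndex.index_ne_zero
  nlinarith

open Classical in
theorem real_mckay (hs : IsPSolvable 2 Γ) (S : Subgroup Γ) (n : ℕ) :
    ∀ (G L N : Subgroup Γ) (μ : Γ → ℂ), L.relIndex G = n → L ≤ G →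
      G ≤ Subgroup.normalizer (L : Set Γ) → H7.SylIn 2 S G → RE L L μ μ → G ≤ stabf μ →
      N = G ⊓ Subgroup.normalizer (S : Set Γ) →
      cnt G (fun χ => Ov L χ μ ∧ RO χ) =
        cnt N fun ψ => Ov (L ⊓ N) ψ (res (L ⊓ N) μ) ∧ RO ψ := by
  induction n using Nat.strong_induction_on with | _ n ih => ?_
  intro G L N μ hi hLG hn hS hμ hinv hN
  have hNG : N ≤ G := hN ▸ inf_le_left
  have hNS : N ≤ Subgroup.normalizer (S : Set Γ) := hN ▸ inf_le_right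
  have hSN : S ≤ N := hN ▸ le_inf hS.le Subgroup.le_normalizer
  have one : ∀ (G : Subgroup Γ) (μ : Γ → ℂ), RE G G μ μ →
      cnt G (fun χ => Ov G χ μ ∧ RO χ) = 1 := fun G μ h =>
    cnt_eq_one h.1 ⟨ov_self h.1, h.2.2.1, by
      rw [dg_eq_of_eq_nat (n := 1) (by simpa using h.2.1)]; decide⟩ fun χ a b => b.1.eq a h.1
  by_cases e : L = G
  · subst e
    rw [one _ _ hμ, inf_eq_right.2 hNG, one _ _ (hμ.res hNG le_rfl hNG)]
  obtain ⟨K, hLK, hKG, hK, hc⟩ := exists_step hs hLG hn e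
  have hSK : H7.SylIn 2 (S ⊓ K) K := by simpa [inf_eq_right.2 hKG] using hS.inf_normal K hK
  have eL : L ⊓ (K ⊓ N) = L ⊓ N := by rw [← inf_assoc, inf_eq_left.2 hLK.le]
  obtain ⟨b1, b2⟩ := re_bij hLK.le (hKG.trans hn) (inf_le_left : K ⊓ N ≤ K) hSK
    (le_inf inf_le_right (inf_le_left.trans hSN)) hc hμ (hKG.trans hinv)
  rw [eL] at b2
  have nK : N ≤ Subgroup.normalizer ((K ⊓ N : Subgroup Γ) : Set Γ) :=
    le_norm_inf (hNG.trans hK) Subgroup.le_normalizer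
  have nL : N ≤ Subgroup.normalizer ((L ⊓ N : Subgroup Γ) : Set Γ) :=
    le_norm_inf (hNG.trans hn) Subgroup.le_normalizer
  have hS' : H7.SylIn 2 S N := hS.of_le hSN hNG
  have hμ' : RE (L ⊓ N) (L ⊓ N) (res (L ⊓ N) μ) (res (L ⊓ N) μ) :=
    hμ.res inf_le_left le_rfl inf_le_left
  have LK' : L ⊓ N ≤ K ⊓ N := inf_le_inf_right _ hLK.le
  have st : ∀ ν, RE K L μ ν → N ⊓ stabf (res (K ⊓ N) ν) = N ⊓ stabf ν := fun ν h => by
    refine le_antisymm (fun x hx => ⟨hx.1, b1 _ _ (h.cjf (hK (hNG hx.1)) (hn (hNG hx.1))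
      (hinv (hNG hx.1))) h (by rw [← cjf_res (nK hx.1)]; exact hx.2)⟩) fun x hx => ⟨hx.1, ?_⟩
    change cjf _ _ = _
    rw [cjf_res (nK hx.1), mem_stabf.1 hx.2]
  have c1 := count_mk hKG hK hS hN.ge hNG (fun x hx θ _ h => Glaub.le_stabf_cjf (hNS hx) h)
    (fun χ => Ov L χ μ ∧ RO χ) fun χ _ h => h.2.2
  have c2 := count_mk (inf_le_right : K ⊓ N ≤ N) nK hS' inf_le_left le_rfl
    (fun x hx θ _ h => Glaub.le_stabf_cjf (hNS hx) h)
    (fun χ => Ov (L ⊓ N) χ (res (L ⊓ N) μ) ∧ RO χ) fun χ _ h => h.2.2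
  refine Nat.eq_of_mul_eq_mul_left (card_pos' N) ?_
  rw [c1, c2, ← Finset.sum_filter_of_ne (p := RE K L μ), ← Finset.sum_filter_of_ne
    (s := (irr (K ⊓ N)).filter _) (p := RE (K ⊓ N) (L ⊓ N) (res (L ⊓ N) μ))]
  · refine Finset.sum_bij (fun ν _ => res (K ⊓ N) ν) (fun ν hν => ?_) (fun a ha b hb e => ?_)
      (fun ξ hξ => ?_) fun ν hν => ?_
    · simp only [Finset.mem_filter] at hν ⊢
      have := hν.2.res (inf_le_left : K ⊓ N ≤ K) LK' inf_le_left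
      exact ⟨⟨this.1, le_stabf_res (hSN.trans nK) hν.1.2⟩, this⟩
    · exact b1 _ _ (Finset.mem_filter.1 ha).2 (Finset.mem_filter.1 hb).2 e
    · simp only [Finset.mem_filter] at hξ ⊢
      obtain ⟨ν, h, rfl⟩ := b2 ξ hξ.2
      exact ⟨ν, ⟨⟨h.1, (le_inf hSN hξ.1.2).trans ((st ν h).le.trans inf_le_right)⟩, h⟩, rfl⟩
    · simp only [Finset.mem_filter] at hν
      obtain ⟨⟨-, h1⟩, h⟩ := hν
      have h' := h.res (inf_le_left : K ⊓ N ≤ K) LK' inf_le_left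
      have KT : K ≤ G ⊓ stabf ν := le_inf hKG (le_stabf_of_cf (cf_of_irr h.1))
      have eN : N ⊓ stabf ν = G ⊓ stabf ν ⊓ Subgroup.normalizer (S : Set Γ) := by
        rw [hN, inf_right_comm]
      have eK : K ⊓ (N ⊓ stabf ν) = K ⊓ N := by
        rw [inf_comm N, ← inf_assoc, inf_eq_left.2 (KT.trans inf_le_right)]
      have i := ih _ (hi ▸ relIndex_lt_of_lt hLK KT inf_le_left) _ K _ ν rfl KT
        (inf_le_left.trans hK) (hS.of_le (le_inf hS.le h1) inf_le_left) h.self inf_le_right eN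
      rw [eK, ← card_cliff_ro KT inf_le_left hK h.1 le_rfl h.2.2.1 hS (le_inf hS.le h1),
        ← card_cliff_ro (le_inf inf_le_right (inf_le_left.trans (KT.trans inf_le_right)))
        inf_le_left nK h'.1 (st ν h).le h'.2.2.1 hS' (le_inf hSN h1)] at i
      rw [st ν h]
      congr 1
      refine (cnt_congr fun χ a => ?_).trans (i.trans (cnt_congr fun χ a => ?_))
      · exact ⟨fun b => ⟨b.1, b.2.2⟩, fun b => ⟨b.1, b.1.trans hLK.le hKG
          (chars_of_irr a) h.1 (chars_of_irr hμ.1) (ov_of_res hμ.1 h.2.2.2), b.2⟩⟩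
      · exact ⟨fun b => ⟨b.1, b.1.trans LK' inf_le_right (chars_of_irr a) h'.1
          (chars_of_irr hμ'.1) (ov_of_res hμ'.1 h'.2.2.2), b.2⟩, fun b => ⟨b.1, b.2.2⟩⟩
  · intro ξ hξ h
    obtain ⟨χ, hχ⟩ := cnt_ne_zero.1 (right_ne_zero_of_mul h)
    simp only [Finset.mem_filter] at hξ
    refine re_of_under LK' inf_le_right nK nL hS' ?_ hμ' (le_stabf_res nL (hNG.trans hinv))
      hχ.1 hχ.2.2.2 hξ.1 hχ.2.2.1 hχ.2.1
    have : (L ⊓ N).relIndex (K ⊓ N) ∣ L.relIndex K := by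
      rw [← eL, Subgroup.inf_relIndex_right]
      exact relIndex_dvd_of_nml (hKG.trans hn) inf_le_left
    exact hc.imp (fun ⟨m, hm⟩ => ⟨m, this.trans hm⟩) fun h => h.coprime_dvd_left this
  · intro ν hν h
    obtain ⟨χ, hχ⟩ := cnt_ne_zero.1 (right_ne_zero_of_mul h)
    simp only [Finset.mem_filter] at hν
    exact re_of_under hLK.le hKG hK hn hS hc hμ hinv hχ.1 hχ.2.2.2 hν.1 hχ.2.2.1 hχ.2.1

end H8
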