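import Cfsg.Agent.H8.MK2
import Cfsg.Agent.H19.Normal

/-! Extendibility `Extn` of ambient characters (`extn_of_sylow`, `extn_res_iff`), Gallagher's count of
the characters over an invariant character by good elements (`cnt_good`), and the comparison
`cnt_eq_of_extn` of two character triples with isomorphic quotients. -/

set_option autoImplicit false
open H5 H19 Cfsg
open scoped ComplexConjugate

namespace H8

variable {Γ : Type*} [Group Γ] {A B G H V W X Y : Subgroup Γ} {α β χ η ξ θ : Γ → ℂ} {x y : Γ}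

/-- `α` extends from `A` to `W` -/
def Extn (W A : Subgroup Γ) (α : Γ → ℂ) : Prop := ∃ ξ ∈ chars W, res A ξ = α

theorem Extn.mono (h : Extn W A α) (hAV : A ≤ V) (hV : V ≤ W) : Extn V A α := by
  obtain ⟨ξ, h1, h2⟩ := h
  exact ⟨res V ξ, res_mem_chars hV h1, by rw [res_res hAV, h2]⟩

theorem res_irr_of_res [Finite Γ] (hAV : A ≤ V) (hVW : V ≤ W) (hξ : ξ ∈ chars W)
    (h : res A ξ ∈ irr A) : res V ξ ∈ irr V :=
  res_mem_irr_iff.2 (H6.irr_of_comp_irr (Subgroup.inclusion hAV)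
    (res_mem_chars_iff.1 (res_mem_chars hVW hξ)) (res_mem_irr_iff.1 h))

theorem irr_of_res [Finite Γ] (hAW : A ≤ W) (hξ : ξ ∈ chars W) (h : res A ξ ∈ irr A) :
    ξ ∈ irr W := by
  have := res_irr_of_res hAW le_rfl hξ h
  rwa [res_eq_self hξ.1] at this

theorem extn_of_sylow [Finite Γ] (hAW : A ≤ W) (hn : W ≤ Subgroup.normalizer (A : Set Γ))
    (hα : α ∈ irr A) (hinv : W ≤ stabf α)
    (h : ∀ q : ℕ, q.Prime → ∃ X, A ≤ X ∧ X ≤ W ∧ ¬ q ∣ X.relIndex W ∧ Extn X A α) :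
    Extn W A α := by
  haveI := normal_subgroupOf_of_le_normalizer hn
  obtain ⟨χ, h1, h2⟩ := H6.ext_of_sylow (isIrr_subgroupOf hAW hα)
    (fun g => (mem_inertia_subgroupOf hAW hn (irr_supp hα) g).2 (hinv g.2)) fun q hq => by
      obtain ⟨X, a, b, c, ξ, d, e⟩ := h q hq
      exact ⟨X.subgroupOf W, fun n hn => a hn, fun z => ξ z, c,
        d.2.comp (H6.sOfHom X W), fun n => by
          rw [← e, res_of_mem _ (Subgroup.mem_subgroupOf.1 n.2)]⟩
  refine ⟨_, extendByZero_mem_chars.2 h1.isCharacter, eq_of_eqOn (res_supp _ _) (irr_supp hα)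
    fun z hz => ?_⟩
  rw [res_of_mem _ hz, H19.extendByZero_of_mem _ (hAW hz)]
  exact h2 ⟨⟨z, hAW hz⟩, hz⟩

theorem mul_mem_coset_iff (hy : y ∈ Glaub.commMod A x) (z : Γ) :
    y * z * y⁻¹ * x⁻¹ ∈ A ↔ z * x⁻¹ ∈ A := by
  rw [← conj_mem_iff_of_normalizer hy.1 (z * x⁻¹),
    ← A.mul_mem_cancel_right hy.2 (y := y * (z * x⁻¹) * y⁻¹)]
  congr! 1; group

theorem mem_norm_sup_zpowers [Finite Γ] (hy : y ∈ Glaub.commMod A x) :
    y ∈ Subgroup.normalizer ((A ⊔ Subgroup.zpowers x : Subgroup Γ) : Set Γ) := by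
  refine H7.mem_normalizer_of_cj_eq (Subgroup.eq_of_le_of_card_ge ?_ (H7.card_cj _ _).ge)
  rw [H7.cj, Subgroup.map_sup, sup_le_iff, MonoidHom.map_zpowers, Subgroup.zpowers_le]
  refine ⟨(H7.cj_eq_of_mem_normalizer hy.1).le.trans le_sup_left, ?_⟩
  have := Subgroup.mul_mem _ (Subgroup.mem_sup_left (T := Subgroup.zpowers x) hy.2)
    (Glaub.mem_sup_zpowers A x)
  simpa using this

variable [Fintype Γ]

theorem extn_res_iff (hAY : A ≤ Y) (hHY : H ≤ Y) (hn : Y ≤ Subgroup.normalizer (A : Set Γ))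
    (hs : Y ≤ A ⊔ H) (hα : α ∈ irr A) (hinv : Y ≤ stabf α)
    (h' : res (A ⊓ H) α ∈ irr (A ⊓ H)) : Extn Y A α ↔ Extn H (A ⊓ H) (res (A ⊓ H) α) := by
  constructor
  · rintro ⟨ξ, h1, h2⟩
    exact ⟨res H ξ, res_mem_chars hHY h1, by rw [res_res inf_le_right, ← h2, res_res inf_le_left]⟩
  · rintro ⟨ξ, h1, h2⟩
    obtain ⟨χ, a, b, c⟩ := (res_bij hAY hHY hn hs hα hinv h').2.2 ξ
      (irr_of_res inf_le_right h1 (h2 ▸ h')) (ov_of_res h' h2)
    refine ⟨χ, chars_of_irr a, res_eq_of_dg hAY hα (chars_of_irr a) b ?_⟩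
    rw [← dg_res H, c, ← dg_res (A ⊓ H), h2, dg_res]

theorem exists_coset_scalar (hAW : A ≤ W) (hn : W ≤ Subgroup.normalizer (A : Set Γ))
    (hη : η ∈ chars W) (hα : res A η ∈ irr A) (hχ : χ ∈ chars W) {e : ℂ}
    (he : res A χ = e • res A η) (x : Γ) : ∃ c : ℂ, ∀ a ∈ A, χ (a * x) = c * η (a * x) := by
  have : ∀ φ, ∃ c : ℂ, φ ∈ irr W → ∀ a ∈ A, ip W χ φ * φ (a * x) = c * η (a * x) := fun φ => by
    by_cases hφ : φ ∈ irr W
    · by_cases h0 : ip W χ φ = 0
      · exact ⟨0, fun _ a _ => by rw [h0, zero_mul, zero_mul]⟩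
      · obtain ⟨α', a1, a2⟩ := exists_ov_under hAW hφ
        have a3 : Ov A χ α' := Ov.trans hAW le_rfl hχ hφ (chars_of_irr a1)
          (by unfold Ov; rwa [res_eq_self hχ.1]) a2
        unfold Ov at a3
        rw [he, ip_smul_left] at a3
        have a4 := irr_eq_of_ip_ne_zero hα a1 (right_ne_zero_of_mul a3)
        obtain ⟨β, -, b2, rfl⟩ := exists_mul_of_ext hAW hn hη hα hφ (a4 ▸ a2)
        exact ⟨ip W χ (β * η) * β x, fun _ a ha => by rw [Pi.mul_apply, b2 a ha]; ring⟩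
    · exact ⟨0, fun h => absurd h hφ⟩
  choose c hc using this
  refine ⟨∑ φ ∈ irr W, c φ, fun a ha => ?_⟩
  rw [cf_apply_eq_sum (cf_of_chars hχ), Finset.sum_mul]
  exact Finset.sum_congr rfl fun φ hφ => hc φ hφ a ha

open Classical in
/-- restriction of a function to the coset `A x` -/
noncomputable def cosf (A : Subgroup Γ) (x : Γ) (η : Γ → ℂ) : Γ → ℂ :=
  fun z => if z * x⁻¹ ∈ A then η z else 0

theorem ip_cosf (A : Subgroup Γ) (x : Γ) (η φ : Γ → ℂ) : ip A (cosf A x η) φ =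
    (Nat.card A : ℂ)⁻¹ * ∑ a ∈ els A, η (a * x) * conj (φ (a * x)) := by
  classical
  unfold ip
  congr 1
  rw [← Equiv.sum_comp (Equiv.mulRight x), ← Finset.sum_subset (Finset.subset_univ (els A))]
  · exact Finset.sum_congr rfl fun a ha => by simp [cosf, mem_els.1 ha]
  · intro a _ ha
    simp [cosf, mt mem_els.2 ha]

omit [Fintype Γ] in
theorem cosf_mul (η : Γ → ℂ) {a : Γ} (ha : a ∈ A) : cosf A x η (a * x) = η (a * x) := by
  simp [cosf, ha]

omit [Fintype Γ] in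
theorem cjf_cosf (hy : y ∈ Glaub.commMod A x) (η : Γ → ℂ) :
    cjf y (cosf A x η) = cosf A x (cjf y η) := by
  classical
  ext z; simp only [cosf, cjf_apply]; exact if_congr (mul_mem_coset_iff hy z) rfl rfl

omit [Fintype Γ] in
theorem cosf_eq_smul {c : ℂ} (h : ∀ a ∈ A, χ (a * x) = c * η (a * x)) :
    cosf A x χ = c • cosf A x η := by
  ext z
  by_cases hz : z * x⁻¹ ∈ A
  · have := h _ hz
    simp only [inv_mul_cancel_right] at this
    simp [cosf, hz, this]
  · simp [cosf, hz]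

theorem ip_cosf_self (hAW : A ≤ W) (hn : W ≤ Subgroup.normalizer (A : Set Γ))
    (hη : η ∈ chars W) (hα : res A η ∈ irr A) (hx : x ∈ W) :
    ip A (cosf A x η) (cosf A x η) = 1 := by
  rw [ip_cosf, Finset.sum_congr rfl fun a ha => by rw [cosf_mul η (mem_els.1 ha)],
    sum_coset_mul_conj_self hAW hn hη hα hx, inv_mul_cancel₀ (card_ne_zero A)]

/-- `x` is `α`-good in `G` -/
def GoodE (G A : Subgroup Γ) (α : Γ → ℂ) (x : Γ) : Prop := ∀ y ∈ G, y * x * y⁻¹ * x⁻¹ ∈ A →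
  Extn (A ⊔ Subgroup.zpowers x ⊔ Subgroup.zpowers y) A α

theorem extn_iff_cjf (hx : x ∈ Subgroup.normalizer (A : Set Γ)) (hy : y ∈ Glaub.commMod A x)
    (hα : α ∈ irr A) (hi : y ∈ stabf α) (hη : η ∈ irr (A ⊔ Subgroup.zpowers x))
    (he : res A η = α) : Extn (A ⊔ Subgroup.zpowers x ⊔ Subgroup.zpowers y) A α ↔
      cjf y (cosf A x η) = cosf A x η := by
  have hn := Glaub.sup_zpowers_le_normalizer hx
  have hxW := Glaub.mem_sup_zpowers A x
  have hyW := mem_norm_sup_zpowers hy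
  constructor
  · rintro ⟨ξ, h1, h2⟩
    have h3 := res_mem_chars le_sup_left h1
    have h4 : res A (res (A ⊔ Subgroup.zpowers x) ξ) = α := by rw [res_res le_sup_left, h2]
    obtain ⟨c, hc⟩ := exists_coset_scalar le_sup_left hn h3 (h4 ▸ hα) (chars_of_irr hη)
      (e := 1) (by rw [one_smul, h4, he]) x
    rw [cosf_eq_smul hc, cjf_smul, cjf_cosf hy, cjf_res hyW,
      cjf_of_cf (cf_of_chars h1) (Glaub.mem_sup_zpowers _ y)]
  · intro h
    have h1 : res A (cjf y η) = res A η := by rw [← cjf_res hy.1, he, mem_stabf.1 hi]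
    obtain ⟨β, b1, b2, b3⟩ := exists_mul_of_ext le_sup_left hn (chars_of_irr hη) (he ▸ hα)
      (cjf_mem_irr hyW hη) (by rw [h1, ip_irr_self (he ▸ hα)]; exact one_ne_zero)
    have d : β 1 = 1 := by
      have := congrFun b3 1
      rw [cjf_apply_one, Pi.mul_apply] at this
      exact mul_right_cancel₀ (irr_apply_one_ne_zero hη) (this.symm.trans (one_mul _).symm)
    have c : β x = 1 := by
      rw [cjf_cosf hy, cosf_eq_smul (η := η) (c := β x) (fun a ha => by
        rw [b3, Pi.mul_apply, b2 a ha])] at h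
      have := ip_cosf_self le_sup_left hn (chars_of_irr hη) (he ▸ hα) hxW
      conv_lhs at this => enter [2]; rw [← h]
      rwa [ip_smul_left, ip_cosf_self le_sup_left hn (chars_of_irr hη) (he ▸ hα) hxW,
        mul_one] at this
    have k : β = triv _ := (irr_eq_triv_iff b1).1 (sup_le
      ((le_cfker_iff (chars_of_irr b1) le_sup_left).2 fun a ha => by simpa using b2 a ha 1)
      ((Subgroup.zpowers_le.2 ((mem_cfker_of_irr b1).2 ⟨hxW, c.trans d.symm⟩))))
    rw [k, mul_comm, mul_triv, res_eq_self (irr_supp hη)] at b3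
    obtain ⟨ξ, a, b⟩ := exists_ext_cyclic hyW hη b3
    exact ⟨ξ, chars_of_irr a, by rw [← res_res le_sup_left, b, he]⟩

open Classical in
theorem sum_coset_normSq (hAG : A ≤ G) (hn : G ≤ Subgroup.normalizer (A : Set Γ))
    (hα : α ∈ irr A) (hinv : G ≤ stabf α) (hx : x ∈ G) :
    ∑ χ ∈ (irr G).filter (Ov A · α), ∑ a ∈ els A, χ (a * x) * conj (χ (a * x)) =
      if GoodE G A α x then (Nat.card (G ⊓ Glaub.commMod A x : Subgroup Γ) : ℂ) else 0 := by
  obtain ⟨η, hη, he⟩ := exists_ext_cyclic (hn hx) hα (hinv hx)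
  have hnW := Glaub.sup_zpowers_le_normalizer (hn hx)
  have hxW := Glaub.mem_sup_zpowers A x
  have hW : A ⊔ Subgroup.zpowers x ≤ G := sup_le hAG (Subgroup.zpowers_le.2 hx)
  set f := cosf A x η with hf
  have ff : ip A f f = 1 := ip_cosf_self le_sup_left hnW (chars_of_irr hη) (he ▸ hα) hxW
  have hF : ind A G f ∈ cf G := ind_mem_cf fun z hz => by
    rw [hf, cosf, if_neg fun h => hz (by simpa using G.mul_mem (hAG h) hx)]
  have e1 : ∀ χ ∈ irr G, (if Ov A χ α then ∑ a ∈ els A, χ (a * x) * conj (χ (a * x)) else 0) =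
      Nat.card A * (ip G (ind A G f) χ * ip G χ (ind A G f)) := fun χ hχ => by
    rw [← ip_conj G (ind A G f), ip_ind_left _ _ (cf_of_irr hχ).2]
    have r := res_mem_chars hW (chars_of_irr hχ)
    have m : ∀ a ∈ els A, res (A ⊔ Subgroup.zpowers x) χ (a * x) = χ (a * x) := fun a ha =>
      res_of_mem _ (Subgroup.mul_mem _ (Subgroup.mem_sup_left (mem_els.1 ha)) hxW)
    split_ifs with h
    · obtain ⟨c, hc⟩ := exists_coset_scalar le_sup_left hnW (chars_of_irr hη) (he ▸ hα) r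
        (by rw [res_res le_sup_left, he]; exact res_eq_smul_of_le_stabf hAG hn hχ hα hinv h) x
      have s := sum_coset_mul_conj_self le_sup_left hnW (chars_of_irr hη) (he ▸ hα) hxW
      have hc' : ∀ a ∈ els A, χ (a * x) = c * η (a * x) := fun a ha => by
        rw [← m a ha, hc a (mem_els.1 ha)]
      have e : ip A f χ = conj c := by
        rw [hf, ip_cosf, Finset.sum_congr rfl (g := fun a => conj c * (η (a * x) * conj (η (a * x))))
          fun a ha => by rw [hc' a ha, map_mul]; ring, ← Finset.mul_sum, s]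
        have := card_ne_zero A
        field_simp
      rw [e, Finset.sum_congr rfl (g := fun a => c * conj c * (η (a * x) * conj (η (a * x))))
          fun a ha => by rw [hc' a ha, map_mul]; ring, ← Finset.mul_sum, s, Complex.conj_conj]
      ring
    · have := sum_coset_mul_conj_eq_zero le_sup_left hnW (chars_of_irr hη) r (by
        unfold Ov at h; push Not at h
        rw [ip_res_comm, res_res le_sup_left, ← ip_res_left (res_supp _ _), he]
        exact ip_comm_of_zero h) hxW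
      rw [Finset.sum_congr rfl fun a ha => by rw [m a ha]] at this
      rw [hf, ip_cosf, this]; simp
  have e2 : (Nat.card A : ℂ) * ip G (ind A G f) (ind A G f) =
      ∑ y ∈ els (G ⊓ Glaub.commMod A x), ip A f (cjf y f) := by
    rw [ip_ind_left _ _ hF.2]
    have : ind A G f = ((Nat.card A : ℂ)⁻¹) • ∑ y ∈ els G, cjf y f := by
      ext z; rw [ind_apply']; simp [cjf_apply]
    rw [this, ip_smul_right, ip_sum_right, map_inv₀, Complex.conj_natCast, ← mul_assoc,
      mul_inv_cancel₀ (card_ne_zero A), one_mul]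
    refine (Finset.sum_subset (fun y hy => mem_els.2
      ((inf_le_left : G ⊓ Glaub.commMod A x ≤ G) (mem_els.1 hy))) fun y hy hy' =>
      ip_eq_zero_of_disjoint _ fun z hz => ?_).symm
    rw [hf, cjf_apply, cosf, if_neg fun h => hy' (mem_els.2 ⟨mem_els.1 hy, hn (mem_els.1 hy), ?_⟩)]
    have h1 : z * x⁻¹ ∈ A := by by_contra h1; exact hz (by rw [hf, cosf, if_neg h1])
    have := A.mul_mem (A.inv_mem ((conj_mem_iff_of_normalizer (hn (mem_els.1 hy)) _).2 h1)) h
    convert this using 1; group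
  rw [Finset.sum_filter, Finset.sum_congr rfl e1, ← Finset.mul_sum, ← ip_eq_sum_irr hF, e2]
  have iff : ∀ y ∈ G ⊓ Glaub.commMod A x, _ := fun y hy =>
    extn_iff_cjf (hn hx) hy.2 hα (hinv hy.1) hη he
  split_ifs with h
  · rw [Finset.sum_congr rfl fun y hy => by
      rw [hf, (iff y (mem_els.1 hy)).1 (h y (mem_els.1 hy).1 (mem_els.1 hy).2.2), ← hf, ff],
      sum_els_const, mul_one]
  · obtain ⟨y, h1, h2, h3⟩ : ∃ y ∈ G, y * x * y⁻¹ * x⁻¹ ∈ A ∧ ¬ Extn
        (A ⊔ Subgroup.zpowers x ⊔ Subgroup.zpowers y) A α := by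
      unfold GoodE at h; push Not at h; exact h
    have hy : y ∈ G ⊓ Glaub.commMod A x := ⟨h1, hn h1, h2⟩
    obtain ⟨c, hc⟩ := exists_coset_scalar le_sup_left hnW (chars_of_irr hη) (he ▸ hα)
      (cjf_mem_chars (mem_norm_sup_zpowers hy.2) (chars_of_irr hη)) (e := 1)
      (by rw [one_smul, ← cjf_res hy.2.1, he, mem_stabf.1 (hinv h1)]) x
    have e3 : cjf y f = c • f := by rw [hf, cjf_cosf hy.2, cosf_eq_smul hc]
    have c1 : conj c ≠ 1 := fun e => h3 ((iff y hy).2 (by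
      rw [← hf, e3, ← Complex.conj_conj c, e, map_one, one_smul]))
    have := sum_els_mul_left hy fun z => ip A f (cjf z f)
    simp only [cjf_mul, e3, cjf_smul, ip_smul_right, ← Finset.mul_sum] at this
    by_contra h0
    exact c1 (mul_right_cancel₀ h0 (this.trans (one_mul _).symm))

open Classical in
theorem cnt_good (hAG : A ≤ G) (hn : G ≤ Subgroup.normalizer (A : Set Γ))
    (hα : α ∈ irr A) (hinv : G ≤ stabf α) :
    (Nat.card G * Nat.card A * cnt G (Ov A · α) : ℂ) = ∑ x ∈ els G,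
      if GoodE G A α x then (Nat.card (G ⊓ Glaub.commMod A x : Subgroup Γ) : ℂ) else 0 := by
  rw [← Finset.sum_congr rfl fun x hx => sum_coset_normSq hAG hn hα hinv (mem_els.1 hx),
    Finset.sum_comm, cnt, Finset.card_eq_sum_ones]
  push_cast
  rw [Finset.mul_sum]
  refine Finset.sum_congr (by congr) fun χ hχ => ?_
  have h1 := (Finset.mem_filter.1 hχ).1
  have h2 := ip_irr_self h1
  rw [ip_eq_sum_els (irr_supp h1)] at h2
  rw [Finset.sum_comm, Finset.sum_congr rfl fun a ha => sum_els_mul_left (hAG (mem_els.1 ha))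
    fun z => χ z * conj (χ z), sum_els_const]
  have := card_ne_zero G
  field_simp at h2
  rw [h2]; ring

omit [Fintype Γ] in
theorem sum_els_of_sup [Finite Γ] (hAG : A ≤ G) (hHG : H ≤ G)
    (hn : H ≤ Subgroup.normalizer (A : Set Γ)) (hs : G ≤ A ⊔ H) (F : Γ → ℂ)
    (hF : ∀ a ∈ A, ∀ h ∈ H, F (a * h) = F h) :
    (Nat.card (A ⊓ H : Subgroup Γ) : ℂ) * ∑ x ∈ els G, F x = Nat.card A * ∑ h ∈ els H, F h := by
  classical
  have e1 : ∀ h ∈ els H, (Nat.card A : ℂ) * F h =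
      ∑ x ∈ els G, if x * h⁻¹ ∈ A then F x else 0 := fun h hh => by
    rw [← sum_els_mul_right (hHG (mem_els.1 hh)), ← Finset.sum_subset
      (fun a ha => mem_els.2 (hAG (mem_els.1 ha)) : els A ⊆ els G), ← sum_els_const]
    · exact Finset.sum_congr rfl fun a ha => by
        simp [mem_els.1 ha, hF a (mem_els.1 ha) h (mem_els.1 hh)]
    · intro a _ ha
      simp [mt mem_els.2 ha]
  rw [Finset.mul_sum, Finset.mul_sum, Finset.sum_congr rfl e1, Finset.sum_comm]
  refine Finset.sum_congr rfl fun x hx => ?_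
  obtain ⟨a, ha, h, hh, rfl⟩ := (mem_sup_iff_of_le_normalizer hn).1 (hs (mem_els.1 hx))
  rw [← sum_els_mul_right hh, ← Finset.sum_subset
    (fun a ha => mem_els.2 (mem_els.1 ha).2 : els (A ⊓ H) ⊆ els H), ← sum_els_const]
  · refine Finset.sum_congr rfl fun b hb => ?_
    rw [if_pos]
    simpa [mul_assoc] using A.mul_mem ha (A.inv_mem (mem_els.1 hb).1)
  · intro b hb hb'
    rw [if_neg fun e => hb' (mem_els.2 ⟨?_, mem_els.1 hb⟩)]
    simpa [mul_assoc] using A.mul_mem (A.inv_mem e) ha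

omit [Fintype Γ] in
theorem sup_zpowers_mul {a : Γ} (ha : a ∈ A) (x : Γ) :
    A ⊔ Subgroup.zpowers (a * x) = A ⊔ Subgroup.zpowers x := by
  refine le_antisymm (sup_le le_sup_left (Subgroup.zpowers_le.2 (Subgroup.mul_mem _
    (Subgroup.mem_sup_left ha) (Glaub.mem_sup_zpowers A x)))) (sup_le le_sup_left
    (Subgroup.zpowers_le.2 ?_))
  simpa using Subgroup.mul_mem _ (Subgroup.mem_sup_left (T := Subgroup.zpowers (a * x))
    (A.inv_mem ha)) (Glaub.mem_sup_zpowers A (a * x))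

omit [Fintype Γ] in
theorem comm_mul_right {a : Γ} (ha : a ∈ A) (hy : y ∈ Subgroup.normalizer (A : Set Γ)) :
    y * (a * x) * y⁻¹ * (a * x)⁻¹ ∈ A ↔ y * x * y⁻¹ * x⁻¹ ∈ A := by
  rw [← A.mul_mem_cancel_left ((conj_mem_iff_of_normalizer hy a).2 ha) (y := y * x * y⁻¹ * x⁻¹),
    ← A.mul_mem_cancel_right (A.inv_mem ha) (y := _ * (y * x * y⁻¹ * x⁻¹))]
  congr! 1; group

omit [Fintype Γ] in
theorem comm_mul_left {a : Γ} (ha : a ∈ A) (hx : x ∈ Subgroup.normalizer (A : Set Γ)) :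
    a * y * x * (a * y)⁻¹ * x⁻¹ ∈ A ↔ y * x * y⁻¹ * x⁻¹ ∈ A := by
  rw [← A.mul_mem_cancel_left ha (y := y * x * y⁻¹ * x⁻¹), ← A.mul_mem_cancel_right
    ((conj_mem_iff_of_normalizer hx a⁻¹).2 (A.inv_mem ha)) (y := _ * (y * x * y⁻¹ * x⁻¹))]
  congr! 1; group

theorem cnt_eq_of_extn (hAG : A ≤ G) (hHG : H ≤ G) (hn : G ≤ Subgroup.normalizer (A : Set Γ))
    (hs : G ≤ A ⊔ H) (hB : B = A ⊓ H) (hα : α ∈ irr A) (hinv : G ≤ stabf α) (hβ : β ∈ irr B)
    (hinv' : H ≤ stabf β)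
    (h : ∀ U, B ≤ U → U ≤ H → (∀ a ∈ U, ∀ b ∈ U, a * b * a⁻¹ * b⁻¹ ∈ B) →
      (Extn (A ⊔ U) A α ↔ Extn U B β)) :
    cnt G (Ov A · α) = cnt H (Ov B · β) := by
  classical
  have hBH : B ≤ H := hB ▸ inf_le_right
  have hBA : B ≤ A := hB ▸ inf_le_left
  have nB : H ≤ Subgroup.normalizer (B : Set Γ) :=
    hB ▸ le_norm_inf (hHG.trans hn) Subgroup.le_normalizer
  have cm : ∀ x ∈ H, ∀ y ∈ H, y * x * y⁻¹ * x⁻¹ ∈ A ↔ y * x * y⁻¹ * x⁻¹ ∈ B := fun x hx y hy =>
    ⟨fun e => hB ▸ ⟨e, H.mul_mem (H.mul_mem (H.mul_mem hy hx) (H.inv_mem hy)) (H.inv_mem hx)⟩,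
      fun e => hBA e⟩
  have key : ∀ x ∈ H, ∀ y ∈ H, y * x * y⁻¹ * x⁻¹ ∈ B →
      (Extn (A ⊔ Subgroup.zpowers x ⊔ Subgroup.zpowers y) A α ↔
        Extn (B ⊔ Subgroup.zpowers x ⊔ Subgroup.zpowers y) B β) := fun x hx y hy e => by
    have le : B ⊔ Subgroup.zpowers x ⊔ Subgroup.zpowers y ≤ H :=
      sup_le (sup_le hBH (Subgroup.zpowers_le.2 hx)) (Subgroup.zpowers_le.2 hy)
    rw [← h _ (le_sup_left.trans le_sup_left) le, ← sup_assoc, ← sup_assoc, sup_eq_left.2 hBA]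
    have c : ∀ z, z ∈ Glaub.commMod B x → z ∈ Glaub.commMod B y → z ∈ H →
        ∀ a ∈ B ⊔ Subgroup.zpowers x ⊔ Subgroup.zpowers y, a ∈ Glaub.commMod B z := by
      intro z h1 h2 h3
      change _ ≤ Glaub.commMod B z
      refine sup_le (sup_le (fun b hb => ⟨nB (hBH hb), ?_⟩) (Subgroup.zpowers_le.2 ⟨nB hx, ?_⟩))
        (Subgroup.zpowers_le.2 ⟨nB hy, ?_⟩)
      · simpa [mul_assoc] using B.mul_mem hb
          ((conj_mem_iff_of_normalizer (nB h3) _).2 (B.inv_mem hb))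
      · simpa [mul_assoc] using B.inv_mem h1.2
      · simpa [mul_assoc] using B.inv_mem h2.2
    intro a ha b hb
    exact (c b (c x ⟨nB hx, by simp⟩ ⟨nB hx, by simpa [mul_assoc] using B.inv_mem e⟩ hx b hb)
      (c y ⟨nB hy, e⟩ ⟨nB hy, by simp⟩ hy b hb) (le hb) a ha).2
  have g : ∀ x ∈ H, GoodE G A α x ↔ GoodE H B β x := fun x hx => by
    refine ⟨fun g y hy e => (key x hx y hy e).1 (g y (hHG hy) (hBA e)), fun g y hy e => ?_⟩
    obtain ⟨a, ha, y, hy', rfl⟩ := (mem_sup_iff_of_le_normalizer (hHG.trans hn)).1 (hs hy)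
    rw [comm_mul_left ha (hn (hHG hx)), cm x hx y hy'] at e
    rw [sup_right_comm, sup_zpowers_mul ha, sup_right_comm]
    exact (key x hx y hy' e).2 (g y hy' e)
  have cc : ∀ x ∈ H, (Nat.card B : ℂ) * Nat.card (G ⊓ Glaub.commMod A x : Subgroup Γ) =
      Nat.card A * Nat.card (H ⊓ Glaub.commMod B x : Subgroup Γ) := fun x hx => by
    have := sum_els_of_sup (G := G ⊓ Glaub.commMod A x) (H := H ⊓ Glaub.commMod B x) (A := A)
      (fun a ha => ⟨hAG ha, hn (hAG ha), by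
        simpa [mul_assoc] using A.mul_mem ha
          ((conj_mem_iff_of_normalizer (hn (hHG hx)) _).2 (A.inv_mem ha))⟩)
      (fun y hy => ⟨hHG hy.1, hn (hHG hy.1), hBA hy.2.2⟩) (inf_le_left.trans (hHG.trans hn))
      (fun y hy => by
        obtain ⟨a, ha, y, hy', rfl⟩ := (mem_sup_iff_of_le_normalizer (hHG.trans hn)).1 (hs hy.1)
        exact Subgroup.mul_mem _ (Subgroup.mem_sup_left ha) (Subgroup.mem_sup_right ⟨hy', nB hy',
          (cm x hx y hy').1 ((comm_mul_left ha (hn (hHG hx))).1 hy.2.2)⟩))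
      (fun _ => 1) fun _ _ _ _ => rfl
    rw [sum_els_const, sum_els_const, mul_one, mul_one, ← inf_assoc, ← hB,
      inf_eq_left.2 (fun b hb => ⟨nB (hBH hb), by
        simpa [mul_assoc] using B.mul_mem hb
          ((conj_mem_iff_of_normalizer (nB hx) _).2 (B.inv_mem hb))⟩ : B ≤ Glaub.commMod B x)] at this
    exact this
  have s1 := sum_els_of_sup hAG hHG (hHG.trans hn) hs (fun x => if GoodE G A α x then
      (Nat.card (G ⊓ Glaub.commMod A x : Subgroup Γ) : ℂ) else 0) fun a ha x hx => by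
    have e1 : G ⊓ Glaub.commMod A (a * x) = G ⊓ Glaub.commMod A x := by
      ext y
      exact and_congr_right fun hy => and_congr_right fun hy' => comm_mul_right ha hy'
    have e2 : GoodE G A α (a * x) ↔ GoodE G A α x := by
      unfold GoodE
      rw [sup_zpowers_mul ha]
      exact forall₂_congr fun y hy => by rw [comm_mul_right ha (hn hy)]
    simp only [e1, e2]
  have s2 := sum_els_of_sup hAG hHG (hHG.trans hn) hs (fun _ => 1) fun _ _ _ _ => rfl
  rw [sum_els_const, sum_els_const, mul_one, mul_one, ← hB] at s2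
  rw [← cnt_good hAG hn hα hinv, ← hB] at s1
  have s3 : (Nat.card B : ℂ) * ∑ x ∈ els H, (if GoodE G A α x then
      (Nat.card (G ⊓ Glaub.commMod A x : Subgroup Γ) : ℂ) else 0) = Nat.card A *
      (Nat.card H * Nat.card B * cnt H (Ov B · β)) := by
    rw [cnt_good hBH nB hβ hinv', Finset.mul_sum, Finset.mul_sum]
    refine Finset.sum_congr rfl fun x hx => ?_
    rw [g x (mem_els.1 hx)]
    split_ifs
    · exact cc x (mem_els.1 hx)
    · simp
  have a0 := card_ne_zero A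
  have b0 := card_ne_zero B
  have h0 := card_ne_zero H
  have : ((Nat.card A : ℂ) * Nat.card A * Nat.card H * Nat.card B) * cnt G (Ov A · α) =
      ((Nat.card A : ℂ) * Nat.card A * Nat.card H * Nat.card B) * cnt H (Ov B · β) := by
    linear_combination (Nat.card B : ℂ) * s1 + (Nat.card A : ℂ) * s3 -
      (Nat.card B * Nat.card A * cnt G (Ov A · α) : ℂ) * s2
  exact_mod_cast mul_left_cancel₀ (mul_ne_zero (mul_ne_zero (mul_ne_zero a0 a0) h0) b0) this

end H8
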