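import Cfsg.Agent.H8.MK3
import Cfsg.Agent.H18.BG1

/-! The Okuyama–Wajima argument for the relative Glauberman correspondence: `GlR` (setup),
`GlR.corr`, `GlR.ow` (an invariant character extends along an abelian `p'`-section iff its
Glauberman correspondent does). -/

set_option autoImplicit false
open H5 H19 Cfsg
open scoped ComplexConjugate commutatorElement

namespace H8

variable {Γ : Type*} [Group Γ] {A B C D G K K₁ L N P Q R S T U : Subgroup Γ}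
  {θ θ' χ ψ η η' ξ β : Γ → ℂ} {p : ℕ}

open H18 in
theorem ow_group [Finite Γ] (hCU : C ≤ U) (hU : U ≤ N(C)) (hR : R ≤ N(C))
    (hab : ∀ a ∈ U, ∀ b ∈ U, a * b * a⁻¹ * b⁻¹ ∈ C) (hn : U ≤ N(R))
    (hc : (C.relIndex U).Coprime (C.relIndex R)) (hD : R ⊓ C ≤ D) (hDR : D ≤ R) (h : ¬ R ≤ D) :
    ∃ (B : Subgroup Γ) (u x : Γ), C ≤ B ∧ B ≤ U ∧ u ∈ U ∧ U ≤ B ⊔ Subgroup.zpowers u ∧ x ∈ R ∧
      x ∉ D ∧ ∀ b ∈ B, x * b * x⁻¹ * b⁻¹ ∈ C := by
  by_contra hcon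
  apply h
  have := coprime_abelian_gen_cent (A := U ⫽ C) (K := R ⫽ C) (X := D ⫽ C)
    ((abel_quo_iff hU).2 (Subgroup.commutator_le.2 hab)) (mim_norm hn)
    (by rwa [card_quo hU, card_quo hR]) fun B hB ⟨a, ha, e⟩ z hz => by
      obtain ⟨x, hx, rfl⟩ := (mem_quo hR).1 hz.1
      obtain ⟨u, hu, rfl⟩ := (mem_quo hU).1 ha
      by_cases h1 : x ∈ D
      · exact mfun_mem_mim h1
      refine absurd ⟨qpre C B, u, x, le_qpre, qpre_le_of_le ⟨hCU, hU⟩ hB, hu, ?_, hx, h1,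
        fun b hb => ?_⟩ hcon
      · refine (le_mpre_mim (f := coset C) hU).trans ?_
        rw [← e, qpre_sup, ← mim_zpowers (hU hu), qpre_quo (Subgroup.zpowers_le.2 (hU hu))]
        exact sup_le le_sup_left (sup_le le_sup_right (le_qpre.trans le_sup_left))
      · obtain ⟨b1, b2⟩ := mem_mpre.1 hb
        rw [← cs_eq_one_iff (Subgroup.mul_mem _ (Subgroup.mul_mem _
          (Subgroup.mul_mem _ (hR hx) b1) (Subgroup.inv_mem _ (hR hx))) (Subgroup.inv_mem _ b1)),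
          ← commutatorElement_def,
          mfun_comm (hR hx) b1, commutatorElement_eq_one_iff_mul_comm]
        exact (hz.2 _ b2).symm
  intro r hr
  obtain ⟨c, hc, d, hd, rfl⟩ := (mem_sup_iff_of_le_normalizer (hDR.trans hR)).1
    (sup_comm D C ▸ (quo_le_quo_iff hR (hDR.trans hR)).1 this hr)
  exact D.mul_mem (hD ⟨(R.mul_mem_cancel_right (hDR hd)).1 hr, hc⟩) hd

theorem exists_central_mod [Finite Γ] [hp : Fact p.Prime] (hDP : D ≤ P)
    (hn : P ≤ Subgroup.normalizer (D : Set Γ)) {m : ℕ} (hm : D.relIndex P ∣ p ^ m)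
    (h : ¬ P ≤ D) : ∃ x ∈ P, x ∉ D ∧ ∀ y ∈ P, y * x * y⁻¹ * x⁻¹ ∈ D := by
  haveI := normal_subgroupOf_of_le_normalizer hn
  obtain ⟨k, -, hk⟩ := (Nat.dvd_prime_pow hp.out).1 hm
  have hP : IsPGroup p (P ⧸ D.subgroupOf P) := IsPGroup.of_card hk
  haveI : Nontrivial (P ⧸ D.subgroupOf P) := by
    rw [QuotientGroup.nontrivial_iff]
    exact fun e => h (Subgroup.subgroupOf_eq_top.1 e)
  obtain ⟨⟨z, hz⟩, h1⟩ := @exists_ne _ hP.center_nontrivial 1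
  obtain ⟨x, rfl⟩ := QuotientGroup.mk_surjective z
  refine ⟨x, x.2, fun e => h1 (Subtype.ext ((QuotientGroup.eq_one_iff x).2 e)), fun y hy => ?_⟩
  have := Subgroup.mem_center_iff.1 hz ((⟨y, hy⟩ : P) : P ⧸ D.subgroupOf P)
  have e : (((⟨y, hy⟩ : P) * x * (⟨y, hy⟩ : P)⁻¹ * x⁻¹ : P) : P ⧸ D.subgroupOf P) = 1 := by
    simp [this]
  exact (QuotientGroup.eq_one_iff (N := D.subgroupOf P) _).1 e

theorem exists_syl_sup [Finite Γ] [Fact p.Prime] (hLP : L ≤ P) {m : ℕ}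
    (hm : L.relIndex P ∣ p ^ m) (hT : IsPGroup p T) (hTP : T ≤ P) :
    ∃ S : Subgroup Γ, IsPGroup p S ∧ T ≤ S ∧ S ≤ P ∧ P ≤ L ⊔ S := by
  obtain ⟨S, h1, h2⟩ := H7.exists_sylIn_le hT hTP
  exact ⟨S, h1.isPGroup, h2, h1.le, le_sup_of_pow hLP h1 hm⟩

theorem stab_iff [Finite Γ] (hL : L ≤ K) (hS : S ≤ P) (hP : P ≤ L ⊔ S) :
    ∀ χ ∈ irr K, S ≤ stabf χ ↔ P ≤ stabf χ := fun _ hχ =>
  ⟨fun h => hP.trans (sup_le (hL.trans (le_stabf_of_cf (cf_of_irr hχ))) h), hS.trans⟩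

/-- setup of the relative Glauberman correspondence -/
structure GlR (p : ℕ) (L K P C : Subgroup Γ) : Prop where
  LK : L ≤ K
  nK : K ≤ Subgroup.normalizer (L : Set Γ)
  LP : L ≤ P
  nP : P ≤ Subgroup.normalizer (L : Set Γ)
  PK : P ≤ Subgroup.normalizer (K : Set Γ)
  pP : ∃ m, L.relIndex P ∣ p ^ m
  cop : ¬ p ∣ L.relIndex K
  hC : ∀ c, c ∈ C ↔ c ∈ K ∧ ∀ x ∈ P, x * c * x⁻¹ * c⁻¹ ∈ L

theorem GlR.CK (h : GlR p L K P C) : C ≤ K := fun c hc => ((h.hC c).1 hc).1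

theorem GlR.LC (h : GlR p L K P C) : L ≤ C := fun c hc => (h.hC c).2 ⟨h.LK hc, fun _ hx =>
  L.mul_mem (conj_mem_of_le_normalizer h.nP hx hc) (L.inv_mem hc)⟩

theorem GlR.PC (h : GlR p L K P C) : P ≤ Subgroup.normalizer (C : Set Γ) :=
  le_normalizer_of_forall fun x hx c hc => by
    simpa using C.mul_mem (h.LC (((h.hC c).1 hc).2 x hx)) hc

theorem GlR.inf [Finite Γ] [hp : Fact p.Prime] (h : GlR p L K P C) : P ⊓ K ≤ L := by
  obtain ⟨m, hm⟩ := h.pP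
  obtain ⟨k, -, e⟩ := (Nat.dvd_prime_pow hp.out).1
    ((relIndex_dvd_of_nml h.nP (inf_le_left : P ⊓ K ≤ P)).trans hm)
  rcases k with _ | k
  · exact Subgroup.relIndex_eq_one.1 (by simpa using e)
  · exact absurd ((dvd_pow_self p k.succ_ne_zero).trans
      (e ▸ relIndex_dvd_of_nml h.nK inf_le_right)) h.cop

variable [Fintype Γ] [hp : Fact p.Prime]
open Glaub

theorem GlR.corr_le (h : GlR p L K Q C) (hQ : Q ≤ P) {m : ℕ} (hm : L.relIndex P ∣ p ^ m)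
    (hK : P ≤ Subgroup.normalizer (K : Set Γ)) (hC : P ≤ Subgroup.normalizer (C : Set Γ)) :
    Corr p K C P := by
  obtain ⟨k, hk⟩ := h.pP
  obtain ⟨T, a1, -, a2, a3⟩ := exists_syl_sup h.LP hk IsPGroup.of_bot bot_le
  obtain ⟨S, b1, b2, b3, b4⟩ := exists_syl_sup (h.LP.trans hQ) hm a1 (a2.trans hQ)
  have c : Corr p K C T := corr_pgroup hp.out T h.LK h.nK (a2.trans h.PK) (a2.trans h.nP) a1 h.cop
    fun c => (h.hC c).trans (and_congr_right fun hc => ⟨fun e x hx => e x (a2 hx), fun e x hx => by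
      obtain ⟨l, hl, t, ht, rfl⟩ := (mem_sup_iff_of_le_normalizer (a2.trans h.nP)).1 (a3 hx)
      exact (comm_mul_left hl (h.nK hc)).2 (e t ht)⟩)
  exact (c.of_le hp.out b2 b1 (b3.trans hK) (b3.trans hC)).congr (stab_iff h.LK b3 b4)
    (stab_iff h.LC b3 b4)

theorem GlR.corr (h : GlR p L K P C) : Corr p K C P :=
  h.pP.elim fun _ hm => h.corr_le le_rfl hm h.PK h.PC

theorem modEq_rel (h : Corr p K B P) (hLP : L ≤ P) {m : ℕ} (hm : L.relIndex P ∣ p ^ m)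
    (hLC : L ≤ C) (hBK : B ≤ K) (hCB : C ≤ B) (hB : P ≤ Subgroup.normalizer (B : Set Γ))
    (hC : P ≤ Subgroup.normalizer (C : Set Γ)) (hχ : χ ∈ irr K) (hPχ : P ≤ stabf χ)
    (hψ : ψ ∈ irr B) (hPψ : P ≤ stabf ψ) (hξ : ξ ∈ chars C) (hPξ : P ≤ stabf ξ)
    (g : Gl p B χ ψ) {a b c : ℕ} (ha : ip B (res B χ) ψ = a) (hb : ip C (res C ψ) ξ = b)
    (hc : ip C (res C χ) ξ = c) : c ≡ a * b [MOD p] := by
  obtain ⟨S, b1, -, b3, b4⟩ := exists_syl_sup hLP hm IsPGroup.of_bot bot_le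
  exact (h.congr (fun χ hχ => (stab_iff (hLC.trans (hCB.trans hBK)) b3 b4 χ hχ).symm)
    fun χ hχ => (stab_iff (hLC.trans hCB) b3 b4 χ hχ).symm).modEq_mul hp.out le_rfl b1 hBK hCB
    (b3.trans hB) (b3.trans hC) hχ (b3.trans hPχ) hψ (b3.trans hPψ) hξ (b3.trans hPξ) g ha hb hc

omit hp in
theorem exists_res_eq (hNG : N ≤ G) (hn : G ≤ Subgroup.normalizer (N : Set Γ)) (hχ : χ ∈ irr G)
    (hθ : θ ∈ irr N) (hinv : G ≤ stabf θ) (h : Ov N χ θ) :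
    ∃ e : ℕ, e ∣ N.relIndex G ∧ res N χ = (e : ℂ) • θ := by
  obtain ⟨b, b1, b2⟩ := exists_dg_mul hNG hn hχ hθ h
  have e := res_eq_smul_of_le_stabf hNG hn hχ hθ hinv h
  refine ⟨b, b1, e.trans ?_⟩
  congr 1
  have := congrFun e 1
  rw [res_one, irr_apply_one hχ, b2, Pi.smul_apply, irr_apply_one hθ, smul_eq_mul] at this
  push_cast at this
  exact (mul_right_cancel₀ (irr_apply_one hθ ▸ irr_apply_one_ne_zero hθ) this).symm

omit hp in
theorem cnt_mul_sq (hNG : N ≤ G) (hab : ∀ a ∈ G, ∀ b ∈ G, a * b * a⁻¹ * b⁻¹ ∈ N) (hθ : θ ∈ irr N)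
    (hinv : G ≤ stabf θ) (hχ : χ ∈ irr G) {e : ℕ} (he : res N χ = (e : ℂ) • θ) :
    cnt G (Ov N · θ) * e ^ 2 = N.relIndex G := by
  classical
  have h0 : Ov N χ θ := by
    unfold Ov
    rw [he, ip_smul_left, ip_irr_self hθ, mul_one]
    intro e0
    have := congrFun he 1
    rw [e0, res_one, zero_smul] at this
    exact irr_apply_one_ne_zero hχ this
  have h1 := ip_eq_sum_irr (ind_mem_cf' hNG (cf_of_irr hθ) (H := N)) (ind N G θ)
  rw [ip_ind_left _ _ (ind_mem_cf' hNG (cf_of_irr hθ)).2] at h1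
  conv_lhs at h1 => rw [ind_of_stab hNG hinv, ip_smul_right, ip_irr_self hθ, mul_one,
    Complex.conj_natCast]
  rw [Finset.sum_congr rfl (g := fun ψ => if Ov N ψ θ then (e : ℂ) ^ 2 else 0) fun ψ hψ => ?_,
    ← Finset.sum_filter, Finset.sum_const, nsmul_eq_mul] at h1
  · unfold cnt
    have h2 : ((irr G).filter fun a => Ov N a θ).card * e ^ 2 = N.relIndex G := by
      exact_mod_cast h1.symm
    convert h2
  rw [← ip_conj G ψ, ip_res_ind (cf_of_irr hθ) (cf_of_irr hψ)]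
  split_ifs with h
  · obtain ⟨lam, l1, rfl⟩ := exists_lin_mul hNG hab hχ hψ hθ h0 h
    have : res N (χ * extendByZero G fun g => (lam g : ℂ)) = res N χ :=
      eq_of_eqOn (res_supp _ _) (res_supp _ _) fun x hx => by
        rw [res_of_mem _ hx, res_of_mem _ hx, Pi.mul_apply, H19.extendByZero_of_mem _ (hNG hx),
          l1 _ hx]; simp
    rw [this, he, ip_smul_left, ip_irr_self hθ, mul_one, Complex.conj_natCast, sq]
  · unfold Ov at h; push Not at h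
    rw [h, mul_zero]

theorem GlR.ov_iff (h1 : GlR p L K₁ Q B) (h : GlR p L K Q C) (hK : K ≤ K₁) (hC : C ≤ B)
    (nK : K₁ ≤ Subgroup.normalizer (K : Set Γ)) (nC : B ≤ Subgroup.normalizer (C : Set Γ))
    (hθ : θ ∈ irr K) (i1 : K₁ ≤ stabf θ) (i2 : Q ≤ stabf θ) (hθ' : θ' ∈ irr C)
    (i3 : B ≤ stabf θ') (i4 : Q ≤ stabf θ') (g : Gl p C θ θ') (hη : η ∈ irr K₁)
    (i5 : Q ≤ stabf η) (hη' : η' ∈ irr B) (i6 : Q ≤ stabf η') (g' : Gl p B η η') :
    Ov K η θ ↔ Ov C η' θ' := by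
  classical
  obtain ⟨m, hm⟩ := h.pP
  obtain ⟨a, ha, ha'⟩ := id g'
  obtain ⟨b, hb⟩ := ip_nat (res_mem_chars hC (chars_of_irr hη')) (chars_of_irr hθ')
  obtain ⟨c, hc⟩ := ip_nat (res_mem_chars (h.CK.trans hK) (chars_of_irr hη)) (chars_of_irr hθ')
  have md := modEq_rel h1.corr h.LP hm h.LC h1.CK hC h1.PC h.PC hη i5 hη' i6 (chars_of_irr hθ') i4
    g' ha hb hc
  constructor
  · intro o
    obtain ⟨e, e1, e2⟩ := exists_res_eq hK nK hη hθ i1 o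
    obtain ⟨k, hk, hk'⟩ := g
    rw [← res_res h.CK, e2, map_smul, ip_smul_left, hk] at hc
    obtain rfl : e * k = c := by exact_mod_cast hc
    intro e0
    rw [hb, Nat.cast_eq_zero] at e0
    rw [e0, mul_zero] at md
    rcases hp.out.dvd_mul.1 (Nat.modEq_zero_iff_dvd.1 md) with d | d
    · exact h1.cop (d.trans (e1.trans (Subgroup.relIndex_dvd_of_le_left _ h.LK)))
    · exact hk' d
  · intro o
    obtain ⟨e, e1, e2⟩ := exists_res_eq hC nC hη' hθ' i3 o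
    rw [e2, ip_smul_left, ip_irr_self hθ', mul_one, Nat.cast_inj] at hb
    subst hb
    have nd : ¬ p ∣ c := fun d => by
      rcases hp.out.dvd_mul.1 ((md.dvd_iff dvd_rfl).1 d) with d | d
      · exact ha' d
      · exact h1.cop (d.trans (e1.trans ((Subgroup.relIndex_dvd_of_le_left _ h.LC).trans
          (relIndex_dvd_of_nml h1.nK h1.CK))))
    by_contra o'
    have r := res_mem_chars hK (chars_of_irr hη)
    have : ∀ φ, ∃ n : ℕ × ℕ, φ ∈ irr K → ip K (res K η) φ = n.1 ∧ ip C (res C φ) θ' = n.2 :=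
      fun φ => by
        by_cases hφ : φ ∈ irr K
        · obtain ⟨n1, a1⟩ := ip_nat r (chars_of_irr hφ)
          obtain ⟨n2, a2⟩ := ip_nat (res_mem_chars h.CK (chars_of_irr hφ)) (chars_of_irr hθ')
          exact ⟨(n1, n2), fun _ => ⟨a1, a2⟩⟩
        · exact ⟨0, fun h => absurd h hφ⟩
    choose n hn using this
    obtain ⟨S, b1, -, b3, b4⟩ := exists_syl_sup h.LP hm IsPGroup.of_bot bot_le
    have d := dvd_sum_of_fixed hp.out b1 (irr K) (fun x hx φ hφ => cjf_mem_irr (h.PK (b3 hx)) hφ)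
      (fun φ => (n φ).1 * (n φ).2) (fun x hx φ hφ => by
        have a1 := hn _ (cjf_mem_irr (h.PK (b3 hx)) hφ)
        have a2 := hn _ hφ
        rw [ip_cjf_right _ _ (by rw [cjf_res (h.PK (b3 hx)), mem_stabf.1 (i5 (b3 hx))]),
          ← cjf_res (h.PC (b3 hx)), ip_cjf_left _ _ (i4 (b3 hx)), a2.1, a2.2, Nat.cast_inj,
          Nat.cast_inj] at a1
        simp only [a1.1, a1.2]) fun φ hφ hs => by
        by_cases d : p ∣ (n φ).2
        · exact d.mul_left _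
        · obtain rfl := h.corr.inj φ hφ ((stab_iff h.LK b3 b4 φ hφ).1 hs) θ hθ i2 θ' hθ' i4
            ⟨_, (hn φ hφ).2, d⟩ g
          unfold Ov at o'; push Not at o'
          have := (hn φ hφ).1
          rw [o', eq_comm, Nat.cast_eq_zero] at this
          simp [this]
    refine nd (d.trans (dvd_of_eq ?_))
    rw [← res_res h.CK, cf_eq_sum (cf_of_chars r), map_sum, ip_sum_left,
      Finset.sum_congr rfl (g := fun φ => (((n φ).1 * (n φ).2 : ℕ) : ℂ)) fun φ hφ => by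
        rw [map_smul, ip_smul_left, (hn φ hφ).1, (hn φ hφ).2, Nat.cast_mul]] at hc
    exact_mod_cast hc

theorem GlR.ow1 (h : GlR p L K Q C) (hCB : C ≤ B) (hBU : B ≤ U) {u : Γ} (hu : u ∈ U)
    (hU : U ≤ B ⊔ Subgroup.zpowers u) (hQB : ∀ x ∈ Q, ∀ b ∈ B, x * b * x⁻¹ * b⁻¹ ∈ L)
    (nK : U ≤ Subgroup.normalizer (K : Set Γ)) (nL : U ≤ Subgroup.normalizer (L : Set Γ))
    (nQ : U ≤ Subgroup.normalizer (Q : Set Γ)) (hab : ∀ a ∈ U, ∀ b ∈ U, a * b * a⁻¹ * b⁻¹ ∈ C)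
    (hc : ¬ p ∣ C.relIndex U) (hθ : θ ∈ irr K) (i1 : Q ≤ stabf θ) (i2 : U ≤ stabf θ)
    (hθ' : θ' ∈ irr C) (i3 : Q ≤ stabf θ') (g : Gl p C θ θ') :
    Extn (K ⊔ U) K θ ↔ Extn U C θ' := by
  obtain ⟨m, hm⟩ := h.pP
  have nC : U ≤ Subgroup.normalizer (C : Set Γ) := fun y hy =>
    mem_normalizer_of_relC h.hC (nL hy) (nK hy) (nQ hy)
  have nB : U ≤ Subgroup.normalizer (B : Set Γ) := le_normalizer_of_forall fun y hy b hb => by
    simpa using B.mul_mem (hCB (hab y hy b (hBU hb))) hb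
  have QB : Q ≤ Subgroup.normalizer (B : Set Γ) := le_normalizer_of_forall fun y hy b hb => by
    simpa using B.mul_mem (hCB (h.LC (hQB y hy b hb))) hb
  have i4 : U ≤ stabf θ' := fun y hy =>
    h.corr.cjf_right (nC hy) (nQ hy) hθ i1 hθ' i3 g (i2 hy)
  have BK : K ⊓ B = C := le_antisymm (fun c hc => (h.hC c).2 ⟨hc.1, fun x hx => hQB x hx c hc.2⟩)
    (le_inf h.CK hCB)
  have n1 : K ⊔ B ≤ Subgroup.normalizer (K : Set Γ) :=
    sup_le Subgroup.le_normalizer (hBU.trans nK)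
  have ri : K.relIndex (K ⊔ B) = C.relIndex B := by
    rw [← relIndex_inf_of_sup le_sup_left le_sup_right n1 le_rfl, BK]
  have hc' : ¬ p ∣ C.relIndex B := fun d => hc (d.trans (relIndex_dvd_of_nml nC hBU))
  have cm : ∀ x ∈ Q, ∀ k ∈ K, ∀ b ∈ B, x * (k * b) * x⁻¹ * (k * b)⁻¹ =
      x * k * x⁻¹ * (x * b * x⁻¹ * b⁻¹) * k⁻¹ := fun _ _ _ _ _ _ => by group
  have h1 : GlR p L (K ⊔ B) Q B := ⟨h.LK.trans le_sup_left, sup_le h.nK (hBU.trans nL), h.LP, h.nP,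
    le_norm_sup (hBU.trans nK) h.PK QB, h.pP, fun d => by
      rw [← Subgroup.relIndex_mul_relIndex L K _ h.LK le_sup_left, ri] at d
      exact (hp.out.dvd_mul.1 d).elim h.cop hc', fun c => ⟨fun hc =>
        ⟨Subgroup.mem_sup_right hc, fun x hx => hQB x hx c hc⟩, fun ⟨h1, h2⟩ => by
      obtain ⟨k, hk, b, hb, rfl⟩ := (mem_sup_iff_of_le_normalizer (hBU.trans nK)).1 h1
      refine B.mul_mem (hCB ((h.hC k).2 ⟨hk, fun x hx => ?_⟩)) hb
      have := L.mul_mem (h2 x hx) (conj_mem_of_le_normalizer h.nK hk (L.inv_mem (hQB x hx b hb)))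
      convert this using 1; group⟩⟩
  have j1 : ∀ η ∈ irr (K ⊔ B), Ov K η θ → Q ≤ stabf η := fun η hη o x hx =>
    mem_stabf_of_trivial le_sup_left n1 hη hθ (sup_le (le_stabf_of_cf (cf_of_irr hθ))
      (hBU.trans i2)) o (h.PK hx) (h1.PK hx) (i1 hx) (fun y hy => by
        obtain ⟨k, hk, b, hb, rfl⟩ := (mem_sup_iff_of_le_normalizer (hBU.trans nK)).1 hy
        rw [cm x hx k hk b hb]
        exact K.mul_mem (K.mul_mem (conj_mem_of_le_normalizer h.PK hx hk)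
          (h.LK (hQB x hx b hb))) (K.inv_mem hk)) (h.LK (pow_relIndex_mem h.nP hx))
      (((hp.out.coprime_iff_not_dvd.2 (ri ▸ hc')).pow_left m).coprime_dvd_left hm)
  have j2 : ∀ η ∈ irr B, Ov C η θ' → Q ≤ stabf η := fun η hη o x hx =>
    mem_stabf_of_trivial hCB (hBU.trans nC) hη hθ' (hBU.trans i4) o (h.PC hx) (QB hx) (i3 hx)
      (fun y hy => h.LC (hQB x hx y hy)) (h.LC (pow_relIndex_mem h.nP hx))
      (((hp.out.coprime_iff_not_dvd.2 hc').pow_left m).coprime_dvd_left hm)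
  have i5 : K ⊔ B ≤ stabf θ := sup_le (le_stabf_of_cf (cf_of_irr hθ)) (hBU.trans i2)
  have ov := fun η η' => h1.ov_iff (η := η) (η' := η') h le_sup_left hCB n1 (hBU.trans nC) hθ i5
    i1 hθ' (hBU.trans i4) i3 g
  have co := h1.corr
  have ex : ∀ η, ∃ η', η ∈ irr (K ⊔ B) → Q ≤ stabf η → η' ∈ irr B ∧ Q ≤ stabf η' ∧ Gl p B η η' :=
    fun η => by
      by_cases e : η ∈ irr (K ⊔ B) ∧ Q ≤ stabf η
      · obtain ⟨β, b⟩ := co.ex η e.1 e.2
        exact ⟨β, fun _ _ => b⟩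
      · exact ⟨0, fun a b => absurd ⟨a, b⟩ e⟩
  choose f hf using ex
  have cn : cnt (K ⊔ B) (Ov K · θ) = cnt B (Ov C · θ') := cnt_bij f
    (fun η a b => ⟨(hf η a (j1 η a b)).1, (ov _ _ a (j1 η a b) (hf η a (j1 η a b)).1
      (hf η a (j1 η a b)).2.1 (hf η a (j1 η a b)).2.2).1 b⟩)
    (fun η a b η' a' b' e => co.inj η a (j1 η a b) η' a' (j1 η' a' b') _ (hf η a (j1 η a b)).1
      (hf η a (j1 η a b)).2.1 (hf η a (j1 η a b)).2.2 (e ▸ (hf η' a' (j1 η' a' b')).2.2))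
    fun η' a b => by
      obtain ⟨η, c1, c2, c3⟩ := co.surj η' a (j2 η' a b)
      exact ⟨η, c1, (ov _ _ c1 c2 a (j2 η' a b) c3).2 b, co.uniq η c1 c2 _ (hf η c1 c2).1
        (hf η c1 c2).2.1 _ a (j2 η' a b) (hf η c1 c2).2.2 c3⟩
  have ab1 : ∀ a ∈ K ⊔ B, ∀ b ∈ K ⊔ B, a * b * a⁻¹ * b⁻¹ ∈ K := fun a ha b hb => by
    obtain ⟨k, hk, a, ha', rfl⟩ := (mem_sup_iff_of_le_normalizer (hBU.trans nK)).1 ha
    obtain ⟨l, hl, b, hb', rfl⟩ := (mem_sup_iff_of_le_normalizer (hBU.trans nK)).1 hb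
    rw [comm_mul_left hk (n1 hb), comm_mul_right hl (nK (hBU ha'))]
    exact h.CK (hab a (hBU ha') b (hBU hb'))
  have dd : ∀ η ∈ irr (K ⊔ B), Ov K η θ → ∀ η' ∈ irr B, Ov C η' θ' →
      (res K η = θ ↔ res C η' = θ') := fun η a b η' a' b' => by
    obtain ⟨e, -, e2⟩ := exists_res_eq le_sup_left n1 a hθ i5 b
    obtain ⟨e', -, e2'⟩ := exists_res_eq hCB (hBU.trans nC) a' hθ' (hBU.trans i4) b'
    have s1 := cnt_mul_sq le_sup_left ab1 hθ i5 a e2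
    have s2 := cnt_mul_sq hCB (fun a ha b hb => hab a (hBU ha) b (hBU hb)) hθ' (hBU.trans i4) a' e2'
    rw [cn, ri, ← s2] at s1
    obtain rfl : e = e' := Nat.pow_left_injective two_ne_zero
      (Nat.eq_of_mul_eq_mul_left (Nat.pos_of_ne_zero (cnt_ne_zero.2 ⟨η', a', b'⟩)) s1)
    have t : ∀ {X : Subgroup Γ} {φ : Γ → ℂ}, φ ∈ irr X → ((e : ℂ) • φ = φ ↔ (e : ℂ) = 1) :=
      fun hφ => ⟨fun e => by
        have := congrFun e 1
        exact mul_right_cancel₀ (irr_apply_one_ne_zero hφ) (this.trans (one_mul _).symm),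
        fun e => by rw [e, one_smul]⟩
    rw [e2, e2', t hθ, t hθ']
  have nU : U ≤ Subgroup.normalizer ((K ⊔ B : Subgroup Γ) : Set Γ) :=
    le_norm_sup (hBU.trans nK) nK nB
  constructor
  · rintro ⟨ξ, x1, x2⟩
    have le : K ⊔ B ≤ K ⊔ U := sup_le_sup_left hBU _
    have a := res_irr_of_res le_sup_left le x1 (x2 ▸ hθ)
    have r : res K (res (K ⊔ B) ξ) = θ := by rw [res_res le_sup_left, x2]
    have o := ov_of_res hθ r
    obtain ⟨c1, c2, c3⟩ := hf _ a (j1 _ a o)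
    have := co.cjf_right (nB hu) (nQ hu) a (j1 _ a o) c1 c2 c3 (by
      rw [cjf_res (nU hu), cjf_of_cf (cf_of_chars x1) (Subgroup.mem_sup_right hu)])
    obtain ⟨ζ, z1, z2⟩ := exists_ext_cyclic (nB hu) c1 this
    refine Extn.mono ⟨ζ, chars_of_irr z1, ?_⟩ (hCB.trans hBU) hU
    rw [← res_res hCB, z2]
    exact (dd _ a o _ c1 ((ov _ _ a (j1 _ a o) c1 c2 c3).1 o)).1 r
  · rintro ⟨ξ, x1, x2⟩
    have a := res_irr_of_res hCB hBU x1 (x2 ▸ hθ')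
    have r : res C (res B ξ) = θ' := by rw [res_res hCB, x2]
    have o := ov_of_res hθ' r
    obtain ⟨η, c1, c2, c3⟩ := co.surj _ a (j2 _ a o)
    have := co.cjf_left (nU hu) (nB hu) (nQ hu) c1 c2 a (j2 _ a o) c3 (by
      rw [cjf_res (nB hu), cjf_of_cf (cf_of_chars x1) hu])
    obtain ⟨ζ, z1, z2⟩ := exists_ext_cyclic (nU hu) c1 this
    refine Extn.mono ⟨ζ, chars_of_irr z1, ?_⟩ le_sup_left
      (sup_le (le_sup_left.trans le_sup_left) (hU.trans (sup_le_sup_right le_sup_right _)))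
    rw [← res_res (le_sup_left : K ≤ K ⊔ B), z2]
    exact (dd _ c1 ((ov _ _ c1 c2 a (j2 _ a o) c3).2 o) _ a o).2 r

theorem GlR.ow (n : ℕ) : ∀ {K C U : Subgroup Γ} {θ β : Γ → ℂ}, Nat.card K = n → GlR p L K P C →
    C ≤ U → U ≤ Subgroup.normalizer (K : Set Γ) → U ≤ Subgroup.normalizer (L : Set Γ) →
    U ≤ Subgroup.normalizer (P : Set Γ) → (∀ a ∈ U, ∀ b ∈ U, a * b * a⁻¹ * b⁻¹ ∈ C) →
    ¬ p ∣ C.relIndex U → θ ∈ irr K → P ≤ stabf θ → U ≤ stabf θ → β ∈ irr C → P ≤ stabf β →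
    Gl p C θ β → (Extn (K ⊔ U) K θ ↔ Extn U C β) := by
  induction n using Nat.strong_induction_on with | _ n ih => ?_
  intro K C U θ β hn h hCU nK nL nP hab hc hθ i1 i2 hβ i3 g
  obtain ⟨m, hm⟩ := h.pP
  have nC : U ≤ Subgroup.normalizer (C : Set Γ) := fun y hy =>
    mem_normalizer_of_relC h.hC (nL hy) (nK hy) (nP hy)
  have sw : ∀ a b : Γ, a * b * a⁻¹ * b⁻¹ ∈ L → b * a * b⁻¹ * a⁻¹ ∈ L := fun a b e => by
    simpa [mul_assoc] using L.inv_mem e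
  set D := relC L P K h.nP with hD
  have mD : ∀ c, c ∈ D ↔ c ∈ P ∧ ∀ x ∈ K, x * c * x⁻¹ * c⁻¹ ∈ L := fun _ => mem_relC
  by_cases hPD : P ≤ D
  · obtain rfl : K = C := le_antisymm (fun k hk => (h.hC k).2
      ⟨hk, fun x hx => sw _ _ (((mD x).1 (hPD hx)).2 k hk)⟩) h.CK
    rw [sup_eq_right.2 hCU, Ov.eq hθ hβ g.ip_ne_zero]
  have DP : D ≤ P := fun c hc => ((mD c).1 hc).1
  have LD : L ≤ D := fun c hc => (mD c).2 ⟨h.LP hc, fun x hx =>
    L.mul_mem (conj_mem_of_le_normalizer h.nK hx hc) (L.inv_mem hc)⟩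
  have PD : P ≤ Subgroup.normalizer (D : Set Γ) := fun y hy =>
    mem_normalizer_of_relC mD (h.nP hy) (Subgroup.le_normalizer hy) (h.PK hy)
  have UD : U ≤ Subgroup.normalizer (D : Set Γ) := fun y hy =>
    mem_normalizer_of_relC mD (nL hy) (nP hy) (nK hy)
  set R := relC D P P PD with hR
  have mR : ∀ c, c ∈ R ↔ c ∈ P ∧ ∀ x ∈ P, x * c * x⁻¹ * c⁻¹ ∈ D := fun _ => mem_relC
  have RP : R ≤ P := fun c hc => ((mR c).1 hc).1
  have UR : U ≤ Subgroup.normalizer (R : Set Γ) := fun y hy =>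
    mem_normalizer_of_relC mR (UD hy) (nP hy) (nP hy)
  obtain ⟨B, u, x, b1, b2, b3, b4, b5, b6, b7⟩ := ow_group (R := R) (D := D) hCU nC
    (RP.trans h.PC) hab UR ((((hp.out.coprime_iff_not_dvd.2 hc).pow_left m).coprime_dvd_left
      ((Subgroup.relIndex_dvd_of_le_left _ h.LC).trans
      ((relIndex_dvd_of_nml h.nP RP).trans hm))).symm)
    ((inf_le_inf RP h.CK).trans (h.inf.trans LD)) (fun c hc => (mR c).2 ⟨DP hc, fun x hx =>
      D.mul_mem (conj_mem_of_le_normalizer PD hx hc) (D.inv_mem hc)⟩) (by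
      obtain ⟨x, x1, x2, x3⟩ := exists_central_mod DP PD
        ((Subgroup.relIndex_dvd_of_le_left _ LD).trans hm) hPD
      exact fun e => x2 (e ((mR x).2 ⟨x1, x3⟩)))
  have nB : U ≤ Subgroup.normalizer (B : Set Γ) := le_normalizer_of_forall fun y hy b hb => by
    simpa using B.mul_mem (b1 (hab y hy b (b2 hb))) hb
  set Q := relC L R B (RP.trans h.nP) with hQ
  have mQ : ∀ c, c ∈ Q ↔ c ∈ R ∧ ∀ x ∈ B, x * c * x⁻¹ * c⁻¹ ∈ L := fun _ => mem_relC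
  have QP : Q ≤ P := fun c hc => RP ((mQ c).1 hc).1
  have UQ : U ≤ Subgroup.normalizer (Q : Set Γ) := fun y hy =>
    mem_normalizer_of_relC mQ (nL hy) (UR hy) (nB hy)
  have xQ : x ∈ Q := (mQ x).2 ⟨b5, fun b hb => sw _ _ (h.inf ⟨?_, h.CK (b7 b hb)⟩)⟩
  swap
  · have := P.mul_mem (RP b5) (conj_mem_of_le_normalizer nP (b2 hb) (P.inv_mem (RP b5)))
    simpa [mul_assoc] using this
  have LQ : L ≤ Q := fun c hc => (mQ c).2 ⟨(mR c).2 ⟨h.LP hc, fun x hx => LD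
    (L.mul_mem (conj_mem_of_le_normalizer h.nP hx hc) (L.inv_mem hc))⟩, fun x hx =>
    L.mul_mem (conj_mem_of_le_normalizer nL (b2 hx) hc) (L.inv_mem hc)⟩
  set K' := relC L K Q h.nK with hK'
  have mK : ∀ c, c ∈ K' ↔ c ∈ K ∧ ∀ x ∈ Q, x * c * x⁻¹ * c⁻¹ ∈ L := fun _ => mem_relC
  have h1 : GlR p L K Q K' := ⟨h.LK, h.nK, LQ, QP.trans h.nP, QP.trans h.PK,
    ⟨m, (relIndex_dvd_of_nml h.nP QP).trans hm⟩, h.cop, mK⟩
  have CK' : C ≤ K' := fun c hc => (mK c).2 ⟨h.CK hc, fun x hx => ((h.hC c).1 hc).2 x (QP hx)⟩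
  have PK' : P ≤ Subgroup.normalizer (K' : Set Γ) := le_normalizer_of_forall fun y hy c hc => by
    obtain ⟨c1, c2⟩ := (mK c).1 hc
    refine (mK _).2 ⟨conj_mem_of_le_normalizer h.PK hy c1, fun z hz => ?_⟩
    have d := ((mR z).1 ((mQ z).1 hz).1).2 y⁻¹ (P.inv_mem hy)
    have := conj_mem_of_le_normalizer h.nP hy (L.mul_mem
      (conj_mem_of_le_normalizer h.nP (DP d) (c2 z hz)) (sw _ _ (((mD _).1 d).2 c c1)))
    convert this using 1; group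
  have UK' : U ≤ Subgroup.normalizer (K' : Set Γ) := fun y hy =>
    mem_normalizer_of_relC mK (nL hy) (nK hy) (UQ hy)
  have h2 : GlR p L K' P C := ⟨h1.LC, h1.CK.trans h.nK, h.LP, h.nP, PK', h.pP,
    fun d => h.cop (d.trans (relIndex_dvd_of_nml h.nK h1.CK)), fun c =>
      ⟨fun hc => ⟨CK' hc, ((h.hC c).1 hc).2⟩, fun hc => (h.hC c).2 ⟨h1.CK hc.1, hc.2⟩⟩⟩
  have co := h1.corr_le QP hm h.PK PK'
  obtain ⟨θ', t1, t2, t3⟩ := co.ex θ hθ i1
  obtain ⟨β', s1, s2, s3⟩ := h2.corr.ex θ' t1 t2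
  obtain rfl : β = β' := by
    obtain ⟨a, ha, ha'⟩ := id t3
    obtain ⟨b, hb, hb'⟩ := id s3
    obtain ⟨c, hc⟩ := ip_nat (res_mem_chars h.CK (chars_of_irr hθ)) (chars_of_irr s1)
    have md := modEq_rel co h.LP hm h.LC h1.CK CK' PK' h.PC hθ i1 t1 t2 (chars_of_irr s1) s2 t3
      ha hb hc
    exact h.corr.uniq θ hθ i1 _ hβ i3 _ s1 s2 g ⟨c, hc, fun d =>
      (hp.out.dvd_mul.1 ((md.dvd_iff dvd_rfl).1 d)).elim ha' hb'⟩
  have lt : Nat.card K' < n := by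
    rw [← hn]
    refine H18.card_lt (lt_of_le_of_ne h1.CK fun e => b6 ((mD x).2 ⟨QP xQ, fun k hk => ?_⟩))
    exact sw _ _ (((mK k).1 (e ▸ hk)).2 x xQ)
  rw [← ih _ lt rfl h2 hCU UK' nL nP hab hc t1 t2
    (fun y hy => co.cjf_right (UK' hy) (nP hy) hθ i1 t1 t2 t3 (i2 hy)) hβ i3 s3]
  have n1 : K' ⊔ U ≤ Subgroup.normalizer (K' : Set Γ) := sup_le Subgroup.le_normalizer UK'
  have e : K ⊔ (K' ⊔ U) = K ⊔ U := by rw [← sup_assoc, sup_eq_left.2 h1.CK]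
  rw [← e]
  refine h1.ow1 (B := K' ⊔ B) le_sup_left (sup_le_sup_left b2 _) (Subgroup.mem_sup_right b3)
    (sup_le (le_sup_left.trans le_sup_left) (b4.trans (sup_le_sup_right le_sup_right _)))
    (fun z hz b hb => ?_) (sup_le (h1.CK.trans Subgroup.le_normalizer) nK)
    (sup_le h2.nK nL) (sup_le (le_normalizer_of_forall fun k hk z hz => ?_) UQ)
    (fun a ha b hb => ?_) (fun d => hc ?_) hθ (QP.trans i1)
    (sup_le (h1.CK.trans (le_stabf_of_cf (cf_of_irr hθ))) i2) t1 (QP.trans t2) t3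
  · obtain ⟨k, hk, b, hb', rfl⟩ := (mem_sup_iff_of_le_normalizer (b2.trans UK')).1 hb
    have := L.mul_mem (((mK k).1 hk).2 z hz)
      (conj_mem_of_le_normalizer h2.nK hk (sw _ _ (((mQ z).1 hz).2 b hb')))
    convert this using 1; group
  · simpa using Q.mul_mem (LQ (sw _ _ (((mK k).1 hk).2 z hz))) hz
  · obtain ⟨k, hk, a, ha', rfl⟩ := (mem_sup_iff_of_le_normalizer UK').1 ha
    obtain ⟨l, hl, b, hb', rfl⟩ := (mem_sup_iff_of_le_normalizer UK').1 hb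
    rw [comm_mul_left hk (n1 hb), comm_mul_right hl (UK' ha')]
    exact CK' (hab a ha' b hb')
  · rw [← relIndex_inf_of_sup le_sup_left le_sup_right n1 le_rfl] at d
    exact d.trans (Subgroup.relIndex_dvd_of_le_left _ (le_inf CK' hCU))

end H8
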