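import Cfsg.Agent.H8.MK4

/-! Relative McKay equality for `p`-solvable groups: `rel_mckay`. -/

set_option autoImplicit false
open H5 H19 Cfsg
open scoped ComplexConjugate commutatorElement

namespace H8

variable {Γ : Type*} [Group Γ] {A B C G K L M N P S T U X Y : Subgroup Γ}
  {θ χ ψ η β ν φ ω : Γ → ℂ} {p : ℕ}

theorem relIndex_lt_right [Finite Γ] (hLT : L ≤ T) (h : T < G) : L.relIndex T < L.relIndex G := by
  rw [← Subgroup.relIndex_mul_relIndex L T G hLT h.le]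
  have a : T.relIndex G ≠ 0 := Subgroup.FiniteIndex.index_ne_zero
  have b : T.relIndex G ≠ 1 := fun e => h.not_ge (Subgroup.relIndex_eq_one.1 e)
  have c : 0 < L.relIndex T := Nat.pos_of_ne_zero Subgroup.FiniteIndex.index_ne_zero
  have : 2 ≤ T.relIndex G := by omega
  nlinarith

theorem frattini_amb [Finite Γ] [Fact p.Prime] (hS : H7.SylIn p S M) (hMG : M ≤ G)
    (hn : G ≤ Subgroup.normalizer (M : Set Γ)) :
    G ≤ M ⊔ G ⊓ Subgroup.normalizer (S : Set Γ) := fun g hg => by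
  have h1 := hS.cj g
  rw [H7.cj_eq_of_mem_normalizer (hn hg)] at h1
  obtain ⟨x, hx, e⟩ := hS.exists_cj_eq h1
  rw [H7.cj_cj] at e
  have := Subgroup.mul_mem _ (Subgroup.mem_sup_left (M.inv_mem hx)) (Subgroup.mem_sup_right
    (S := M) (T := G ⊓ Subgroup.normalizer (S : Set Γ))
    ⟨G.mul_mem (hMG hx) hg, H7.mem_normalizer_of_cj_eq e⟩)
  simpa using this

theorem inf_sup_of_cop [Finite Γ] [hp : Fact p.Prime] {q m : ℕ} [hq : Fact q.Prime] (hne : q ≠ p)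
    (hKA : K ≤ A) (hn : A ≤ Subgroup.normalizer (K : Set Γ))
    (hn' : T ≤ Subgroup.normalizer (K : Set Γ)) (hm : K.relIndex A ∣ p ^ m) (hT : IsPGroup q T) :
    A ⊓ (K ⊔ T) = K := by
  refine le_antisymm (fun x hx => ?_) (le_inf hKA le_sup_left)
  obtain ⟨k, hk, t, ht, rfl⟩ := (mem_sup_iff_of_le_normalizer hn').1 hx.2
  refine K.mul_mem hk ?_
  have ta : t ∈ A := (A.mul_mem_cancel_left (hKA hk)).1 hx.1
  obtain ⟨j, hj⟩ := hT ⟨t, ht⟩
  have h1 : t ^ q ^ j = 1 := congrArg Subtype.val hj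
  obtain ⟨c, hc⟩ := hm
  have h2 : t ^ p ^ m ∈ K := by rw [hc, pow_mul]; exact K.pow_mem (pow_relIndex_mem hn ta) _
  have co : (p ^ m).Coprime (orderOf t) := (((Nat.coprime_primes hp.out hq.out).2 hne.symm).pow m
    j).coprime_dvd_right (orderOf_dvd_of_pow_eq_one h1)
  obtain ⟨r, hr⟩ := exists_pow_eq_self_of_coprime co
  exact hr ▸ K.pow_mem h2 r

variable [Fintype Γ] [hp : Fact p.Prime]
open Glaub

theorem extn_of_ndvd (hXY : X ≤ Y) (hn : Y ≤ Subgroup.normalizer (X : Set Γ)) {m : ℕ}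
    (hm : X.relIndex Y ∣ p ^ m) (hφ : φ ∈ irr X) (hi : Y ≤ stabf φ) (hω : ω ∈ chars Y) {n : ℕ}
    (h : ip X (res X ω) φ = n) (hd : ¬ p ∣ n) : Extn Y X φ := by
  by_contra hne
  have : ∀ η, ∃ k : ℕ, η ∈ irr Y → ip X (res X (ip Y ω η • η)) φ = (p * k : ℕ) := fun η => by
    by_cases hη : η ∈ irr Y
    · obtain ⟨a, ha⟩ := ip_nat hω (chars_of_irr hη)
      by_cases o : Ov X η φ
      · obtain ⟨e, e1, e2⟩ := exists_res_eq hXY hn hη hφ hi o
        obtain ⟨k, -, rfl⟩ := (Nat.dvd_prime_pow hp.out).1 (e1.trans hm)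
        rcases k with _ | k
        · exact absurd ⟨η, chars_of_irr hη, by simpa using e2⟩ hne
        · exact ⟨a * p ^ k, fun _ => by
            rw [map_smul, ip_smul_left, ha, e2, ip_smul_left, ip_irr_self hφ]; push_cast; ring⟩
      · unfold Ov at o; push Not at o
        exact ⟨0, fun _ => by rw [map_smul, ip_smul_left, o]; simp⟩
    · exact ⟨0, fun h => absurd h hη⟩
  choose k hk using this
  rw [cf_eq_sum (cf_of_chars hω), map_sum, ip_sum_left, Finset.sum_congr rfl hk] at h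
  have : n = ∑ η ∈ irr Y, p * k η := by exact_mod_cast h.symm
  exact hd (this ▸ Finset.dvd_sum fun _ _ => dvd_mul_right _ _)

theorem dvd_dg_iff (hNG : N ≤ G) (hn : G ≤ Subgroup.normalizer (N : Set Γ))
    (hc : ¬ p ∣ N.relIndex G) (hχ : χ ∈ irr G) (hθ : θ ∈ irr N) (h : Ov N χ θ) :
    (p : ℤ) ∣ dg χ ↔ (p : ℤ) ∣ dg θ := by
  obtain ⟨b, b1, b2⟩ := exists_dg_mul hNG hn hχ hθ h
  rw [b2, (Nat.prime_iff_prime_int.1 hp.out).dvd_mul, Int.natCast_dvd_natCast]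
  exact or_iff_right fun d => hc (d.trans b1)

theorem GlR.extn_iff (h : GlR p L K P C) (hν : ν ∈ irr L) (i1 : K ≤ stabf ν) (i2 : P ≤ stabf ν)
    (hθ : θ ∈ irr K) (i3 : P ≤ stabf θ) (o : Ov L θ ν) :
    Extn (K ⊔ P) K θ ∧ ¬ (p : ℤ) ∣ dg θ ↔ Extn P L ν ∧ ¬ (p : ℤ) ∣ dg ν := by
  refine and_congr ?_ (dvd_dg_iff h.LK h.nK h.cop hθ hν o).not
  obtain ⟨m, hm⟩ := h.pP
  obtain ⟨e, e1, e2⟩ := exists_res_eq h.LK h.nK hθ hν i1 o
  have nd : ¬ p ∣ e := fun d => h.cop (d.trans e1)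
  have eL : K ⊓ P = L := le_antisymm (inf_comm P K ▸ h.inf) (le_inf h.LK h.LP)
  have n1 : K ⊔ P ≤ Subgroup.normalizer (K : Set Γ) := sup_le Subgroup.le_normalizer h.PK
  have i4 : K ⊔ P ≤ stabf θ := sup_le (le_stabf_of_cf (cf_of_irr hθ)) i3
  have ri : L.relIndex P = K.relIndex (K ⊔ P) := by
    rw [← relIndex_inf_of_sup le_sup_left le_sup_right n1 le_rfl, eL]
  constructor
  · rintro ⟨η, a, b⟩
    refine extn_of_ndvd h.LP h.nP hm hν i2 (res_mem_chars le_sup_right a) ?_ nd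
    rw [res_res h.LP, ← res_res h.LK, b, e2, ip_smul_left, ip_irr_self hν, mul_one]
  · rintro ⟨η, a, b⟩
    have c := ind_mem_chars (le_sup_right : P ≤ K ⊔ P) a
    refine extn_of_ndvd le_sup_left n1 (ri ▸ hm) hθ i4 c ?_ nd
    rw [← ip_res_ind (cf_of_irr hθ) (cf_of_chars c),
      ip_ind_res (cf_of_chars a) (ind_mem_cf' le_sup_left (cf_of_irr hθ)),
      ind_of_stab le_sup_left i4, map_smul, res_inf_right (irr_supp hθ), eL, ← ri, e2, smul_comm,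
      ← ind_of_stab h.LP i2, ip_smul_right, ip_res_ind (cf_of_irr hν) (cf_of_chars a), b,
      ip_irr_self hν, mul_one, Complex.conj_natCast]

/-- the data of the final reduction step -/
structure CoreD (p : ℕ) (K P N G S : Subgroup Γ) (θ : Γ → ℂ) : Prop where
  KG : K ≤ G
  PN : P ≤ N
  NG : N ≤ G
  nK : G ≤ Subgroup.normalizer (K : Set Γ)
  sup : G ≤ K ⊔ N
  nP : N ≤ Subgroup.normalizer (P : Set Γ)
  pP : ∃ m, K.relIndex P ∣ p ^ m
  syl : H7.SylIn p S G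
  SP : S ≤ P
  ir : θ ∈ irr K
  inv : G ≤ stabf θ

omit hp in
theorem CoreD.MG (h : CoreD p K P N G S θ) : K ⊔ P ≤ G := sup_le h.KG (h.PN.trans h.NG)

omit hp in
theorem CoreD.nM (h : CoreD p K P N G S θ) :
    G ≤ Subgroup.normalizer ((K ⊔ P : Subgroup Γ) : Set Γ) :=
  h.sup.trans (sup_le (le_sup_left.trans Subgroup.le_normalizer)
    (le_norm_sup (h.PN.trans (h.NG.trans h.nK)) (h.NG.trans h.nK) h.nP))

omit hp in
theorem CoreD.dP (h : CoreD p K P N G S θ) : ⁅P, P⁆ ≤ P := Subgroup.commutator_le_self P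

omit hp in
theorem CoreD.nA (h : CoreD p K P N G S θ) :
    G ≤ Subgroup.normalizer ((K ⊔ ⁅P, P⁆ : Subgroup Γ) : Set Γ) :=
  h.sup.trans (sup_le (le_sup_left.trans Subgroup.le_normalizer)
    (le_norm_sup (h.dP.trans (h.PN.trans (h.NG.trans h.nK))) (h.NG.trans h.nK)
      (H18.norm_der h.nP)))

omit hp in
theorem CoreD.pM (h : CoreD p K P N G S θ) : ∃ m, K.relIndex (K ⊔ P) ∣ p ^ m := by
  rw [← relIndex_inf_of_sup le_sup_left le_sup_right (h.MG.trans h.nK) le_rfl,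
    Subgroup.inf_relIndex_right]
  exact h.pP

theorem CoreD.cM (h : CoreD p K P N G S θ) : ¬ p ∣ (K ⊔ P).relIndex G := fun d =>
  (sylIn_iff_relIndex.1 h.syl).2.2
    (d.trans (Subgroup.relIndex_dvd_of_le_left _ (h.SP.trans le_sup_right)))

theorem CoreD.exists_ext (h : CoreD p K P N G S θ) (hχ : χ ∈ irr G) (o : Ov K χ θ)
    (hd : ¬ (p : ℤ) ∣ dg χ) :
    ∃ η ∈ irr (K ⊔ P), Ov (K ⊔ P) χ η ∧ res K η = θ ∧ ¬ (p : ℤ) ∣ dg θ := by
  obtain ⟨η, a, b, c⟩ := exists_ov_mid le_sup_left h.MG hχ o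
  rw [dvd_dg_iff h.MG h.nM h.cM hχ a b] at hd
  obtain ⟨e, e1, e2⟩ := exists_res_eq le_sup_left (h.MG.trans h.nK) a h.ir (h.MG.trans h.inv) c
  obtain ⟨m, hm⟩ := h.pM
  obtain ⟨k, -, rfl⟩ := (Nat.dvd_prime_pow hp.out).1 (e1.trans hm)
  have e3 : dg η = (p ^ k : ℕ) * dg θ := by
    rw [← dg_res K, e2]
    exact dg_eq_of_eq (by rw [Pi.smul_apply, irr_apply_one h.ir, smul_eq_mul]; push_cast; rfl)
  refine ⟨η, a, b, ?_, fun d => hd (e3 ▸ d.mul_left _)⟩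
  rcases k with _ | k
  · simpa using e2
  · exact absurd (e3 ▸ Dvd.dvd.mul_right (by push_cast; exact dvd_pow_self _ k.succ_ne_zero) _) hd

omit hp in
theorem CoreD.res_eq (h : CoreD p K P N G S θ) (hη : η ∈ chars (K ⊔ P)) (e : res K η = θ)
    (hφ : φ ∈ irr (K ⊔ P)) (e' : res K φ = θ) :
    res (K ⊔ ⁅P, P⁆) φ = res (K ⊔ ⁅P, P⁆) η := by
  obtain ⟨β, b1, b2, rfl⟩ := exists_mul_of_ext le_sup_left (h.MG.trans h.nK) hη (e ▸ h.ir) hφ
    (e ▸ ov_of_res h.ir e')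
  have b3 : β 1 = 1 := by
    have := congrFun (e'.trans e.symm) 1
    rw [res_one, res_one, Pi.mul_apply] at this
    refine mul_right_cancel₀ ?_ (this.trans (one_mul _).symm)
    rw [← res_one K η, e]
    exact irr_apply_one_ne_zero h.ir
  have b4 : K ⊔ ⁅P, P⁆ ≤ cfker (K ⊔ P) β := sup_le
    (fun k hk => ⟨Subgroup.mem_sup_left hk, b2 k hk⟩)
    ((Subgroup.commutator_mono le_sup_right le_sup_right).trans ((der_le_cfker_iff b1).2 b3))
  refine eq_of_eqOn (res_supp _ _) (res_supp _ _) fun x hx => ?_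
  rw [res_of_mem _ hx, res_of_mem _ hx, Pi.mul_apply, cfker_apply (b4 hx), b3, one_mul]

theorem CoreD.main (h : CoreD p K P N G S θ) (hη : η ∈ chars (K ⊔ P)) (e : res K η = θ)
    (hd : ¬ (p : ℤ) ∣ dg θ) (hA : A = K ⊔ ⁅P, P⁆) :
    res A η ∈ irr A ∧ G ≤ stabf (res A η) ∧
    (∀ χ ∈ irr G, Ov K χ θ ∧ ¬ (p : ℤ) ∣ dg χ ↔ Ov A χ (res A η)) ∧
    ∀ U, U ≤ G → (∀ a ∈ U, ∀ b ∈ U, a * b * a⁻¹ * b⁻¹ ∈ A) → (Extn (A ⊔ U) A (res A η) ↔
      ∀ q : ℕ, q.Prime → q ≠ p → ∀ T, H7.SylIn q T U → Extn (K ⊔ T) K θ) := by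
  have KA : K ≤ A := hA ▸ le_sup_left
  have AM : A ≤ K ⊔ P := hA ▸ sup_le_sup_left h.dP _
  have nA : G ≤ Subgroup.normalizer (A : Set Γ) := hA ▸ h.nA
  have AG := AM.trans h.MG
  have iη : η ∈ irr (K ⊔ P) := irr_of_res le_sup_left hη (e ▸ h.ir)
  have iα : res A η ∈ irr A := res_irr_of_res KA AM hη (e ▸ h.ir)
  have rα : res K (res A η) = θ := by rw [res_res KA, e]
  have st : G ≤ stabf (res A η) := fun g hg => by
    rw [mem_stabf, cjf_res (nA hg), hA]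
    refine h.res_eq hη e (cjf_mem_irr (h.nM hg) iη) ?_
    rw [← cjf_res (h.nK hg), e, mem_stabf.1 (h.inv hg)]
  have ab : ∀ a ∈ K ⊔ P, ∀ b ∈ K ⊔ P, a * b * a⁻¹ * b⁻¹ ∈ A := fun a ha b hb => by
    have nP := h.PN.trans (h.NG.trans h.nK)
    obtain ⟨k, hk, a, ha', rfl⟩ := (mem_sup_iff_of_le_normalizer nP).1 ha
    obtain ⟨l, hl, b, hb', rfl⟩ := (mem_sup_iff_of_le_normalizer nP).1 hb
    rw [comm_mul_left (KA hk) (nA (h.MG hb)), comm_mul_right (KA hl) (nA (h.NG (h.PN ha'))), hA]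
    exact Subgroup.mem_sup_right (Subgroup.commutator_mem_commutator ha' hb')
  refine ⟨iα, st, fun χ hχ => ⟨fun ⟨a, b⟩ => ?_, fun a => ?_⟩, fun U hU hab => ?_⟩
  · obtain ⟨φ, c1, c2, c3, -⟩ := h.exists_ext hχ a b
    exact c2.trans AM h.MG (chars_of_irr hχ) c1 (chars_of_irr iα)
      (ov_of_res iα (hA ▸ h.res_eq hη e c1 c3))
  · refine ⟨a.trans KA AG (chars_of_irr hχ) iα (chars_of_irr h.ir) (ov_of_res h.ir rα), ?_⟩
    obtain ⟨φ, c1, c2, c3⟩ := exists_ov_mid AM h.MG hχ a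
    obtain ⟨lam, -, rfl⟩ := exists_lin_mul AM ab iη c1 iα (ov_of_res iα rfl) c3
    rw [dvd_dg_iff h.MG h.nM h.cM hχ c1 c2, dg_eq_of_eq (n := dg θ)]
    · exact hd
    · rw [Pi.mul_apply, H19.extendByZero_of_mem _ (one_mem _), ← res_one K η, e,
        irr_apply_one h.ir]
      simp [show (⟨1, one_mem _⟩ : ↥(K ⊔ P)) = 1 from rfl]
  obtain ⟨m, hm⟩ := h.pM
  have hm' := (relIndex_dvd_of_nml (h.MG.trans h.nK) AM).trans hm
  have WG : A ⊔ U ≤ G := sup_le AG hU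
  have key : ∀ q : ℕ, q.Prime → q ≠ p → ∀ T, H7.SylIn q T U →
      (Extn (A ⊔ T) A (res A η) ↔ Extn (K ⊔ T) K θ) := fun q hq hne T hT => by
    haveI := Fact.mk hq
    have TG := hT.le.trans hU
    have eK := inf_sup_of_cop hne KA (AG.trans h.nK) (TG.trans h.nK) hm' hT.isPGroup
    have := extn_res_iff (le_sup_left : A ≤ A ⊔ T) (sup_le_sup_right KA T)
      ((sup_le AG TG).trans nA) (sup_le_sup_left le_sup_right A) iα ((sup_le AG TG).trans st)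
      (by rw [eK, rα]; exact h.ir)
    rwa [eK, rα] at this
  refine ⟨fun a q hq hne T hT => (key q hq hne T hT).1
    (a.mono le_sup_left (sup_le_sup_left hT.le A)), fun a => ?_⟩
  refine extn_of_sylow le_sup_left (WG.trans nA) iα (WG.trans st) fun q hq => ?_
  by_cases hne : q = p
  · subst hne
    refine ⟨(K ⊔ P) ⊓ (A ⊔ U), le_inf AM le_sup_left, inf_le_right, fun d => h.cM ?_,
      Extn.mono ⟨η, hη, rfl⟩ (le_inf AM le_sup_left) inf_le_left⟩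
    rw [Subgroup.inf_relIndex_right] at d
    exact d.trans (relIndex_dvd_of_nml h.nM WG)
  · haveI := Fact.mk hq
    obtain ⟨T, hT⟩ := H7.exists_sylIn q U
    refine ⟨A ⊔ T, le_sup_left, sup_le_sup_left hT.le A, fun d => ?_,
      (key q hq hne T hT).2 (a q hq hne T hT)⟩
    have nT : U ≤ Subgroup.normalizer ((A ⊔ T : Subgroup Γ) : Set Γ) :=
      le_normalizer_of_forall fun u hu x hx => by
        obtain ⟨k, hk, t, ht, rfl⟩ := (mem_sup_iff_of_le_normalizer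
          (hT.le.trans (hU.trans nA))).1 hx
        have := Subgroup.mul_mem_sup (A.mul_mem (conj_mem_of_le_normalizer nA (hU hu) hk)
          (hab u hu t (hT.le ht))) ht
        convert this using 1; group
    rw [← relIndex_inf_of_sup (sup_le_sup_left hT.le A) le_sup_right
      (sup_le (le_sup_left.trans Subgroup.le_normalizer) nT) (sup_le_sup_right le_sup_left U)] at d
    exact (sylIn_iff_relIndex.1 hT).2.2
      (d.trans (Subgroup.relIndex_dvd_of_le_left _ (le_inf le_sup_right hT.le)))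

theorem core_mckay (h : GlR p L K P C) (h1 : CoreD p K P N G S θ) (hC : C = K ⊓ N)
    (nL : N ≤ Subgroup.normalizer (L : Set Γ)) (hβ : β ∈ irr C) (i : N ≤ stabf β)
    (g : Gl p C θ β) (hν : ν ∈ irr L) (i1 : K ≤ stabf ν) (i2 : P ≤ stabf ν) (o : Ov L θ ν) :
    cnt G (fun χ => Ov K χ θ ∧ ¬ (p : ℤ) ∣ dg χ) =
      cnt N fun χ => Ov C χ β ∧ ¬ (p : ℤ) ∣ dg χ := by
  have CN : C ≤ N := hC ▸ inf_le_right
  have nK := h1.NG.trans h1.nK
  have nC : N ≤ Subgroup.normalizer (C : Set Γ) := hC ▸ le_norm_inf nK Subgroup.le_normalizer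
  obtain ⟨m, hm⟩ := h.pP
  have h2 : CoreD p C P N N S β := ⟨CN, h1.PN, le_rfl, nC, le_sup_right, h1.nP,
    ⟨m, (Subgroup.relIndex_dvd_of_le_left _ h.LC).trans hm⟩,
    h1.syl.of_le (h1.SP.trans h1.PN) h1.NG, h1.SP, hβ, i⟩
  have h' : GlR p L C P C := ⟨h.LC, h.CK.trans h.nK, h.LP, h.nP, h.PC, h.pP,
    fun d => h.cop (d.trans (relIndex_dvd_of_nml h.nK h.CK)), fun c =>
      ⟨fun hc => ⟨hc, ((h.hC c).1 hc).2⟩, fun hc => hc.1⟩⟩
  have iP := h1.PN.trans (h1.NG.trans h1.inv)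
  have E := (h.extn_iff hν i1 i2 h1.ir iP o).trans (h'.extn_iff hν (h.CK.trans i1) i2 hβ
    (h1.PN.trans i) (ov_of_inv h.LC h.CK h.nK hν i1 h1.ir hβ o g.ip_ne_zero)).symm
  by_cases e : Extn (K ⊔ P) K θ ∧ ¬ (p : ℤ) ∣ dg θ
  swap
  · rw [cnt_eq_zero.2, cnt_eq_zero.2]
    · intro χ hχ a
      obtain ⟨φ, c1, -, c3, c4⟩ := h2.exists_ext hχ a.1 a.2
      exact e (E.2 ⟨⟨φ, chars_of_irr c1, c3⟩, c4⟩)
    · intro χ hχ a
      obtain ⟨φ, c1, -, c3, c4⟩ := h1.exists_ext hχ a.1 a.2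
      exact e ⟨⟨φ, chars_of_irr c1, c3⟩, c4⟩
  obtain ⟨⟨η', a', b'⟩, d'⟩ := E.1 e
  obtain ⟨⟨η, a, b⟩, d⟩ := e
  obtain ⟨x1, x2, x3, x4⟩ := h1.main a b d rfl
  obtain ⟨y1, y2, y3, y4⟩ := h2.main a' b' d' rfl
  have dN := h1.dP.trans h1.PN
  rw [cnt_congr x3, cnt_congr y3]
  refine cnt_eq_of_extn ((sup_le_sup_left h1.dP _).trans h1.MG) h1.NG h1.nA
    (h1.sup.trans (sup_le_sup_right le_sup_left _)) (le_antisymm (le_inf
      (sup_le_sup_right h.CK _) (sup_le CN dN)) fun x hx => ?_) x1 x2 y1 y2 fun U u1 u2 u3 => ?_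
  · obtain ⟨k, hk, t, ht, rfl⟩ := (mem_sup_iff_of_le_normalizer (dN.trans nK)).1 hx.1
    exact Subgroup.mul_mem_sup (hC ▸ ⟨hk, (N.mul_mem_cancel_right (dN ht)).1 hx.2⟩) ht
  have := y4 U u2 u3
  rw [sup_eq_right.2 u1] at this
  rw [this, x4 U (u2.trans h1.NG) fun a ha b hb => sup_le_sup_right h.CK _ (u3 a ha b hb)]
  refine forall₅_congr fun q hq hne T hT => ?_
  haveI := Fact.mk hq
  have TN := hT.le.trans u2
  have UN : C ⊔ T ≤ N := sup_le CN TN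
  have UU : C ⊔ T ≤ U := sup_le (le_sup_left.trans u1) hT.le
  obtain ⟨k, hk⟩ := h2.pM
  have eC := inf_sup_of_cop hne (le_sup_left : C ≤ C ⊔ ⁅P, P⁆) (u1.trans (u2.trans nC))
    (TN.trans nC) ((relIndex_dvd_of_nml (h2.MG.trans nC) (sup_le_sup_left h1.dP _)).trans hk)
    hT.isPGroup
  rw [← h.ow _ rfl le_sup_left (UN.trans nK) (UN.trans nL) (UN.trans h1.nP) (fun a ha b hb =>
    eC.le ⟨u3 a (UU ha) b (UU hb), Subgroup.mul_mem _ (Subgroup.mul_mem _ (Subgroup.mul_mem _ ha hb)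
      (Subgroup.inv_mem _ ha)) (Subgroup.inv_mem _ hb)⟩) (fun d => ?_) h1.ir iP
    (UN.trans (h1.NG.trans h1.inv)) hβ (h1.PN.trans i) g, ← sup_assoc, sup_eq_left.2 h.CK]
  rw [← relIndex_inf_of_sup le_sup_left le_sup_right (UN.trans nC) le_rfl] at d
  obtain ⟨j, hj⟩ := hT.isPGroup.exists_card_eq
  have := d.trans (Subgroup.relIndex_dvd_card _ _)
  rw [hj] at this
  exact hne ((Nat.prime_dvd_prime_iff_eq hp.out hq).1 (hp.out.dvd_of_dvd_pow this)).symm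

omit hp in
theorem cnt_ov_ov (hLK : L ≤ K) (hKG : K ≤ G) (hν : ν ∈ irr L) (hθ : θ ∈ irr K) (o : Ov L θ ν)
    (A : (Γ → ℂ) → Prop) :
    cnt G (fun χ => Ov K χ θ ∧ Ov L χ ν ∧ A χ) = cnt G fun χ => Ov K χ θ ∧ A χ :=
  cnt_congr fun _ a => ⟨fun b => ⟨b.1, b.2.2⟩, fun b => ⟨b.1, b.1.trans hLK hKG
    (chars_of_irr a) hθ (chars_of_irr hν) o, b.2⟩⟩

omit hp in
theorem cnt_ov_nov (hLK : L ≤ K) (hKG : K ≤ G) (hn : G ≤ Subgroup.normalizer (L : Set Γ))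
    (hν : ν ∈ irr L) (hi : G ≤ stabf ν) (hθ : θ ∈ irr K) (o : ¬ Ov L θ ν)
    (A : (Γ → ℂ) → Prop) : cnt G (fun χ => Ov K χ θ ∧ Ov L χ ν ∧ A χ) = 0 :=
  cnt_eq_zero.2 fun _ a b => o (ov_of_inv hLK hKG hn hν hi a hθ b.2.1 b.1)

theorem card_cliff_pd (hNG : N ≤ G) (hn : G ≤ Subgroup.normalizer (N : Set Γ)) (hθ : θ ∈ irr N)
    (hS : H7.SylIn p S G) (hST : S ≤ stabf θ) :
    cnt G (fun χ => Ov N χ θ ∧ ¬ (p : ℤ) ∣ dg χ) =
      cnt (G ⊓ stabf θ) fun ψ => Ov N ψ θ ∧ ¬ (p : ℤ) ∣ dg ψ :=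
  card_cliff (le_inf hNG (le_stabf_of_cf (cf_of_irr hθ))) inf_le_left hn hθ le_rfl _ _
    fun _ hψ _ => not_dvd_ind hS (le_inf hS.le hST) inf_le_left hψ

open Classical in
theorem rel_mckay (hs : IsPSolvable p Γ) (S : Subgroup Γ) (n : ℕ) :
    ∀ (G L N : Subgroup Γ) (ν : Γ → ℂ), L.relIndex G = n → L ≤ G →
      G ≤ Subgroup.normalizer (L : Set Γ) → H7.SylIn p S G → ν ∈ irr L → S ≤ stabf ν →
      N = G ⊓ Subgroup.normalizer ((L ⊔ S : Subgroup Γ) : Set Γ) →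
      cnt G (fun χ => Ov L χ ν ∧ ¬ (p : ℤ) ∣ dg χ) =
        cnt N fun ψ => Ov L ψ ν ∧ ¬ (p : ℤ) ∣ dg ψ := by
  induction n using Nat.strong_induction_on with | _ n ih => ?_
  intro G L N ν hi hLG hn hS hν hSν hN
  have NG : N ≤ G := hN ▸ inf_le_left
  have nP : N ≤ Subgroup.normalizer ((L ⊔ S : Subgroup Γ) : Set Γ) := hN ▸ inf_le_right
  have PN : L ⊔ S ≤ N := hN ▸ le_inf (sup_le hLG hS.le) Subgroup.le_normalizer
  have hS' : H7.SylIn p S N := hS.of_le (le_sup_right.trans PN) NG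
  have Lν := le_stabf_of_cf (cf_of_irr hν)
  by_cases hinv : G ≤ stabf ν
  swap
  · rw [card_cliff_pd hLG hn hν hS hSν,
      card_cliff_pd (le_sup_left.trans PN) (NG.trans hn) hν hS' hSν]
    exact ih _ (hi ▸ relIndex_lt_right (le_inf hLG Lν) (inf_lt_left.2 hinv)) _ L _ ν rfl
      (le_inf hLG Lν) (inf_le_left.trans hn) (hS.of_le (le_inf hS.le hSν) inf_le_left) hν hSν
      (by rw [hN, inf_right_comm])
  by_cases e : L = G
  · subst e
    rw [le_antisymm NG (le_sup_left.trans PN)]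
  obtain ⟨K, hLK, hKG, hK, hc⟩ := exists_step hs hLG hn e
  set N₁ := G ⊓ Subgroup.normalizer ((K ⊔ S : Subgroup Γ) : Set Γ) with hN₁
  have SK := hS.le.trans hK
  have MN : K ⊔ S ≤ N₁ := le_inf (sup_le hKG hS.le) Subgroup.le_normalizer
  have hS₁ : H7.SylIn p S N₁ := hS.of_le (le_sup_right.trans MN) inf_le_left
  have A : cnt G (fun χ => Ov L χ ν ∧ ¬ (p : ℤ) ∣ dg χ) =
      cnt N₁ fun ψ => Ov L ψ ν ∧ ¬ (p : ℤ) ∣ dg ψ := by
    have h3 : ∀ n ∈ N₁, ∀ θ ∈ irr K, S ≤ stabf θ → S ≤ stabf (cjf n θ) := fun x hx θ hθ h =>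
      le_sup_right.trans (le_stabf_cjf hx.2 (sup_le (le_stabf_of_cf (cf_of_irr hθ)) h))
    have c1 := count_mk hKG hK hS (le_inf inf_le_left (le_norm_sup SK (inf_le_left.trans hK)
      inf_le_right)) inf_le_left h3 (fun χ => Ov L χ ν ∧ ¬ (p : ℤ) ∣ dg χ) fun χ _ h => h.2
    have c2 := count_mk (le_sup_left.trans MN) (inf_le_left.trans hK) hS₁ inf_le_left le_rfl h3
      (fun χ => Ov L χ ν ∧ ¬ (p : ℤ) ∣ dg χ) fun χ _ h => h.2
    refine Nat.eq_of_mul_eq_mul_left (card_pos' N₁) ?_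
    rw [c1, c2]
    refine Finset.sum_congr rfl fun θ hθ => ?_
    obtain ⟨t1, t2⟩ := Finset.mem_filter.1 hθ
    by_cases o : Ov L θ ν
    · rw [cnt_ov_ov hLK.le hKG hν t1 o, cnt_ov_ov hLK.le (le_sup_left.trans MN) hν t1 o,
        ih _ (hi ▸ relIndex_lt_of_lt hLK hKG le_rfl) G K N₁ θ rfl hKG hK hS t1 t2 rfl]
    · rw [cnt_ov_nov hLK.le hKG hn hν hinv t1 o, cnt_ov_nov hLK.le (le_sup_left.trans MN)
        (inf_le_left.trans hn) hν (inf_le_left.trans hinv) t1 o]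
  rcases hc with ⟨m, hm⟩ | hc
  · have hSK : H7.SylIn p (S ⊓ K) K := by simpa [inf_eq_right.2 hKG] using hS.inf_normal K hK
    rw [A, hN₁, hN, le_antisymm (sup_le ((le_sup_of_pow hLK.le hSK hm).trans
      (sup_le_sup_left inf_le_left _)) le_sup_right) (sup_le_sup_right hLK.le S)]
  have NN : N ≤ N₁ := le_inf NG (by
    have := le_norm_sup ((sup_le hLG hS.le).trans hK) (NG.trans hK) nP
    rwa [← sup_assoc, sup_eq_left.2 hLK.le] at this)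
  by_cases e₁ : G ≤ N₁
  swap
  · rw [A]
    have := hLK.le.trans (le_sup_left.trans MN)
    exact ih _ (hi ▸ relIndex_lt_right this (lt_of_le_of_ne inf_le_left fun e => e₁ e.ge)) _ L _ ν
      rfl this (inf_le_left.trans hn) hS₁ hν hSν
      (le_antisymm (le_inf NN nP) (hN ▸ inf_le_inf_right _ inf_le_left))
  have SL := hS.le.trans hn
  have h1 : G ⊓ Subgroup.normalizer (S : Set Γ) ≤ N :=
    hN ▸ le_inf inf_le_left (le_norm_sup SL (inf_le_left.trans hn) inf_le_right)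
  have GK : G ≤ K ⊔ N := (frattini_amb (hS.of_le le_sup_right (sup_le hKG hS.le))
    (sup_le hKG hS.le) (e₁.trans inf_le_right)).trans
    (sup_le (sup_le_sup_left (le_sup_right.trans PN) _) (h1.trans le_sup_right))
  have PG := PN.trans NG
  have pP : ∃ m, L.relIndex (L ⊔ S) ∣ p ^ m := by
    obtain ⟨j, hj⟩ := hS.isPGroup.exists_card_eq
    rw [← relIndex_inf_of_sup le_sup_left le_sup_right (PG.trans hn) le_rfl]
    exact ⟨j, hj ▸ Subgroup.relIndex_dvd_card _ _⟩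
  have h0 : GlR p L K (L ⊔ S) (relC L K (L ⊔ S) (hKG.trans hn)) := ⟨hLK.le, hKG.trans hn,
    le_sup_left, PG.trans hn, PG.trans hK, pP, hp.out.coprime_iff_not_dvd.1 hc.symm,
    fun _ => mem_relC⟩
  obtain ⟨C, h⟩ : ∃ C, GlR p L K (L ⊔ S) C := ⟨_, h0⟩
  have hC : C = K ⊓ N := le_antisymm (le_inf h.CK (hN ▸ le_inf (h.CK.trans hKG)
    (le_normalizer_of_forall fun c hc x hx => by
      have := (L ⊔ S).mul_mem ((L ⊔ S).inv_mem (h.LP (((h.hC c).1 hc).2 x hx))) hx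
      simpa [mul_assoc] using this))) fun c hc => (h.hC c).2 ⟨hc.1, fun x hx => h.inf ⟨by
        have := (L ⊔ S).mul_mem hx (conj_mem_of_le_normalizer nP hc.2 ((L ⊔ S).inv_mem hx))
        simpa [mul_assoc] using this,
      K.mul_mem (conj_mem_of_le_normalizer h.PK hx hc.1) (K.inv_mem hc.1)⟩⟩
  have CN : C ≤ N := hC ▸ inf_le_right
  have nC : N ≤ Subgroup.normalizer (C : Set Γ) :=
    hC ▸ le_norm_inf (NG.trans hK) Subgroup.le_normalizer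
  have s1 := stab_iff h.LK (le_sup_right : S ≤ L ⊔ S) le_rfl
  have s2 := stab_iff h.LC (le_sup_right : S ≤ L ⊔ S) le_rfl
  have c1 := count_mk hKG hK hS h1 NG (fun x hx θ hθ h' => le_sup_right.trans
    (le_stabf_cjf (nP hx) ((s1 θ hθ).1 h'))) (fun χ => Ov L χ ν ∧ ¬ (p : ℤ) ∣ dg χ) fun χ _ h => h.2
  have c2 := count_mk CN nC hS' inf_le_left le_rfl (fun x hx θ hθ h' => le_sup_right.trans
    (le_stabf_cjf (nP hx) ((s2 θ hθ).1 h'))) (fun χ => Ov L χ ν ∧ ¬ (p : ℤ) ∣ dg χ) fun χ _ h => h.2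
  have co := h.corr
  have ex : ∀ θ, ∃ β, θ ∈ irr K → L ⊔ S ≤ stabf θ →
      β ∈ irr C ∧ L ⊔ S ≤ stabf β ∧ Gl p C θ β := fun η => by
    by_cases e : η ∈ irr K ∧ L ⊔ S ≤ stabf η
    · obtain ⟨β, b⟩ := co.ex η e.1 e.2
      exact ⟨β, fun _ _ => b⟩
    · exact ⟨0, fun a b => absurd ⟨a, b⟩ e⟩
  choose f hf using ex
  refine Nat.eq_of_mul_eq_mul_left (card_pos' N) ?_
  rw [c1, c2]
  refine Finset.sum_bij (fun θ _ => f θ) (fun θ hθ => ?_) (fun a ha b hb e => ?_)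
    (fun β hβ => ?_) fun θ hθ => ?_
  · obtain ⟨t1, t2⟩ := Finset.mem_filter.1 hθ
    obtain ⟨a, b, -⟩ := hf θ t1 ((s1 θ t1).1 t2)
    exact Finset.mem_filter.2 ⟨a, le_sup_right.trans b⟩
  · obtain ⟨t1, t2⟩ := Finset.mem_filter.1 ha
    obtain ⟨t3, t4⟩ := Finset.mem_filter.1 hb
    rw [s1 _ t1] at t2
    rw [s1 _ t3] at t4
    exact co.inj a t1 t2 b t3 t4 _ (hf a t1 t2).1 (hf a t1 t2).2.1 (hf a t1 t2).2.2
      (e ▸ (hf b t3 t4).2.2)
  · obtain ⟨t1, t2⟩ := Finset.mem_filter.1 hβ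
    rw [s2 _ t1] at t2
    obtain ⟨θ, a, b, c⟩ := co.surj β t1 t2
    exact ⟨θ, Finset.mem_filter.2 ⟨a, le_sup_right.trans b⟩,
      co.uniq θ a b _ (hf θ a b).1 (hf θ a b).2.1 _ t1 t2 (hf θ a b).2.2 c⟩
  obtain ⟨t1, t2⟩ := Finset.mem_filter.1 hθ
  have t3 := (s1 _ t1).1 t2
  obtain ⟨b1, b2, b3⟩ := hf θ t1 t3
  have st : N ⊓ stabf (f θ) = N ⊓ stabf θ := le_antisymm
    (fun x hx => ⟨hx.1, co.cjf_left (hK (NG hx.1)) (nC hx.1) (nP hx.1) t1 t3 b1 b2 b3 hx.2⟩)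
    fun x hx => ⟨hx.1, co.cjf_right (nC hx.1) (nP hx.1) t1 t3 b1 b2 b3 hx.2⟩
  rw [st]
  congr 1
  by_cases o : Ov L θ ν
  swap
  · rw [cnt_ov_nov hLK.le hKG hn hν hinv t1 o, cnt_ov_nov h.LC CN (NG.trans hn) hν
      (NG.trans hinv) b1 fun o' => o (Ov.trans h.LC h.CK (chars_of_irr t1) b1 (chars_of_irr hν)
        b3.ip_ne_zero o')]
  have Kθ := le_stabf_of_cf (cf_of_irr t1)
  obtain ⟨m, hm⟩ := pP
  rw [cnt_ov_ov hLK.le hKG hν t1 o, cnt_ov_ov h.LC CN hν b1 (ov_of_inv h.LC h.CK h.nK hν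
    (hKG.trans hinv) t1 b1 o b3.ip_ne_zero), card_cliff_pd hKG hK t1 hS t2,
    card_cliff_pd CN nC b1 hS' (le_sup_right.trans b2), st]
  refine core_mckay h ⟨le_inf hKG Kθ, le_inf PN t3, inf_le_inf_right _ NG, inf_le_left.trans hK,
    fun g hg => ?_, inf_le_left.trans nP, ⟨m, (Subgroup.relIndex_dvd_of_le_left _ h.LK).trans hm⟩,
    hS.of_le (le_inf hS.le t2) inf_le_left, le_sup_right, t1, inf_le_right⟩ ?_
    (inf_le_left.trans (NG.trans hn)) b1 (st.ge.trans inf_le_right) b3 hν (hKG.trans hinv)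
    (PG.trans hinv) o
  · obtain ⟨k, hk, x, hx, rfl⟩ := (mem_sup_iff_of_le_normalizer (NG.trans hK)).1 (GK hg.1)
    exact Subgroup.mul_mem_sup hk ⟨hx, ((stabf θ).mul_mem_cancel_left (Kθ hk)).1 hg.2⟩
  · rw [hC, inf_comm N, ← inf_assoc, inf_eq_left.2 Kθ]

end H8
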