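import Cfsg.Agent.H8.Ito
import Cfsg.Agent.S4914

/-! Real characters and real classes: odd-index Brauer permutation lemma (`card_fixed_real`), real Glauberman
correspondence (`Corr.star_iff`, `card_real_inv`), the Isaacs–Navarro correspondence `RN`. -/

set_option autoImplicit false

open H5 H19 Cfsg
open scoped ComplexConjugate

namespace H8

variable {Γ : Type*} [Group Γ]

theorem card_orbits_eq_of_fixed {X Y : Type*} [Finite Γ] [Finite X] [Finite Y] [MulAction Γ X] [MulAction Γ Y]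
    (h : ∀ g : Γ, Nat.card (MulAction.fixedBy X g) = Nat.card (MulAction.fixedBy Y g)) :
    Nat.card (MulAction.orbitRel.Quotient Γ X) = Nat.card (MulAction.orbitRel.Quotient Γ Y) := by
  classical
  have := Fintype.ofFinite Γ
  have := Fintype.ofFinite (MulAction.orbitRel.Quotient Γ X)
  have := Fintype.ofFinite (MulAction.orbitRel.Quotient Γ Y)
  have : ∀ g : Γ, Fintype (MulAction.fixedBy X g) := fun g => Fintype.ofFinite _
  have : ∀ g : Γ, Fintype (MulAction.fixedBy Y g) := fun g => Fintype.ofFinite _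
  have h1 := MulAction.sum_card_fixedBy_eq_card_orbits_mul_card_group Γ X
  have h2 := MulAction.sum_card_fixedBy_eq_card_orbits_mul_card_group Γ Y
  simp only [← Nat.card_eq_fintype_card] at h1 h2
  simp only [h] at h1
  exact Nat.eq_of_mul_eq_mul_right Nat.card_pos (h1.symm.trans h2)

theorem mem_of_sq_mem_of_odd {A I : Subgroup Γ} {g : Γ} {n : ℕ} (hn : Odd n) (h1 : g ^ n ∈ A) (h2 : A ≤ I)
    (h3 : g * g ∈ I) : g ∈ I := by
  obtain ⟨k, rfl⟩ := hn
  have := I.mul_mem (I.inv_mem (I.pow_mem h3 k)) (h2 h1)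
  rwa [← sq, ← pow_mul, pow_succ, inv_mul_cancel_left] at this

theorem isConj_inv_inv2 {a b : Γ} (h : IsConj a b) : IsConj a⁻¹ b⁻¹ := by
  obtain ⟨c, rfl⟩ := isConj_iff.1 h
  exact isConj_iff.2 ⟨c, by group⟩

theorem card_fixed_real [Finite Γ] (K : Subgroup Γ) [K.Normal] (ho : Odd K.index) (g : Γ) :
    Nat.card {θ : IrrCharacter K // (fun k => conj (θ.1 k)) = θ.1 ∧ H6.cj θ.1 g = θ.1} =
    Nat.card {C : ConjClasses K // (∀ x, ConjClasses.mk x = C → IsConj x x⁻¹) ∧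
      C.map (MulAut.conjNormal g).toMonoidHom = C} := by
  have h1 : ∀ a b : K, IsConj a b → IsConj (MulAut.conjNormal g a)⁻¹ (MulAut.conjNormal g b)⁻¹ :=
    fun a b h => isConj_inv_inv2 ((MulAut.conjNormal g : MulAut K).toMonoidHom.map_isConj h)
  have := brauer_permutation (G := K) (Quotient.map (fun a : K => (MulAut.conjNormal g a)⁻¹) h1)
    (fun χ => ⟨_, (H6.isIrr_cj χ.2 g).conj⟩) fun χ a a' h => by
      change conj (χ.1 (MulAut.conjNormal g a)) = _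
      rw [← χ.2.apply_inv]
      exact χ.2.isClassFunction.eq_of_isConj (ConjClasses.mk_eq_mk_iff_isConj.1 h)
  refine Eq.trans ?_ (this.symm.trans ?_)
  · refine Nat.card_congr (Equiv.subtypeEquivRight fun χ => ⟨fun h => Subtype.ext ?_, fun h => ?_⟩)
    · change (fun k => conj (H6.cj χ.1 g k)) = χ.1
      rw [h.2, h.1]
    · have h2 : (fun k => conj (H6.cj χ.1 g k)) = χ.1 := congrArg Subtype.val h
      have h3 : H6.cj χ.1 g = fun k => conj (χ.1 k) := by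
        funext k; rw [← congrFun h2 k]; simp
      have h4 : g ∈ H6.inertia χ.1 := by
        refine mem_of_sq_mem_of_odd ho (K.pow_index_mem g) (H6.le_inertia χ.2.isClassFunction) ?_
        rw [H6.mem_inertia, H6.cj_mul, h3]
        exact h2
      exact ⟨h3.symm.trans h4, h4⟩
  · refine Nat.card_congr (Equiv.subtypeEquivRight fun C => ?_)
    obtain ⟨a, rfl⟩ := ConjClasses.mk_surjective C
    refine ⟨fun h => ?_, fun h => ConjClasses.mk_eq_mk_iff_isConj.2 ?_⟩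
    · have h2 : IsConj (MulAut.conjNormal g a)⁻¹ a := ConjClasses.mk_eq_mk_iff_isConj.1 h
      let I : Subgroup Γ :=
        { carrier := {x | IsConj (MulAut.conjNormal x a) a}
          one_mem' := by simp only [Set.mem_ofPred_eq, map_one, MulAut.one_apply]; exact IsConj.refl a
          mul_mem' := fun {x y} hx hy => by
            have := (MulAut.conjNormal x).toMonoidHom.map_isConj hy
            simp only [Set.mem_ofPred_eq, map_mul, MulAut.mul_apply]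
            exact this.trans hx
          inv_mem' := fun {x} hx => by
            have := (MulAut.conjNormal x⁻¹).toMonoidHom.map_isConj hx
            simp only [Set.mem_ofPred_eq]
            refine IsConj.symm ?_
            simpa using this }
      have h3 : g ∈ I := by
        refine mem_of_sq_mem_of_odd ho (K.pow_index_mem g) (fun k hk => ?_) ?_
        · exact (isConj_iff.2 ⟨⟨k, hk⟩, rfl⟩ : IsConj a _).symm
        · have h3 := isConj_inv_inv2 ((MulAut.conjNormal g).toMonoidHom.map_isConj h2)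
          change IsConj (MulAut.conjNormal (g * g) a) a
          simp only [map_mul, MulAut.mul_apply]
          refine IsConj.trans ?_ h2
          simpa using h3
      have h4 : IsConj a a⁻¹ := (h2.symm.trans (isConj_inv_inv2 h3))
      refine ⟨fun x hx => ?_, ConjClasses.mk_eq_mk_iff_isConj.2 h3⟩
      have h5 := ConjClasses.mk_eq_mk_iff_isConj.1 hx
      exact h5.trans (h4.trans (isConj_inv_inv2 h5.symm))
    · exact (isConj_inv_inv2 (ConjClasses.mk_eq_mk_iff_isConj.1 h.2)).trans (h.1 a rfl).symm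

theorem le_stabf_star {S : Subgroup Γ} {χ : Γ → ℂ} (h : S ≤ stabf χ) : S ≤ stabf (star χ) := fun x hx => by
  rw [mem_stabf, cjf_star, mem_stabf.1 (h hx)]

variable [Fintype Γ] {p : ℕ}

theorem ip_res_star (A : Subgroup Γ) (χ θ : Γ → ℂ) :
    ip A (res A (star χ)) (star θ) = conj (ip A (res A χ) θ) := by
  rw [res_star, ip_star_star, ip_conj]

namespace Glaub

theorem Gl.star {C : Subgroup Γ} {χ β : Γ → ℂ} (h : Gl p C χ β) : Gl p C (star χ) (star β) := by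
  obtain ⟨m, h1, h2⟩ := h
  exact ⟨m, by rw [ip_res_star, h1]; simp, h2⟩

theorem Corr.star_iff {K C S : Subgroup Γ} (h : Corr p K C S) {χ β : Γ → ℂ} (hχ : χ ∈ irr K)
    (h1 : S ≤ stabf χ) (hβ : β ∈ irr C) (h2 : S ≤ stabf β) (g : Gl p C χ β) : star χ = χ ↔ star β = β :=
  ⟨fun e => h.uniq χ hχ h1 _ (irr_star hβ) (le_stabf_star h2) β hβ h2 (e ▸ g.star) g,
    fun e => h.inj _ (irr_star hχ) (le_stabf_star h1) χ hχ h1 β hβ h2 (e ▸ g.star) g⟩

theorem Corr.card_real {K C S : Subgroup Γ} (h : Corr p K C S) :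
    Nat.card {χ : Γ → ℂ // χ ∈ irr K ∧ star χ = χ ∧ S ≤ stabf χ} =
      Nat.card {β : Γ → ℂ // β ∈ irr C ∧ star β = β ∧ S ≤ stabf β} := by
  obtain ⟨f, hf, g⟩ := h.exists_bij
  refine Nat.card_congr (Equiv.ofBijective (fun χ => ⟨(f ⟨χ.1, χ.2.1, χ.2.2.2⟩).1, (f _).2.1,
    (h.star_iff χ.2.1 χ.2.2.2 (f _).2.1 (f _).2.2 (g ⟨χ.1, χ.2.1, χ.2.2.2⟩)).1 χ.2.2.1, (f _).2.2⟩) ⟨?_, ?_⟩)
  · intro a b e
    have e' : (f ⟨a.1, a.2.1, a.2.2.2⟩).1 = (f ⟨b.1, b.2.1, b.2.2.2⟩).1 :=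
      congrArg (fun x => x.1) e
    exact Subtype.ext (congrArg (fun x => x.1) (hf.1 (Subtype.ext e')))
  · rintro ⟨β, h1, h2, h3⟩
    obtain ⟨χ, e⟩ := hf.2 ⟨β, h1, h3⟩
    have h4 := g χ
    rw [e] at h4
    exact ⟨⟨χ.1, χ.2.1, (h.star_iff χ.2.1 χ.2.2 h1 h3 h4).2 h2, χ.2.2⟩, Subtype.ext (congrArg (fun x => x.1) e)⟩

omit [Fintype Γ] in
theorem card_fixed_real_classes [Finite Γ] {G S C : Subgroup Γ}
    (hn : S ≤ Subgroup.normalizer (G : Set Γ)) (hcop : (Nat.card S).Coprime (Nat.card G))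
    (hs : Group.IsSolvable S ∨ Group.IsSolvable G) (hC : C = G ⊓ Subgroup.centralizer (S : Set Γ)) :
    Nat.card {K : ConjClasses G // (∀ k, ConjClasses.mk k = K → IsConj k k⁻¹) ∧ ∀ g : G, ConjClasses.mk g = K →
      ∀ s ∈ S, ∀ g' : G, (g' : Γ) = s * g * s⁻¹ → ConjClasses.mk g' = K} =
      Nat.card {K : ConjClasses C // ∀ k, ConjClasses.mk k = K → IsConj k k⁻¹} := by
  have hCG : C ≤ G := hC ▸ inf_le_left
  have hCc : ∀ c ∈ C, c ∈ Subgroup.centralizer (S : Set Γ) := fun c hc =>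
    (Subgroup.mem_inf.1 (hC ▸ hc)).2
  have hfus : ∀ c c' : C, IsConj (Subgroup.inclusion hCG c) (Subgroup.inclusion hCG c') → IsConj c c' := by
    intro c c' h1
    rw [isConj_iff] at h1 ⊢
    obtain ⟨k, hk⟩ := h1
    have hk' : (k : Γ) * c * (k : Γ)⁻¹ = c' := congrArg Subtype.val hk
    obtain ⟨u, hu, h2⟩ := exists_centralizer_conj hn hcop hs (hCc c c.2) k.2 (hk' ▸ hCc c' c'.2)
    exact ⟨⟨u, hC ▸ hu⟩, Subtype.ext (h2.trans hk')⟩
  symm
  refine Nat.card_congr (Equiv.ofBijective (fun K => ⟨K.1.map (Subgroup.inclusion hCG), ?_, ?_⟩) ⟨?_, ?_⟩)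
  · obtain ⟨K, hK⟩ := K
    obtain ⟨c, rfl⟩ := ConjClasses.mk_surjective K
    intro k hk
    have h1 : IsConj k (Subgroup.inclusion hCG c) := ConjClasses.mk_eq_mk_iff_isConj.1 hk
    exact h1.trans (((Subgroup.inclusion hCG).map_isConj (hK c rfl)).trans (isConj_inv_inv2 h1.symm))
  · obtain ⟨K, hK⟩ := K
    obtain ⟨c, rfl⟩ := ConjClasses.mk_surjective K
    intro g h2 s hs g' h1
    change ConjClasses.mk g = ConjClasses.mk (Subgroup.inclusion hCG c) at h2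
    change ConjClasses.mk g' = ConjClasses.mk (Subgroup.inclusion hCG c)
    rw [ConjClasses.mk_eq_mk_iff_isConj, isConj_iff] at h2 ⊢
    obtain ⟨k, hk⟩ := h2
    refine ⟨⟨s * k * s⁻¹, (conj_mem_iff_of_normalizer (hn hs) _).2 k.2⟩, Subtype.ext ?_⟩
    have hk' : (k : Γ) * g * (k : Γ)⁻¹ = c := congrArg Subtype.val hk
    have h3 := hCc c c.2 s hs
    simp only [Subgroup.coe_mul, Subgroup.coe_inv, h1, Subgroup.coe_inclusion]
    calc _ = s * ((k : Γ) * g * (k : Γ)⁻¹) * s⁻¹ := by group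
      _ = c := by rw [hk', h3]; group
  · rintro ⟨K, hK⟩ ⟨K', hK'⟩ h
    obtain ⟨c, rfl⟩ := ConjClasses.mk_surjective K
    obtain ⟨c', rfl⟩ := ConjClasses.mk_surjective K'
    have h1 : ConjClasses.mk (Subgroup.inclusion hCG c) =
      ConjClasses.mk (Subgroup.inclusion hCG c') := congrArg Subtype.val h
    exact Subtype.ext (ConjClasses.mk_eq_mk_iff_isConj.2 (hfus _ _ (ConjClasses.mk_eq_mk_iff_isConj.1 h1)))
  · rintro ⟨K, hr, hK⟩
    obtain ⟨g, rfl⟩ := ConjClasses.mk_surjective K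
    obtain ⟨k, hk, h1⟩ := exists_conj_mem_centralizer hn hcop hs (x := g) (fun a ha => by
      have := hK g rfl a ha ⟨a * g * a⁻¹, (conj_mem_iff_of_normalizer (hn ha) _).2 g.2⟩ rfl
      rw [eq_comm, ConjClasses.mk_eq_mk_iff_isConj, isConj_iff] at this
      obtain ⟨k, hk⟩ := this
      exact ⟨k, k.2, congrArg Subtype.val hk⟩)
    have h2 : k * g * k⁻¹ ∈ C := hC ▸ Subgroup.mem_inf.2 ⟨(conj_mem_iff hk _).2 g.2, h1⟩
    have h3 : ConjClasses.mk (Subgroup.inclusion hCG ⟨_, h2⟩) = ConjClasses.mk g := by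
      rw [eq_comm, ConjClasses.mk_eq_mk_iff_isConj, isConj_iff]
      exact ⟨⟨k, hk⟩, rfl⟩
    refine ⟨⟨ConjClasses.mk ⟨_, h2⟩, fun c hc => ?_⟩, Subtype.ext h3⟩
    have h4 := ConjClasses.mk_eq_mk_iff_isConj.1 hc
    exact h4.trans ((hfus _ _ (hr _ h3)).trans (isConj_inv_inv2 h4.symm))

end Glaub

omit [Fintype Γ] in
theorem star_extendByZero_iff {K : Subgroup Γ} {θ : K → ℂ} :
    star (extendByZero K θ) = extendByZero K θ ↔ (fun k => conj (θ k)) = θ := by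
  rw [← extendByZero_star, (extendByZero_injective K).eq_iff]; rfl

section amb
variable {A B : Subgroup Γ} {χ θ : Γ → ℂ}

theorem real_over_amb (hAB : A ≤ B) (hn : B ≤ Subgroup.normalizer (A : Set Γ)) (ho : Odd (A.relIndex B))
    (hθ : θ ∈ irr A) (hr : star θ = θ) : ∃ χ ∈ irr B, star χ = χ ∧ ip A (res A χ) θ = 1 ∧
      ∀ χ' ∈ irr B, star χ' = χ' → ip A (res A χ') θ ≠ 0 → χ' = χ := by
  haveI := normal_subgroupOf_of_le_normalizer hn
  have := Fintype.ofFinite B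
  have := Fintype.ofFinite (A.subgroupOf B)
  obtain ⟨χ, h1, h2, h3, -, h4⟩ := existsUnique_real_over (N := A.subgroupOf B) ho (isIrr_subgroupOf hAB hθ)
    (funext fun n => congrFun hr n)
  refine ⟨extendByZero B χ, extendByZero_mem_irr.2 h1, star_extendByZero_iff.2 h3, ?_, fun χ' h5 h6 h7 => ?_⟩
  · rw [← classInner_subgroupOf hAB, ← h2]; simp
  · rw [← h4 (fun b : B => χ' b) (mem_irr.1 h5).2 (by rwa [← classInner_subgroupOf hAB] at h7)
      (funext fun n => congrFun h6 n), extendByZero_comp_of_supp (irr_supp h5)]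

theorem real_eq_of_over (hAB : A ≤ B) (hn : B ≤ Subgroup.normalizer (A : Set Γ)) (ho : Odd (A.relIndex B))
    (hθ : θ ∈ irr A) (hr : star θ = θ) {χ' : Γ → ℂ} (h1 : χ ∈ irr B) (h2 : star χ = χ)
    (h3 : ip A (res A χ) θ ≠ 0) (h4 : χ' ∈ irr B) (h5 : star χ' = χ') (h6 : ip A (res A χ') θ ≠ 0) :
    χ = χ' ∧ ip A (res A χ) θ = 1 := by
  obtain ⟨ψ, -, -, h7, h8⟩ := real_over_amb hAB hn ho hθ hr
  rw [h8 χ h1 h2 h3, h8 χ' h4 h5 h6]
  exact ⟨rfl, h7⟩

theorem real_under_amb (hAB : A ≤ B) (hn : B ≤ Subgroup.normalizer (A : Set Γ)) (ho : Odd (A.relIndex B))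
    (hχ : χ ∈ irr B) (hr : star χ = χ) (hθ : θ ∈ irr A) (h : ip A (res A χ) θ ≠ 0) : star θ = θ := by
  obtain ⟨g, hg, e⟩ := exists_cjf_of_constituents hAB hn hχ hθ (irr_star hθ) h (by
    rw [← hr, ip_res_star]; simpa using h)
  have : g ∈ stabf θ := mem_of_sq_mem_of_odd ho (pow_relIndex_mem hn hg) (le_stabf_of_cf (cf_of_irr hθ)) (by
    rw [mem_stabf, cjf_mul, ← e, cjf_star, ← e, star_star])
  rw [e, mem_stabf.1 this]

theorem clifford_degree_amb (hAB : A ≤ B) (hn : B ≤ Subgroup.normalizer (A : Set Γ)) (hχ : χ ∈ irr B)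
    (hθ : θ ∈ irr A) (h : ip A (res A χ) θ ≠ 0) :
    χ 1 = ip A (res A χ) θ * (stabf θ).relIndex B * θ 1 := by
  haveI := normal_subgroupOf_of_le_normalizer hn
  have := Fintype.ofFinite B
  have := Fintype.ofFinite (A.subgroupOf B)
  have h1 := H6.clifford_degree (N := A.subgroupOf B) (mem_irr.1 hχ).2 (isIrr_subgroupOf hAB hθ)
    (by rwa [classInner_subgroupOf hAB])
  have h2 : H6.inertia (fun n : A.subgroupOf B => θ n) = (stabf θ).subgroupOf B := by
    ext g; exact mem_inertia_subgroupOf hAB hn (irr_supp hθ) g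
  rw [classInner_subgroupOf hAB, h2] at h1
  exact h1

theorem relIndex_stabf_dvd (hAB : A ≤ B) (hn : B ≤ Subgroup.normalizer (A : Set Γ)) (hχ : χ ∈ irr B)
    (hθ : θ ∈ irr A) (h : ip A (res A χ) θ ≠ 0) {d : ℕ} (hd : χ 1 = d) : (stabf θ).relIndex B ∣ d := by
  have h1 := clifford_degree_amb hAB hn hχ hθ h
  obtain ⟨m, hm⟩ := ip_nat (res_mem_chars hAB (chars_of_irr hχ)) (chars_of_irr hθ)
  obtain ⟨e, -, he⟩ := irr_exists_apply_one hθ
  rw [hm, he, hd] at h1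
  have h2 : d = m * (stabf θ).relIndex B * e := by exact_mod_cast h1
  exact ⟨m * e, by rw [h2]; ring⟩

theorem ip_res_cjf (hn : B ≤ Subgroup.normalizer (A : Set Γ)) (hχ : χ ∈ irr B) {g : Γ} (hg : g ∈ B)
    (θ : Γ → ℂ) : ip A (res A χ) (cjf g θ) = ip A (res A χ) θ :=
  ip_cjf_right A θ (by rw [cjf_res (hn hg), cjf_of_cf (cf_of_irr hχ) hg])

end amb

omit [Fintype Γ] in
theorem index_modEq_relIndex [Finite Γ] [Fact p.Prime] (P : Sylow p Γ) {I : Subgroup Γ}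
    (h : (P : Subgroup Γ) ≤ I) : I.index ≡ I.relIndex (Subgroup.normalizer (P : Set Γ)) [MOD p] := by
  have h1 := card_sylow_modEq_one p Γ
  have h2 := card_sylow_modEq_one p I
  rw [P.card_eq_index_normalizer] at h1
  rw [(P.subtype h).card_eq_index_normalizer, ← Sylow.coe_coe, Sylow.coe_subtype,
    ← Subgroup.subgroupOf_normalizer_eq h] at h2
  have h3 := Subgroup.relIndex_mul_index (inf_le_left : I ⊓ Subgroup.normalizer (P : Set Γ) ≤ I)
  have h4 := Subgroup.relIndex_mul_index (inf_le_right : I ⊓ Subgroup.normalizer (P : Set Γ) ≤ _)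
  rw [Subgroup.inf_relIndex_left] at h3
  rw [Subgroup.inf_relIndex_right] at h4
  calc _ = 1 * I.index := (one_mul _).symm
    _ ≡ _ [MOD p] := h2.symm.mul_right _
    _ = _ := h3.trans h4.symm
    _ ≡ _ * 1 [MOD p] := h1.mul_left _
    _ = _ := mul_one _

omit [Fintype Γ] in
theorem sylow_le_of_relIndex [Finite Γ] [Fact p.Prime] (P : Sylow p Γ) {I : Subgroup Γ}
    (h : ¬ p ∣ I.relIndex (Subgroup.normalizer (P : Set Γ))) : (P : Subgroup Γ) ≤ I := fun x hx =>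
  le_of_sup_normal (N := ⊥) (I := I.subgroupOf _) (P.subtype Subgroup.le_normalizer)
    (by rw [bot_sup_eq, Sylow.coe_subtype]; exact Subgroup.normal_in_normalizer) bot_le h
    (show (⟨x, Subgroup.le_normalizer hx⟩ : Subgroup.normalizer (P : Set Γ)) ∈ _ from hx)

omit [Fintype Γ] in
theorem exists_normalizer_cjf [Finite Γ] [Fact p.Prime] (P : Sylow p Γ) {θ : Γ → ℂ} {g : Γ}
    (h1 : (P : Subgroup Γ) ≤ stabf θ) (h2 : (P : Subgroup Γ) ≤ stabf (cjf g θ)) :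
    ∃ n ∈ Subgroup.normalizer (P : Set Γ), cjf n θ = cjf g θ := by
  have h3 : ((g⁻¹ • P : Sylow p Γ) : Subgroup Γ) ≤ stabf (cjf g θ) := fun x hx => by
    rw [Sylow.coe_subgroup_smul, Subgroup.mem_pointwise_smul_iff_inv_smul_mem] at hx
    have h4 : g * x * g⁻¹ ∈ (P : Subgroup Γ) := by simpa using hx
    rw [mem_stabf, ← cjf_mul, show g * x = g * x * g⁻¹ * g by group, cjf_mul, mem_stabf.1 (h1 h4)]
  obtain ⟨y, hy⟩ := MulAction.exists_smul_eq (stabf (cjf g θ)) (P.subtype h2) ((g⁻¹ • P).subtype h3)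
  rw [Sylow.smul_subtype] at hy
  have h4 := Sylow.subtype_injective hy
  refine ⟨g * y, Sylow.smul_eq_iff_mem_normalizer.1 ?_, ?_⟩
  · rw [mul_smul, show (y : Γ) • P = g⁻¹ • P from h4, smul_inv_smul]
  · rw [cjf_mul, mem_stabf.1 y.2]

open Glaub

/-- The Isaacs–Navarro relation between characters of `G` and of `N_G(P)`. -/
def RN (p : ℕ) (K C P : Subgroup Γ) (χ ξ : Γ → ℂ) : Prop :=
  ∃ θ ∈ irr K, ∃ β ∈ irr C, P ≤ stabf θ ∧ P ≤ stabf β ∧ Gl p C θ β ∧ ip K (res K χ) θ ≠ 0 ∧ ip C (res C ξ) β ≠ 0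

section rn
variable [hp : Fact p.Prime] {K N C : Subgroup Γ} [hK : K.Normal] (ho : Odd K.index) {P : Sylow p Γ}
  (hN : N = Subgroup.normalizer (P : Set Γ)) (hC : C = K ⊓ N) (co : Corr p K C P) {χ χ' ξ ξ' : Γ → ℂ}

omit [Fintype Γ] in
theorem top_le_normalizer (K : Subgroup Γ) [K.Normal] : ⊤ ≤ Subgroup.normalizer (K : Set Γ) := by
  rw [Subgroup.normalizer_eq_top]

omit [Fintype Γ] in
theorem le_normalizer_inf (K N : Subgroup Γ) [hK : K.Normal] :
    N ≤ Subgroup.normalizer ((K ⊓ N : Subgroup Γ) : Set Γ) :=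
  Subgroup.le_normalizer_of_normal_subgroupOf (hK := by rw [Subgroup.inf_subgroupOf_right]; infer_instance)
    inf_le_right

omit [Fintype Γ] in
include ho in
theorem odd_relIndex_inf (N : Subgroup Γ) : Odd ((K ⊓ N).relIndex N) := by
  rw [Subgroup.inf_relIndex_right]
  exact ho.of_dvd_nat (Subgroup.relIndex_dvd_index_of_normal K N)

include ho hN hC co

theorem RN.degree (h : RN p K C P χ ξ) (hχ : χ ∈ irr ⊤) (r1 : star χ = χ) (hξ : ξ ∈ irr N) (r2 : star ξ = ξ)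
    {a b : ℕ} (ha : χ 1 = a) (hb : ξ 1 = b) : (b : ZMod p) = a ∨ (b : ZMod p) = -a := by
  obtain ⟨θ, hθ, β, hβ, h1, h2, g, h3, h4⟩ := h
  have o1 : Odd (K.relIndex ⊤) := by rwa [Subgroup.relIndex_top_right]
  have o2 := hC ▸ odd_relIndex_inf ho N
  have n2 : N ≤ Subgroup.normalizer (C : Set Γ) := hC ▸ le_normalizer_inf K N
  have hCN : C ≤ N := hC ▸ inf_le_right
  have hPN : (P : Subgroup Γ) ≤ N := hN ▸ Subgroup.le_normalizer
  have e1 := clifford_degree_amb le_top (top_le_normalizer K) hχ hθ h3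
  have e2 := clifford_degree_amb hCN n2 hξ hβ h4
  rw [(real_eq_of_over le_top (top_le_normalizer K) o1 hθ (real_under_amb le_top (top_le_normalizer K) o1 hχ r1
    hθ h3) hχ r1 h3 hχ r1 h3).2, Subgroup.relIndex_top_right] at e1
  rw [(real_eq_of_over hCN n2 o2 hβ (real_under_amb hCN n2 o2 hξ r2 hβ h4) hξ r2 h4 hξ r2 h4).2] at e2
  have e3 : (stabf β).relIndex N = (stabf θ).relIndex N := by
    rw [← Subgroup.inf_relIndex_right, ← Subgroup.inf_relIndex_right (stabf θ)]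
    congr 1
    ext x
    refine and_congr_left fun hx => ⟨fun h5 => ?_, fun h5 => ?_⟩
    · exact co.cjf_left (top_le_normalizer K trivial) (n2 hx) (hN ▸ hx) hθ h1 hβ h2 g h5
    · exact co.cjf_right (n2 hx) (hN ▸ hx) hθ h1 hβ h2 g h5
  obtain ⟨c, -, hc⟩ := irr_exists_apply_one hθ
  obtain ⟨d, -, hd⟩ := irr_exists_apply_one hβ
  obtain ⟨m, hm, hm'⟩ := id g
  have e4 := (ZMod.natCast_eq_natCast_iff _ _ _).2 (Agent.S4914.deg_cong hp.out co P.isPGroup'
    (hC ▸ inf_le_left) (hPN.trans n2) hθ h1 hβ h2 g hm hd hc)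
  have e5 := (ZMod.natCast_eq_natCast_iff _ _ _).2 (index_modEq_relIndex P h1)
  rw [ha, hc, one_mul] at e1
  rw [hb, hd, one_mul, e3] at e2
  have e6 : a = (stabf θ).index * c := by exact_mod_cast e1
  have e7 : b = (stabf θ).relIndex N * d := by exact_mod_cast e2
  rw [e6, e7, hN]
  push_cast at e4 ⊢
  rw [e4, e5]
  rcases co.cong θ hθ h1 β hβ h2 m hm hm' with h5 | h5
  · have := (ZMod.intCast_eq_intCast_iff _ _ _).2 h5
    push_cast at this
    left; rw [this, one_mul]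
  · have := (ZMod.intCast_eq_intCast_iff _ _ _).2 h5
    push_cast at this
    right; rw [this]; ring

theorem RN.exists_right (hχ : χ ∈ irr ⊤) (r1 : star χ = χ) {a : ℕ} (ha : χ 1 = a) (hd : ¬ p ∣ a) :
    ∃ ξ ∈ irr N, star ξ = ξ ∧ RN p K C P χ ξ := by
  have o1 : Odd (K.relIndex ⊤) := by rwa [Subgroup.relIndex_top_right]
  obtain ⟨θ, hθ, h1⟩ := exists_irr_ip_ne_zero (res_mem_cf (H := K) le_top (cf_of_irr hχ)) fun e =>
    irr_apply_one_ne_zero hχ (by simpa using congrFun e 1)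
  obtain ⟨Q, hQ⟩ := exists_sylow_le (p := p) (H := stabf θ) fun h => hd (h.trans (by
    simpa using relIndex_stabf_dvd le_top (top_le_normalizer K) hχ hθ h1 ha))
  obtain ⟨g, rfl⟩ := MulAction.exists_smul_eq Γ P Q
  have h2 : (P : Subgroup Γ) ≤ stabf (cjf g θ) := fun x hx => by
    have h4 : g * x * g⁻¹ ∈ ((g • P : Sylow p Γ) : Subgroup Γ) := by
      rw [Sylow.coe_subgroup_smul, Subgroup.mem_pointwise_smul_iff_inv_smul_mem]
      simpa [mul_assoc] using hx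
    rw [mem_stabf, ← cjf_mul, show g * x = g * x * g⁻¹ * g by group, cjf_mul, mem_stabf.1 (hQ h4)]
  have h3 := cjf_mem_irr (top_le_normalizer K (Subgroup.mem_top g)) hθ
  rw [← ip_res_cjf (top_le_normalizer K) hχ (Subgroup.mem_top g)] at h1
  obtain ⟨β, hβ, h4, h5⟩ := co.ex _ h3 h2
  obtain ⟨ξ, hξ, h6, h7, -⟩ := real_over_amb (hC ▸ inf_le_right : C ≤ N) (hC ▸ le_normalizer_inf K N)
    (hC ▸ odd_relIndex_inf ho N) hβ
    ((co.star_iff h3 h2 hβ h4 h5).1 (real_under_amb le_top (top_le_normalizer K) o1 hχ r1 h3 h1))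
  exact ⟨ξ, hξ, h6, _, h3, β, hβ, h2, h4, h5, h1, h7 ▸ one_ne_zero⟩

theorem RN.exists_left (hξ : ξ ∈ irr N) (r2 : star ξ = ξ) {b : ℕ} (hb : ξ 1 = b) (hd : ¬ p ∣ b) :
    ∃ χ ∈ irr ⊤, star χ = χ ∧ RN p K C P χ ξ := by
  have n2 : N ≤ Subgroup.normalizer (C : Set Γ) := hC ▸ le_normalizer_inf K N
  have hCN : C ≤ N := hC ▸ inf_le_right
  obtain ⟨β, hβ, h1⟩ := exists_irr_ip_ne_zero (res_mem_cf hCN (cf_of_irr hξ)) fun e =>
    irr_apply_one_ne_zero hξ (by simpa using congrFun e 1)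
  have h2 : (P : Subgroup Γ) ≤ stabf β := sylow_le_of_relIndex P fun h => hd (h.trans
    (hN ▸ relIndex_stabf_dvd hCN n2 hξ hβ h1 hb))
  obtain ⟨θ, hθ, h3, h4⟩ := co.surj β hβ h2
  obtain ⟨χ, hχ, h6, h7, -⟩ := real_over_amb le_top (top_le_normalizer K)
    (by rwa [Subgroup.relIndex_top_right]) hθ
    ((co.star_iff hθ h3 hβ h2 h4).2 (real_under_amb hCN n2 (hC ▸ odd_relIndex_inf ho N) hξ r2 hβ h1))
  exact ⟨χ, hχ, h6, θ, hθ, β, hβ, h3, h2, h4, h7 ▸ one_ne_zero, h1⟩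

theorem RN.unique_right (h : RN p K C P χ ξ) (h' : RN p K C P χ ξ') (hχ : χ ∈ irr ⊤) (hξ : ξ ∈ irr N)
    (r2 : star ξ = ξ) (hξ' : ξ' ∈ irr N) (r2' : star ξ' = ξ') : ξ = ξ' := by
  obtain ⟨θ, hθ, β, hβ, h1, h2, g, h3, h4⟩ := h
  obtain ⟨θ', hθ', β', hβ', h1', h2', g', h3', h4'⟩ := h'
  have n2 : N ≤ Subgroup.normalizer (C : Set Γ) := hC ▸ le_normalizer_inf K N
  have hCN : C ≤ N := hC ▸ inf_le_right
  have o2 := hC ▸ odd_relIndex_inf ho N
  obtain ⟨x, -, rfl⟩ := exists_cjf_of_constituents le_top (top_le_normalizer K) hχ hθ hθ' h3 h3'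
  obtain ⟨n, hn, e⟩ := exists_normalizer_cjf P h1 h1'
  have hn' : n ∈ N := hN ▸ hn
  have e1 := co.uniq _ hθ' h1' _ hβ' h2' _ (cjf_mem_irr (n2 hn') hβ) (le_stabf_cjf hn h2) g' (e ▸ g.cjf (n2 hn'))
  rw [e1, ip_res_cjf n2 hξ' hn'] at h4'
  exact (real_eq_of_over hCN n2 o2 hβ (real_under_amb hCN n2 o2 hξ r2 hβ h4) hξ r2 h4 hξ' r2' h4').1

theorem RN.unique_left (h : RN p K C P χ ξ) (h' : RN p K C P χ' ξ) (hξ : ξ ∈ irr N) (hχ : χ ∈ irr ⊤)
    (r1 : star χ = χ) (hχ' : χ' ∈ irr ⊤) (r1' : star χ' = χ') : χ = χ' := by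
  obtain ⟨θ, hθ, β, hβ, h1, h2, g, h3, h4⟩ := h
  obtain ⟨θ', hθ', β', hβ', h1', h2', g', h3', h4'⟩ := h'
  have n2 : N ≤ Subgroup.normalizer (C : Set Γ) := hC ▸ le_normalizer_inf K N
  have hCN : C ≤ N := hC ▸ inf_le_right
  have o1 : Odd (K.relIndex ⊤) := by rwa [Subgroup.relIndex_top_right]
  obtain ⟨n, hn, rfl⟩ := exists_cjf_of_constituents hCN n2 hξ hβ hβ' h4 h4'
  have e1 := co.inj _ hθ' h1' _ (cjf_mem_irr (top_le_normalizer K (Subgroup.mem_top n)) hθ)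
    (le_stabf_cjf (hN ▸ hn) h1) _ hβ' h2' g' (g.cjf (n2 hn))
  rw [e1, ip_res_cjf (top_le_normalizer K) hχ' (Subgroup.mem_top n)] at h3'
  exact (real_eq_of_over le_top (top_le_normalizer K) o1 hθ
    (real_under_amb le_top (top_le_normalizer K) o1 hχ r1 hθ h3) hχ r1 h3 hχ' r1' h3').1

theorem exists_real_bij (h : ∀ χ, IsIrrCharacter Γ χ → (fun g => conj (χ g)) = χ → ¬ p ∣ charDegree χ) :
    ∃ f : {χ : IrrCharacter Γ // (fun g => conj (χ.1 g)) = χ.1} →
      {ξ : IrrCharacter N // (fun g => conj (ξ.1 g)) = ξ.1 ∧ ¬ p ∣ charDegree ξ.1}, Function.Bijective f ∧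
      ∀ χ, (charDegree (f χ).1.1 : ZMod p) = charDegree χ.1.1 ∨
        (charDegree (f χ).1.1 : ZMod p) = -charDegree χ.1.1 := by
  have key : ∀ χ : {χ : IrrCharacter Γ // (fun g => conj (χ.1 g)) = χ.1},
      ∃ ξ : {ξ : IrrCharacter N // (fun g => conj (ξ.1 g)) = ξ.1 ∧ ¬ p ∣ charDegree ξ.1},
        RN p K C P χ.1.1 (extendByZero N ξ.1.1) := by
    rintro ⟨χ, hr⟩
    obtain ⟨ξ, h1, h2, h3⟩ := RN.exists_right ho hN hC co (mem_irr_top.2 χ.2) hr χ.2.coe_charDegree.symm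
      (h _ χ.2 hr)
    have h4 := (mem_irr.1 h1).2
    refine ⟨⟨⟨_, h4⟩, funext fun n => congrFun h2 n, fun h5 => h _ χ.2 hr ?_⟩,
      by rwa [extendByZero_comp_of_supp (irr_supp h1)]⟩
    have h6 := h3.degree ho hN hC co (mem_irr_top.2 χ.2) hr h1 h2 χ.2.coe_charDegree.symm h4.coe_charDegree.symm
    rw [(ZMod.natCast_eq_zero_iff _ _).2 h5] at h6
    rw [← ZMod.natCast_eq_zero_iff]
    rcases h6 with h6 | h6
    · exact h6.symm
    · exact neg_eq_zero.1 h6.symm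
  choose f hf using key
  refine ⟨f, ⟨fun a b e => Subtype.ext (Subtype.ext ?_), fun ξ => ?_⟩, fun χ => ?_⟩
  · exact (hf a).unique_left ho hN hC co (e ▸ hf b) (extendByZero_mem_irr.2 (f a).1.2) (mem_irr_top.2 a.1.2) a.2
      (mem_irr_top.2 b.1.2) b.2
  · have h1 := extendByZero_mem_irr.2 ξ.1.2
    have h2 := star_extendByZero_iff.2 ξ.2.1
    obtain ⟨χ, h3, h4, h5⟩ := RN.exists_left ho hN hC co h1 h2 (by simpa using ξ.1.2.coe_charDegree.symm) ξ.2.2
    refine ⟨⟨⟨χ, mem_irr_top.1 h3⟩, h4⟩, Subtype.ext (Subtype.ext (extendByZero_injective N ?_))⟩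
    exact (hf _).unique_right ho hN hC co h5 h3 (extendByZero_mem_irr.2 (f _).1.2)
      (star_extendByZero_iff.2 (f _).2.1) h1 h2
  · exact (hf χ).degree ho hN hC co (mem_irr_top.2 χ.1.2) χ.2 (extendByZero_mem_irr.2 (f χ).1.2)
      (star_extendByZero_iff.2 (f χ).2.1) χ.1.2.coe_charDegree.symm (by simpa using (f χ).1.2.coe_charDegree.symm)

end rn

theorem corr_of_normal [hp : Fact p.Prime] {K Q : Subgroup Γ} [hK : K.Normal] [Q.Normal] (hQK : Q ≤ K)
    (hQ : IsPGroup p Q) (hi : ¬ p ∣ Q.relIndex K) (P : Sylow p Γ) :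
    Corr p K (K ⊓ Subgroup.normalizer (P : Set Γ)) P := by
  have hQP := hQ.le_sylow_of_normal P
  refine corr_pgroup hp.out P (C := K ⊓ Subgroup.normalizer (P : Set Γ)) hQK (le_top.trans (top_le_normalizer Q)) (le_top.trans (top_le_normalizer K))
    (le_top.trans (top_le_normalizer Q)) P.isPGroup' hi fun c => and_congr_right fun hc => ⟨fun h x hx => ?_,
      fun h => H1.mem_normalizer_of_conj_mem fun x hx => ?_⟩
  · have h1 : x * c * x⁻¹ * c⁻¹ ∈ K := K.mul_mem (hK.conj_mem c hc x) (K.inv_mem hc)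
    have h2 : x * c * x⁻¹ * c⁻¹ ∈ (P : Subgroup Γ) := by
      have := (P : Subgroup Γ).mul_mem hx ((conj_mem_iff_of_normalizer h _).2 ((P : Subgroup Γ).inv_mem hx))
      simpa [mul_assoc] using this
    obtain ⟨k, hk⟩ := P.isPGroup' ⟨_, h2⟩
    have h3 : (x * c * x⁻¹ * c⁻¹) ^ p ^ k = 1 := congrArg Subtype.val hk
    obtain ⟨m, hm⟩ := exists_pow_eq_self_of_coprime (x := x * c * x⁻¹ * c⁻¹) (n := Q.relIndex K)
      ((((Nat.Prime.coprime_iff_not_dvd hp.out).2 hi).symm.pow_right k).coprime_dvd_right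
        (orderOf_dvd_of_pow_eq_one h3))
    rw [← hm]
    exact Q.pow_mem (pow_relIndex_mem (le_top.trans (top_le_normalizer Q)) h1) _
  · have := (P : Subgroup Γ).mul_mem hx (hQP (h x⁻¹ ((P : Subgroup Γ).inv_mem hx)))
    simpa [mul_assoc] using this

omit [Fintype Γ] in
theorem mem_of_real_of_odd {K : Subgroup Γ} [K.Normal] (ho : Odd K.index) {x : Γ} (hx : IsConj x x⁻¹) : x ∈ K := by
  obtain ⟨t, ht⟩ := isConj_iff.1 hx
  have h1 : t ∈ (Subgroup.centralizer {(x : Γ ⧸ K)}).comap (QuotientGroup.mk' K) := by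
    refine mem_of_sq_mem_of_odd ho (K.pow_index_mem t) (fun k hk => ?_) ?_
    · rw [Subgroup.mem_comap, QuotientGroup.mk'_apply, (QuotientGroup.eq_one_iff k).2 hk]
      exact Subgroup.one_mem _
    · rw [Subgroup.mem_comap, Subgroup.mem_centralizer_singleton_iff, QuotientGroup.mk'_apply,
        ← QuotientGroup.mk_mul, ← QuotientGroup.mk_mul]
      congr 1
      calc _ = t * (t * x * t⁻¹) * t := by group
        _ = t * x⁻¹ * t := by rw [ht]
        _ = (t * x * t⁻¹)⁻¹ * (t * t) := by group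
        _ = _ := by rw [ht, inv_inv]
  rw [Subgroup.mem_comap, Subgroup.mem_centralizer_singleton_iff, QuotientGroup.mk'_apply] at h1
  refine mem_of_sq_mem_of_odd ho (K.pow_index_mem x) le_rfl ((QuotientGroup.eq_one_iff _).1 ?_)
  have h2 : (t : Γ ⧸ K) * x * (t : Γ ⧸ K)⁻¹ = (x : Γ ⧸ K)⁻¹ := congrArg (QuotientGroup.mk' K) ht
  rw [h1, mul_inv_cancel_right] at h2
  rw [QuotientGroup.mk_mul]
  exact mul_eq_one_iff_eq_inv.2 h2

theorem exists_conj_mem_normalizer [hp : Fact p.Prime] {K : Subgroup Γ} [hK : K.Normal] (ho : Odd K.index)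
    (hc : ¬ p ∣ Nat.card K) (P : Sylow p Γ)
    (h : ∀ χ, IsIrrCharacter Γ χ → (fun g => conj (χ g)) = χ → ¬ p ∣ charDegree χ) {x : Γ} (hx : IsConj x x⁻¹) :
    ∃ y ∈ Subgroup.normalizer (P : Set Γ), IsConj x y := by
  set N := Subgroup.normalizer (P : Set Γ) with hN
  obtain ⟨f, hf, -⟩ := exists_real_bij ho hN rfl (corr_of_normal (Q := ⊥) bot_le IsPGroup.of_bot
    (by rwa [Subgroup.relIndex_bot_left]) P) h
  have h1 : Nat.card {C : ConjClasses Γ // ∀ g, ConjClasses.mk g = C → IsConj g g⁻¹} ≤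
      Nat.card {C : ConjClasses N // ∀ g, ConjClasses.mk g = C → IsConj g g⁻¹} := by
    rw [← card_real_irr, ← card_real_irr, Nat.card_eq_of_bijective f hf]
    exact Nat.card_le_card_of_injective (fun ξ => ⟨ξ.1, ξ.2.1⟩) fun a b e => Subtype.ext (congrArg (fun x => x.1) e)
  let F : {C : ConjClasses N // ∀ g, ConjClasses.mk g = C → IsConj g g⁻¹} →
      {C : ConjClasses Γ // ∀ g, ConjClasses.mk g = C → IsConj g g⁻¹} := fun C => ⟨C.1.map N.subtype, by
    obtain ⟨C, hC⟩ := C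
    obtain ⟨c, rfl⟩ := ConjClasses.mk_surjective C
    intro g hg
    have h2 : IsConj g c := ConjClasses.mk_eq_mk_iff_isConj.1 hg
    exact h2.trans ((N.subtype.map_isConj (hC c rfl)).trans (isConj_inv_inv2 h2.symm))⟩
  have hcent : ∀ y : N, IsConj y y⁻¹ → (y : Γ) ∈ Subgroup.centralizer (P : Set Γ) := by
    intro y hy a ha
    have h2 := mem_of_real_of_odd ho (x := y) (N.subtype.map_isConj hy)
    have h3 : a * y * a⁻¹ * (y : Γ)⁻¹ ∈ K := K.mul_mem (hK.conj_mem _ h2 a) (K.inv_mem h2)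
    have h4 : a * y * a⁻¹ * (y : Γ)⁻¹ ∈ (P : Subgroup Γ) := by
      have := (P : Subgroup Γ).mul_mem ha ((conj_mem_iff_of_normalizer y.2 _).2 ((P : Subgroup Γ).inv_mem ha))
      simpa [mul_assoc] using this
    obtain ⟨k, hk⟩ := P.isPGroup' ⟨_, h4⟩
    have h5 : orderOf (a * y * a⁻¹ * (y : Γ)⁻¹) = 1 := Nat.eq_one_of_dvd_coprimes
      (((Nat.Prime.coprime_iff_not_dvd hp.out).2 hc).pow_left k)
      (orderOf_dvd_of_pow_eq_one (congrArg Subtype.val hk)) (Subgroup.orderOf_dvd_natCard K h3)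
    calc a * y = a * y * a⁻¹ * (y : Γ)⁻¹ * (y * a) := by group
      _ = _ := by rw [orderOf_eq_one_iff.1 h5, one_mul]
  have h2 : Function.Injective F := by
    rintro ⟨C, hC⟩ ⟨D, hD⟩ e
    obtain ⟨c, rfl⟩ := ConjClasses.mk_surjective C
    obtain ⟨d, rfl⟩ := ConjClasses.mk_surjective D
    have h2 : IsConj (c : Γ) d := ConjClasses.mk_eq_mk_iff_isConj.1 (congrArg (fun x => x.1) e)
    obtain ⟨g, hg⟩ := isConj_iff.1 h2
    obtain ⟨n, hn, h3⟩ := P.conj_eq_normalizer_conj_of_mem_centralizer c g⁻¹ (hcent c (hC c rfl))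
      (by rw [inv_inv, hg]; exact hcent d (hD d rfl))
    refine Subtype.ext (ConjClasses.mk_eq_mk_iff_isConj.2 (isConj_iff.2 ⟨⟨n, hn⟩⁻¹, Subtype.ext ?_⟩))
    simpa [← h3] using hg
  obtain ⟨⟨C, hC⟩, e⟩ := (h2.bijective_of_nat_card_le h1).2 ⟨ConjClasses.mk x, fun g hg => by
    have h3 := ConjClasses.mk_eq_mk_iff_isConj.1 hg
    exact h3.trans (hx.trans (isConj_inv_inv2 h3.symm))⟩
  obtain ⟨c, rfl⟩ := ConjClasses.mk_surjective C
  exact ⟨c, c.2, (ConjClasses.mk_eq_mk_iff_isConj.1 (congrArg (fun x => x.1) e)).symm⟩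

omit [Fintype Γ] in
theorem exists_normal_sylow_pGen [Finite Γ] [hp : Fact p.Prime] (hs : Group.IsSolvable (pGen p Γ))
    (h : ∀ χ, IsIrrCharacter Γ χ → (fun g => conj (χ g)) = χ → ¬ p ∣ charDegree χ) :
    ∃ Q : Subgroup Γ, Q.Normal ∧ Q ≤ pGen 2 Γ ∧ IsPGroup p Q ∧ ¬ p ∣ Q.relIndex (pGen 2 Γ) := by
  obtain ⟨R⟩ : Nonempty (Sylow p (pGen 2 Γ)) := inferInstance
  haveI := NSyl.of_real_le hs h le_rfl (a := 0) (by simp) R
  haveI := Sylow.characteristic_of_normal R this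
  refine ⟨(R : Subgroup (pGen 2 Γ)).map (pGen 2 Γ).subtype, inferInstance, Subgroup.map_subtype_le _,
    R.isPGroup'.map _, ?_⟩
  rw [Subgroup.relIndex, Subgroup.subgroupOf, Subgroup.comap_map_eq_self_of_injective (Subgroup.subtype_injective _)]
  exact R.not_dvd_index

end H8
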