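import Cfsg.Agent.H8.NW
import Cfsg.Agent.H8.MK5
import Cfsg.Agent.H8.RealC
import Cfsg.Agent.H1.Harv3

/-! Navarro-Wolf: groups whose `p'`-degree characters have `q'`-degree (`PQk`, `nw_cent`,
`nw_step`, `nw_comm`). -/

set_option autoImplicit false
open H5 H19 Cfsg
open scoped commutatorElement

namespace H8
universe u
open H18 H1 Glaub

variable {G : Type u} [Group G] {p q : ℕ} {A C K L M P Q S W : Subgroup G} {φ : G → ℂ}

theorem exists_const_ndvd [Fintype G] (hφ : φ ∈ chars K) (h : ¬ (p : ℤ) ∣ dg φ) :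
    ∃ χ ∈ irr K, ip K φ χ ≠ 0 ∧ ¬ (p : ℤ) ∣ dg χ := by
  by_contra hn
  push Not at hn
  have : ∀ χ, ∃ k : ℤ, χ ∈ irr K → ip K φ χ * χ 1 = (p * k : ℤ) := fun χ => by
    by_cases hχ : χ ∈ irr K
    · obtain ⟨a, ha⟩ := ip_nat hφ (chars_of_irr hχ)
      by_cases o : ip K φ χ = 0
      · exact ⟨0, fun _ => by simp [o]⟩
      · obtain ⟨c, hc⟩ := hn χ hχ o
        exact ⟨a * c, fun _ => by rw [ha, irr_apply_one hχ, hc]; push_cast; ring⟩
    · exact ⟨0, fun h => absurd h hχ⟩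
  choose k hk using this
  have e := cf_apply_eq_sum (cf_of_chars hφ) 1
  rw [Finset.sum_congr rfl hk, chars_apply_one hφ] at e
  have : dg φ = ∑ χ ∈ irr K, p * k χ := by exact_mod_cast e
  exact h (this ▸ Finset.dvd_sum fun _ _ => dvd_mul_right _ _)

theorem glr_bot [Finite G] (hp : p.Prime) (hn : P ≤ N(M)) (hP : PiGrp {p} P) (hM : PiGrp {p}ᶜ M) :
    GlR p ⊥ M P (M ⊓ C(P)) where
  LK := bot_le
  nK := by simp
  LP := bot_le
  nP := by simp
  PK := hn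
  pP := by
    haveI : Fact p.Prime := ⟨hp⟩
    obtain ⟨m, hm⟩ := hP.isPGroup.exists_card_eq
    exact ⟨m, by rw [Subgroup.relIndex_bot_left, hm]⟩
  cop := by rw [Subgroup.relIndex_bot_left]; exact (piNat_compl_iff hp).1 hM
  hC c := and_congr_right fun _ => mem_C.trans (forall₂_congr fun x _ => by
    rw [Subgroup.mem_bot, mul_inv_eq_one, mul_inv_eq_iff_eq_mul])

theorem exists_pd_over [Fintype G] [hp : Fact p.Prime] (hM : M ⊴ ⊤) (hπ : PiGrp {p}ᶜ M)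
    (hP : Hall {p} P ⊤) (hφ : φ ∈ irr M) (hi : P ≤ stabf φ) :
    ∃ χ ∈ irr (⊤ : Subgroup G), Ov M χ φ ∧ ¬ (p : ℤ) ∣ dg χ := by
  obtain ⟨ν, hν, o⟩ := exists_ov_under bot_le hφ
  have i : ∀ U : Subgroup G, U ≤ stabf ν := fun U s _ =>
    mem_stabf_of_centralizes (irr_supp hν) (by rintro c rfl; simp)
  have e : ν 1 = 1 := irr_apply_one_of_comm hν (by rintro a rfl b rfl; rfl)
  obtain ⟨⟨η, a, b⟩, d⟩ := ((glr_bot hp.out (le_top.trans hM.norm) hP.pi hπ).extn_iff hν (i _) (i _)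
    hφ hi o).2 ⟨⟨triv P, triv_mem_chars P, eq_of_eqOn (res_supp _ _) (irr_supp hν) (by
      rintro x rfl; simp [e])⟩, by
      rw [dg_eq_of_eq_nat (n := 1) (by simpa using e)]; exact_mod_cast fun h => hp.out.one_lt.ne'
        (Nat.dvd_one.1 h)⟩
  have hη := irr_of_res le_sup_left a (b ▸ hφ)
  obtain ⟨χ, h1, h2, h3⟩ := exists_const_ndvd (p := p) (ind_mem_chars le_top a) (by
    rw [dg_ind le_top (vchar_of_chars a), (Nat.prime_iff_prime_int.1 hp.out).dvd_mul,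
      Int.natCast_dvd_natCast, ← dg_res M, b]
    exact fun h => h.elim ((piNat_compl_iff hp.out).1 (hP.idx_of_le le_sup_right)) d)
  exact ⟨χ, h1, Ov.trans le_sup_left le_top (chars_of_irr h1) hη (chars_of_irr hφ)
    ((ov_iff_ind (cf_of_irr hη) (cf_of_irr h1)).2 h2) (ov_of_res hφ b), h3⟩

theorem cent_of_fix_irr [Finite G] {N : Subgroup G} (h1 : Cop A N)
    (h : ∀ θ ∈ irr N, A ≤ stabf θ) : N ≤ C(A) := by
  have e : (C(A)).subgroupOf N = ⊤ := by
    refine H22.eq_top_of_forall_conj_mem _ fun x => ?_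
    have h0 : ∀ a ∈ A, ∃ k ∈ N, k * x * k⁻¹ = a * x * a⁻¹ := by
      intro a ha
      have h2 : IsConj x ⟨a * x * a⁻¹, conj_mem h1.norm ha x.2⟩ := by
        rw [isConj_iff_forall_irr]
        intro θ
        have := congrFun (h _ (extendByZero_mem_irr.2 θ.2) ha) x
        rw [cjf_apply, extendByZero_of_mem _ (conj_mem h1.norm ha x.2), H19.extendByZero_coe] at this
        exact this.symm
      obtain ⟨k, hk⟩ := isConj_iff.1 h2
      exact ⟨k, k.2, congrArg Subtype.val hk⟩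
    obtain ⟨k, hk, h3⟩ := exists_conj_mem_centralizer h1.norm h1.cop h1.solv h0
    exact ⟨⟨k, hk⟩, h3⟩
  exact fun x hx => (e.ge (Subgroup.mem_top (⟨x, hx⟩ : N)) :)

theorem exists_cent_cj_le [Finite G] (hq : q.Prime) (hs : PiSep {q} W) (hW : W ⊴ ⊤) (hc : Cop P W)
    (hQ : Hall {q} Q W) (hn : P ≤ N(Q)) (hS : P ≤ S) (hi : ¬ q ∣ S.index) :
    ∃ c ∈ W ⊓ C(P), H18.cj c Q ≤ S := by
  have n : P ≤ N(W ⊓ S) := norm_inf hc.norm (le_norm hS)
  obtain ⟨R, h1, h2⟩ := (hc.sub inf_le_left n).exists_sylow hq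
  obtain ⟨c, h3, e⟩ := hs.cop_hall_trans hc hQ (h1.of_idx inf_le_left ((piNat_compl_iff hq).2
    fun d => hi (by
      rw [relIndex_inf_left] at d
      simpa using d.trans (hW.relIndex_dvd' le_top)))) hn h2
  exact ⟨c, h3, e ▸ h1.le.trans inf_le_right⟩

/-- characters of `G/K` of `p'`-degree have `q'`-degree -/
def PQk (p q : ℕ) (K : Subgroup G) : Prop := ∀ χ : G → ℂ, IsIrrCharacter G χ →
  (∀ k ∈ K, χ k = χ 1) → ¬ p ∣ charDegree χ → ¬ q ∣ charDegree χ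

/-- the projection to `Coset M` for normal `M` -/
def csHom (hM : M ⊴ ⊤) : G →* Coset M :=
  (coset M).comp ((MonoidHom.id G).codRestrict _ fun x => hM.norm (Subgroup.mem_top x))

theorem csHom_apply (hM : M ⊴ ⊤) (x : G) : csHom hM x = cs M x :=
  (mfun_of_mem (f := coset M) (hM.norm (Subgroup.mem_top x))).symm

theorem top_quo (hM : M ⊴ ⊤) : ⊤ ⫽ M = ⊤ := top_le_iff.1 (quo_N.ge.trans (mim_mono le_top))

theorem csHom_surj (hM : M ⊴ ⊤) : Function.Surjective (csHom hM) := fun z => by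
  obtain ⟨x, -, e⟩ := (mem_quo hM.norm).1 ((top_quo hM).ge (Subgroup.mem_top z))
  exact ⟨x, (csHom_apply hM x).trans e⟩

theorem PQk.quo (h : PQk p q K) (hM : M ⊴ ⊤) {K' : Subgroup (Coset M)} (hK : K ⫽ M ≤ K') :
    PQk p q K' := fun χ h1 h2 => by
  have := h _ (h1.comp_surjective _ (csHom_surj hM)) fun k hk => by
    rw [map_one, csHom_apply]; exact h2 _ (hK (mfun_mem_mim hk))
  simpa only [charDegree, map_one] using this

theorem nw_cent [hp : Fact p.Prime] (hq : q.Prime) (n : ℕ) : ∀ (G : Type u) [Group G] [Finite G]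
    (W P Q : Subgroup G), Nat.card W = n → PiSep {q} W → W ⊴ ⊤ → PiGrp {p}ᶜ W → Hall {p} P ⊤ →
    Hall {q} Q W → Q ≤ C(P) → PQk p q (⊥ : Subgroup G) → W ⊓ C(P) ≤ N(Q) := by
  induction n using Nat.strong_induction_on with
  | _ n ih =>
  intro G _ _ W P Q hn hs hW hπ hP hQ hc h
  haveI := Fintype.ofFinite G
  by_cases h0 : W = ⊥
  · rw [h0, bot_inf_eq]; exact bot_le
  obtain ⟨M, hMW, hM⟩ := exists_minNorm h0 hW.norm
  have nM : M ⊴ ⊤ := ⟨le_top, hM.norm⟩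
  have n' : ∀ U : Subgroup G, U ≤ N(M) := fun U => le_top.trans hM.norm
  have cop : Cop P W := cop_pi (le_top.trans hW.norm) hP.pi hπ
  have h1 := ih _ (hn ▸ card_quo_lt (nM.of_le hMW le_top) hM.ne_bot) _ (W ⫽ M) (P ⫽ M) (Q ⫽ M) rfl
    hs.mim (top_quo nM ▸ hW.mim) hπ.mim (top_quo nM ▸ hP.mim hM.norm) (hQ.mim (n' _)) (mim_cent hc)
    (h.quo nM (by simp))
  have h2 : W ⊓ C(P) ≤ N(Q ⊔ M) := norm_of_quo_norm (n' _) (nml_sup_right (n' _))
    (by rw [quo_sup_self (n' _)]; exact mim_inf_C_le.trans h1)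
  rcases (hs.mono hMW).minNorm hM with a | a
  · rwa [sup_eq_left.2 (hQ.nml_le (nM.of_le hMW le_top) a)] at h2
  have co := (glr_bot hp.out (n' P) hP.pi (hπ.of_le hMW)).corr
  have nC : Q ≤ N(M ⊓ C(P)) := norm_inf (n' _) (le_norm hc)
  have h3 : M ⊓ C(P) ≤ C(Q) := cent_of_fix_irr (cop_pi nC hQ.pi a.inf_left) fun ψ hψ y hy => by
    have i : P ≤ stabf ψ := fun s hs => mem_stabf_of_centralizes (irr_supp hψ)
      fun c hc => mem_C.1 hc.2 s hs
    obtain ⟨φ, b1, b2, b3⟩ := co.surj ψ hψ i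
    obtain ⟨χ, c1, c2, c3⟩ := exists_pd_over nM (hπ.of_le hMW) hP b1 b2
    have e := (mem_irr_top.1 c1).coe_charDegree.symm
    have c4 := h χ (mem_irr_top.1 c1) (by rintro k rfl; rfl) fun d => c3 (by
      rw [dg_eq_of_eq_nat e]; exact_mod_cast d)
    obtain ⟨c, d1, d2⟩ := exists_cent_cj_le hq hs hW cop hQ (cent_norm (cent_symm hc)) b2
      fun d => c4 (d.trans (by simpa using relIndex_stabf_dvd le_top hM.norm c1 b1 c2 e))
    have : Q ⊔ M ≤ stabf φ := by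
      rw [← cj_eq_self (h2 d1), H18.cj_sup, cj_eq_self (n' _ (Subgroup.mem_top c))]
      exact sup_le d2 (le_stabf_of_cf (cf_of_irr b1))
    exact co.cjf_right (nC hy) (C_le_N (hc hy)) b1 b2 hψ i b3 (this (Subgroup.mem_sup_left hy))
  intro c hc'
  have hQ' := hQ.of_le (K := Q ⊔ M ⊓ C(P)) le_sup_left (sup_le hQ.le (inf_le_left.trans hMW))
  refine mem_N_of_cj_le (hQ'.le_of_nml (sup_le le_N (cent_norm h3)) ?_ (hQ.pi.cj c))
  rw [← (Nrm2.modular (Or.inl (n' Q)) hc)]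
  exact le_inf (cj_le_of_mem_N le_sup_left (h2 hc')) (cj_le_of_mem_N hc (le_N hc'.2))

theorem hall_norm_le_core [Finite G] {π : Set ℕ} {H : Subgroup G} (hs : PiSep π H) (hP : Hall π P H)
    (hA : A ≤ H) (h : PiGrp πᶜ A) (hn : P ≤ N(A)) : A ≤ O[πᶜ](H) := by
  have nM : H ≤ N(O[πᶜ](H)) := pcore_nml.norm
  have h1 := cent_of_comm_le_inf le_rfl ((hP.mim nM).pcore_le.trans (mim_norm hn)) le_rfl
    ((mim_mono (f := coset O[πᶜ](H)) hA).trans pcore_nml.norm) (h.mim.inf_eq_bot' pcore_pi)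
  exact (quo_eq_bot_iff (hA.trans nM)).1 ((pcore_pi.of_le ((le_inf (mim_mono hA) h1).trans
    (hs.mim.cent_pcore_le pcore_quo_pcore))).eq_bot h.mim)

theorem nw_step [Finite G] [hp : Fact p.Prime] (hq : q.Prime) (hne : p ≠ q) {I : Ideal AlgInt}
    [H7.PM p I] (sp : PiSep {p} (⊤ : Subgroup G)) (sq : PiSep {q} (⊤ : Subgroup G))
    (h : PQk p q O[{p}ᶜ]((⊤ : Subgroup G))) (hM : M ⊴ ⊤) (hπ : PiGrp {p} M) (hP : Hall {p} P ⊤)
    (hQ : Hall {q} Q ⊤) (hc : ⁅P, Q⁆ ≤ M) : Q ≤ C(P) := by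
  haveI := Fintype.ofFinite G
  haveI := Fintype.ofFinite P
  have hMP := hP.nml_le hM hπ
  have qp : PiGrp {p}ᶜ Q := fun r a b e => hne (e.symm.trans (hQ.pi r a b))
  have nN : M ⊔ O[{p}ᶜ]((⊤ : Subgroup G)) ⊴ ⊤ := hM.sup pcore_nml
  generalize hN : M ⊔ O[{p}ᶜ]((⊤ : Subgroup G)) = N at nN
  have n' : ∀ U : Subgroup G, U ≤ N(N) := fun U => le_top.trans nN.norm
  have hP' : Hall {p} (P ⫽ N) ⊤ := top_quo nN ▸ hP.mim nN.norm
  have hQ' : Hall {q} (Q ⫽ N) ⊤ := top_quo nN ▸ hQ.mim nN.norm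
  have c1 : P ⫽ N ≤ C(Q ⫽ N) := (comm_le_iff_quo (n' _) (n' _)).1 (hc.trans (hN ▸ le_sup_left))
  have sp' : PiSep {p} (⊤ : Subgroup (Coset N)) := top_quo nN ▸ sp.mim
  have sq' : PiSep {q} O[{p}ᶜ]((⊤ : Subgroup (Coset N))) := (top_quo nN ▸ sq.mim :
    PiSep {q} (⊤ : Subgroup (Coset N))).mono le_top
  have hQW := hQ'.of_le (hall_norm_le_core sp' hP' le_top qp.mim (cent_norm c1)) le_top
  have key := nw_cent hq _ _ _ _ _ rfl sq' pcore_nml pcore_pi hP' hQW (cent_symm c1)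
    (h.quo nN (quo_eq_bot (hN ▸ le_sup_right)).le)
  have h2 : ⁅M, Q⁆ ≤ ⁅P, P⁆ := fun y hy => by
    have hyP : y ∈ P := hMP (comm_le_left (le_top.trans hM.norm) hy)
    by_contra hn
    obtain ⟨lam, -, h2⟩ := exists_lin_ne_one (G := P) le_rfl (g := ⟨y, hyP⟩) fun e => hn (by
      rw [← Subgroup.map_subtype_commutator]; exact ⟨_, e, rfl⟩)
    obtain ⟨χ, a, b, c⟩ := exists_over_not_dvd (M := I) (p := p) (K := P)
      (by simpa using (piNat_compl_iff hp.out).1 hP.idx)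
      (η := ⟨_, isIrrCharacter_hom lam⟩) (principal_of_isPGroup hP.pi.isPGroup _)
      (by rw [charDegree_hom]; simpa using hp.out.one_lt.ne')
    rw [principal_of_pSol (H4.isPSolvable_iff.1 ((isPSolvable_iff_piSep hp.out).2 sp)),
      pPrimeCore_eq hp.out] at a
    have hμ := hom_mem_irr lam
    set μ := extendByZero P fun x => (lam x : ℂ) with e
    have hl : res M μ ∈ irr M := irr_of_chars_of_apply_one (res_mem_chars hMP (chars_of_irr hμ))
      (by simp [e])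
    have o : Ov M χ.1 (res M μ) := Ov.trans hMP le_top (mem_chars_top.2 χ.2.isCharacter) hμ
      (chars_of_irr hl) (by
        unfold Ov; rw [← classInner_comp, e, comp_extendByZero]; exact c) (ov_of_res hl rfl)
    have d := relIndex_stabf_dvd le_top hM.norm (mem_irr_top.2 χ.2) hl o χ.2.coe_charDegree.symm
    have i1 : P ≤ stabf (res M μ) :=
      le_stabf_res (le_top.trans hM.norm) (le_stabf_of_cf (cf_of_irr hμ))
    have i2 : N ≤ stabf (res M μ) := hN ▸ sup_le (hMP.trans i1) fun s hs =>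
      mem_stabf_of_centralizes (irr_supp hl) fun c hc =>
        (mem_C.1 (pcore_cent_nml hM (by rwa [compl_compl]) hs) c hc).symm
    obtain ⟨c, d1, d2⟩ := exists_cent_cj_le hq sq' pcore_nml
      (cop_pi (le_top.trans pcore_nml.norm) hP'.pi pcore_pi) hQW (cent_norm c1) (mim_mono i1)
      fun d' => h _ χ.2 a b (d'.trans (by
        rwa [← Subgroup.relIndex_top_right, ← top_quo nN, relIndex_quo le_top nN.norm i2]))
    rw [cj_eq_self (key d1)] at d2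
    have i3 := le_of_quo_le (n' _) ⟨i2, n' _⟩ d2
    have : ⁅M, Q⁆ ≤ lam.ker.map P.subtype := Subgroup.commutator_le.2 fun m hm z hz => by
      have m' := conj_mem (le_top.trans hM.norm) hz (M.inv_mem hm)
      have f := congrFun (i3 hz) m⁻¹
      rw [cjf_apply, res_of_mem _ m', res_of_mem _ (M.inv_mem hm), e, extendByZero_of_mem _ (hMP m'),
        extendByZero_of_mem _ (hMP (M.inv_mem hm)), Units.val_inj] at f
      refine ⟨⟨m, hMP hm⟩ * ⟨_, hMP m'⟩, ?_, by simp [commutatorElement_def, mul_assoc]⟩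
      rw [SetLike.mem_coe, MonoidHom.mem_ker, map_mul, f, ← map_mul]
      exact (congrArg lam (Subtype.ext (mul_inv_cancel m))).trans (map_one lam)
    obtain ⟨z, z1, z2⟩ := this hy
    exact h2 (by rwa [← show z = ⟨y, hyP⟩ from Subtype.ext z2])
  have cop : Cop Q P := cop_pi' (norm_iff_comm_le'.2 (hc.trans hMP)) qp hP.pi
  exact cent_of_comm_le_phi cop.norm cop.cop (cop.comm_comm.ge.trans
    ((comm_mono hc le_rfl).trans (h2.trans (hP.pi.der_le_phi hp.out))))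

theorem nw_comm [hp : Fact p.Prime] [hq : Fact q.Prime] (hne : p ≠ q) (I J : Ideal AlgInt)
    [H7.PM p I] [H7.PM q J] (n : ℕ) : ∀ (G : Type u) [Group G] [Finite G], Nat.card G = n →
    PiSep {p} (⊤ : Subgroup G) → PiSep {q} (⊤ : Subgroup G) → PQk p q O[{p}ᶜ]((⊤ : Subgroup G)) →
    PQk q p O[{q}ᶜ]((⊤ : Subgroup G)) →
    ∃ P Q : Subgroup G, Hall {p} P ⊤ ∧ Hall {q} Q ⊤ ∧ Q ≤ C(P) := by
  induction n using Nat.strong_induction_on with
  | _ n ih =>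
  intro G _ _ hn sp sq h1 h2
  by_cases h0 : (⊤ : Subgroup G) = ⊥
  · obtain ⟨P, hP⟩ := exists_sylow hp.out (⊤ : Subgroup G)
    obtain ⟨Q, hQ⟩ := exists_sylow hq.out (⊤ : Subgroup G)
    exact ⟨P, Q, hP, hQ, le_top.trans (h0.le.trans bot_le)⟩
  obtain ⟨M, -, hM⟩ := exists_minNorm h0 le_N
  have nM : M ⊴ ⊤ := ⟨le_top, hM.norm⟩
  have n' : ∀ U : Subgroup G, U ≤ N(M) := fun U => le_top.trans hM.norm
  have c : ∀ π : Set ℕ, O[π]((⊤ : Subgroup G)) ⫽ M ≤ O[π]((⊤ : Subgroup (Coset M))) := fun π =>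
    le_pcore (top_quo nM ▸ pcore_nml.mim) pcore_pi.mim
  obtain ⟨P', Q', a, b, d⟩ := ih _ (by
    have := card_quo_lt nM hM.ne_bot
    rwa [top_quo nM, Subgroup.card_top, Subgroup.card_top, hn] at this) (Coset M) rfl
    (top_quo nM ▸ sp.mim) (top_quo nM ▸ sq.mim) (h1.quo nM (c _)) (h2.quo nM (c _))
  have lift : ∀ {r : ℕ}, r.Prime → ∀ U : Subgroup (Coset M), Hall {r} U ⊤ →
      ∃ R, Hall {r} R ⊤ ∧ R ⫽ M = U := fun hr U hU => by
    obtain ⟨R, r1, r2, r3⟩ := exists_pGrp_lift (f := coset M) hr nM.norm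
      (le_top.trans (top_quo nM).ge) hU.pi
    refine ⟨R, r2.of_idx le_top ?_, r3⟩
    rw [top_inf_eq, relIndex_qpre nM (le_top.trans (top_quo nM).ge), top_quo nM]
    exact hU.idx
  obtain ⟨P, hP, rfl⟩ := lift hp.out _ a
  obtain ⟨Q, hQ, rfl⟩ := lift hq.out _ b
  have hc : ⁅Q, P⁆ ≤ M := (comm_le_iff_quo (n' _) (n' _)).2 d
  rcases (sp.mono le_top).minNorm hM with e | e
  · exact ⟨P, Q, hP, hQ, nw_step hq.out hne (I := I) sp sq h1 nM e hP hQ (comm_comm.le.trans hc)⟩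
  rcases (sq.mono le_top).minNorm hM with f | f
  · exact ⟨P, Q, hP, hQ, cent_symm (nw_step hp.out hne.symm (I := J) sq sp h2 nM f hQ hP hc)⟩
  have pq : PiGrp {q}ᶜ P := fun r a b e => hne ((hP.pi r a b).symm.trans e)
  have n1 : Q ≤ N(P ⊔ M) := norm_of_quo_norm (n' _) (nml_sup_right (n' _))
    (by rw [quo_sup_self (n' _)]; exact cent_norm d)
  obtain ⟨R, r1, r2⟩ := (cop_pi n1 hQ.pi (pq.sup f (Or.inl (n' _)))).exists_sylow hp.out
  refine ⟨R, Q, r1.of_idx le_top (hP.idx_of_le le_sup_left), hQ, comm_eq_bot_iff.1 (eq_bot_iff.2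
    (le_trans (le_inf (comm_le_right r2) ?_) (r1.pi.inf_eq_bot e).le))⟩
  refine (comm_le_iff_quo (n' _) (n' _)).2 (cent_mono d le_rfl ((mim_mono r1.le).trans ?_))
  rw [quo_sup_self (n' _)]

end H8
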