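import Cfsg.Agent.H8.Cod
import Cfsg.Agent.H8.FR
import Cfsg.Agent.H8.Ito
import Mathlib.GroupTheory.RegularWreathProduct

/-! Irreducible characters of a finite direct power (`H8.inner_pi`, `H8.isIrr_pi`,
`H8.exists_pi_of_irr`), a monomiality criterion (`H8.mono_of_hom`), wreath products of M-groups with
groups of prime order (`H8.IsMGrp.wreath`), the Kaloujnine embedding (`H8.exists_wreath_emb`). -/

open H5 H6 Cfsg
open scoped ComplexConjugate RegularWreathProduct

namespace H8

section pi
variable {ι : Type*} [Fintype ι] [DecidableEq ι] {M : ι → Type*} [∀ i, Group (M i)]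

theorem inner_pi [∀ i, Fintype (M i)] (φ ψ : ∀ i, M i → ℂ) :
    classInner (fun x : ∀ i, M i => ∏ i, φ i (x i)) (fun x => ∏ i, ψ i (x i)) =
      ∏ i, classInner (φ i) (ψ i) := by
  apply mul_left_cancel₀ (card_ne_zero_complex (G := ∀ i, M i))
  rw [card_mul_classInner, Nat.card_pi, Nat.cast_prod, ← Finset.prod_mul_distrib]
  simp only [card_mul_classInner]
  rw [Finset.prod_univ_sum, Fintype.piFinset_univ]
  exact Finset.sum_congr rfl fun x _ => by rw [map_prod, Finset.prod_mul_distrib]

omit [DecidableEq ι] in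
theorem isCharacter_pi {φ : ∀ i, M i → ℂ} (h : ∀ i, IsCharacter (M i) (φ i)) :
    IsCharacter (∀ i, M i) (fun x => ∏ i, φ i (x i)) := by
  have := IsCharacter.prod Finset.univ (f := fun i (x : ∀ i, M i) => φ i (x i))
    fun i _ => (h i).comp (Pi.evalMonoidHom M i)
  convert this using 1
  ext x; simp

omit [DecidableEq ι] in
theorem isIrr_pi [∀ i, Finite (M i)] {φ : ∀ i, M i → ℂ} (h : ∀ i, IsIrrCharacter (M i) (φ i)) :
    IsIrrCharacter (∀ i, M i) (fun x => ∏ i, φ i (x i)) := by
  classical
  letI : ∀ i, Fintype (M i) := fun i => Fintype.ofFinite _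
  refine (isCharacter_pi fun i => (h i).isCharacter).isIrr_of_classInner_self ?_
  rw [inner_pi]
  exact Finset.prod_eq_one fun i _ => (h i).classInner_self

omit [DecidableEq ι] in
theorem exists_pi_of_irr [∀ i, Finite (M i)] {θ : (∀ i, M i) → ℂ} (h : IsIrrCharacter _ θ) :
    ∃ φ : ∀ i, M i → ℂ, (∀ i, IsIrrCharacter (M i) (φ i)) ∧ θ = fun x => ∏ i, φ i (x i) := by
  classical
  letI : ∀ i, Fintype (M i) := fun i => Fintype.ofFinite _
  by_contra hc
  push Not at hc
  have h0 : ∀ φ : ∀ i, IrrCharacter (M i),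
      classInner (fun x : ∀ i, M i => ∏ i, (φ i).1 (x i)) θ = 0 := fun φ =>
    (isIrr_pi fun i => (φ i).2).classInner_of_ne h (hc _ fun i => (φ i).2).symm
  have h1 : ∑ φ : ∀ i, IrrCharacter (M i), (∏ i, (φ i).1 1) •
      (fun x : ∀ i, M i => ∏ i, (φ i).1 (x i)) =
      fun x => if x = 1 then (Nat.card (∀ i, M i) : ℂ) else 0 := by
    ext x
    simp only [Finset.sum_apply, Pi.smul_apply, smul_eq_mul, ← Finset.prod_mul_distrib]
    rw [← Fintype.piFinset_univ, ← Finset.prod_univ_sum (fun _ => Finset.univ)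
      (fun i (χ : IrrCharacter (M i)) => χ.1 1 * χ.1 (x i))]
    simp only [sum_degree_mul_apply]
    split_ifs with hx
    · simp [hx, Nat.card_pi]
    · obtain ⟨i, hi⟩ := Function.ne_iff.1 hx
      exact Finset.prod_eq_zero (Finset.mem_univ i) (if_neg hi)
  have h2 := congrArg (fun f => (Nat.card (∀ i, M i) : ℂ) * classInner f θ) h1
  simp only [classInner_sum_left, classInner_smul_left, h0, mul_zero, Finset.sum_const_zero,
    card_mul_classInner, ite_mul, zero_mul, Finset.sum_ite_eq', Finset.mem_univ, if_true] at h2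
  exact mul_ne_zero card_ne_zero_complex (by simpa using h.apply_one_ne_zero) h2.symm

end pi

theorem charDegree_hom {G : Type*} [Group G] (lam : G →* ℂˣ) :
    charDegree (fun g => (lam g : ℂ)) = 1 := charDegree_eq_of_apply_one (by simp)

theorem mono_of_hom {G X : Type*} [Group G] [Fintype G] [Group X] [Fintype X] {χ : G → ℂ}
    (hχ : IsIrrCharacter G χ) (j : X →* G) (hj : Function.Injective j) (lam : X →* ℂˣ)
    (h : classInner (fun x => χ (j x)) (fun x => (lam x : ℂ)) ≠ 0)
    (hc : Nat.card G ≤ charDegree χ * Nat.card X) :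
    ∃ (H : Subgroup G) (lam : H →* ℂˣ), χ = indFun H (fun h => (lam h : ℂ)) := by
  classical
  let e := MonoidHom.ofInjective hj
  let μ : j.range →* ℂˣ := lam.comp e.symm.toMonoidHom
  refine ⟨j.range, μ, ?_⟩
  have hμ := (isCharacter_hom μ).indFun
  have h1 : classInner (indFun j.range fun h => (μ h : ℂ)) χ ≠ 0 := by
    rw [frobenius_reciprocity _ _ hχ.isClassFunction, Ne, classInner_eq_zero_comm,
      ← classInner_comp_equiv _ _ e]
    simpa [μ, e, MonoidHom.ofInjective_apply] using h
  have h2 := hμ.charDegree_le_of_constituent hχ h1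
  rw [deg_ind (isCharacter_hom μ), charDegree_hom, mul_one] at h2
  have h3 : j.range.index ≤ charDegree χ := by
    rw [← j.range.index_mul_card, ← Nat.card_congr e.toEquiv] at hc
    exact Nat.le_of_mul_le_mul_right hc Nat.card_pos
  refine (eq_of_constituent_of_apply_one hμ hχ h1 ?_).symm
  rw [indFun_apply_one, ← hχ.coe_charDegree, le_antisymm h2 h3]; simp

/-- M-groups -/
def IsMGrp (M : Type*) [Group M] [Fintype M] : Prop :=
  ∀ χ : M → ℂ, IsIrrCharacter M χ →
    ∃ (H : Subgroup M) (lam : H →* ℂˣ), χ = indFun H (fun h => (lam h : ℂ))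

section wr
variable {D Q : Type*} [Group D] [Group Q]

/-- the base group of a wreath product -/
def wrBase (D Q : Type*) [Group D] [Group Q] :
    (Q → D) ≃* (RegularWreathProduct.rightHom : D ≀ᵣ Q →* Q).ker where
  toFun f := ⟨⟨f, 1⟩, rfl⟩
  invFun w := w.1.left
  left_inv _ := rfl
  right_inv w := Subtype.ext (RegularWreathProduct.ext rfl w.2.symm)
  map_mul' f g := Subtype.ext (RegularWreathProduct.ext (by ext; simp) (by simp))

/-- functoriality in the base -/
def wrMap {D' : Type*} [Group D'] (Q : Type*) [Group Q] (i : D →* D') : D ≀ᵣ Q →* D' ≀ᵣ Q :=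
  MonoidHom.mk' (fun w => ⟨fun q => i (w.left q), w.right⟩) fun a b =>
    RegularWreathProduct.ext (by ext; simp) rfl

theorem wrMap_injective {D' : Type*} [Group D'] {i : D →* D'} (hi : Function.Injective i) :
    Function.Injective (wrMap Q i) := fun a b h =>
  RegularWreathProduct.ext (funext fun q => hi (congrFun (congrArg RegularWreathProduct.left h) q))
    (congrArg (fun w : D' ≀ᵣ Q => w.right) h)

/-- the product character of a wreath product -/
def wrLin (Q : Type*) [Group Q] [Fintype Q] (lam : D →* ℂˣ) : D ≀ᵣ Q →* ℂˣ :=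
  MonoidHom.mk' (fun w => ∏ q, lam (w.left q)) fun a b => by
    simp only [RegularWreathProduct.mul_left, Pi.mul_apply, map_mul, Finset.prod_mul_distrib]
    congr 1
    exact Fintype.prod_equiv (Equiv.mulLeft a.right⁻¹) _ _ fun q => rfl

theorem index_wrBase [Finite Q] :
    (RegularWreathProduct.rightHom : D ≀ᵣ Q →* Q).ker.index = Nat.card Q := by
  rw [Subgroup.index_ker, MonoidHom.range_eq_top.2 fun q => ⟨RegularWreathProduct.inl q, rfl⟩,
    Subgroup.card_top]

theorem IsMGrp.wreath [Fintype D] [Finite Q] [Fintype (D ≀ᵣ Q)] (hD : IsMGrp D)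
    (hQ : (Nat.card Q).Prime) : IsMGrp (D ≀ᵣ Q) := by
  classical
  letI := Fintype.ofFinite Q
  intro χ hχ
  haveI := Fact.mk hQ
  obtain ⟨θ, hθ, h1⟩ := exists_irr_under (N := (RegularWreathProduct.rightHom : D ≀ᵣ Q →* Q).ker) hχ
  obtain ⟨φ, hφ, e⟩ := exists_pi_of_irr (hθ.comp_equiv (wrBase D Q))
  have h2 : classInner (fun f : Q → D => χ (wrBase D Q f)) (fun f => ∏ q, φ q (f q)) ≠ 0 := by
    rw [← e, classInner_comp_equiv (fun n : (RegularWreathProduct.rightHom : D ≀ᵣ Q →* Q).ker =>
      χ n) θ (wrBase D Q)]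
    exact h1
  have hdeg : charDegree θ = ∏ q, charDegree (φ q) := by
    refine charDegree_eq_of_apply_one ?_
    have := congrFun e 1
    rw [map_one] at this
    rw [this, Nat.cast_prod]
    exact Finset.prod_congr rfl fun q _ => (hφ q).coe_charDegree.symm
  have hdvd := Nat.le_of_dvd hχ.charDegree_pos (index_inertia_mul_dvd hχ hθ h1)
  -- a general step
  have key : ∀ (U : Q → Subgroup D) (lam : ∀ q, U q →* ℂˣ),
      (∀ q, φ q = indFun (U q) fun h => (lam q h : ℂ)) →
      classInner (fun f : ∀ q, U q => χ (wrBase D Q fun q => f q))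
        (fun f => ∏ q, (lam q (f q) : ℂ)) ≠ 0 ∧
      ∀ q, Nat.card D = charDegree (φ q) * Nat.card (U q) := by
    intro U lam hU
    refine ⟨?_, fun q => ?_⟩
    · refine inner_comp_ne_zero_of_constituent
        (MonoidHom.pi fun q => (U q).subtype.comp (Pi.evalMonoidHom (fun q => U q) q))
        (hχ.isCharacter.comp ((RegularWreathProduct.rightHom : D ≀ᵣ Q →* Q).ker.subtype.comp
          (wrBase D Q).toMonoidHom)) (isIrr_pi hφ) h2
        (isCharacter_pi fun q => isCharacter_hom (lam q)) ?_
      have := inner_pi (fun q (x : U q) => φ q x) (fun q x => (lam q x : ℂ))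
      refine (ne_of_eq_of_ne this (Finset.prod_ne_zero_iff.2 fun q _ => ?_))
      rw [← frobenius_reciprocity' _ _ (hφ q).isClassFunction, ← hU, (hφ q).classInner_self]
      exact one_ne_zero
    · rw [hU q, deg_ind (isCharacter_hom _), charDegree_hom, mul_one,
        Subgroup.index_mul_card]
  by_cases hi : inertia θ = ⊤
  · have hinv := inertia_eq_top_iff.1 hi
    have heq : ∀ q, φ q = φ 1 := by
      intro q
      have hs : ∀ (r : Q) (x : D), θ (wrBase D Q (Pi.mulSingle r x)) =
          φ r x * ∏ s ∈ Finset.univ.erase r, φ s 1 := by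
        intro r x
        rw [congrFun e _, ← Finset.mul_prod_erase _ _ (Finset.mem_univ r), Pi.mulSingle_eq_same]
        congr 1
        exact Finset.prod_congr rfl fun s hs => by
          rw [Pi.mulSingle_eq_of_ne (Finset.mem_erase.1 hs).1]
      have hc : ∀ r : Q, ∏ s ∈ Finset.univ.erase r, φ s 1 ≠ 0 := fun r =>
        Finset.prod_ne_zero_iff.2 fun s _ => (hφ s).apply_one_ne_zero
      have h3 : ∀ x, φ q x * ∏ s ∈ Finset.univ.erase q, φ s 1 =
          φ 1 x * ∏ s ∈ Finset.univ.erase 1, φ s 1 := by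
        intro x
        rw [← hs, ← hs, ← congrFun (hinv (RegularWreathProduct.inl q)) (wrBase D Q (Pi.mulSingle 1 x)),
          H6.cj_apply]
        congr 1
        refine Subtype.ext (RegularWreathProduct.ext ?_ (by simp [wrBase]))
        ext r
        by_cases hr : r = q
        · simp [wrBase, hr]
        · have : q⁻¹ * r ≠ 1 := fun h => hr (inv_mul_eq_one.1 h).symm
          simp [wrBase, hr, this]
      refine (hφ q).eq_of_classInner_ne_zero (hφ 1) ?_
      have h4 : φ q = ((∏ s ∈ Finset.univ.erase 1, φ s 1) /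
          ∏ s ∈ Finset.univ.erase q, φ s 1) • φ 1 := by
        ext x
        rw [Pi.smul_apply, smul_eq_mul, div_mul_eq_mul_div, eq_div_iff (hc q), h3, mul_comm]
      rw [h4, classInner_smul_left, (hφ 1).classInner_self, mul_one]
      exact div_ne_zero (hc 1) (hc q)
    obtain ⟨U, lam, hU⟩ := hD _ (hφ 1)
    obtain ⟨k1, k2⟩ := key (fun _ => U) (fun _ => lam) fun q => (heq q).trans hU
    letI : Fintype (U ≀ᵣ Q) := Fintype.ofFinite _
    obtain ⟨ψ, hψ, k3, k4⟩ := exists_constituent_comp
      ((RegularWreathProduct.rightHom : U ≀ᵣ Q →* Q).ker.subtype.comp (wrBase U Q).toMonoidHom)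
      (α := fun w => χ (wrMap Q U.subtype w)) (hχ.isClassFunction.comp _) k1
    have k5 : ψ 1 = 1 := by
      have := apply_one_eq_of_ext (N := (RegularWreathProduct.rightHom : U ≀ᵣ Q →* Q).ker)
        (by
          haveI := isCyclic_of_prime_card (α := Q) rfl
          letI := IsCyclic.commGroup (α := Q)
          exact Abelianization.commutator_subset_ker _)
        (isCharacter_hom (wrLin Q lam))
        (isIrrCharacter_hom ((wrLin Q lam).comp (Subgroup.subtype _))) hψ (by
          rw [← classInner_comp_equiv _ _ (wrBase U Q)]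
          convert k4 using 2
          · rfl
          · ext f
            simp [wrLin, wrBase])
      simpa using this
    obtain ⟨μ, rfl⟩ := hψ.isCharacter.exists_hom_of_apply_one k5
    refine mono_of_hom hχ (wrMap Q U.subtype) (wrMap_injective U.subtype_injective) μ k3 ?_
    rw [RegularWreathProduct.card, RegularWreathProduct.card, k2 1, mul_pow, ← mul_assoc]
    refine Nat.mul_le_mul_right _ (Nat.mul_le_mul_right _ ?_)
    rw [hi, Subgroup.index_top, one_mul, hdeg] at hdvd
    simpa [heq] using hdvd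
  · have hidx : (inertia θ).index = Nat.card Q := by
      have := Subgroup.index_dvd_of_le (le_inertia hθ.isClassFunction)
      rw [index_wrBase] at this
      exact ((Nat.dvd_prime hQ).1 this).resolve_left fun h => hi (Subgroup.index_eq_one.1 h)
    choose U lam hU using fun q => hD _ (hφ q)
    obtain ⟨k1, k2⟩ := key U lam hU
    refine mono_of_hom hχ (((RegularWreathProduct.rightHom : D ≀ᵣ Q →* Q).ker.subtype.comp
      (wrBase D Q).toMonoidHom).comp
      (MonoidHom.pi fun q => (U q).subtype.comp (Pi.evalMonoidHom (fun q => U q) q))) ?_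
      (∏ q, (lam q).comp (Pi.evalMonoidHom (fun q => U q) q)) ?_ ?_
    · intro a b h
      ext q
      exact congrFun (congrArg RegularWreathProduct.left h) q
    · convert k1 using 2
      · rfl
      · ext f
        simp
    · rw [RegularWreathProduct.card, Nat.card_pi]
      refine le_trans (le_of_eq ?_) (Nat.mul_le_mul_right _ hdvd)
      rw [hidx, hdeg, mul_assoc, ← Finset.prod_mul_distrib, mul_comm]
      simp only [← k2]
      simp

theorem exists_wreath_emb {G : Type*} [Group G] (N : Subgroup G) [hN : N.Normal] :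
    ∃ f : G →* N ≀ᵣ (G ⧸ N), Function.Injective f := by
  have hm : ∀ (g : G) (q : G ⧸ N), q.out⁻¹ * g * ((g : G ⧸ N)⁻¹ * q).out ∈ N := by
    intro g q
    rw [← QuotientGroup.eq_one_iff]
    simp
  refine ⟨MonoidHom.mk' (fun g => ⟨fun q => ⟨_, hm g q⟩, g⟩) fun a b =>
    RegularWreathProduct.ext ?_ rfl, (injective_iff_map_eq_one _).2 fun g hg => ?_⟩
  · ext q
    simp [mul_assoc]
  · have h1 : (g : G ⧸ N) = 1 := congrArg RegularWreathProduct.right hg
    have h2 := congrArg Subtype.val (congrFun (congrArg RegularWreathProduct.left hg) 1)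
    simp only [MonoidHom.mk'_apply, h1, inv_one, mul_one, RegularWreathProduct.one_left,
      Pi.one_apply, OneMemClass.coe_one] at h2
    simpa [mul_assoc, inv_mul_eq_one] using h2

end wr

end H8
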