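import Cfsg.Agent.H8.MK2
import Cfsg.Agent.H18.BG1
import Cfsg.Agent.H18.Rank
import Cfsg.Agent.H18.Cyc
import Cfsg.Agent.H19.PF3a
import Cfsg.Agent.H6.Det
import Cfsg.Agent.H5.Central
import Cfsg.Prelude.Def_DegreeGraph

/-! Relative degree graphs (Isaacs): `RD.Ovr N θ a` (`a` is a degree over `θ`), orbit translation lemmas
`RD.sum_mul`, `RD.exists_cj`, determinant lemmas `RD.pw_of`, `RD.pow_eq`, and the key distance estimates
`RD.near`, `RD.claimB`, `RD.claimC`. -/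

set_option autoImplicit false
open Cfsg H18 H19 Subgroup
open scoped commutatorElement

namespace H8
namespace RD
variable {G : Type*} [Group G] [Fintype G] {N : Subgroup G} {θ φ l μ Θ χ : G → ℂ} {a b x n k p q : ℕ} {g : G}

/-- linear characters of `N` -/
def Lin (N : Subgroup G) (l : G → ℂ) : Prop := l ∈ irr N ∧ l 1 = 1
/-- orbit length -/
noncomputable def mm (N : Subgroup G) (θ : G → ℂ) : ℕ := (inertia N θ).index
/-- `a` is the degree of an irreducible character of `G` over `θ` -/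
def Ovr (N : Subgroup G) (θ : G → ℂ) (a : ℕ) : Prop := ∃ χ ∈ irr (⊤ : Subgroup G), ip N θ χ ≠ 0 ∧ χ 1 = a
/-- `l ^ n = 1` on `N` -/
def Pw (N : Subgroup G) (l : G → ℂ) (n : ℕ) : Prop := ∀ y ∈ N, l y ^ n = 1
/-- orbit sum -/
noncomputable def os (θ : G → ℂ) : G → ℂ := ∑ φ ∈ cfclass ⊤ θ, φ

theorem Lin.ne (h : Lin N l) {y : G} (hy : y ∈ N) : l y ≠ 0 := lin_ne_zero (chars_of_irr h.1) h.2 hy
theorem Lin.cj (hN : N ⊴ ⊤) (h : Lin N l) (g : G) : Lin N (cfcj g l) :=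
  ⟨cfcj_mem_irr_N h.1 (hN.norm trivial), by rw [cfcj_apply_one, h.2]⟩
theorem Lin.mul (hθ : θ ∈ irr N) (h : Lin N l) : θ * l ∈ irr N := irr_mul_lin hθ (chars_of_irr h.1) h.2
theorem Lin.pow (h : Lin N l) {y : G} (hy : y ∈ N) (n : ℕ) : l (y ^ n) = l y ^ n := by
  induction n with
  | zero => simp [h.2]
  | succ n ih => rw [pow_succ, pow_succ, lin_mul (chars_of_irr h.1) h.2 (N.pow_mem hy n) hy, ih]

theorem Lin.eq_of_pow (h : Lin N l) (h' : Lin N μ) (hc : n.Coprime k) (e1 : ∀ y ∈ N, l y ^ n = μ y ^ n)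
    (e2 : ∀ y ∈ N, l y ^ k = μ y ^ k) : l = μ := by
  refine eq_of_eqOn (irr_supp h.1) (irr_supp h'.1) fun y hy => ?_
  have h0 := h'.ne hy
  have a1 : (l y / μ y) ^ n = 1 := by rw [div_pow, e1 y hy, div_self (pow_ne_zero _ h0)]
  have a2 : (l y / μ y) ^ k = 1 := by rw [div_pow, e2 y hy, div_self (pow_ne_zero _ h0)]
  have := pow_gcd_eq_one.2 ⟨a1, a2⟩
  rw [hc, pow_one, div_eq_one_iff_eq h0] at this
  exact this

theorem lin_triv : Lin N (triv N) := ⟨triv_mem_irr N, triv_one N⟩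

theorem Lin.eq_triv (h : Lin N l) (hc : n.Coprime k) (e1 : Pw N l n) (e2 : Pw N l k) : l = triv N :=
  h.eq_of_pow lin_triv hc (fun y hy => by rw [e1 y hy, triv_of_mem hy, one_pow])
    fun y hy => by rw [e2 y hy, triv_of_mem hy, one_pow]

omit [Fintype G] in
theorem Pw.cj (hN : N ⊴ ⊤) (h : Pw N l n) (g : G) : Pw N (cfcj g l) n := fun y hy => by
  rw [cfcj_apply]; exact h _ (hN.normal.conj_mem' y hy g)

omit [Fintype G] in
theorem Pw.of_dvd (h : Pw N l n) (hd : n ∣ k) : Pw N l k := fun y hy => by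
  obtain ⟨c, rfl⟩ := hd
  rw [pow_mul, h y hy, one_pow]

theorem Lin.pw_der (h : Lin N l) : Pw N l ((⁅N, N⁆ : Subgroup G).relIndex N) := fun y hy => by
  rw [← h.pow hy, ← h.2]
  haveI : ((⁅N, N⁆ : Subgroup G).subgroupOf N).Normal := (nml_der (H := N)).subgroupOf_normal
  have : y ^ (⁅N, N⁆ : Subgroup G).relIndex N ∈ (⁅N, N⁆ : Subgroup G) :=
    Subgroup.pow_index_mem (H := (⁅N, N⁆ : Subgroup G).subgroupOf N) ⟨y, hy⟩
  exact ((mem_cfker_of_irr h.1).1 ((der_le_cfker_iff h.1).2 h.2 this)).2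

theorem mm_eq_one (hN : N ⊴ ⊤) (h : ∀ g, cfcj g l = l) : mm N l = 1 :=
  index_eq_one.2 (eq_top_iff.2 fun g _ => mem_inertia.2 ⟨hN.norm trivial, h g⟩)

theorem os_chars (hN : N ⊴ ⊤) (hθ : θ ∈ irr N) : os θ ∈ chars N :=
  sum_mem fun _ h => chars_of_irr (cfclass_subset_irr hN.norm hθ h)

theorem os_one (hN : N ⊴ ⊤) (h : θ 1 = n) : os θ 1 = (mm N θ * n : ℕ) := by
  rw [os, Finset.sum_apply, Finset.sum_congr rfl fun φ hφ => cfclass_apply_one hφ, Finset.sum_const,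
    card_cfclass hN.norm, relIndex_top_right, h, mm]
  simp

theorem cfcj_os (g : G) (θ : G → ℂ) : cfcj g (os θ) = os θ := by
  rw [os, map_sum]
  refine Finset.sum_nbij' (cfcj g) (cfcj g⁻¹) (fun φ h => ?_) (fun φ h => ?_) (fun φ _ => by simp)
    (fun φ _ => by simp) fun _ _ => rfl
  · exact cfclass_trans h (cfcj_mem_cfclass trivial)
  · exact cfclass_trans h (cfcj_mem_cfclass trivial)

theorem Ovr.res (hN : N ⊴ ⊤) (hθ : θ ∈ irr N) (h : Ovr N θ a) (hn : θ 1 = n) :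
    ∃ χ ∈ irr (⊤ : Subgroup G), ∃ e : ℕ, res N χ = (e : ℂ) • os θ ∧ a = e * (mm N θ * n) := by
  obtain ⟨χ, hχ, h0, h1⟩ := h
  obtain ⟨e, he⟩ := ip_nat (res_mem_chars le_top (chars_of_irr hχ)) (chars_of_irr hθ)
  rw [ip_res_left (irr_supp hθ)] at he
  have := clifford_res hN hχ hθ h0
  rw [he] at this
  refine ⟨χ, hχ, e, this, ?_⟩
  have h2 := congrFun this 1
  rw [res_one, h1, Pi.smul_apply, ← os, os_one hN hn, smul_eq_mul] at h2
  exact_mod_cast h2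

theorem Ovr.dvd (hN : N ⊴ ⊤) (hθ : θ ∈ irr N) (h : Ovr N θ a) (hn : θ 1 = n) : mm N θ * n ∣ a := by
  obtain ⟨-, -, e, -, rfl⟩ := h.res hN hθ hn
  exact dvd_mul_left _ _

theorem Ovr.mm_dvd (hN : N ⊴ ⊤) (hθ : θ ∈ irr N) (h : Ovr N θ a) : mm N θ ∣ a := by
  obtain ⟨n, -, hn⟩ := irr_exists_apply_one hθ
  exact (dvd_mul_right _ _).trans (h.dvd hN hθ hn)

theorem exists_ovr (hθ : θ ∈ irr N) : ∃ a, Ovr N θ a := by
  obtain ⟨χ, hχ, h⟩ := exists_irr_over le_top hθ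
  obtain ⟨n, -, hn⟩ := irr_exists_apply_one hχ
  exact ⟨n, χ, hχ, h, hn⟩

theorem ovr_triv : Ovr N (triv N) 1 :=
  ⟨triv ⊤, triv_mem_irr _, by
    rw [← ip_res_right (irr_supp (triv_mem_irr N)), res_triv le_top, ip_triv_triv]; exact one_ne_zero, by simp⟩

theorem exists_mul (h : (mm N l).Coprime (mm N θ)) (g : G) : ∃ b ∈ inertia N l, ∃ a ∈ inertia N θ, g = b * a :=
  exists_mul_of_coprime_relIndex le_top le_top (by simpa only [relIndex_top_right, mm] using h.symm) trivial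

theorem mem_class (h1 : (mm N l).Coprime (mm N θ)) (h2 : (mm N l).Coprime (mm N (θ * l))) :
    φ ∈ cfclass ⊤ (θ * l) ↔ ∃ ψ ∈ cfclass ⊤ θ, ψ * l = φ := by
  constructor
  · intro h
    obtain ⟨g, -, rfl⟩ := mem_cfclass.1 h
    obtain ⟨b, hb, a, ha, rfl⟩ := exists_mul h2 g
    exact ⟨cfcj b θ, cfcj_mem_cfclass trivial, by
      rw [← cfcj_cfcj, (mem_inertia.1 ha).2, cfcj_mul, (mem_inertia.1 hb).2]⟩
  · rintro ⟨ψ, h, rfl⟩
    obtain ⟨g, -, rfl⟩ := mem_cfclass.1 h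
    obtain ⟨b, hb, a, ha, rfl⟩ := exists_mul h1 g
    exact mem_cfclass.2 ⟨b, trivial, by rw [← cfcj_cfcj, (mem_inertia.1 ha).2, cfcj_mul, (mem_inertia.1 hb).2]⟩

theorem exists_cj (h1 : (mm N l).Coprime (mm N θ)) (h2 : (mm N l).Coprime (mm N (θ * l))) (g : G) :
    ∃ h, θ * cfcj g l = cfcj h θ * l := by
  obtain ⟨a, ha, b, hb, rfl⟩ := exists_mul h1.symm g
  have : θ * cfcj (a * b) l ∈ cfclass ⊤ (θ * l) :=
    mem_cfclass.2 ⟨a, trivial, by rw [← cfcj_cfcj, (mem_inertia.1 hb).2, cfcj_mul, (mem_inertia.1 ha).2]⟩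
  obtain ⟨ψ, hψ, e⟩ := (mem_class h1 h2).1 this
  obtain ⟨h, -, rfl⟩ := mem_cfclass.1 hψ
  exact ⟨h, e.symm⟩

theorem sum_mul (hN : N ⊴ ⊤) (hθ : θ ∈ irr N) (hl : Lin N l) (h1 : (mm N l).Coprime (mm N θ))
    (h2 : (mm N l).Coprime (mm N (θ * l))) : os (θ * l) = os θ * l := by
  rw [os, os, Finset.sum_mul]
  symm
  refine Finset.sum_nbij (· * l) (fun φ h => (mem_class h1 h2).2 ⟨φ, h, rfl⟩) (fun φ h ψ h' e => ?_)
    (fun φ h => ?_) fun _ _ => rfl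
  · refine eq_of_eqOn (irr_supp (cfclass_subset_irr hN.norm hθ h)) (irr_supp (cfclass_subset_irr hN.norm hθ h'))
      fun y hy => mul_right_cancel₀ (hl.ne hy) (congrFun e y)
  · obtain ⟨ψ, hψ, e⟩ := (mem_class h1 h2).1 h
    exact ⟨ψ, hψ, e⟩

/-- determinant on `N` -/
noncomputable def dt (N : Subgroup G) (Θ : G → ℂ) : N → ℂ := detChar fun y : N => Θ y

theorem dt_ne (Θ : G → ℂ) (y : N) : dt N Θ y ≠ 0 := by
  rw [dt, ← H6.coe_detHom]; exact Units.ne_zero _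

theorem dt_mul (hΘ : Θ ∈ chars N) (hn : Θ 1 = n) (hl : Lin N l) (y : N) : dt N (Θ * l) y = l y ^ n * dt N Θ y := by
  obtain ⟨lam, e⟩ := exists_hom_of_lin (chars_of_irr hl.1) hl.2
  have e' : ∀ z : N, l z = lam z := fun z => by rw [e]; simp [extendByZero, z.2]
  have := H6.detChar_hom_mul lam (mem_chars.1 hΘ).2 (d := n) hn y
  rw [e' y, dt, dt, ← this]
  congr 1
  ext z
  simp [e' z, mul_comm]

theorem dt_smul (hΘ : Θ ∈ chars N) (e : ℕ) (y : N) : dt N ((e : ℂ) • Θ) y = dt N Θ y ^ e :=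
  congrFun (H6.detChar_natCast_smul (mem_chars.1 hΘ).2 e) y

theorem dt_res (hNG : N ≤ commutator G) (hχ : χ ∈ irr (⊤ : Subgroup G)) (y : N) : dt N (res N χ) y = 1 := by
  rw [dt, res_comp, H6.detChar_restrict N (mem_chars_top.1 (chars_of_irr hχ))]
  show detChar χ y = 1
  rw [← H6.coe_detHom, Abelianization.commutator_subset_ker (H6.detHom χ) (hNG y.2), Units.val_one]

theorem pw_of (hN : N ⊴ ⊤) (hNG : N ≤ commutator G) (hθ : θ ∈ irr N) (hl : Lin N l) (oa : Ovr N θ a)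
    (ox : Ovr N (θ * l) x) (h1 : (mm N l).Coprime (mm N θ)) (h2 : (mm N l).Coprime (mm N (θ * l))) :
    Pw N l (a * x) := by
  obtain ⟨n, -, hn⟩ := irr_exists_apply_one hθ
  obtain ⟨χ, hχ, e, he, rfl⟩ := oa.res hN hθ hn
  obtain ⟨ψ, hψ, f, hf, rfl⟩ := ox.res hN (hl.mul hθ) (n := n) (by rw [Pi.mul_apply, hn, hl.2, mul_one])
  intro y hy
  have a1 := dt_res hNG hχ ⟨y, hy⟩
  have a2 := dt_res hNG hψ ⟨y, hy⟩
  rw [he, dt_smul (os_chars hN hθ)] at a1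
  rw [hf, dt_smul (os_chars hN (hl.mul hθ)), sum_mul hN hθ hl h1 h2, dt_mul (os_chars hN hθ) (os_one hN hn) hl] at a2
  have a3 : (l y ^ (mm N θ * n)) ^ (f * e) = 1 := by
    have := congrArg (· ^ e) a2
    simp only [mul_pow, one_pow, ← pow_mul] at this
    rw [mul_comm f e, pow_mul (dt N (os θ) ⟨y, hy⟩), a1, one_pow, mul_one] at this
    rw [← pow_mul, ← mul_assoc]; exact this
  rw [← pow_mul] at a3
  rw [show e * (mm N θ * n) * (f * (mm N (θ * l) * n)) = mm N θ * n * (f * e) * (mm N (θ * l) * n) by ring,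
    pow_mul, a3, one_pow]

theorem pow_eq (hN : N ⊴ ⊤) (hθ : θ ∈ irr N) (hn : θ 1 = n) (hl : Lin N l) (h1 : (mm N l).Coprime (mm N θ))
    (h2 : (mm N l).Coprime (mm N (θ * l))) (g : G) :
    ∀ y ∈ N, cfcj g l y ^ (mm N θ * n) = l y ^ (mm N θ * n) := by
  intro y hy
  have e := sum_mul hN hθ hl h1 h2
  have e' := congrArg (cfcj g) e
  rw [cfcj_os, cfcj_mul, cfcj_os, e] at e'
  have := congrArg (fun f => dt N f ⟨y, hy⟩) e'
  simp only [dt_mul (os_chars hN hθ) (os_one hN hn) hl, dt_mul (os_chars hN hθ) (os_one hN hn) (hl.cj hN g)] at this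
  exact (mul_right_cancel₀ (dt_ne _ _) this).symm

theorem pw_inv (hN : N ⊴ ⊤) (hNG : N ≤ commutator G) (hl : Lin N l) (oa : Ovr N l a) (h : ∀ g, cfcj g l = l) :
    Pw N l a := by
  have e : triv N * l = l := by rw [mul_comm, mul_triv, res_eq_self (irr_supp hl.1)]
  have := pw_of hN hNG (triv_mem_irr N) hl ovr_triv (by rw [e]; exact oa) (by simp [mm_eq_one hN h])
    (by simp [mm_eq_one hN h])
  rwa [one_mul] at this

theorem not_cop {r : ℕ} (hr : r ≠ 1) (h1 : r ∣ a) (h2 : r ∣ b) : ¬ a.Coprime b := fun h =>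
  hr (Nat.eq_one_of_dvd_coprimes h h1 h2)

theorem Ovr.mm_cop (hN : N ⊴ ⊤) (hθ : θ ∈ irr N) (hφ : φ ∈ irr N) (oa : Ovr N θ a) (ob : Ovr N φ b)
    (h : a.Coprime b) : (mm N θ).Coprime (mm N φ) :=
  Nat.Coprime.coprime_dvd_right (ob.mm_dvd hN hφ) (Nat.Coprime.coprime_dvd_left (oa.mm_dvd hN hθ) h)

theorem lin_or (hN : N ⊴ ⊤) (hθ : θ ∈ irr N) (hl : Lin N l) (oa : Ovr N θ a) (ox : Ovr N (θ * l) x) :
    Lin N θ ∨ ¬ x.Coprime a := by
  obtain ⟨n, -, hn⟩ := irr_exists_apply_one hθ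
  by_cases e : n = 1
  · exact .inl ⟨hθ, by rw [hn, e, Nat.cast_one]⟩
  · exact .inr (not_cop e ((dvd_mul_left _ _).trans (ox.dvd hN (hl.mul hθ) (by rw [Pi.mul_apply, hn, hl.2, mul_one])))
      ((dvd_mul_left _ _).trans (oa.dvd hN hθ hn)))

theorem claimC (hN : N ⊴ ⊤) (hNG : N ≤ commutator G) (hθ : θ ∈ irr N) (hl : Lin N l) (l1 : l ≠ triv N)
    (hk : Pw N l k) (oa : Ovr N θ a) (ob : Ovr N l b) (ox : Ovr N (θ * l) x) (hab : a.Coprime b) (ha : a.Coprime k) :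
    ¬ x.Coprime b := by
  intro hx
  have h1 := ob.mm_cop hN hl.1 hθ oa hab.symm
  have h2 := ob.mm_cop hN hl.1 (hl.mul hθ) ox hx.symm
  obtain ⟨n, -, hn⟩ := irr_exists_apply_one hθ
  have hi : ∀ g, cfcj g l = l := fun g => (hl.cj hN g).eq_of_pow hl
    (Nat.Coprime.coprime_dvd_left (oa.dvd hN hθ hn) ha) (pow_eq hN hθ hn hl h1 h2 g)
    fun y hy => by rw [hk y hy, hk.cj hN g y hy]
  exact l1 (hl.eq_triv (Nat.Coprime.mul_left hab hx) (pw_of hN hNG hθ hl oa ox h1 h2) (pw_inv hN hNG hl ob hi))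

theorem claimB (hN : N ⊴ ⊤) (hNG : N ≤ commutator G) (hl : Lin N l) (hμ : Lin N μ) (μ1 : μ ≠ triv N)
    (hp : Pw N l p) (hq : (∀ g, ∀ y ∈ N, cfcj g μ y ^ q = μ y ^ q) ∨ mm N l ∣ q) (hpq : p.Coprime q)
    (oa : Ovr N l a) (ob : Ovr N μ b) (ox : Ovr N (l * μ) x) (hab : a.Coprime b) : ¬ x.Coprime b := by
  intro hx
  have h1 := ob.mm_cop hN hμ.1 hl.1 oa hab.symm
  have h2 := ob.mm_cop hN hμ.1 (hμ.mul hl.1) ox hx.symm
  have hi : ∀ g, cfcj g μ = μ := fun g => (hμ.cj hN g).eq_of_pow hμ hpq (fun y hy => by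
      obtain ⟨h, e⟩ := exists_cj h1 h2 g
      have := congrArg (· ^ p) (congrFun e y)
      simpa only [Pi.mul_apply, mul_pow, hp y hy, hp.cj hN h y hy, one_mul] using this)
    (hq.elim (fun h => h g) fun ⟨c, hc⟩ y hy => by
      have := pow_eq hN hl.1 (n := 1) (by rw [hl.2, Nat.cast_one]) hμ h1 h2 g y hy
      rw [mul_one] at this
      rw [hc, pow_mul, pow_mul, this])
  exact μ1 (hμ.eq_triv (Nat.Coprime.mul_left hab hx) (pw_of hN hNG hl.1 hμ oa ox h1 h2) (pw_inv hN hNG hμ ob hi))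

/-- vertices -/
def Vx (N : Subgroup G) (a : ℕ) : Prop := ∃ θ ∈ irr N, θ ≠ triv N ∧ Ovr N θ a

theorem exists_vx (hθ : θ ∈ irr N) (h : ∀ x, Ovr N θ x → ¬ x.Coprime b) : ∃ x, Vx N x ∧ Ovr N θ x := by
  obtain ⟨x, hx⟩ := exists_ovr hθ
  refine ⟨x, ⟨θ, hθ, fun e => h 1 (e ▸ ovr_triv) (Nat.coprime_one_left b), hx⟩, hx⟩

theorem near (hN : N ⊴ ⊤) (hNG : N ≤ commutator G) (hθ : θ ∈ irr N) (θ1 : θ ≠ triv N) (hl : Lin N l)
    (l1 : l ≠ triv N) (hk : Pw N l p) (hm : p.Coprime (mm N l)) (oa : Ovr N θ a) (ob : Ovr N l b) (hab : a.Coprime b)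
    (ha : a.Coprime p) : ∃ x, Vx N x ∧ ¬ x.Coprime a ∧ ¬ x.Coprime b := by
  obtain ⟨x, vx, ox⟩ := exists_vx (hl.mul hθ) fun x ox => claimC hN hNG hθ hl l1 hk oa ob ox hab ha
  refine ⟨x, vx, ?_, claimC hN hNG hθ hl l1 hk oa ob ox hab ha⟩
  rcases lin_or hN hθ hl oa ox with h | h
  · exact claimB hN hNG hl h θ1 hk (.inr dvd_rfl) hm ob oa (by rwa [mul_comm]) hab.symm
  · exact h

theorem exists_lam (hN : N ⊴ ⊤) (hp : p.Prime) (h : p ∣ (⁅N, N⁆ : Subgroup G).relIndex N) :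
    ∃ l, Lin N l ∧ l ≠ triv N ∧ Pw N l p ∧ p.Coprime (mm N l) := by
  classical
  haveI := Fact.mk hp
  have hA : (⁅N, N⁆ ⊔ ℧[p](N) : Subgroup G) ⊴ ⊤ := hN.der.sup hN.mho
  have hAN : (⁅N, N⁆ ⊔ ℧[p](N) : Subgroup G) ≤ N := sup_le nml_der.le mho_le
  have hd : p ∣ (⁅N, N⁆ ⊔ ℧[p](N) : Subgroup G).relIndex N := by
    have ha : Abel (N ⫽ ⁅N, N⁆) := (abel_quo_iff nml_der.norm).2 le_rfl
    rw [← relIndex_quo hAN nml_der.norm le_sup_left, quo_self_sup (mho_le.trans nml_der.norm),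
      mim_mho nml_der.norm, ha.relIndex_mho]
    rw [← card_quo nml_der.norm] at h
    obtain ⟨y, hy⟩ := exists_prime_orderOf_dvd_card' p h
    have : (y : Coset ⁅N, N⁆) ∈ Ω[p](N ⫽ ⁅N, N⁆) := mem_omega y.2 (by
      rw [← hy, ← Subgroup.coe_pow, pow_orderOf_eq_one, Subgroup.coe_one])
    have := Subgroup.orderOf_dvd_natCard _ this
    rwa [Subgroup.orderOf_coe, hy] at this
  have hm : ∀ y ∈ N, y ^ p ∈ (⁅N, N⁆ ⊔ ℧[p](N) : Subgroup G) := fun y hy => mem_sup_right (pow_mem_mho hy)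
  have hder : (⁅N, N⁆ : Subgroup G) ≤ ⁅N, N⁆ ⊔ ℧[p](N) := le_sup_left
  generalize (⁅N, N⁆ ⊔ ℧[p](N) : Subgroup G) = A at hA hAN hd hm hder
  by_contra hne
  push Not at hne
  rw [← card_irrKer_of_der_le (hA.of_le hAN le_top) hder] at hd
  have hl : ∀ l ∈ irrKer N A, Lin N l ∧ Pw N l p := fun l hl => by
    obtain ⟨h1, h2⟩ := mem_irrKer.1 hl
    have : Lin N l := ⟨h1, irr_apply_one_of_der_le h1 hder h2⟩
    exact ⟨this, fun y hy => by rw [← this.pow hy, ((mem_cfker_of_irr h1).1 (h2 (hm y hy))).2, this.2]⟩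
  have ht : triv N ∈ irrKer N A :=
    mem_irrKer.2 ⟨triv_mem_irr N, hAN.trans ((irr_eq_triv_iff (triv_mem_irr N)).2 rfl)⟩
  have h2 : p ∣ ((irrKer N A).erase (triv N)).card := by
    rw [Finset.card_eq_sum_card_image (cfclass ⊤) _]
    refine Finset.dvd_sum fun c hc => ?_
    obtain ⟨l, hl', rfl⟩ := Finset.mem_image.1 hc
    obtain ⟨l1, hl'⟩ := Finset.mem_erase.1 hl'
    have : ((irrKer N A).erase (triv N)).filter (fun φ => cfclass ⊤ φ = cfclass ⊤ l) = cfclass ⊤ l := by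
      ext φ
      rw [Finset.mem_filter, Finset.mem_erase]
      refine ⟨fun h => h.2 ▸ self_mem_cfclass, fun h => ⟨?_, cfclass_eq h⟩⟩
      obtain ⟨g, -, rfl⟩ := mem_cfclass.1 h
      exact ⟨fun e => l1 ((cfcj_eq_triv_iff (hN.norm trivial)).1 e), mem_irrKer.2
        ⟨cfcj_mem_irr_N (hl l hl').1.1 (hN.norm trivial),
          (le_cfker_cfcj (hN.norm trivial) (hA.norm trivial)).2 (mem_irrKer.1 hl').2⟩⟩
    rw [this, card_cfclass hN.norm, relIndex_top_right]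
    exact hp.dvd_iff_not_coprime.2 (hne l (hl l hl').1 l1 (hl l hl').2)
  rw [← Finset.card_erase_add_one ht] at hd
  exact hp.one_lt.ne' (Nat.dvd_one.1 ((Nat.dvd_add_right h2).1 hd))

theorem vx_iff (hN : N ⊴ ⊤) : a ∈ relCharDegrees N ↔ Vx N a := by
  constructor
  · rintro ⟨χ, ⟨y, hy, h⟩, rfl⟩
    have hχ := mem_irr_top.2 χ.2
    obtain ⟨θ, hθ, h0⟩ := exists_irr_under le_top (chars_of_irr hχ) (irr_ne_zero hχ)
    refine ⟨θ, hθ, fun e => h ?_, χ, hχ, h0, (H5.Cfsg.IsIrrCharacter.coe_charDegree χ.2).symm⟩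
    have := (sub_cfker_constt le_top hN.norm le_rfl hθ hχ h0).2 ((irr_eq_triv_iff hθ).2 e)
    exact ((mem_cfker_of_irr hχ).1 (this hy)).2
  · rintro ⟨θ, hθ, θ1, χ, hχ, h0, h1⟩
    refine ⟨⟨χ, mem_irr_top.1 hχ⟩, ?_, ?_⟩
    · by_contra h
      push Not at h
      exact θ1 ((irr_eq_triv_iff hθ).1 ((sub_cfker_constt le_top hN.norm le_rfl hθ hχ h0).1 fun y hy =>
        (mem_cfker_of_irr hχ).2 ⟨trivial, h y hy⟩))
    · show charDegree χ = a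
      rw [charDegree, h1, Complex.natCast_re, Nat.floor_natCast]

/-- the relative common divisor graph -/
abbrev Gr (N : Subgroup G) : SimpleGraph (relCharDegrees N) := commonDivisorGraph.induce (relCharDegrees N)

theorem pos_of_mem (h : a ∈ relCharDegrees N) : 0 < a := by
  obtain ⟨χ, -, rfl⟩ := h
  exact H5.Cfsg.IsIrrCharacter.charDegree_pos χ.2

theorem adj_of {u v : relCharDegrees N} (h : ¬ u.1.Coprime v.1) (hne : u ≠ v) : (Gr N).Adj u v :=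
  ⟨fun e => hne (Subtype.ext e), lt_of_le_of_ne (Nat.gcd_pos_of_pos_left _ (pos_of_mem u.2)) (Ne.symm h)⟩

theorem reach_of {u v : relCharDegrees N} (h : ¬ u.1.Coprime v.1) : (Gr N).Reachable u v := by
  by_cases e : u = v
  · rw [e]
  · exact (adj_of h e).reachable

theorem exists_base (hN : N ⊴ ⊤) (hNG : N ≤ commutator G) (hp : p.Prime) (h : p ∣ (⁅N, N⁆ : Subgroup G).relIndex N) :
    ∃ l, Lin N l ∧ l ≠ triv N ∧ Pw N l p ∧ ∃ d : relCharDegrees N, Ovr N l d ∧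
      ∀ u : relCharDegrees N, ¬ p ∣ u.1 → (Gr N).Reachable u d := by
  obtain ⟨l, hl, l1, hk, hm⟩ := exists_lam hN hp h
  obtain ⟨d, od⟩ := exists_ovr hl.1
  refine ⟨l, hl, l1, hk, ⟨d, (vx_iff hN).2 ⟨l, hl.1, l1, od⟩⟩, od, fun u hu => ?_⟩
  by_cases hc : u.1.Coprime d
  · obtain ⟨θ, hθ, θ1, oa⟩ := (vx_iff hN).1 u.2
    obtain ⟨x, vx, h1, h2⟩ := near hN hNG hθ θ1 hl l1 hk hm oa od hc (hp.coprime_iff_not_dvd.2 hu).symm
    exact (reach_of (u := ⟨x, (vx_iff hN).2 vx⟩) h1).symm.trans (reach_of h2)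
  · exact reach_of hc

theorem reach_of_not_dvd (hN : N ⊴ ⊤) (hNG : N ≤ commutator G) (hp : p.Prime)
    (h : p ∣ (⁅N, N⁆ : Subgroup G).relIndex N) {u v : relCharDegrees N} (e : p ∣ u.1 ↔ p ∣ v.1) :
    (Gr N).Reachable u v := by
  by_cases hu : p ∣ u.1
  · exact reach_of (not_cop hp.ne_one hu (e.1 hu))
  · obtain ⟨-, -, -, -, d, -, hd⟩ := exists_base hN hNG hp h
    exact (hd u hu).trans (hd v fun h => hu (e.2 h)).symm

theorem two (hN : N ⊴ ⊤) (hNG : N ≤ commutator G) (h : ⁅N, N⁆ < N) (u v w : relCharDegrees N) :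
    (Gr N).Reachable u v ∨ (Gr N).Reachable u w ∨ (Gr N).Reachable v w := by
  obtain ⟨p, hp, hd⟩ := Nat.exists_prime_and_dvd (one_lt_relIndex h.not_ge).ne'
  have := @reach_of_not_dvd G _ _ N p hN hNG hp hd
  by_cases h1 : p ∣ u.1 <;> by_cases h2 : p ∣ v.1 <;> by_cases h3 : p ∣ w.1 <;>
    first
      | exact .inl (this (by tauto))
      | exact .inr (.inl (this (by tauto)))
      | exact .inr (.inr (this (by tauto)))

theorem dvd_of_not_reach (hN : N ⊴ ⊤) (hNG : N ≤ commutator G) {u v : relCharDegrees N}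
    (h : ¬ (Gr N).Reachable u v) (hp : p.Prime) (hd : p ∣ (⁅N, N⁆ : Subgroup G).relIndex N) (hv : p ∣ v.1)
    (hq : q.Prime) (hd' : q ∣ (⁅N, N⁆ : Subgroup G).relIndex N) : ¬ q ∣ u.1 ∧ q ∣ v.1 := by
  have hu : ¬ p ∣ u.1 := fun e => h (reach_of (not_cop hp.ne_one e hv))
  have key : ¬ q ∣ u.1 := by
    intro qu
    have qv : ¬ q ∣ v.1 := fun e => h (reach_of (not_cop hq.ne_one qu e))
    have hpq : p.Coprime q := (Nat.coprime_primes hp hq).2 fun e => hu (e ▸ qu)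
    obtain ⟨l, hl, l1, hk, d, od, r1⟩ := exists_base hN hNG hp hd
    obtain ⟨μ, hμ, μ1, hk', d', od', r2⟩ := exists_base hN hNG hq hd'
    have nr : ¬ (Gr N).Reachable d d' := fun e => h ((r1 u hu).trans (e.trans (r2 v qv).symm))
    have hc : d.1.Coprime d'.1 := by_contra fun e => nr (reach_of e)
    have c1 := fun x (ox : Ovr N (l * μ) x) => claimB hN hNG hl hμ μ1 hk
      (.inl fun g y hy => by rw [hk' y hy, hk'.cj hN g y hy]) hpq od od' ox hc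
    obtain ⟨x, vx, ox⟩ := exists_vx (hμ.mul hl.1) c1
    have c2 := claimB hN hNG hμ hl l1 hk' (.inl fun g y hy => by rw [hk y hy, hk.cj hN g y hy]) hpq.symm od' od
      (by rwa [mul_comm]) hc.symm
    exact nr ((reach_of (u := ⟨x, (vx_iff hN).2 vx⟩) c2).symm.trans (reach_of (c1 x ox)))
  exact ⟨key, by_contra fun e => h (reach_of_not_dvd hN hNG hq hd' (by tauto))⟩

theorem types (hN : N ⊴ ⊤) (hNG : N ≤ commutator G) (hlt : ⁅N, N⁆ < N) {u v : relCharDegrees N}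
    (h : ¬ (Gr N).Reachable u v) :
    (u.1.Coprime ((⁅N, N⁆ : Subgroup G).relIndex N) ∧ ∀ r : ℕ, r.Prime → r ∣ (⁅N, N⁆ : Subgroup G).relIndex N → r ∣ v.1) ∨
    (v.1.Coprime ((⁅N, N⁆ : Subgroup G).relIndex N) ∧ ∀ r : ℕ, r.Prime → r ∣ (⁅N, N⁆ : Subgroup G).relIndex N → r ∣ u.1) := by
  obtain ⟨p, hp, hd⟩ := Nat.exists_prime_and_dvd (one_lt_relIndex hlt.not_ge).ne'
  by_cases hv : p ∣ v.1
  · have := fun q hq hd' => @dvd_of_not_reach G _ _ N p q hN hNG u v h hp hd hv hq hd'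
    exact .inl ⟨Nat.coprime_of_dvd fun q hq h1 h2 => (this q hq h2).1 h1, fun q hq h2 => (this q hq h2).2⟩
  · have hu : p ∣ u.1 := by_contra fun e => h (reach_of_not_dvd hN hNG hp hd (by tauto))
    have := fun q hq hd' => @dvd_of_not_reach G _ _ N p q hN hNG v u (fun e => h e.symm) hp hd hu hq hd'
    exact .inr ⟨Nat.coprime_of_dvd fun q hq h1 h2 => (this q hq h2).1 h1, fun q hq h2 => (this q hq h2).2⟩

theorem mem_mono {M : Subgroup G} (h : M ≤ N) (ha : a ∈ relCharDegrees M) : a ∈ relCharDegrees N := by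
  obtain ⟨χ, ⟨y, hy, e⟩, h1⟩ := ha
  exact ⟨χ, ⟨y, h hy, e⟩, h1⟩

theorem reach_mono {M : Subgroup G} (h : M ≤ N) {u v : relCharDegrees M} (r : (Gr M).Reachable u v) :
    (Gr N).Reachable ⟨u, mem_mono h u.2⟩ ⟨v, mem_mono h v.2⟩ :=
  r.map (G' := Gr N) ⟨fun w : relCharDegrees M => ⟨w.1, mem_mono h w.2⟩, fun e => e⟩

theorem mem_der (hN : N ⊴ ⊤) (hθ : θ ∈ irr N) (h : ¬ Lin N θ) (oa : Ovr N θ a) :
    a ∈ relCharDegrees (⁅N, N⁆ : Subgroup G) := by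
  obtain ⟨χ, hχ, h0, h1⟩ := oa
  refine ⟨⟨χ, mem_irr_top.1 hχ⟩, ?_, ?_⟩
  · by_contra e
    push Not at e
    exact h ⟨hθ, (der_le_cfker_iff hθ).1 ((sub_cfker_constt le_top hN.der.norm nml_der.le hθ hχ h0).1 fun y hy =>
      (mem_cfker_of_irr hχ).2 ⟨trivial, e y hy⟩)⟩
  · show charDegree χ = a
    rw [charDegree, h1, Complex.natCast_re, Nat.floor_natCast]

theorem exists_der (hN : N ⊴ ⊤) (h : ⁅⁅N, N⁆, ⁅N, N⁆⁆ < (⁅N, N⁆ : Subgroup G)) :
    ∃ c ∈ relCharDegrees (⁅N, N⁆ : Subgroup G), ¬ c.Coprime ((⁅N, N⁆ : Subgroup G).relIndex N) := by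
  obtain ⟨ξ, hξ, -, ξ1, h1⟩ := exists_lin_irr (K := ⁅N, N⁆) (A := ⊥) Nml.bot (by rwa [sup_bot_eq])
  obtain ⟨θ, hθ, h0⟩ := exists_irr_over nml_der.le hξ
  have nl : ¬ Lin N θ := fun e => ξ1 ((irr_eq_triv_iff hξ).1
    ((sub_cfker_constt nml_der.le nml_der.norm le_rfl hξ hθ h0).1 ((der_le_cfker_iff hθ).2 e.2)))
  obtain ⟨b, hb, e⟩ := exists_dg_mul nml_der.le nml_der.norm hθ hξ
    (by rw [Ov, ip_res_left (irr_supp hξ)]; exact ip_ne_zero_comm.1 h0)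
  rw [dg_eq_of_eq (χ := ξ) (n := 1) (by rw [h1, Int.cast_one]), mul_one] at e
  have hn : θ 1 = b := by rw [irr_apply_one hθ, e, Int.cast_natCast]
  obtain ⟨c, oc⟩ := exists_ovr hθ
  exact ⟨c, mem_der hN hθ nl oc, not_cop (fun e => nl ⟨hθ, by rw [hn, e, Nat.cast_one]⟩)
    ((dvd_mul_left _ _).trans (oc.dvd hN hθ hn)) hb⟩

theorem type_or (hN : N ⊴ ⊤) (hNG : N ≤ commutator G) (hlt : ⁅N, N⁆ < N) {u v : relCharDegrees N}
    (h : ¬ (Gr N).Reachable u v) (w : relCharDegrees N) : w.1.Coprime ((⁅N, N⁆ : Subgroup G).relIndex N) ∨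
      ∀ r : ℕ, r.Prime → r ∣ (⁅N, N⁆ : Subgroup G).relIndex N → r ∣ w.1 := by
  by_cases e : (Gr N).Reachable w u
  · exact (types hN hNG hlt fun e' : (Gr N).Reachable w v => h (e.symm.trans e')).imp And.left And.right
  · exact (types hN hNG hlt e).imp And.left And.right

theorem diam_two (n : ℕ) : ∀ N : Subgroup G, Nat.card N = n → N ⊴ ⊤ → N ≤ commutator G → Solv N →
    ∀ u₀ v₀ u v : relCharDegrees N, ¬ (Gr N).Reachable u₀ v₀ → (Gr N).Reachable u v → u.1.Coprime v.1 →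
      ∃ x ∈ relCharDegrees N, ¬ x.Coprime u.1 ∧ ¬ x.Coprime v.1 := by
  induction n using Nat.strong_induction_on with
  | _ n ih =>
  intro N hn hN hNG hs u₀ v₀ u v h0 r hc
  have hne : N ≠ ⊥ := by
    rintro rfl
    obtain ⟨χ, ⟨y, hy, e⟩, -⟩ := u.2
    exact e (by rw [mem_bot.1 hy])
  have hlt := hs.der_lt hne
  obtain ⟨p, hp, hd⟩ := Nat.exists_prime_and_dvd (one_lt_relIndex hlt.not_ge).ne'
  have hiff : ∀ u v : relCharDegrees N, (Gr N).Reachable u v → (p ∣ u.1 ↔ p ∣ v.1) := by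
    intro u v r
    by_contra e
    rcases two hN hNG hlt u u₀ v₀ with a | a | a
    · exact h0 (if h : (p ∣ v₀.1 ↔ p ∣ u.1) then (a.symm.trans (reach_of_not_dvd hN hNG hp hd h).symm) else
        (a.symm.trans (r.trans (reach_of_not_dvd hN hNG hp hd (by tauto)))))
    · exact h0 (if h : (p ∣ u₀.1 ↔ p ∣ u.1) then ((reach_of_not_dvd hN hNG hp hd h).trans a) else
        ((reach_of_not_dvd hN hNG hp hd (by tauto)).trans (r.symm.trans a)))
    · exact h0 a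
  have hu : ¬ p ∣ u.1 := fun e => not_cop hp.ne_one e ((hiff u v r).1 e) hc
  have hv : ¬ p ∣ v.1 := fun e => hu ((hiff u v r).2 e)
  have cu := (type_or hN hNG hlt h0 u).resolve_right fun e => hu (e p hp hd)
  have cv := (type_or hN hNG hlt h0 v).resolve_right fun e => hv (e p hp hd)
  obtain ⟨θ, hθ, θ1, oa⟩ := (vx_iff hN).1 u.2
  obtain ⟨φ, hφ, φ1, ob⟩ := (vx_iff hN).1 v.2
  have key : ∀ {θ φ : G → ℂ} {a b : ℕ}, θ ∈ irr N → θ ≠ triv N → Ovr N θ a → Lin N φ → φ ≠ triv N → Ovr N φ b →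
      a.Coprime b → a.Coprime ((⁅N, N⁆ : Subgroup G).relIndex N) → b.Coprime ((⁅N, N⁆ : Subgroup G).relIndex N) →
      ∃ x ∈ relCharDegrees N, ¬ x.Coprime a ∧ ¬ x.Coprime b := by
    intro θ φ a b hθ θ1 oa hφ φ1 ob hc ca cb
    have c1 := fun x (ox : Ovr N (θ * φ) x) => claimC hN hNG hθ hφ φ1 hφ.pw_der oa ob ox hc ca
    obtain ⟨x, vx, ox⟩ := exists_vx (hφ.mul hθ) c1
    refine ⟨x, (vx_iff hN).2 vx, ?_, c1 x ox⟩
    rcases lin_or hN hθ hφ oa ox with h | h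
    · exact claimC hN hNG hφ.1 h θ1 h.pw_der ob oa (by rwa [mul_comm]) hc.symm cb
    · exact h
  by_cases l1 : Lin N φ
  · exact key hθ θ1 oa l1 φ1 ob hc cu cv
  by_cases l2 : Lin N θ
  · obtain ⟨x, h1, h2, h3⟩ := key hφ φ1 ob l2 θ1 oa hc.symm cv cu
    exact ⟨x, h1, h3, h2⟩
  have mu := mem_der hN hθ l2 oa
  have mv := mem_der hN hφ l1 ob
  have hne' : (⁅N, N⁆ : Subgroup G) ≠ ⊥ := by
    intro e
    obtain ⟨χ, ⟨y, hy, e'⟩, -⟩ := mu
    rw [e] at hy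
    exact e' (by rw [mem_bot.1 hy])
  have hs' : Solv (⁅N, N⁆ : Subgroup G) := hs.of_le hlt.le
  obtain ⟨c, hc', nc⟩ := exists_der hN (hs'.der_lt hne')
  have pc : p ∣ c := ((type_or hN hNG hlt h0 ⟨c, mem_mono hlt.le hc'⟩).resolve_left nc) p hp hd
  have n1 : ¬ (Gr ⁅N, N⁆).Reachable ⟨u, mu⟩ ⟨c, hc'⟩ := fun e => hu ((hiff _ _ (reach_mono hlt.le e)).2 pc)
  have n2 : ¬ (Gr ⁅N, N⁆).Reachable ⟨v, mv⟩ ⟨c, hc'⟩ := fun e => hv ((hiff _ _ (reach_mono hlt.le e)).2 pc)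
  have r' := ((two hN.der (hlt.le.trans hNG) (hs'.der_lt hne') ⟨u, mu⟩ ⟨v, mv⟩ ⟨c, hc'⟩).resolve_right
    fun e => e.elim n1 n2)
  obtain ⟨x, h1, h2⟩ := ih _ (hn ▸ H18.card_lt hlt) _ rfl hN.der (hlt.le.trans hNG) hs' _ _ _ _ n1 r' hc
  exact ⟨x, mem_mono hlt.le h1, h2⟩

end RD
end H8
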