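import Cfsg.Agent.H7.Star
import Cfsg.Agent.H7.Misc2
import Cfsg.Agent.H8.Deg
import Cfsg.Agent.H1.Basic
import Cfsg.Agent.S0157
import Cfsg.Agent.S0224
import Cfsg.Agent.S1220

/-! Groups with elementary abelian Sylow `2`-subgroups all of whose real characters lie in the
principal `2`-block are `2`-closed (`comm_of_rb0`); the Steinberg-like character of a group with a
strongly embedded subgroup (`exists_st`). -/

open H5 H7 Cfsg Finset
open scoped ComplexConjugate

namespace H8
universe u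
variable {G : Type*} [Group G] [Finite G] {M : Ideal AlgInt}

/-- `2`-elements have order at most `2` -/
def SqE (G : Type*) [Group G] : Prop := ∀ a : G, IsPE 2 a → a * a = 1

/-- real characters lie in the principal block -/
def RB0 (M : Ideal AlgInt) (G : Type*) [Group G] : Prop :=
  ∀ χ : IrrCharacter G, (fun g => conj (χ.1 g)) = χ.1 → χ ∈ principalBlock M G

/-- the permutation character on solutions of `s² = 1` -/
noncomputable def piI (G : Type*) [Group G] (g : G) : ℂ :=
  Nat.card {s : G // s * s = 1 ∧ g * s = s * g}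

instance instInvolAct : MulAction G {s : G // s * s = 1} where
  smul g s := ⟨g * s * g⁻¹, by simp [mul_assoc, ← mul_assoc s.1, s.2]⟩
  one_smul s := Subtype.ext (show 1 * s.1 * 1⁻¹ = s.1 by simp)
  mul_smul g h s := Subtype.ext (show g * h * s.1 * (g * h)⁻¹ = g * (h * s.1 * h⁻¹) * g⁻¹ by group)

omit [Finite G] in
theorem piI_eq (g : G) : piI G g = Nat.card (MulAction.fixedBy {s : G // s * s = 1} g) :=
  congrArg Nat.cast (Nat.card_congr (Equiv.subtypeSubtypeEquivSubtypeInter _ _).symm |>.trans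
    (Nat.card_congr (Equiv.subtypeEquivRight fun s =>
      mul_inv_eq_iff_eq_mul.symm.trans (Subtype.ext_iff (a1 := g • s)).symm)))

theorem isCharacter_piI : IsCharacter G (piI G) := funext (piI_eq (G := G)) ▸ isCharacter_fixedBy _

theorem piI_eq_one_iff {z : G} : piI G z = piI G 1 ↔ ∀ s, s * s = 1 → z * s = s * z := by
  rw [piI_eq, piI_eq, Nat.cast_inj, MulAction.fixedBy_one_eq_univ, Nat.card_coe_set_eq,
    Nat.card_coe_set_eq]
  refine ⟨fun h s hs => ?_, fun h => congrArg _ (Set.eq_univ_of_forall fun s =>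
    Subtype.ext (mul_inv_eq_iff_eq_mul.2 (h s s.2)))⟩
  exact mul_inv_eq_iff_eq_mul.1 (congrArg Subtype.val ((Set.eq_of_subset_of_ncard_le
    (Set.subset_univ _) h.ge).ge (Set.mem_univ (⟨s, hs⟩ : {s : G // s * s = 1}))))

theorem inner_eq_zero_of_blockPart [Fintype G] {π : G → ℂ} (hπ : IsCharacter G π)
    {A : Set (IrrCharacter G)} {z : G} (hz : π z = π 1) (h : blockPart A π z = 0) {χ : IrrCharacter G}
    (hχ : χ ∈ A) : classInner π χ = 0 := by
  classical
  choose n hn using fun ψ : IrrCharacter G => hπ.exists_classInner_nat ψ.2.isCharacter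
  rw [blockPart_eq_sum, sum_congr rfl (g := fun ψ =>
    (((if ψ ∈ A then n ψ * charDegree ψ.1 else 0 : ℕ)) : ℂ)) fun ψ _ => ?_, ← Nat.cast_sum,
    Nat.cast_eq_zero, sum_eq_zero_iff] at h
  · have := h χ (mem_univ _)
    rw [if_pos hχ, mul_eq_zero, or_iff_left χ.2.charDegree_pos.ne'] at this
    rw [hn, this, Nat.cast_zero]
  split_ifs
  · by_cases e : classInner π ψ = 0
    · rw [Nat.cast_mul, ← hn, e, zero_mul, zero_mul]
    · rw [apply_eq_of_mem_charKer (hπ.charKer_le_of_constituent ψ.2 e (hπ.mem_charKer.2 hz)),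
        Nat.cast_mul, hn, ψ.2.coe_charDegree]
  · exact Nat.cast_zero.symm

theorem card_sqrt_odd {y : G} (hy : ¬ 2 ∣ orderOf y) : (Nat.card {s : G // s * s = y} : ℂ) = piI G y := by
  obtain ⟨k, hk⟩ : Odd (orderOf y) := Nat.odd_iff.2 (by omega)
  have h1 : y ^ (k + 1) * y ^ (k + 1) = y := by
    rw [← pow_add, show k + 1 + (k + 1) = orderOf y + 1 by omega, pow_succ, pow_orderOf_eq_one, one_mul]
  refine congrArg Nat.cast (Nat.card_congr ((Equiv.mulRight (y ^ (k + 1))).subtypeEquiv fun s => ?_).symm)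
  simp only [Equiv.coe_mulRight]
  refine ⟨fun ⟨h2, h3⟩ => ?_, fun h2 => ?_⟩
  · rw [(Commute.pow_left h3 (k + 1)).mul_mul_mul_comm, h2, h1, one_mul]
  have h3 : Commute y (s * y ^ (k + 1)) := by
    have := (Commute.refl (s * y ^ (k + 1))).mul_left (Commute.refl _)
    rwa [h2] at this
  have h4 : Commute y s := by simpa using h3.mul_right ((Commute.refl y).pow_right (k + 1)).inv_right
  rw [(h4.pow_left (k + 1)).mul_mul_mul_comm, h1] at h2
  exact ⟨by simpa using h2, h4⟩

theorem SqE.theta (h : SqE G) : (fun g : G => (Nat.card {s : G // s * s = g} : ℂ)) = reg 2 (piI G) := by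
  funext y
  by_cases e : 2 ∣ orderOf y
  · rw [reg_of_dvd _ e, Nat.cast_eq_zero, Nat.card_eq_zero]
    refine Or.inl ⟨fun ⟨s, hs⟩ => not_dvd_orderOf_pr (p := 2) s (e.trans ?_)⟩
    rw [← hs, ← pp_mul_pr (p := 2) s, (commute_pp_pr s).symm.mul_mul_mul_comm, h _ (isPE_pp s), one_mul,
      pr_mul_of (isPE_pp s) (not_dvd_orderOf_pr s) (commute_pp_pr s), ← sq]
    exact orderOf_pow_dvd 2
  · rw [reg_of_not_dvd _ e, card_sqrt_odd e]

theorem inner_theta [Fintype G] (χ : IrrCharacter G) :
    classInner (fun g : G => (Nat.card {s : G // s * s = g} : ℂ)) χ = fsInd χ.1 := by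
  classical
  rw [funext card_sq_eq_sum_fsInd, show (fun g => ∑ ψ : IrrCharacter G, fsInd ψ.1 * ψ.1 g) =
    ∑ ψ : IrrCharacter G, fsInd ψ.1 • ψ.1 by funext; simp, classInner_sum_left]
  simp [classInner_smul_left, classInner_irr]

variable [PM 2 M]

theorem RB0.inner [Fintype G] (h : RB0 M G) {χ : IrrCharacter G} (hχ : χ ∉ principalBlock M G) :
    classInner (piI G) χ = 0 := by
  classical
  have hA := (isSat_of_isPBlock (isPBlock_principalBlock (M := M) (G := G))).compl
  refine inner_eq_zero_of_blockPart isCharacter_piI (A := (principalBlock M G)ᶜ) rfl ?_ hχ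
  rw [blockPart_congr_section (p := 2) hA
    (θ' := fun g : G => (Nat.card {s : G // s * s = g} : ℂ)) fun g hg => ?_, blockPart_eq_sum]
  · refine sum_eq_zero fun ψ _ => ?_
    split_ifs with e
    · rw [inner_theta, ψ.2.fsInd_eq_zero_iff.2 fun k => e (h ψ k), zero_mul]
    · rfl
  have : ¬ 2 ∣ orderOf g := pp_eq_one_iff.1 (by simpa [pp_one] using hg.symm)
  rw [card_sqrt_odd this]

theorem rb0_of_inner [Fintype G] (hE : SqE G)
    (h : ∀ χ ∉ principalBlock M G, classInner (piI G) (χ : IrrCharacter G) = 0) : RB0 M G :=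
  fun χ hχ => by_contra fun e => by
  classical
  have hA := (isSat_of_isPBlock (isPBlock_principalBlock (M := M) (G := G))).compl
  have h1 := classInner_blockPart (principalBlock M G)ᶜ (reg 2 (piI G)) χ
  rw [if_pos (Set.mem_compl e), blockPart_reg hA, show blockPart (principalBlock M G)ᶜ (piI G) = 0 from funext fun g => by
    rw [blockPart_eq_sum]
    exact sum_eq_zero fun ψ _ => by
      split_ifs with k
      exacts [mul_eq_zero_of_left (h ψ k) _, rfl], ← hE.theta, inner_theta,
    show reg 2 (0 : G → ℂ) = 0 from funext fun _ => by simp [reg], classInner_zero_left] at h1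
  exact χ.2.fsInd_eq_zero_iff.1 h1.symm hχ

omit [Finite G] [PM 2 M] in
theorem SqE.sub (h : SqE G) (H : Subgroup G) : SqE H := fun a ha => Subtype.ext (h a (isPE_coe.2 ha))

theorem RB0.cent (hE : SqE G) (h : RB0 M G) {t : G} (ht : IsPE 2 t) : RB0 M (c1 t) := by
  classical
  haveI := Fintype.ofFinite G
  have hA := (isSat_of_isPBlock (isPBlock_principalBlock (M := M) (G := G))).compl
  have hB := (isSat_of_isPBlock (isPBlock_principalBlock (M := M) (G := c1 t))).compl
  let z : c1 t := ⟨t, Subgroup.mem_centralizer_singleton_iff.2 rfl⟩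
  have hz : ∀ c : c1 t, z * c = c * z := fun c =>
    Subtype.ext (Subgroup.mem_centralizer_singleton_iff.1 c.2).symm
  have h1 : pp 2 z = z := pp_of_isPE (isPE_coe.1 ht)
  refine rb0_of_inner (hE.sub _) fun χ hχ => inner_eq_zero_of_blockPart isCharacter_piI
    (A := (principalBlock M (c1 t))ᶜ) (piI_eq_one_iff.2 fun s _ => hz s) ?_ hχ
  rw [blockPart_congr_section (p := 2) hB (θ' := fun x : c1 t => piI G x) fun g hg => ?_]
  · simp only [isCharacter_piI.isClassFunction.apply_eq_sum_irr]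
    rw [blockPart_sum_mul]
    refine sum_eq_zero fun ψ _ => ?_
    by_cases e : ψ ∈ principalBlock M G
    · exact mul_eq_zero_of_right _ (second_main' (p := 2) (c1 t).subtype_injective hA hB (by
        rw [(locSet_centralizer ht).indSet_compl (isSat_of_isPBlock isPBlock_principalBlock),
          (locSet_centralizer ht).indSet_principal]) (by simp [z, pp_of_isPE ht]) (not_not.2 e))
    · rw [h.inner e, zero_mul]
  obtain ⟨c, hc⟩ := isConj_iff.1 hg
  rw [h1, ← hz, mul_inv_cancel_right] at hc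
  refine congrArg Nat.cast (Nat.card_congr ⟨fun s => ⟨s.1, congrArg Subtype.val s.2.1,
    congrArg Subtype.val s.2.2⟩, fun s => ⟨⟨s.1, Subgroup.mem_centralizer_singleton_iff.2 ?_⟩,
      Subtype.ext s.2.1, Subtype.ext s.2.2⟩, fun _ => rfl, fun _ => rfl⟩)
  have := commute_pp (p := 2) (Commute.symm s.2.2)
  rwa [pp_coe, ← hc] at this

omit [PM 2 M] in
theorem exists_st {H : Subgroup G} (hH : IsStronglyEmbedded H) (hO : oddCore G ⊔ H ≠ ⊤) :
    ∃ χ : IrrCharacter G, (∀ g, χ.1 g = Nat.card (MulAction.fixedBy (G ⧸ H) g) - 1) ∧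
      ∀ t, orderOf t = 2 → χ.1 t = 0 := by
  have h1 := (Agent.S1220.result H hH).resolve_right fun e => hO e.2
  have h2 : IsIrrCharacter G fun g => (Nat.card (MulAction.fixedBy (G ⧸ H) g) : ℂ) - 1 :=
    (Agent.S0157.result _ (H.index_eq_card ▸ H.one_lt_index_of_ne_top hH.1)).2
    (MulAction.is_two_pretransitive_iff.2 fun {a b c d} hab hcd => by
      obtain ⟨x, rfl⟩ := MulAction.exists_smul_eq G ((1 : G) : G ⧸ H) a
      obtain ⟨y, rfl⟩ := MulAction.exists_smul_eq G ((1 : G) : G ⧸ H) c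
      obtain ⟨b, rfl⟩ := (MulAction.surjective x) b
      obtain ⟨d, rfl⟩ := (MulAction.surjective y) d
      induction b using QuotientGroup.induction_on with | H b => ?_
      induction d using QuotientGroup.induction_on with | H d => ?_
      obtain ⟨k, hk, e⟩ := h1 b d (fun e => hab (congrArg _ (QuotientGroup.eq.2 (by simpa using e))))
        fun e => hcd (congrArg _ (QuotientGroup.eq.2 (by simpa using e)))
      refine ⟨y * k * x⁻¹, ?_, ?_⟩ <;> rw [mul_smul, mul_smul, inv_smul_smul] <;> congr 1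
      · exact QuotientGroup.eq.2 (by simpa using hk)
      · exact (QuotientGroup.eq.2 e).symm)
  refine ⟨⟨_, h2⟩, fun _ => rfl, fun t ht => ?_⟩
  obtain ⟨t2, t1⟩ := H9.orderOf_eq_two.1 ht
  obtain ⟨a, ha⟩ := (H9.SA.of_se hH).fix t t2 t1
  exact sub_eq_zero.2 (Nat.cast_eq_one.2 (Nat.card_eq_one_iff_exists.2 ⟨⟨a, ha⟩, fun y =>
    Subtype.ext ((H9.SA.of_se hH).uniq t t2 t1 _ _ y.2 ha)⟩))

omit [PM 2 M] in
theorem SqE.comm (h : SqE G) {a b : G} (ha : a * a = 1) (hb : b * b = 1)
    (e : (a * b * (a * b)) ^ 2 = 1) : a * b = b * a := by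
  have := h (a * b) (isPE_of_pow (k := 2) (by rw [← e, ← sq, ← pow_mul]; rfl))
  rw [← inv_eq_of_mul_eq_one_right this, mul_inv_rev, inv_eq_of_mul_eq_one_right ha,
    inv_eq_of_mul_eq_one_right hb]

theorem comm_of_rb0 (G : Type u) [Group G] [Finite G] :
    SqE G → RB0 M G → ∀ a b : G, a * a = 1 → b * b = 1 → a * b = b * a := by
  refine H1.card_induction (P := fun G _ _ => SqE G → RB0 M G →
    ∀ a b : G, a * a = 1 → b * b = 1 → a * b = b * a) ?_ G
  intro G _ _ ih hE hR
  classical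
  haveI := Fintype.ofFinite G
  have pe : ∀ {t : G}, t * t = 1 → IsPE 2 t := fun h => isPE_of_pow (k := 1) (by rwa [pow_one, sq])
  by_cases h0 : ∃ t : G, t * t = 1 ∧ t ≠ 1 ∧ c1 t = ⊤
  · obtain ⟨t, t2, t1, ht⟩ := h0
    have hZ : Subgroup.zpowers t ≤ Subgroup.center G := Subgroup.zpowers_le.2
      (Subgroup.mem_center_iff.2 fun g => Subgroup.mem_centralizer_singleton_iff.1 (ht.ge trivial))
    haveI : (Subgroup.zpowers t).Normal := ⟨fun n hn g => by
      rwa [Subgroup.mem_center_iff.1 (hZ hn) g, mul_inv_cancel_right]⟩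
    have hπ := QuotientGroup.mk'_surjective (Subgroup.zpowers t)
    have hk := (pe t2).isPGroup_zpowers
    intro a b ha hb
    have := ih (G ⧸ Subgroup.zpowers t) (H1.card_quotient_lt (by simpa using t1)) (fun x hx => by
      obtain ⟨x, rfl⟩ := hπ x
      rw [← pp_of_isPE hx, pp_map, ← map_mul, hE _ (isPE_pp x), map_one]) (fun χ hχ => by
      rw [← preimage_principal hπ fun χ ψ h1 h2 => sameBlock_of_comp (p := 2) hπ (by
        rwa [QuotientGroup.ker_mk']) (fun y _ => by
          rw [QuotientGroup.ker_mk']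
          exact fun z hz => (Subgroup.mem_center_iff.1 (hZ hz) y).symm) h1 h2]
      exact hR _ (funext fun g => congrFun hχ _)) a b (by rw [← QuotientGroup.mk_mul, ha]; rfl)
      (by rw [← QuotientGroup.mk_mul, hb]; rfl)
    refine hE.comm ha hb ((sq _).trans (hE _ (isPE_of_mem hk ((QuotientGroup.eq_one_iff _).1 ?_))))
    simp only [QuotientGroup.mk_mul]
    nth_rewrite 1 [this]
    rw [mul_assoc, ← mul_assoc (a : G ⧸ Subgroup.zpowers t), ← QuotientGroup.mk_mul, ha,
      QuotientGroup.mk_one, one_mul, ← QuotientGroup.mk_mul, hb, QuotientGroup.mk_one]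
  push Not at h0
  have tr : ∀ {a t b : G}, a * a = 1 → t * t = 1 → b * b = 1 → t ≠ 1 → a * t = t * a → b * t = t * b →
      a * b = b * a := fun {a t b} ha ht hb t1 e1 e2 => congrArg Subtype.val
    (ih (c1 t) (H1.card_lt_of_ne_top (h0 t ht t1)) (hE.sub _) (hR.cent hE (pe ht))
      ⟨a, Subgroup.mem_centralizer_singleton_iff.2 e1⟩ ⟨b, Subgroup.mem_centralizer_singleton_iff.2 e2⟩
      (Subtype.ext ha) (Subtype.ext hb))
  intro a t ha ht
  by_cases t1 : t = 1
  · simp [t1]
  have cj : ∀ {x y : G} (g : G), x * y = y * x → g * x * g⁻¹ * (g * y * g⁻¹) = g * y * g⁻¹ * (g * x * g⁻¹) :=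
    fun g e => by rw [conj_mul, conj_mul, e]
  let H : Subgroup G :=
    { carrier := {g | g * t * g⁻¹ * t = t * (g * t * g⁻¹)}
      one_mem' := by simp
      mul_mem' := fun {g h} hg hh => tr (H9.conj_sq ht _) (H9.conj_sq ht g) ht (by simpa using t1)
        (by simpa only [mul_inv_rev, mul_assoc] using cj g hh) hg.symm
      inv_mem' := fun {g} hg => by simpa [mul_assoc] using (cj g⁻¹ hg).symm }
  have h1 : ∀ s ∈ H, s * s = 1 → s * t = t * s := fun s hs s2 => hE.comm s2 ht (by
    have : s * t * (s * t) = s * t * s⁻¹ * t := by rw [inv_eq_of_mul_eq_one_right s2, mul_assoc (s * t)]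
    rw [this, Commute.mul_pow hs, sq, sq, H9.conj_sq ht, ht, one_mul])
  by_cases h2 : H = ⊤
  · exact h1 a (h2.ge trivial) ha
  exfalso
  have hH : IsStronglyEmbedded H := ⟨h2, H5.even_of_inv (x := t) (by simp [H]) ht t1, fun g hg =>
    H5.odd_of_no_inv fun s hs s2 => by_contra fun s1 => hg (by
      obtain ⟨s', h3, rfl⟩ := hs.2
      have h4 : s' * s' = 1 := by simpa [← map_mul] using s2
      exact tr (H9.conj_sq ht g) s2 ht s1 (cj g (h1 s' h3 h4).symm) (h1 _ hs.1 s2).symm)⟩
  have hO : oddCore G ≤ H := fun y hy => by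
    have h3 : piI G y = piI G 1 := by
      simp only [isCharacter_piI.isClassFunction.apply_eq_sum_irr]
      refine sum_congr rfl fun χ _ => ?_
      by_cases e : χ ∈ principalBlock M G
      · rw [mem_kerSet.1 (principalBlock_subset_kerSet (p := 2) not_dvd_card_pPrimeCore e) y hy]
      · rw [hR.inner e, zero_mul, zero_mul]
    simp [H, piI_eq_one_iff.1 h3 t ht]
  obtain ⟨χ, h3, h4⟩ := exists_st hH (by rwa [sup_eq_right.2 hO])
  obtain ⟨P⟩ : Nonempty (Sylow 2 G) := inferInstance
  obtain ⟨k, hk⟩ := card_dvd_of_vanish χ.2.isGen P fun g hg g1 =>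
    h4 g (H9.orderOf_eq_two.2 ⟨hE g (isPE_of_mem P.isPGroup' hg), g1⟩)
  have h5 : Nat.card P ∣ charDegree χ.1 := Int.natCast_dvd_natCast.1 ⟨k, Int.cast_injective (α := ℂ) (by
    rw [Int.cast_natCast, χ.2.coe_charDegree, hk]; simp)⟩
  rw [P.card_eq_multiplicity, Nat.prime_two.pow_dvd_iff_le_factorization χ.2.charDegree_pos.ne'] at h5
  have h6 := (isSat_singleton (M := M) h5).subset_of_mem isPBlock_principalBlock rfl
    (hR χ (funext fun g => by simp [h3])) irrOne_mem_principalBlock
  simpa [← Set.mem_singleton_iff.1 h6] using h4 t (H9.orderOf_eq_two.2 ⟨ht, t1⟩)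

end H8
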