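import Cfsg.Agent.H8.Gq3
import Cfsg.Agent.H2.Schmidt
import Cfsg.Agent.H1.Harv1

/-! Sylow subgroups of Schmidt type: `SE p S` (semi-extraspecial properties), `SE.mim`, `se_of_minAct`, `SE.le_pcore`
(a `p`-solvable group with such a Sylow subgroup has `p`-length one). -/

set_option autoImplicit false
set_option linter.unusedSectionVars false

namespace H8
open Module Subgroup Cfsg H18 H1 H21 H21.HB
open scoped commutatorElement
universe u v

variable {G : Type u} [Group G] [Finite G] {p q : ℕ} [hp : Fact p.Prime] {H S P Y : Subgroup G} {u x y : G}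

/-- properties of the normal Sylow subgroup of a minimal non-nilpotent group -/
structure SE (p : ℕ) (S : Subgroup G) : Prop where
  phi : Φ(S) ≤ C(S)
  se : ∀ u ∈ S, u ∉ C(S) → Z(S) ≤ ⁅zpowers u, S⁆
  ex : ∀ u ∈ S, ∀ x ∈ S, S ≤ zpowers x ⊔ zpowers u ⊔ Z(S) → u ^ p = 1 → u ∉ C(S) → 3 < p

theorem SE.mim {G' : Type*} [Group G'] [Finite G'] {D : Subgroup G} {f : D →* G'} (h : SE p S) (hS : PiGrp {p} S)
    (hD : S ≤ D) (hk : S ⊓ mker f = ⊥) : SE p (mim f S) := by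
  have c : ∀ u ∈ S, mfun f u ∈ C(H18.mim f S) → u ∈ C(S) := fun u hu e => zpowers_le.1 (cent_of_mim_cent
    (zpowers_le.2 (hD hu)) hD (zpowers_le.2 (le_N hu)) hk (by rw [mim_zpowers (hD hu)]; exact zpowers_le.2 e))
  have z : H18.mim f Z(S) = Z(H18.mim f S) := le_antisymm mim_inf_C_le fun a ha => by
    obtain ⟨u, u1, -, rfl⟩ := mem_mim.1 ha.1
    exact mfun_mem_mim ⟨u1, c u u1 ha.2⟩
  refine ⟨by rw [← hS.mim_phi hp.out hD]; exact mim_cent h.phi, fun a ha a1 => ?_, fun a ha b hb e a1 a2 => ?_⟩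
  · obtain ⟨u, u1, u2, rfl⟩ := mem_mim.1 ha
    rw [← z, ← mim_zpowers u2, ← mim_comm (zpowers_le.2 u2) hD]
    exact mim_mono (h.se u u1 fun e => a1 (mim_cent le_rfl (mfun_mem_mim e)))
  · obtain ⟨u, u1, u2, rfl⟩ := mem_mim.1 ha
    obtain ⟨x, x1, x2, rfl⟩ := mem_mim.1 hb
    have l : zpowers x ⊔ zpowers u ⊔ Z(S) ≤ S := sup_le (sup_le (zpowers_le.2 x1) (zpowers_le.2 u1)) inf_le_left
    refine h.ex u u1 x x1 (eq_of_card_eq l ?_).ge (mem_bot.1 (hk ▸ (⟨pow_mem u1 p, mem_mker.2 ⟨pow_mem u2 p, by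
      rw [mfun_pow u2, a1]⟩⟩ : u ^ p ∈ S ⊓ mker f))) fun e => a2 (mim_cent le_rfl (mfun_mem_mim e))
    rw [← card_mim_of_disj hD hk, ← card_mim_of_disj (l.trans hD) (eq_bot_iff.2 ((inf_le_inf_right _ l).trans hk.le)),
      le_antisymm (mim_mono l)]
    rwa [mim_sup ((le_sup_left.trans l).trans hD) (inf_le_left.trans hD), mim_sup (zpowers_le.2 x2) (zpowers_le.2 u2),
      mim_zpowers x2, mim_zpowers u2, z]

theorem se_of_minAct (h : MinAct p (zpowers y) (zpowers y) P) (hq : q.Prime) (yq : PiElt {q} y) (hy : y ^ q ∈ C(P)) :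
    SE p P := by
  by_cases ab : Abel P
  · exact ⟨h.phi_cent, fun u hu c => absurd (ab hu) c, fun u hu _ _ _ _ c => absurd (ab hu) c⟩
  have eZ := h.Z_eq ab
  have yP : y ∈ N(P) := h.norm (mem_zpowers y)
  have ZY : Z(P) ≤ C(zpowers y) := eZ ▸ h.phi_le_cent
  have irr : ∀ L, Z(P) ≤ L → L ≤ P → y ∈ N(L) → ∀ u ∈ L, u ∉ C(P) → L = P := fun L a b c u u1 u2 =>
    (h.irr (eZ ▸ a) b (zpowers_le.2 c)).resolve_left fun e => u2 ((eZ ▸ e ▸ u1 : u ∈ Z(P)).2)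
  have dZ : ⁅P, P⁆ ≤ Z(P) := le_inf der_le h.der_cent
  refine ⟨h.phi_cent, fun u hu c => ?_, fun u hu x hx e up c => ?_⟩
  · have DZ : ⁅zpowers u, P⁆ ≤ Z(P) := (comm_mono (zpowers_le.2 hu) le_rfl).trans dZ
    have n1 : P ≤ N(⁅zpowers u, P⁆) := norm_comm_right
    have n2 : y ∈ N(⁅zpowers u, P⁆) := C_le_N (cent_symm (DZ.trans ZY) (mem_zpowers y))
    have k := (comm_le_iff_quo (zpowers_le.2 (n1 hu)) n1).1 le_rfl
    generalize ⁅zpowers u, P⁆ = D at *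
    have := irr (P ⊓ qpre D C(P ⫽ D)) (fun z hz => ⟨hz.1, mem_mpre.2 ⟨n1 hz.1, mim_cent le_rfl (mfun_mem_mim hz.2)⟩⟩)
      inf_le_left (zpowers_le.1 (norm_inf h.norm (norm_mpre (zpowers_le.2 n2) ((mim_norm h.norm).trans N_le_N_C)))) u
      ⟨hu, mem_mpre.2 ⟨n1 hu, k (mfun_mem_mim (mem_zpowers u))⟩⟩ c
    rw [eZ, h.phi_eq_der, comm_le_iff_quo n1 n1, mim_le_iff n1]
    exact this.ge.trans inf_le_right
  have nZ : N(P) ≤ N(Z(P)) := norm_inf le_rfl N_le_N_C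
  have PZ := le_N.trans nZ
  have yZ := nZ yP
  have gen : ∀ v ∈ P, v ∉ C(P) → y * v * y⁻¹ ∉ zpowers v ⊔ Z(P) := fun v hv v1 v2 => ab (by
    rw [← irr (zpowers v ⊔ Z(P)) le_sup_right (sup_le (zpowers_le.2 hv) inf_le_left) (mem_N_of_cj_le (by
      rw [cj_sup, cj_zpowers, cj_eq_self yZ]; exact sup_le (zpowers_le.2 v2) le_sup_right)) v
      (mem_sup_left (mem_zpowers v)) v1]
    exact abel_zpowers.sup (inf_le_right.trans (C_anti inf_le_left)) (cent_symm (inf_le_right.trans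
      (C_anti (zpowers_le.2 hv)))))
  have el : Elem p (P ⫽ Z(P)) := eZ ▸ h.pi.elem_quo_phi hp.out
  have cd : Nat.card (P ⫽ Z(P)) ∣ p ^ 2 := by
    have o : ∀ v ∈ P, Nat.card (zpowers (cs Z(P) v)) ∣ p := fun v hv => by
      rw [card_zpowers']; exact orderOf_dvd_of_pow_eq_one (el.pow _ (mfun_mem_mim hv))
    have e2 := mim_mono (f := coset Z(P)) e
    rw [mim_sup (sup_le (zpowers_le.2 (PZ hx)) (zpowers_le.2 (PZ hu))) le_N, quo_eq_bot le_rfl, sup_bot_eq,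
      mim_sup (zpowers_le.2 (PZ hx)) (zpowers_le.2 (PZ hu)), mim_zpowers (PZ hx), mim_zpowers (PZ hu)] at e2
    exact (card_dvd_of_le e2).trans ((Nrm2.card_sup_dvd (Or.inl ((cent_symm ((zpowers_le.2 (mfun_mem_mim hu)).trans
      (el.abel.trans (C_anti (zpowers_le.2 (mfun_mem_mim hx)))))).trans C_le_N))).trans (sq p ▸ Nat.mul_dvd_mul (o x hx) (o u hu)))
  have qp : q ≠ p := by
    rintro rfl
    exact h.nt (by rw [yq.eq_one' (h.p'.elt (mem_zpowers y))]; simp)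
  have md := relIndex_cent_modEq hq (yq.zpowers.mim (f := coset Z(P))) (mim_norm h.norm) fun c =>
    qp ((Nat.prime_dvd_prime_iff_eq hq hp.out).1 (hq.dvd_of_dvd_pow (c.trans cd)))
  rw [← inf_relIndex_left, h.cop.quo_cent_eq_bot (zpowers_le.2 yZ) PZ (eZ ▸ h.cent_eq.le),
    relIndex_bot_left] at md
  have c1 : Nat.card (P ⫽ Z(P)) ≠ 1 := fun e => c (((quo_eq_bot_iff PZ).1 (card_eq_one.1 e) hu).2)
  obtain ⟨k, k1, k2⟩ := (Nat.dvd_prime_pow hp.out).1 cd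
  rw [k2] at md c1
  have md2 := (Nat.modEq_iff_dvd' (Nat.one_le_pow _ _ hp.out.pos)).1 md.symm
  have fx : ∀ v ∈ P, y * v * y⁻¹ * v⁻¹ ∈ Z(P) → v ∈ C(P) := fun v hv e => by_contra fun c => gen v hv c (by
    simpa using mul_mem (mem_sup_right e) (mem_sup_left (mem_zpowers v)))
  by_contra c3
  have yu := conj_mem_N yP hu
  have := hp.out.two_le
  obtain rfl | rfl : p = 2 ∨ p = 3 := by clear * - c3 this; omega
  · obtain rfl : q = 3 := by
      have : q ∣ 3 := by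
        obtain rfl | rfl | rfl : k = 0 ∨ k = 1 ∨ k = 2 := by omega
        exacts [absurd rfl c1, md2.trans (by norm_num), md2]
      exact (Nat.prime_dvd_prime_iff_eq hq Nat.prime_three).1 this
    have yv := conj_mem_N yP yu
    have y3 := mem_C.1 hy u hu
    have e1 : u * (y * u * y⁻¹) * (y * (y * u * y⁻¹) * y⁻¹) ∈ C(P) := fx _ (mul_mem (mul_mem hu yu) yv) (by
      have : y * (u * (y * u * y⁻¹) * (y * (y * u * y⁻¹) * y⁻¹)) * y⁻¹ =
          (y * u * y⁻¹) * (y * (y * u * y⁻¹) * y⁻¹) * u := by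
        calc _ = (y * u * y⁻¹) * (y * (y * u * y⁻¹) * y⁻¹) * (y ^ 3 * u * (y ^ 3)⁻¹) := by group
          _ = _ := by rw [← y3, mul_inv_cancel_right]
      rw [this]
      convert dZ (commutator_mem_commutator (mul_mem yu yv) hu) using 1
      rw [commutatorElement_def]; group)
    have v2 : (y * u * y⁻¹) ^ 2 = 1 := by rw [conj_pow, up]; simp
    have w2 : (y * (y * u * y⁻¹) * y⁻¹) ^ 2 = 1 := by rw [conj_pow, v2]; simp
    have ez : ∀ z ∈ Z(P), z ^ 2 = 1 := fun z hz => by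
      rw [eZ, h.phi_eq_der] at hz
      refine ((show Abel Z(P) from inf_le_right.trans (C_anti inf_le_left)).mem_omega_iff.1 (commutator_le.2
        (fun a ha b hb => mem_omega (dZ (commutator_mem_commutator ha hb)) ?_) hz)).2
      have k1 := mem_C.1 (h.der_cent (commutator_mem_commutator ha hb)) a ha
      have k2 := mem_C.1 (h.phi_cent (h.pi.pow_mem_phi hp.out ha)) b hb
      calc ⁅a, b⁆ ^ 2 = (a * ⁅a, b⁆ * a⁻¹) * ⁅a, b⁆ := by rw [k1, sq]; group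
        _ = a ^ 2 * b * (a ^ 2)⁻¹ * b⁻¹ := by rw [commutatorElement_def, sq]; group
        _ = 1 := by rw [← k2]; group
    have z2 := ez _ ⟨mul_mem (mul_mem hu yu) yv, e1⟩
    have e2 : Commute (y * (y * u * y⁻¹) * y⁻¹) (u * (y * u * y⁻¹) * (y * (y * u * y⁻¹) * y⁻¹)) := mem_C.1 e1 _ yv
    have e3 : (u * (y * u * y⁻¹)) ^ 2 = 1 := by
      rw [← mul_inv_cancel_right (u * (y * u * y⁻¹)) (y * (y * u * y⁻¹) * y⁻¹), e2.symm.inv_right.mul_pow, z2, inv_pow, w2]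
      simp
    have e4 : y * (y * u * y⁻¹) * y⁻¹ = (u * (y * u * y⁻¹))⁻¹ * (u * (y * u * y⁻¹) * (y * (y * u * y⁻¹) * y⁻¹)) := by group
    generalize hv : y * u * y⁻¹ = v at *
    have e5 : u * v = v * u := by
      rw [sq] at up v2 e3
      rw [eq_inv_of_mul_eq_one_left e3, mul_inv_rev, inv_eq_of_mul_eq_one_left up, inv_eq_of_mul_eq_one_left v2]
    have l : zpowers u ⊔ zpowers v ⊔ Z(P) ≤ P := sup_le (sup_le (zpowers_le.2 hu) (zpowers_le.2 yu)) inf_le_left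
    have m1 : u ∈ zpowers u ⊔ zpowers v ⊔ Z(P) := mem_sup_left (mem_sup_left (mem_zpowers u))
    have m2 : v ∈ zpowers u ⊔ zpowers v ⊔ Z(P) := mem_sup_left (mem_sup_right (mem_zpowers v))
    refine c (cent_symm (A := P) (B := zpowers u) ?_ (mem_zpowers u))
    rw [← irr _ le_sup_right l (mem_N_of_cj_le (by
      rw [cj_sup, cj_sup, cj_zpowers, cj_zpowers, cj_eq_self yZ, hv, e4]
      exact sup_le (sup_le (zpowers_le.2 m2) (zpowers_le.2 (mul_mem (inv_mem (mul_mem m1 m2))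
        (mem_sup_right ⟨mul_mem (mul_mem hu yu) yv, e1⟩)))) le_sup_right)) u m1 c]
    exact sup_le (sup_le abel_zpowers (zpowers_le.2 (by rw [C_zpowers, mem_C1, e5])))
      (inf_le_right.trans (C_anti (zpowers_le.2 hu)))
  · obtain rfl : q = 2 := by
      have : q ∣ 2 ^ 3 := by
        obtain rfl | rfl | rfl : k = 0 ∨ k = 1 ∨ k = 2 := by omega
        exacts [absurd rfl c1, md2.trans (by norm_num), md2]
      exact (Nat.prime_dvd_prime_iff_eq hq Nat.prime_two).1 (hq.dvd_of_dvd_pow this)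
    refine gen _ (mul_mem yu (inv_mem hu)) (fun e => c (fx u hu (mem_inf.2 ⟨mul_mem yu (inv_mem hu), e⟩))) (mem_sup_left ?_)
    have : y * (y * u * y⁻¹ * u⁻¹) * y⁻¹ = (y * u * y⁻¹ * u⁻¹)⁻¹ := by
      calc _ = (y ^ 2 * u * (y ^ 2)⁻¹) * (y * u * y⁻¹)⁻¹ := by rw [sq]; group
        _ = _ := by rw [← mem_C.1 hy u hu]; group
    exact this ▸ inv_mem (mem_zpowers _)

theorem se_of_schmidt {K : Subgroup G} (h : ∀ H, H < K → Nil H) (hn : ¬ Nil K) (hP : Hall {p} P K) (nP : P ⊴ K)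
    (h1 : P ≠ ⊥) : SE p P := by
  obtain ⟨r, q, Y, R, hr, hq, ne, hY, hR, nR, e, hc, nc⟩ := H2.schmidt_struct h hn
  have hr' : PiGrp {r}ᶜ R := hR.pi.p'_of_ne ne.symm
  obtain rfl : p = q := by
    by_contra h3
    obtain rfl : p = r := by
      by_contra h4
      have h5 : PiGrp {p}ᶜ (Y ⊔ R) := PiGrp.sup (hY.pi.p'_of_ne (Ne.symm h4)) (hR.pi.p'_of_ne (Ne.symm h3)) (nR.nrm2' hY.le)
      rw [e] at h5
      exact h1 (eq_bot_iff.2 ((le_inf le_rfl hP.1).trans (hP.2.inf_eq_bot h5).le))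
    exact nc (cent_of_nml_coprime (hP.eq_of_nml nP.norm hY ▸ nP) nR (hY.pi.coprime hr'))
  obtain rfl : R = P := hP.eq_of_nml nP.norm hR
  obtain ⟨y, rfl⟩ := cyc_iff.1 hc
  have ct : ∀ A ≤ zpowers y, ∀ B ≤ R, A ≤ N(B) → (A ≠ zpowers y ∨ B ≠ R) → A ≤ C(B) := fun A a B b n c =>
    (h (A ⊔ B) (lt_of_le_of_ne (sup_le (a.trans hY.le) (b.trans hR.le)) fun e2 => by
      have n2 : Nrm2 A B := Or.inl n
      have k1 := n2.modular_left a
      have k2 := n2.symm.modular_left b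
      rw [e2, inf_eq_left.2 hY.le, eq_bot_iff.2 ((inf_le_inf_left _ b).trans (hY.pi.inf_eq_bot hr').le), sup_bot_eq] at k1
      rw [sup_comm, e2, inf_eq_left.2 hR.le, eq_bot_iff.2 ((inf_le_inf_left _ a).trans ((inf_comm _ _).trans
        (hY.pi.inf_eq_bot hr')).le), sup_bot_eq] at k2
      exact c.elim (fun c => c k1.symm) fun c => c k2.symm)).cent_pi le_sup_left le_sup_right (hY.pi.of_le a) (hr'.of_le b)
  have yr := hY.pi.elt (mem_zpowers y)
  have l : zpowers (y ^ r) ≤ zpowers y := zpowers_le.2 (npow_mem_zpowers y r)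
  refine se_of_minAct ⟨hR.pi, hY.le.trans nR.norm, le_rfl, le_N, hY.pi.p'_of_ne ne, fun c => nc (cent_symm c),
    fun U u1 u2 => cent_symm (ct _ le_rfl U u1.le u2 (Or.inr u1.ne))⟩ hr yr (ct _ l R le_rfl
      (l.trans (hY.le.trans nR.norm)) (Or.inl fun e2 => nc ?_) (mem_zpowers _))
  have := mem_zpowers_pow_iff.1 (e2.ge (mem_zpowers y))
  obtain ⟨k, hk⟩ := yr.eq_pow (orderOf_pos _).ne'
  rcases k with _ | k
  · rw [orderOf_eq_one_iff.1 hk]; simp
  · exact absurd (Nat.Coprime.eq_one_of_dvd this (hk ▸ dvd_pow_self r k.succ_ne_zero)) hr.one_lt.ne'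

theorem SE.le_pcore (h : SE p S) (hs : H4.PSol p H) (hO : O[{p}ᶜ](H) = ⊥) (hS : Hall {p} S H) : S ≤ O[{p}](H) := by
  have ch : H ⊓ C(O[{p}](H)) ≤ O[{p}](H) := psol_chP hs hO
  have nT : O[{p}](H) ⊴ H := pcore_nml
  have pT : PiGrp {p} O[{p}](H) := pcore_pi
  have TS := hS.pcore_le
  have qc : O[{p}](H ⫽ O[{p}](H)) = ⊥ := by
    rw [← quo_rad]; refine quo_eq_bot ?_
    simpa only [rad_bot] using rad_rad_le (π := {p}) (Nml.bot (H := H))
  generalize O[{p}](H) = T at *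
  have n := rad_nml (π := {p}ᶜ) nT
  obtain ⟨Q, hQ⟩ := exists_sd (nT.of_le le_rad_self n.1) (pT.coprime rad_idx)
  have q : PiGrp {p}ᶜ Q := by rw [PiGrp, ← hQ.relIndex]; exact rad_idx
  have QH := hQ.le_right.trans n.1
  have dec : ∀ a ∈ S, ∃ v ∈ T, ∃ b ∈ S ⊓ N(Q), a = v * b := fun a ha => by
    have := hQ.cj a
    rw [cj_eq_self (nT.2 (hS.1 ha)), cj_eq_self (n.2 (hS.1 ha))] at this
    obtain ⟨v, v1, v2⟩ := sd_conj hQ this (pT.coprime q)
    exact ⟨v, v1, v⁻¹ * a, mem_inf.2 ⟨mul_mem (inv_mem (TS v1)) ha, mem_N_iff_cj.2 (by rw [cj_mul, v2, cj_inv_cj])⟩, by group⟩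
  have SN : S ≤ T ⊔ (S ⊓ N(Q)) := fun a ha => by
    obtain ⟨v, v1, b, b1, rfl⟩ := dec a ha
    exact mul_mem_sup' v1 b1
  by_contra c
  have nt : ¬ Q ≤ C(S ⊓ N(Q)) := fun e => c (SN.trans (sup_le le_rfl fun a ha => by
    have aN := nT.2 (hS.1 ha.1)
    have := mim_cent (f := coset T) (cent_symm e)
    rw [← hQ.quo, quo_rad] at this
    exact (cs_eq_one_iff aN).1 (((hS.2.elt ha.1).mfun aN).eq_one' (pcore_pi.elt (psol_cent_p'core (psol_mim hs) qc
      ⟨mfun_mem_mim (hS.1 ha.1), this (mfun_mem_mim ha)⟩)))))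
  have NS : S ⊓ N(Q) ≤ S := inf_le_left
  have NQ : S ⊓ N(Q) ≤ N(Q) := inf_le_right
  generalize S ⊓ N(Q) = A at *
  obtain ⟨U, UQ, ⟨nU, ntU⟩, mU⟩ := exists_minimal_sub (fun U => A ≤ N(U) ∧ ¬ U ≤ C(A)) ⟨NQ, nt⟩
  have pA := hS.2.of_le NS
  have pU := q.of_le UQ
  have UH := UQ.trans QH
  have cp : Cop A U := cop_of_pi nU pA pU (Or.inl pA.nil.solv)
  have UA : ⁅U, A⁆ = U := mU _ ⟨norm_comm_right, fun e => ntU (cp.cent_of_comm_cent e)⟩ (comm_le_left nU)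
  have fA : ∀ Y : Subgroup G, U ≤ N(Y) → Y ≤ C(A) → Y ≤ C(U) := fun Y a b => cent_symm (UA ▸ (comm_mono le_rfl
    (cent_symm b)).trans (comm_le_right (a.trans N_le_N_C)))
  have c2 : ⁅S, S⁆ ≤ Z(S) := le_inf der_le ((hS.2.der_le_phi hp.out).trans h.phi)
  have ZT : Z(S) ≤ Z(T) := le_inf ((le_inf (inf_le_left.trans hS.1) (inf_le_right.trans (C_anti TS))).trans ch)
    (inf_le_right.trans (C_anti TS))
  have nZ : H ≤ N(Z(T)) := norm_inf nT.2 (nT.2.trans N_le_N_C)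
  have TU : ⁅T, U⁆ ≤ Z(T) := by
    have e := (comm_le_iff_quo (nT.1.trans nZ) (NS.trans (hS.1.trans nZ))).1 ((comm_mono TS NS).trans (c2.trans ZT))
    rw [comm_le_iff_quo (nT.1.trans nZ) (UH.trans nZ), ← UA, mim_comm (UH.trans nZ) (NS.trans (hS.1.trans nZ))]
    exact cent_symm ((comm_mono le_rfl (cent_symm e)).trans (comm_le_right ((mim_norm (UH.trans nT.2)).trans N_le_N_C)))
  have cT : Cop U T := cop_of_pi' (UH.trans nT.2) pU pT (Or.inr pT.nil.solv)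
  have cZ : Cop U Z(T) := cT.sub inf_le_left (UH.trans nZ)
  have WZ : ⁅Z(T), U⁆ ≤ Z(T) := comm_le_left (UH.trans nZ)
  have W0 : ⁅Z(T), U⁆ ⊓ C(U) = ⊥ := eq_bot_iff.2 ((cZ.comm.cent_le_of_comm_eq cZ.comm_comm).trans
    (commutator_eq_bot_iff_le_centralizer.2 (WZ.trans (inf_le_right.trans (C_anti (WZ.trans inf_le_left))))).le)
  have UT : ∀ a ∈ U, a ∈ C(T) → a = 1 := fun a ha e => (pT.elt (ch ⟨UH ha, e⟩)).eq_one' (pU.elt ha)
  obtain ⟨u, u1, u2⟩ : ∃ u ∈ ⁅Z(T), U⁆, u ∉ C(S) := SetLike.not_le_iff_exists.1 fun e => ntU fun a ha => by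
    have e1 : ⁅Z(T), U⁆ = ⊥ := by rw [← W0, left_eq_inf]; exact fA _ norm_comm_right (e.trans (C_anti NS))
    have e2 : ⁅T, U⁆ = ⊥ := eq_bot_iff.2 (cT.comm_comm.ge.trans ((comm_mono TU le_rfl).trans e1.le))
    rw [UT a ha (cent_symm (commutator_eq_bot_iff_le_centralizer.1 e2) ha)]; exact one_mem _
  have uT : u ∈ T := (WZ u1).1
  have se := h.se u (TS uT) u2
  have SW : S ≤ N(⁅Z(T), U⁆) := SN.trans (sup_le ((cent_symm (WZ.trans inf_le_right)).trans C_le_N)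
    (norm_comm (NS.trans (hS.1.trans nZ)) nU))
  have Z0 : Z(S) ⊓ C(U) = ⊥ := eq_bot_iff.2 ((inf_le_inf_right _ (se.trans ((comm_mono (zpowers_le.2 u1) le_rfl).trans
    (comm_le_left SW)))).trans W0.le)
  have BS : A ⊓ C(U) ≤ S := inf_le_left.trans NS
  have MS : T ⊔ (A ⊓ C(U)) ≤ S := sup_le TS BS
  have UB : U ≤ C(A ⊓ C(U)) := cent_symm inf_le_right
  have AB : A ≤ N(A ⊓ C(U)) := norm_inf le_N (nU.trans N_le_N_C)
  have UM : U ≤ N(T ⊔ (A ⊓ C(U))) := norm_sup (UH.trans nT.2) (UB.trans C_le_N)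
  have AM : A ≤ N(T ⊔ (A ⊓ C(U))) := norm_sup (NS.trans (hS.1.trans nT.2)) AB
  have pM := hS.2.of_le MS
  have el : Elem p (T ⊔ (A ⊓ C(U))) := (pM.phi_eq_bot_iff hp.out).1 (eq_bot_iff.2 (le_trans (le_inf (le_inf (phi_le.trans MS)
    ((hS.2.phi_mono hp.out MS).trans h.phi)) (fA _ (norm_phi UM) ((hS.2.phi_mono hp.out MS).trans (h.phi.trans
      (C_anti NS))))) Z0.le))
  have TC : ∀ a ∈ T, a ∈ A → a ∈ C(U) := fun a a1 a2 => zpowers_le.1 (commutator_eq_bot_iff_le_centralizer.1 (eq_bot_iff.2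
    ((le_inf ((comm_mono (zpowers_le.2 a1) le_rfl).trans (comm_le_left (UH.trans nT.2)))
      (comm_le_right (zpowers_le.2 (nU a2)))).trans (pT.inf_eq_bot pU).le)))
  have dA : ⁅A, A⁆ ≤ A ⊓ C(U) := fun a ha => ⟨der_le ha, TC a (ZT (c2 (comm_mono NS NS ha))).1 (der_le ha)⟩
  have UB' := UB.trans C_le_N
  obtain ⟨x, x1, x2⟩ := exists_gen_of_cyc_quo AB (by_contra fun cy => ntU (by
    have := coprime_abelian_gen_cent1 ((abel_quo_iff AB).2 dA) cy (mim_norm nU) (coprime_mim cp.cop)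
      (X := C(A ⫽ (A ⊓ C(U)))) fun a ha a1 => by
        obtain ⟨b, b1, rfl⟩ := (mem_quo AB).1 ha
        rw [← C_zpowers, ← mim_zpowers (AB b1), ← (cp.left (zpowers_le.2 b1)).quo_cent (zpowers_le.2 (AB b1)) UB']
        refine mim_cent (by_contra fun e => a1 (cs_eq_one (mem_inf.2 ⟨b1, ?_⟩)))
        refine cent_symm ((mU _ ⟨fun n n1 => mem_N_of_finite fun w hw => mem_inf.2 ⟨conj_mem_N (nU n1) hw.1, ?_⟩, e⟩
          inf_le_left).ge.trans inf_le_right) (mem_zpowers b)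
        have e1 := mem_C.1 (dA (commutator_mem_commutator (inv_mem n1) b1)).2 w hw.1
        have e2 := mem_C.1 hw.2 b (mem_zpowers b)
        rw [C_zpowers, mem_C1]
        calc n * w * n⁻¹ * b = n * (w * ⁅n⁻¹, b⁆) * b * n⁻¹ := by rw [commutatorElement_def]; group
          _ = n * ⁅n⁻¹, b⁆ * (w * b) * n⁻¹ := by rw [e1]; group
          _ = _ := by rw [← e2, commutatorElement_def]; group
    rw [← comm_le_iff_quo UB' AB, UA] at this
    rw [eq_bot_iff.2 ((le_inf (this.trans inf_le_left) le_rfl).trans (pA.inf_eq_bot pU).le)]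
    exact bot_le))
  have SM : S ≤ zpowers x ⊔ (T ⊔ (A ⊓ C(U))) := SN.trans (sup_le (le_sup_of_le_right le_sup_left)
    (x2.trans (sup_le_sup_left le_sup_right _)))
  have xC : x ∉ C(U) := fun e => ntU (cent_symm (x2.trans (sup_le (zpowers_le.2 e) inf_le_right)))
  have TM : T ≤ T ⊔ (A ⊓ C(U)) := le_sup_left
  generalize T ⊔ (A ⊓ C(U)) = M at *
  have xS := NS x1
  have xM := AM x1
  have p3 : p ≤ 3 := by
    obtain ⟨r, r1, r2⟩ := thmB_q (n := 0) (x := cs M x) (H := U ⫽ M) (qrep el) (by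
      rw [← mfun_pow xM, zero_add, pow_one]
      exact cs_eq_one (TM (ZT ⟨pow_mem xS p, h.phi (hS.2.pow_mem_phi hp.out xS)⟩).1)) pU.mim (mfun_mem_N (nU x1))
      (fun e => xC (by
        rw [pow_zero, pow_one, ← zpowers_le, ← mim_zpowers xM, ← comm_le_iff_quo (zpowers_le.2 xM) UM] at e
        exact zpowers_le.1 (commutator_eq_bot_iff_le_centralizer.1 (eq_bot_iff.2 ((le_inf e
          (comm_le_right (zpowers_le.2 (nU x1)))).trans (pM.inf_eq_bot pU).le)))))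
      fun a ha e => by
        obtain ⟨b, b1, rfl⟩ := (mem_quo UM).1 ha
        rw [UT b b1 (mem_C.2 fun v hv => ?_), mfun_one]
        have := qrep_val el (UM b1) (EV.mk el v (TM hv))
        rw [e] at this
        exact eq_mul_inv_iff_mul_eq.1 this
    have r3 : r < 2 := not_le.1 fun e => r1 (pow_eq_zero_of_le e (LinearMap.ext fun v => EV.ext (by
      rw [sq, End.mul_apply, gq_val el xM, gq_val el xM]
      exact commutatorElement_eq_one_iff_mul_comm.2 (mem_C.1 (c2 (commutator_mem_commutator xS (MS v.mem))).2 x xS))))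
    rcases r2 with r2 | ⟨q, n₀, m, U, -, -, -, -, -, a1, a2, -, -, r2⟩
    · simp at r2; omega
    · obtain rfl : n₀ = 1 := by omega
      simp at r2; omega
  refine (h.ex u (TS uT) x xS (SM.trans (sup_le (le_sup_of_le_left le_sup_left) fun m hm => ?_)) (el.pow u (TM uT))
    u2).not_ge p3
  let φ : M →* G := MonoidHom.mk' (fun m => ⁅(m : G), x⁆) fun a b => by
    have := mem_C.1 (c2 (commutator_mem_commutator (MS b.2) xS)).2 a (MS a.2)
    calc ⁅(a : G) * b, x⁆ = a * ⁅(b : G), x⁆ * (a : G)⁻¹ * ⁅(a : G), x⁆ := by simp only [commutatorElement_def]; group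
      _ = _ := by rw [this, mul_inv_cancel_right, mem_C.1 (c2 (commutator_mem_commutator (MS a.2) xS)).2 _
        (der_le (commutator_mem_commutator (MS b.2) xS))]
  have nD : S ≤ N(zpowers ⁅u, x⁆) := (cent_symm (zpowers_le.2 (c2 (commutator_mem_commutator (TS uT) xS)).2)).trans C_le_N
  have e1 : ⁅zpowers u, S⁆ ≤ zpowers ⁅u, x⁆ := by
    rw [comm_le_iff_quo (zpowers_le.2 (nD (TS uT))) nD]
    refine cent_symm ((mim_mono SM).trans ?_)
    rw [mim_sup (zpowers_le.2 (nD xS)) (MS.trans nD), mim_zpowers (nD xS), mim_zpowers (nD (TS uT))]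
    refine sup_le (zpowers_le.2 ?_) (mim_zpowers (f := coset _) (nD (TS uT)) ▸ mim_cent (el.abel.trans (C_anti
      (zpowers_le.2 (TM uT)))))
    rw [C_zpowers, mem_C1, eq_comm, ← commutatorElement_eq_one_iff_mul_comm, ← mfun_comm (nD (TS uT)) (nD xS)]
    exact cs_eq_one (mem_zpowers _)
  obtain ⟨i, hi⟩ := mem_zpowers_iff.1 (e1 (se (c2 (commutator_mem_commutator (MS hm) xS))))
  have e2 : φ ((⟨u, TM uT⟩ ^ i)⁻¹ * ⟨m, hm⟩) = 1 := by
    rw [map_mul, map_inv, map_zpow]; exact inv_mul_eq_one.2 hi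
  have m1 : (u ^ i)⁻¹ * m ∈ M := mul_mem (inv_mem (zpow_mem (TM uT) i)) hm
  have e3 : (u ^ i)⁻¹ * m ∈ Z(S) := ⟨MS m1, C_anti SM (cent_symm (sup_le (zpowers_le.2 (by
    rw [C_zpowers, mem_C1]; exact (commutatorElement_eq_one_iff_mul_comm.1 e2).symm))
    (el.abel.trans (C_anti (zpowers_le.2 m1)))) (mem_zpowers _))⟩
  simpa using mul_mem (mem_sup_left (mem_sup_right (zpow_mem (mem_zpowers u) i))) (mem_sup_right e3)

end H8
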