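import Cfsg.Agent.H8.MK5
import Cfsg.Agent.H8.KO

/-! Ambient character triple isomorphisms: `BiRel` (a relation that is a bijection), transport of
`irr` along homomorphisms (`comp_mem_irr`, `exists_desc`, `ip_comp`), the structure `Tri Y L φ`
(`exists_tri`), subgroups `T.hat U`, relation `T.Cr`, `Tri.birel`, `Tri.ip_eq`. -/

set_option autoImplicit false
open H5 H19 Cfsg
open scoped ComplexConjugate commutatorElement

namespace H8

/-- `r` induces a bijection between `X` and `Y` -/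
def BiRel {α β : Type*} (X : α → Prop) (Y : β → Prop) (r : α → β → Prop) : Prop :=
  (∀ x, X x → ∃! y, Y y ∧ r x y) ∧ ∀ y, Y y → ∃! x, X x ∧ r x y

section birel
variable {α β α' β' : Type*} {X : α → Prop} {Y : β → Prop} {X' : α' → Prop} {Y' : β' → Prop}
  {r : α → β → Prop} {r' : α' → β' → Prop}

theorem BiRel.symm (h : BiRel X Y r) : BiRel Y X fun y x => r x y := ⟨h.2, h.1⟩

theorem BiRel.transfer_aux {e : α → α' → Prop} {f : β → β' → Prop} (he : BiRel X X' e)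
    (hf : BiRel Y Y' f) (h : ∀ x x' y y', X x → X' x' → Y y → Y' y' → e x x' → f y y' →
      (r x y ↔ r' x' y')) (h' : BiRel X' Y' r') : ∀ x, X x → ∃! y, Y y ∧ r x y := fun x hx => by
  obtain ⟨x', ⟨a1, a2⟩, -⟩ := he.1 x hx
  obtain ⟨y', ⟨b1, b2⟩, b3⟩ := h'.1 x' a1
  obtain ⟨y, ⟨c1, c2⟩, c3⟩ := hf.2 y' b1
  refine ⟨y, ⟨c1, (h x x' y y' hx a1 c1 b1 a2 c2).2 b2⟩, fun z hz => ?_⟩
  obtain ⟨z', ⟨d1, d2⟩, -⟩ := hf.1 z hz.1
  obtain rfl := b3 z' ⟨d1, (h x x' z z' hx a1 hz.1 d1 a2 d2).1 hz.2⟩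
  exact c3 z ⟨hz.1, d2⟩

theorem BiRel.transfer {e : α → α' → Prop} {f : β → β' → Prop} (he : BiRel X X' e)
    (hf : BiRel Y Y' f) (h : ∀ x x' y y', X x → X' x' → Y y → Y' y' → e x x' → f y y' →
      (r x y ↔ r' x' y')) (h' : BiRel X' Y' r') : BiRel X Y r :=
  ⟨he.transfer_aux hf h h', BiRel.transfer_aux (r := fun y x => r x y) hf he
    (fun y y' x x' a b c d e f => h x x' y y' c d a b f e) h'.symm⟩

theorem BiRel.restrict (h : BiRel X Y r) {A : α → Prop} {B : β → Prop}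
    (hc : ∀ x y, X x → Y y → r x y → (A x ↔ B y)) :
    BiRel (fun x => X x ∧ A x) (fun y => Y y ∧ B y) r := by
  refine ⟨fun x hx => ?_, fun y hy => ?_⟩
  · obtain ⟨y, a, b⟩ := h.1 x hx.1
    exact ⟨y, ⟨⟨a.1, (hc x y hx.1 a.1 a.2).1 hx.2⟩, a.2⟩, fun z hz => b z ⟨hz.1.1, hz.2⟩⟩
  · obtain ⟨x, a, b⟩ := h.2 y hy.1
    exact ⟨x, ⟨⟨a.1, (hc x y a.1 hy.1 a.2).2 hy.2⟩, a.2⟩, fun z hz => b z ⟨hz.1.1, hz.2⟩⟩

theorem BiRel.congr (h : BiRel X Y r) {A : α → Prop} {B : β → Prop} (h1 : ∀ x, A x ↔ X x)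
    (h2 : ∀ y, B y ↔ Y y) : BiRel A B r := by
  rwa [funext fun x => propext (h1 x), funext fun x => propext (h2 x)]

theorem BiRel.card_eq (h : BiRel X Y r) : Nat.card {x // X x} = Nat.card {y // Y y} := by
  choose f hf hu using h.1
  refine Nat.card_congr (Equiv.ofBijective (fun x => ⟨f x.1 x.2, (hf x.1 x.2).1⟩)
    ⟨fun a b e => Subtype.ext ?_, fun y => ?_⟩)
  · have e' : f a.1 a.2 = f b.1 b.2 := congrArg Subtype.val e
    exact (h.2 _ (hf a.1 a.2).1).unique ⟨a.2, (hf a.1 a.2).2⟩ ⟨b.2, e' ▸ (hf b.1 b.2).2⟩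
  · obtain ⟨x, a, -⟩ := h.2 y.1 y.2
    exact ⟨⟨x, a.1⟩, Subtype.ext (hu x a.1 y.1 ⟨y.2, a.2⟩).symm⟩

end birel

section hom
variable {Γ Δ : Type*} [Group Γ] [Group Δ] {f : Γ →* Δ} {U : Subgroup Γ} {χ : Δ → ℂ} {ξ : Γ → ℂ}

theorem mem_of_map_mem (hk : f.ker ≤ U) {x : Γ} (h : f x ∈ U.map f) : x ∈ U := by
  rwa [← Subgroup.mem_comap, Subgroup.comap_map_eq_self hk] at h

theorem comp_mem_chars (hk : f.ker ≤ U) (h : χ ∈ chars (U.map f)) : χ ∘ f ∈ chars U :=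
  ⟨fun _ hx => h.1 _ fun e => hx (mem_of_map_mem hk e), h.2.comp (f.subgroupMap U)⟩

variable [Finite Γ] [Finite Δ]

theorem comp_mem_irr (hk : f.ker ≤ U) (h : χ ∈ irr (U.map f)) : χ ∘ f ∈ irr U :=
  mem_irr.2 ⟨fun _ hx => irr_supp h _ fun e => hx (mem_of_map_mem hk e),
    (mem_irr.1 h).2.comp_surjective (f.subgroupMap U) (f.subgroupMap_surjective U)⟩

theorem exists_desc (h : ξ ∈ irr U) (hk : f.ker ≤ cfker U ξ) :
    ∃ χ ∈ irr (U.map f), χ ∘ f = ξ := by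
  have h' := mem_irr.1 h
  obtain ⟨φ, hφ, e⟩ := H6.exists_descend_irr (f.subgroupMap U) (f.subgroupMap_surjective U) h'.2
    fun x hx => h'.2.mem_charKer.2 (cfker_apply (hk (congrArg Subtype.val hx)))
  have := extendByZero_mem_irr.2 hφ
  refine ⟨_, this, eq_of_eqOn (irr_supp (comp_mem_irr (hk.trans cfker_le) this)) h'.1
    fun x hx => ?_⟩
  rw [Function.comp_apply, H19.extendByZero_of_mem _ (Subgroup.mem_map_of_mem f hx)]
  exact e ⟨x, hx⟩

omit [Finite Γ] [Finite Δ] in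
theorem eq_of_comp_eq {χ' : Δ → ℂ} (h : ∀ x, x ∉ f.range → χ x = 0)
    (h' : ∀ x, x ∉ f.range → χ' x = 0) (e : χ ∘ f = χ' ∘ f) : χ = χ' :=
  eq_of_eqOn h h' fun _ ⟨x, hx⟩ => hx ▸ congrFun e x

omit [Finite Γ] [Finite Δ] in
theorem cjf_comp (x : Γ) (χ : Δ → ℂ) : cjf x (χ ∘ f) = cjf (f x) χ ∘ f := by
  ext y; simp [cjf_apply]

omit [Finite Γ] [Finite Δ] in
theorem mem_stabf_comp (h : ∀ x, x ∉ f.range → χ x = 0) {x : Γ} :
    x ∈ stabf (χ ∘ f) ↔ f x ∈ stabf χ := by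
  rw [mem_stabf, mem_stabf, cjf_comp]
  exact ⟨eq_of_comp_eq (cjf_supp (Subgroup.le_normalizer ⟨x, rfl⟩) h) h, fun e => by rw [e]⟩

omit [Finite Γ] [Finite Δ] in
theorem ip_comp [Fintype Γ] [Fintype Δ] (f : Γ →* Δ) (U : Subgroup Γ) (a b : Δ → ℂ) :
    ip U (res U (a ∘ f)) (b ∘ f) = ip (U.map f) (res (U.map f) a) b := by
  have := Fintype.ofFinite U
  have := Fintype.ofFinite (U.map f)
  rw [← classInner_comp, ← classInner_comp]
  exact H6.inner_comp_surjective (f.subgroupMap U) (f.subgroupMap_surjective U)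
    (fun x => a x) fun x => b x

theorem birel_inj (hf : Function.Injective f) (U : Subgroup Γ) :
    BiRel (· ∈ irr U) (· ∈ irr (U.map f)) fun ξ χ => χ ∘ f = ξ := by
  have hk := f.ker_eq_bot_iff.2 hf
  refine ⟨fun ξ h => ?_, fun χ h => ⟨_, ⟨comp_mem_irr (hk ▸ bot_le) h, rfl⟩, fun _ e => e.2.symm⟩⟩
  obtain ⟨χ, a, b⟩ := exists_desc (f := f) h (hk ▸ bot_le)
  exact ⟨χ, ⟨a, b⟩, fun χ' e => eq_of_comp_eq
    (fun x hx => irr_supp e.1 x fun h => hx (U.map_le_range f h))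
    (fun x hx => irr_supp a x fun h => hx (U.map_le_range f h)) (e.2.trans b.symm)⟩

end hom

theorem ip_mul_ext {W : Type*} [Group W] [Fintype W] {N V : Subgroup W} [hN : N.Normal]
    (hNV : N ≤ V) {τ a b : W → ℂ} (hτ : τ ∈ chars ⊤) (h : res N τ ∈ irr N)
    (ha : ∀ n ∈ N, ∀ x, a (n * x) = a x) (hb : ∀ n ∈ N, ∀ x, b (n * x) = b x) :
    ip V (res V (a * τ)) (b * τ) = ip V (res V a) b := by
  rw [ip_eq_sum_els (res_supp _ _), ip_eq_sum_els (res_supp _ _)]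
  congr 1
  refine mul_left_cancel₀ (card_ne_zero N) ?_
  rw [← sum_els_const, Finset.mul_sum, Finset.sum_congr rfl
    (g := fun n => ∑ x ∈ els V, a x * conj (b x) * (τ (n * x) * conj (τ (n * x)))) fun n hn => ?_,
    Finset.sum_comm]
  · refine Finset.sum_congr rfl fun x hx => ?_
    rw [← Finset.mul_sum, sum_coset_mul_conj_self le_top (Subgroup.normalizer_eq_top N).ge hτ h
      trivial, res_of_mem _ (mem_els.1 hx), mul_comm]
  · rw [← sum_els_mul_left (hNV (mem_els.1 hn))]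
    refine Finset.sum_congr rfl fun x hx => ?_
    rw [res_of_mem _ (V.mul_mem (hNV (mem_els.1 hn)) (mem_els.1 hx)), Pi.mul_apply, Pi.mul_apply,
      ha n (mem_els.1 hn), hb n (mem_els.1 hn), map_mul]
    ring

theorem central_scalar {Γ : Type*} [Group Γ] [Fintype Γ] {Z H G : Subgroup Γ} (hZ : Z ≤ H)
    (hH : H ≤ G) (hc : G ≤ Subgroup.centralizer (Z : Set Γ)) {χ ψ : Γ → ℂ} (hχ : χ ∈ irr G)
    (hψ : ψ ∈ irr H) (h : Ov H χ ψ) {z : Γ} (hz : z ∈ Z) : χ z * ψ 1 = ψ z * χ 1 := by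
  obtain ⟨θ, a, b⟩ := exists_ov_under hZ hψ
  have n := hc.trans (Subgroup.centralizer_le_normalizer _)
  have s : G ≤ stabf θ := fun g hg => mem_stabf_of_centralizes (irr_supp a) fun c h =>
    (hc hg c h).symm
  obtain ⟨e, -, e1⟩ := exists_res_eq (hZ.trans hH) n hχ a s
    (h.trans hZ hH (chars_of_irr hχ) hψ (chars_of_irr a) b)
  obtain ⟨e', -, e2⟩ := exists_res_eq hZ (hH.trans n) hψ a (hH.trans s) b
  rw [← res_of_mem χ hz, ← res_of_mem ψ hz, ← res_one Z χ, ← res_one Z ψ, e1, e2]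
  simp only [Pi.smul_apply, smul_eq_mul]
  ring

universe u

/-- an ambient character triple isomorphism `(Y, L, φ) → (X, Z, λ)` with `Z` central -/
structure Tri {Γ : Type u} [Group Γ] [Finite Γ] (Y L : Subgroup Γ) (φ : Γ → ℂ) where
  W : Type u
  X : Type u
  [gW : Group W]
  [fW : Fintype W]
  [gX : Group X]
  [fX : Fintype X]
  π : W →* Γ
  ρ : W →* X
  range : π.range = Y
  surj : Function.Surjective ρ
  τ : W → ℂ
  ch : τ ∈ chars ⊤
  ir : res ρ.ker τ ∈ irr ρ.ker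
  map_ker : ρ.ker.map π = L
  τ_ker : ∀ n ∈ ρ.ker, τ n = φ (π n)
  central : π.ker ≤ Subgroup.center W
  lam : π.ker →* ℂˣ
  lam_inj : Function.Injective lam
  τ_mul : ∀ (z : π.ker) (γ : W), τ (z * γ) = lam z * τ γ
  card : Nat.card π.ker ∣ Nat.card L ^ 2

attribute [instance] Tri.gW Tri.fW Tri.gX Tri.fX

variable {Γ : Type u} [Group Γ] {Y L U V : Subgroup Γ} {φ χ ψ : Γ → ℂ}

theorem exists_tri [Fintype Γ] (hL : L ≤ Y) (hn : Y ≤ Subgroup.normalizer (L : Set Γ))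
    (hφ : φ ∈ irr L) (hi : Y ≤ stabf φ) : Nonempty (Tri Y L φ) := by
  haveI := normal_subgroupOf_of_le_normalizer hn
  have h := isIrr_subgroupOf hL hφ
  obtain ⟨R, hR⟩ := exists_repGroup_dvd h
    fun g => (mem_inertia_subgroupOf hL hn (irr_supp hφ) g).2 (hi g.2)
  have := Fintype.ofFinite (R.Γ ⧸ R.N₀)
  have e : (Y.subtype.comp R.π).ker = R.π.ker := MonoidHom.ker_comp_of_injective _ _
    Y.subtype_injective
  refine ⟨⟨R.Γ, R.Γ ⧸ R.N₀, Y.subtype.comp R.π, QuotientGroup.mk' _, ?_,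
    QuotientGroup.mk'_surjective _, R.τ, mem_chars_top.2 R.irr.isCharacter, ?_, ?_, ?_,
    e ▸ R.central, R.lam.comp (MulEquiv.subgroupCongr e).toMonoidHom,
    R.lam_inj.comp (MulEquiv.subgroupCongr e).injective,
    fun z γ => R.τ_mul (MulEquiv.subgroupCongr e z) γ, ?_⟩⟩
  · rw [MonoidHom.range_comp, MonoidHom.range_eq_top.2 R.surj, ← MonoidHom.range_eq_map,
      Subgroup.range_subtype]
  · rw [QuotientGroup.ker_mk']
    exact res_mem_irr_iff.2 (R.irr_N₀ h)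
  · rw [QuotientGroup.ker_mk']
    refine le_antisymm ?_ fun l hl => ⟨R.s ⟨⟨l, hL hl⟩, hl⟩, ⟨_, rfl⟩, by simp [R.π_s]⟩
    rintro _ ⟨_, ⟨n, rfl⟩, rfl⟩
    simpa [R.π_s] using Subgroup.mem_subgroupOf.1 n.2
  · rw [QuotientGroup.ker_mk']
    rintro _ ⟨n, rfl⟩
    simp [R.π_s, R.τ_s]
  · rwa [e, ← card_subgroupOf_le hL]

namespace Tri
variable [Finite Γ] (T : Tri Y L φ)

/-- the subgroup corresponding to `U` -/
def hat (U : Subgroup Γ) : Subgroup T.X := (U.comap T.π).map T.ρ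

/-- correspondence of characters -/
def Cr (χ : Γ → ℂ) (β : T.X → ℂ) : Prop := ∀ γ, χ (T.π γ) = β (T.ρ γ) * T.τ γ

/-- lying over the central character -/
def Cd (β : T.X → ℂ) : Prop := ∀ z : T.π.ker, β (T.ρ z) * T.lam z = β 1

theorem ker_le (h : L ≤ U) : T.ρ.ker ≤ U.comap T.π :=
  Subgroup.map_le_iff_le_comap.1 (T.map_ker.le.trans h)

theorem mem_hat (h : L ≤ U) {γ : T.W} : T.ρ γ ∈ T.hat U ↔ T.π γ ∈ U :=
  ⟨mem_of_map_mem (T.ker_le h), fun e => Subgroup.mem_map_of_mem _ e⟩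

theorem hat_mono (h : U ≤ V) : T.hat U ≤ T.hat V := Subgroup.map_mono (Subgroup.comap_mono h)

theorem mem_Y (γ : T.W) : T.π γ ∈ Y := T.range.le ⟨γ, rfl⟩

theorem exists_π {y : Γ} (hy : y ∈ Y) : ∃ γ, T.π γ = y := T.range.ge hy

theorem map_comap (h : U ≤ Y) : (U.comap T.π).map T.π = U :=
  Subgroup.map_comap_eq_self (h.trans T.range.ge)

theorem hat_Y : T.hat Y = ⊤ := eq_top_iff.2 fun x _ => by
  obtain ⟨γ, rfl⟩ := T.surj x
  exact Subgroup.mem_map_of_mem _ (T.mem_Y γ)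

theorem hat_L : T.hat L = T.π.ker.map T.ρ := by
  refine le_antisymm ?_ (Subgroup.map_mono (Subgroup.ker_le_comap _ _))
  rintro _ ⟨γ, h, rfl⟩
  obtain ⟨n, a, b⟩ := T.map_ker.ge h
  exact ⟨γ * n⁻¹, by simp [MonoidHom.mem_ker, b], by simp [MonoidHom.mem_ker.1 a]⟩

theorem hat_L_central : T.hat L ≤ Subgroup.center T.X := by
  rw [hat_L]
  rintro _ ⟨z, hz, rfl⟩
  refine Subgroup.mem_center_iff.2 fun x => ?_
  obtain ⟨γ, rfl⟩ := T.surj x
  rw [← map_mul, Subgroup.mem_center_iff.1 (T.central hz), map_mul]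

theorem card_hat_L : Nat.card (T.hat L) ∣ Nat.card L ^ 2 :=
  T.hat_L ▸ (Subgroup.card_map_dvd _ _).trans T.card

theorem relIndex_hat (h : L ≤ U) (hV : V ≤ Y) :
    (T.hat U).relIndex (T.hat V) = U.relIndex V := by
  rw [hat, hat, ← Subgroup.relIndex_comap, Subgroup.comap_map_eq_self (T.ker_le h),
    Subgroup.relIndex_comap, T.map_comap hV]

theorem hat_sup (hU : U ≤ Y) (hV : V ≤ Y) : T.hat (U ⊔ V) = T.hat U ⊔ T.hat V := by
  rw [hat, ← Subgroup.comap_sup_eq_of_le_range _ (hU.trans T.range.ge) (hV.trans T.range.ge), Subgroup.map_sup]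
  rfl

theorem hat_norm (hL : L ≤ U) (h : V ≤ Subgroup.normalizer (U : Set Γ)) :
    T.hat V ≤ Subgroup.normalizer (T.hat U : Set T.X) :=
  le_normalizer_of_forall <| by
    rintro _ ⟨a, ha, rfl⟩ _ ⟨b, hb, rfl⟩
    rw [← map_inv, ← map_mul, ← map_mul, T.mem_hat hL, map_mul, map_mul, map_inv]
    exact conj_mem_of_le_normalizer h ha hb

theorem τ_one : T.τ 1 = φ 1 := by simpa using T.τ_ker 1 (one_mem _)

theorem τ_one_ne : T.τ 1 ≠ 0 := by simpa using irr_apply_one_ne_zero T.ir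

variable {T} {β β' γ : T.X → ℂ}

theorem Cr.comp (h : T.Cr χ β) : χ ∘ T.π = β ∘ T.ρ * T.τ := funext h

theorem Cr.one (h : T.Cr χ β) : χ 1 = β 1 * φ 1 := by simpa [T.τ_one] using h 1

theorem Cr.right (h : T.Cr χ β) (h' : T.Cr χ β') : β = β' := funext fun x => by
  obtain ⟨w, rfl⟩ := T.surj x
  have := sum_coset_mul_conj_self le_top (Subgroup.normalizer_eq_top T.ρ.ker).ge T.ch T.ir
    (Subgroup.mem_top w)
  obtain ⟨n, a, b⟩ := Finset.exists_ne_zero_of_sum_ne_zero (this.trans_ne (card_ne_zero _))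
  have e := mul_right_cancel₀ (left_ne_zero_of_mul b) ((h _).symm.trans (h' _))
  rwa [map_mul, MonoidHom.mem_ker.1 (mem_els.1 a), one_mul] at e

theorem Cr.left (hχ : ∀ x, x ∉ Y → χ x = 0) (hψ : ∀ x, x ∉ Y → ψ x = 0) (h : T.Cr χ β)
    (h' : T.Cr ψ β) : χ = ψ :=
  eq_of_comp_eq (fun x e => hχ x fun a => e (T.range.ge a))
    (fun x e => hψ x fun a => e (T.range.ge a)) (h.comp.trans h'.comp.symm)

theorem Cr.cjf (h : T.Cr χ β) (w : T.W) : T.Cr (cjf (T.π w) χ) (cjf (T.ρ w) β) := fun x => by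
  have := h (w * x * w⁻¹)
  rw [(cf_of_chars T.ch).2 w trivial] at this
  simpa [cjf_apply] using this

theorem Cr.mem_stabf (hχ : ∀ x, x ∉ Y → χ x = 0) (h : T.Cr χ β) (w : T.W) :
    T.π w ∈ stabf χ ↔ T.ρ w ∈ stabf β :=
  ⟨fun e => ((H8.mem_stabf.1 e) ▸ h.cjf w).right h, fun e =>
    Cr.left (cjf_supp (Subgroup.le_normalizer (T.mem_Y w)) hχ) hχ
      ((H8.mem_stabf.1 e) ▸ h.cjf w) h⟩

theorem Cr.le_stabf (hχ : ∀ x, x ∉ Y → χ x = 0) (h : T.Cr χ β) (hU : U ≤ Y) :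
    U ≤ stabf χ ↔ T.hat U ≤ stabf β := by
  refine ⟨fun e => ?_, fun e u hu => ?_⟩
  · rintro _ ⟨w, hw, rfl⟩
    exact (h.mem_stabf hχ w).1 (e hw)
  · obtain ⟨w, rfl⟩ := T.exists_π (hU hu)
    exact (h.mem_stabf hχ w).2 (e (Subgroup.mem_map_of_mem _ hu))

theorem inv_comp (β : T.X → ℂ) : ∀ n ∈ T.ρ.ker, ∀ x, (β ∘ T.ρ) (n * x) = (β ∘ T.ρ) x :=
  fun n hn x => by simp [MonoidHom.mem_ker.1 hn]

end Tri

namespace Tri
variable [Fintype Γ] {T : Tri Y L φ} {β β' γ : T.X → ℂ}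

theorem ip_eq (hL : L ≤ V) (hV : V ≤ Y) (h : T.Cr χ β) (h' : T.Cr ψ γ) :
    ip V (res V χ) ψ = ip (T.hat V) (res (T.hat V) β) γ := by
  rw [hat, ← ip_comp, ← ip_mul_ext (T.ker_le hL) T.ch T.ir (inv_comp β) (inv_comp γ), ← h.comp,
    ← h'.comp, ip_comp, T.map_comap hV]

theorem ip_φ (χ : Γ → ℂ) :
    ip L (res L χ) φ = ip T.ρ.ker (res T.ρ.ker (χ ∘ T.π)) (res T.ρ.ker T.τ) := by
  conv_lhs => rw [← T.map_ker, ← ip_comp]
  exact ip_congr _ fun x hx => by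
    have : x ∈ T.ρ.ker := by by_contra h; exact hx (res_supp _ _ x h)
    rw [res_of_mem _ this, T.τ_ker x this, Function.comp_apply]

theorem birel (T : Tri Y L φ) (hL : L ≤ U) (hU : U ≤ Y) :
    BiRel (fun χ => χ ∈ irr U ∧ Ov L χ φ) (fun β => β ∈ irr (T.hat U) ∧ T.Cd β) T.Cr := by
  have k1 := T.ker_le hL
  have k2 : T.π.ker ≤ U.comap T.π := Subgroup.ker_le_comap _ _
  have c := res_mem_chars (le_top : U.comap T.π ≤ ⊤) T.ch
  have m : ∀ a : T.W → ℂ, (∀ x, x ∉ U.comap T.π → a x = 0) →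
      a * res (U.comap T.π) T.τ = a * T.τ := fun a ha => funext fun x => by
    by_cases h : x ∈ U.comap T.π
    · simp [res_of_mem _ h]
    · simp [ha x h]
  have tz : ∀ z : T.π.ker, T.τ z = T.lam z * T.τ 1 := fun z => by simpa using T.τ_mul z 1
  refine ⟨fun χ ⟨a, b⟩ => ?_, fun β ⟨a, b⟩ => ?_⟩
  · obtain ⟨δ, d1, d2, d3⟩ := exists_mul_of_ext k1 (le_top.trans (Subgroup.normalizer_eq_top _).ge) c
      (by rw [res_res k1]; exact T.ir) (comp_mem_irr k2 ((T.map_comap hU).symm ▸ a))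
      (by rw [res_res k1, ← ip_φ]; exact b)
    obtain ⟨β, e1, rfl⟩ := exists_desc (f := T.ρ) d1 fun n hn => ⟨k1 hn, d2 n hn⟩
    rw [m _ (irr_supp d1)] at d3
    have cr : T.Cr χ β := congrFun d3
    refine ⟨β, ⟨⟨e1, fun z => mul_right_cancel₀ T.τ_one_ne ?_⟩, cr⟩, fun β' h => h.2.right cr⟩
    rw [mul_assoc, ← tz, ← cr, MonoidHom.mem_ker.1 z.2, cr.one, T.τ_one]
  · have a' := comp_mem_irr k1 a
    have c' := chars_mul (chars_of_irr a') c
    rw [m _ (irr_supp a')] at c'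
    have i : β ∘ T.ρ * T.τ ∈ irr (U.comap T.π) := by
      refine irr_of_chars_of_ip c' ?_
      have := ip_mul_ext k1 T.ch T.ir (inv_comp β) (inv_comp β)
      rwa [res_eq_self c'.1, res_eq_self (irr_supp a'), ip_irr_self a'] at this
    obtain ⟨χ, e1, e2⟩ := exists_desc (f := T.π) i fun z hz => (mem_cfker_of_irr i).2 ⟨k2 hz, by
      simp only [Pi.mul_apply, Function.comp_apply, map_one]
      rw [← b ⟨z, hz⟩, mul_assoc, ← tz ⟨z, hz⟩]⟩
    rw [T.map_comap hU] at e1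
    have s : ∀ χ ∈ irr U, ∀ x, x ∉ Y → χ x = 0 := fun χ a x hx => irr_supp a x fun h => hx (hU h)
    refine ⟨χ, ⟨⟨e1, ?_⟩, congrFun e2⟩, fun ψ h => h.2.left (s _ h.1.1) (s _ e1) (congrFun e2)⟩
    have : res T.ρ.ker (β ∘ T.ρ * T.τ) = β 1 • res T.ρ.ker T.τ :=
      eq_of_eqOn (res_supp _ _) (fun x hx => by simp [res_supp _ _ x hx]) fun x hx => by
        simp [res_of_mem _ hx, MonoidHom.mem_ker.1 hx]
    unfold Ov
    rw [ip_φ (T := T), e2, this, ip_smul_left, ip_irr_self T.ir, mul_one]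
    exact irr_apply_one_ne_zero a

theorem cd_iff {A B : Subgroup T.X} (hL : T.hat L ≤ A) (hA : A ≤ B) (hβ : β ∈ irr B)
    (hγ : γ ∈ irr A) (h : Ov A β γ) : T.Cd β ↔ T.Cd γ := by
  refine forall_congr' fun z => ?_
  have := central_scalar hL hA (fun x _ y hy => (Subgroup.mem_center_iff.1 (T.hat_L_central hy) x).symm)
    hβ hγ h (T.hat_L ▸ Subgroup.mem_map_of_mem T.ρ z.2)
  have b := irr_apply_one_ne_zero hβ
  have c := irr_apply_one_ne_zero hγ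
  constructor
  · intro e
    refine mul_right_cancel₀ b ?_
    rw [mul_right_comm, ← this, mul_right_comm, e, mul_comm]
  · intro e
    refine mul_right_cancel₀ c ?_
    rw [mul_right_comm, this, mul_right_comm, e, mul_comm]

end Tri

end H8
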